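/-
The root system of type E6 and its compatibility with the tables of the prelude.
-/
import Cfsg.Prelude.Def_ChevE6
import Cfsg.Agent.Lib.Twist.RootInst

set_option autoImplicit false
set_option maxRecDepth 100000

namespace Cfsg.Lib.Twist

open Cfsg.Lib.Chev Cfsg.Lie

/-- Packed root tables of type E6. -/
def tabE6 : RTab where
  C := 0x24a28b28900024928b28900024928a28900024928a24900024928a24800024924a28900024924a24900024924a24800024924924900024924924800024924920800024824924900024824924800024824920800024824820800024820820800020924a28900020924a24900020924a2480002092492490002092492480002092492080002092092490002092092480002092092080002092082080002082492490002082492480002082492080002082482080002082092490002082092480002082092080002082082490002082082480002082082090002082082070002082081c80002082081c70002082072080002082071c80002082071c70002081c82080002081c72080002081c71c80002081c71c70002072082080002072072080002072071c80002072071c70002071c72080002071c71c80002071c71c70002071c61c80002071c61c70002071c61870001c82082080001c81c82080001c81c72080001c81c71c80001c81c71c70001c71c72080001c71c71c80001c71c71c70001c71c61c80001c71c61c70001c71c61870001c71861c80001c71861c70001c71861870001c71851870001c6185187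
  L := 0x10101010101010101010101010101010101010101010101010101010101010101010101010101010101010101010101010101010101010101010101010101010101010101010101
  Am := 0xa07080808080000070a07080808000008070a07070800000808070a08070000080807080a08000008080807080a
  T := 0x26250012110706000000000000002e00000018000000000004033f3e3433001f1e0000000015000a0045000039002a3130001b1a0c0b000000000000420037382400230f1000050000000000003c3b2d2c0017161d000e004702003d00320000000029280014130908444300000000002f00000019000000000000004140363500222100000000000000004600003a002b00000000000000000000000000000000000027000000000000000000000000000000000000000000000000000000000000000000000000200000000000000000000000000000000000001c000d000001000000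
  P := 233
  off := 8726282760

theorem chkK1_E6 : chkK1 chevE6 tabE6 = true := by decide +kernel
theorem chkK2_E6 : chkK2 chevE6 tabE6 = true := by decide +kernel
theorem chkK4_E6 : allLt 6 (chkK4 chevE6 tabE6) = true := by decide +kernel
theorem chkK5_E6_0 : chkK5 chevE6 tabE6 0 72 = true := by decide +kernel

theorem rootOK_E6 : RootOK chevE6 tabE6 := by
  refine rootOK_of_chk _ _ chkK1_E6 chkK2_E6 (allLt_spec chkK4_E6) fun r hr => ?_
  have hr' : r < 72 := hr
  exact chkK5_spec _ _ chkK5_E6_0 r (by omega) (by omega)

/-- The root system of type E6. -/
noncomputable def RE6 : RootSys (Fin chevE6.rank) (Fin chevE6.nroots) := rootOK_E6.R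

theorem compat_E6 : Compat chevE6 RE6 := rootOK_E6.compat

end Cfsg.Lib.Twist
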