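/-
The root system of type F4 and its compatibility with the tables of the prelude.
-/
import Cfsg.Prelude.Def_ChevF4
import Cfsg.Agent.Lib.Twist.RootInst

set_option autoImplicit false
set_option maxRecDepth 100000

namespace Cfsg.Lib.Twist

open Cfsg.Lib.Chev Cfsg.Lie

/-- Packed root tables of type F4. -/
def tabF4 : RTab where
  C := 0x28c2ca00000028c2c900000028c28900000028b28900000028a28900000028a24900000028a24800000024b28900000024a28900000024a24900000024a24800000024924900000024924800000024920800000024820800000020a28900000020a24900000020a2480000002092490000002092480000002092080000002082490000002082480000002082090000002082070000002081c80000002081c70000002072080000002071c80000002071c70000002061c80000002061c70000002061870000001c82080000001c72080000001c71c80000001c71c70000001c61c80000001c61c70000001c61870000001c51870000001861c80000001861c7000000186187000000185187000000184187000000184147000000184146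
  L := 0x20202010202020101010101010101020202010101020202020202010101020202010101010101010102020201020202
  Am := 0xa07080800000000070a07080000000008060a07000000000808070a
  T := 0x500000000001615131211102625242300002f2e0000000000080007001b18001714002800270000000000010000000c0b0a091f1e1d1c1a1900000000002a290400030002000e000d00000f200000220021002d002c002b06
  P := 89
  off := 2130440

theorem chkK1_F4 : chkK1 chevF4 tabF4 = true := by decide +kernel
theorem chkK2_F4 : chkK2 chevF4 tabF4 = true := by decide +kernel
theorem chkK4_F4 : allLt 4 (chkK4 chevF4 tabF4) = true := by decide +kernel
theorem chkK5_F4_0 : chkK5 chevF4 tabF4 0 48 = true := by decide +kernel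

theorem rootOK_F4 : RootOK chevF4 tabF4 := by
  refine rootOK_of_chk _ _ chkK1_F4 chkK2_F4 (allLt_spec chkK4_F4) fun r hr => ?_
  have hr' : r < 48 := hr
  exact chkK5_spec _ _ chkK5_F4_0 r (by omega) (by omega)

/-- The root system of type F4. -/
noncomputable def RF4 : RootSys (Fin chevF4.rank) (Fin chevF4.nroots) := rootOK_F4.R

theorem compat_F4 : Compat chevF4 RF4 := rootOK_F4.compat

end Cfsg.Lib.Twist
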