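/-
Poincaré sums of the Weyl group of type D4 (and of its twisted form, if there is one).
-/
import Cfsg.Agent.Lib.Twist.PoincChk
import Cfsg.Agent.Lib.Twist.RootD4

set_option autoImplicit false
set_option maxRecDepth 100000

namespace Cfsg.Lib.Twist

open Cfsg.Lib.Chev

variable {Φ : Type*} [Finite Φ] {R : RootSys (Fin 4) Φ} {A : Type*} [CommSemiring A]

theorem pstep_D4_1 (hA : ∀ i j, R.A i j = aN tabD4.Am i j) {T : Tw R} (hπ : ∀ i, (T.π i : ℕ) = lk 50462976 i) (q : A) :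
    poinc R (T.W1 (bset 4 1) : Set (Equiv.Perm Φ)) q =
      (1 + q ^ 1) * poinc R (T.W1 (bset 4 0) : Set (Equiv.Perm Φ)) q := by
  rw [poinc_step (J := 0) (c := 8521761) (G := [(0, [0])]) (L := [(8521761, 0), (8521823, 1)]) (by decide) hA hπ (by decide +kernel) (by decide +kernel)]
  simp only [List.map_cons, List.map_nil, List.sum_cons, List.sum_nil]
  ring

theorem pstep_D4_2 (hA : ∀ i j, R.A i j = aN tabD4.Am i j) {T : Tw R} (hπ : ∀ i, (T.π i : ℕ) = lk 50462976 i) (q : A) :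
    poinc R (T.W1 (bset 4 3) : Set (Equiv.Perm Φ)) q =
      (1 + q ^ 1 + q ^ 2) * poinc R (T.W1 (bset 4 1) : Set (Equiv.Perm Φ)) q := by
  rw [poinc_step (J := 1) (c := 8521824) (G := [(0, [0]), (1, [1])]) (L := [(8521824, 0), (8787937, 1), (8787999, 2)]) (by decide) hA hπ (by decide +kernel) (by decide +kernel)]
  simp only [List.map_cons, List.map_nil, List.sum_cons, List.sum_nil]
  ring

theorem pstep_D4_3 (hA : ∀ i j, R.A i j = aN tabD4.Am i j) {T : Tw R} (hπ : ∀ i, (T.π i : ℕ) = lk 50462976 i) (q : A) :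
    poinc R (T.W1 (bset 4 7) : Set (Equiv.Perm Φ)) q =
      (1 + q ^ 1 + q ^ 2 + q ^ 3) * poinc R (T.W1 (bset 4 3) : Set (Equiv.Perm Φ)) q := by
  rw [poinc_step (J := 3) (c := 8525856) (G := [(0, [0]), (1, [1]), (2, [2])]) (L := [(8517728, 1), (8525856, 0), (8783841, 2), (8783903, 3)]) (by decide) hA hπ (by decide +kernel) (by decide +kernel)]
  simp only [List.map_cons, List.map_nil, List.sum_cons, List.sum_nil]
  ring

theorem pstep_D4_4 (hA : ∀ i j, R.A i j = aN tabD4.Am i j) {T : Tw R} (hπ : ∀ i, (T.π i : ℕ) = lk 50462976 i) (q : A) :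
    poinc R (T.W1 (bset 4 15) : Set (Equiv.Perm Φ)) q =
      (1 + q ^ 1 + q ^ 2 + 2 * q ^ 3 + q ^ 4 + q ^ 5 + q ^ 6) * poinc R (T.W1 (bset 4 7) : Set (Equiv.Perm Φ)) q := by
  rw [poinc_step (J := 7) (c := 8783904) (G := [(0, [0]), (1, [1]), (2, [2]), (3, [3])]) (L := [(8259616, 6), (8259680, 1), (8517665, 3), (8517727, 4), (8525793, 2), (8525855, 3), (8783840, 5), (8783904, 0)]) (by decide) hA hπ (by decide +kernel) (by decide +kernel)]
  simp only [List.map_cons, List.map_nil, List.sum_cons, List.sum_nil]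
  ring

theorem poinc_D4_prod (hA : ∀ i j, R.A i j = aN tabD4.Am i j) {T : Tw R} (hπ : ∀ i, (T.π i : ℕ) = lk 50462976 i) (q : A) :
    poinc R (T.W1 Set.univ : Set (Equiv.Perm Φ)) q = (1 + q ^ 1 + q ^ 2 + 2 * q ^ 3 + q ^ 4 + q ^ 5 + q ^ 6) * ((1 + q ^ 1 + q ^ 2 + q ^ 3) * ((1 + q ^ 1 + q ^ 2) * ((1 + q ^ 1)))) := by
  rw [← bset_all, show 2 ^ 4 - 1 = 15 from rfl, pstep_D4_4 hA hπ, pstep_D4_3 hA hπ, pstep_D4_2 hA hπ, pstep_D4_1 hA hπ, bset_zero, Tw.poinc_W1_empty, mul_one]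

theorem poinc_D4_eq {A : Type*} [CommRing A] (hA : ∀ i j, R.A i j = aN tabD4.Am i j) {T : Tw R}
    (hπ : ∀ i, (T.π i : ℕ) = lk 50462976 i) (q : A) :
    poinc R (T.W1 Set.univ : Set (Equiv.Perm Φ)) q * ((q - 1) ^ 4) = (q ^ 2 - 1) * (q ^ 4 - 1) * (q ^ 4 - 1) * (q ^ 6 - 1) := by
  rw [poinc_D4_prod hA hπ]; ring

theorem pstep_D4t_1 (hA : ∀ i j, R.A i j = aN tabD4.Am i j) {T : Tw R} (hπ : ∀ i, (T.π i : ℕ) = lk 196866 i) (q : A) :
    poinc R (T.W1 (bset 4 2) : Set (Equiv.Perm Φ)) q =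
      (1 + q ^ 1) * poinc R (T.W1 (bset 4 0) : Set (Equiv.Perm Φ)) q := by
  rw [poinc_step (J := 0) (c := 8521824) (G := [(1, [1])]) (L := [(8521824, 0), (8787937, 1)]) (by decide) hA hπ (by decide +kernel) (by decide +kernel)]
  simp only [List.map_cons, List.map_nil, List.sum_cons, List.sum_nil]
  ring

theorem pstep_D4t_2 (hA : ∀ i j, R.A i j = aN tabD4.Am i j) {T : Tw R} (hπ : ∀ i, (T.π i : ℕ) = lk 196866 i) (q : A) :
    poinc R (T.W1 (bset 4 15) : Set (Equiv.Perm Φ)) q =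
      (1 + q ^ 3 + q ^ 4 + q ^ 7 + q ^ 8 + q ^ 11) * poinc R (T.W1 (bset 4 2) : Set (Equiv.Perm Φ)) q := by
  rw [poinc_step (J := 2) (c := 8788001) (G := [(0, [3, 2, 0]), (1, [1])]) (L := [(7989470, 7), (8255519, 11), (8255711, 3), (8787809, 8), (8788001, 0), (9054050, 4)]) (by decide) hA hπ (by decide +kernel) (by decide +kernel)]
  simp only [List.map_cons, List.map_nil, List.sum_cons, List.sum_nil]
  ring

theorem poinc_D4t_prod (hA : ∀ i j, R.A i j = aN tabD4.Am i j) {T : Tw R} (hπ : ∀ i, (T.π i : ℕ) = lk 196866 i) (q : A) :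
    poinc R (T.W1 Set.univ : Set (Equiv.Perm Φ)) q = (1 + q ^ 3 + q ^ 4 + q ^ 7 + q ^ 8 + q ^ 11) * ((1 + q ^ 1)) := by
  rw [← bset_all, show 2 ^ 4 - 1 = 15 from rfl, pstep_D4t_2 hA hπ, pstep_D4t_1 hA hπ, bset_zero, Tw.poinc_W1_empty, mul_one]

theorem poinc_D4t_eq {A : Type*} [CommRing A] (hA : ∀ i j, R.A i j = aN tabD4.Am i j) {T : Tw R}
    (hπ : ∀ i, (T.π i : ℕ) = lk 196866 i) (q : A) :
    poinc R (T.W1 Set.univ : Set (Equiv.Perm Φ)) q * ((q - 1) * (q ^ 3 - 1)) = (q ^ 2 - 1) * (q ^ 6 - 1) * (q ^ 8 + q ^ 4 + 1) := by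
  rw [poinc_D4t_prod hA hπ]; ring

end Cfsg.Lib.Twist
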