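/-
Poincaré sums of the Weyl group of type E6 (and of its twisted form, if there is one).
-/
import Cfsg.Agent.Lib.Twist.PoincChk
import Cfsg.Agent.Lib.Twist.RootE6

set_option autoImplicit false
set_option maxRecDepth 100000

namespace Cfsg.Lib.Twist

open Cfsg.Lib.Chev

variable {Φ : Type*} [Finite Φ] {R : RootSys (Fin 6) Φ} {A : Type*} [CommSemiring A]

theorem pstep_E6_1 (hA : ∀ i j, R.A i j = aN tabE6.Am i j) {T : Tw R} (hπ : ∀ i, (T.π i : ℕ) = lk 5514788471040 i) (q : A) :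
    poinc R (T.W1 (bset 6 1) : Set (Equiv.Perm Φ)) q =
      (1 + q ^ 1) * poinc R (T.W1 (bset 6 0) : Set (Equiv.Perm Φ)) q := by
  rw [poinc_step (J := 0) (c := 34905131041) (G := [(0, [0])]) (L := [(34905131041, 0), (34905135135, 1)]) (by decide) hA hπ (by decide +kernel) (by decide +kernel)]
  simp only [List.map_cons, List.map_nil, List.sum_cons, List.sum_nil]
  ring

theorem pstep_E6_2 (hA : ∀ i j, R.A i j = aN tabE6.Am i j) {T : Tw R} (hπ : ∀ i, (T.π i : ℕ) = lk 5514788471040 i) (q : A) :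
    poinc R (T.W1 (bset 6 5) : Set (Equiv.Perm Φ)) q =
      (1 + q ^ 1 + q ^ 2) * poinc R (T.W1 (bset 6 1) : Set (Equiv.Perm Φ)) q := by
  rw [poinc_step (J := 1) (c := 34905135136) (G := [(0, [0]), (2, [2])]) (L := [(34905135136, 0), (34905389089, 1), (34905393183, 2)]) (by decide) hA hπ (by decide +kernel) (by decide +kernel)]
  simp only [List.map_cons, List.map_nil, List.sum_cons, List.sum_nil]
  ring

theorem pstep_E6_3 (hA : ∀ i j, R.A i j = aN tabE6.Am i j) {T : Tw R} (hπ : ∀ i, (T.π i : ℕ) = lk 5514788471040 i) (q : A) :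
    poinc R (T.W1 (bset 6 13) : Set (Equiv.Perm Φ)) q =
      (1 + q ^ 1 + q ^ 2 + q ^ 3) * poinc R (T.W1 (bset 6 5) : Set (Equiv.Perm Φ)) q := by
  rw [poinc_step (J := 5) (c := 34905393184) (G := [(0, [0]), (2, [2]), (3, [3])]) (L := [(34905393184, 0), (34921650272, 1), (34921904225, 2), (34921908319, 3)]) (by decide) hA hπ (by decide +kernel) (by decide +kernel)]
  simp only [List.map_cons, List.map_nil, List.sum_cons, List.sum_nil]
  ring

theorem pstep_E6_4 (hA : ∀ i j, R.A i j = aN tabE6.Am i j) {T : Tw R} (hπ : ∀ i, (T.π i : ℕ) = lk 5514788471040 i) (q : A) :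
    poinc R (T.W1 (bset 6 15) : Set (Equiv.Perm Φ)) q =
      (1 + q ^ 1 + q ^ 2 + q ^ 3 + q ^ 4) * poinc R (T.W1 (bset 6 13) : Set (Equiv.Perm Φ)) q := by
  rw [poinc_step (J := 13) (c := 34905131104) (G := [(0, [0]), (1, [1]), (2, [2]), (3, [3])]) (L := [(34905131104, 0), (34905393120, 1), (34921650208, 2), (34921904161, 3), (34921908255, 4)]) (by decide) hA hπ (by decide +kernel) (by decide +kernel)]
  simp only [List.map_cons, List.map_nil, List.sum_cons, List.sum_nil]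
  ring

theorem pstep_E6_5 (hA : ∀ i j, R.A i j = aN tabE6.Am i j) {T : Tw R} (hπ : ∀ i, (T.π i : ℕ) = lk 5514788471040 i) (q : A) :
    poinc R (T.W1 (bset 6 31) : Set (Equiv.Perm Φ)) q =
      (1 + q ^ 1 + q ^ 2 + 2 * q ^ 3 + 2 * q ^ 4 + 2 * q ^ 5 + 2 * q ^ 6 + 2 * q ^ 7 + q ^ 8 + q ^ 9 + q ^ 10) * poinc R (T.W1 (bset 6 15) : Set (Equiv.Perm Φ)) q := by
  rw [poinc_step (J := 15) (c := 34921908256) (G := [(0, [0]), (1, [1]), (2, [2]), (3, [3]), (4, [4])]) (L := [(34921908256, 0), (35962357792, 1), (35978614880, 2), (35978868833, 3), (35978872927, 4), (35978876896, 3), (35979130849, 4), (35979134943, 5), (35995387937, 5), (35995392031, 6), (35995645984, 7), (37035837473, 6), (37035841567, 7), (37036095520, 8), (37052352608, 9), (37052614624, 10)]) (by decide) hA hπ (by decide +kernel) (by decide +kernel)]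
  simp only [List.map_cons, List.map_nil, List.sum_cons, List.sum_nil]
  ring

theorem pstep_E6_6 (hA : ∀ i j, R.A i j = aN tabE6.Am i j) {T : Tw R} (hπ : ∀ i, (T.π i : ℕ) = lk 5514788471040 i) (q : A) :
    poinc R (T.W1 (bset 6 63) : Set (Equiv.Perm Φ)) q =
      (1 + q ^ 1 + q ^ 2 + q ^ 3 + 2 * q ^ 4 + 2 * q ^ 5 + 2 * q ^ 6 + 2 * q ^ 7 + 3 * q ^ 8 + 2 * q ^ 9 + 2 * q ^ 10 + 2 * q ^ 11 + 2 * q ^ 12 + q ^ 13 + q ^ 14 + q ^ 15 + q ^ 16) * poinc R (T.W1 (bset 6 31) : Set (Equiv.Perm Φ)) q := by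
  rw [poinc_step (J := 31) (c := 35978872864) (G := [(0, [0]), (1, [1]), (2, [2]), (3, [3]), (4, [4]), (5, [5])]) (L := [(33831389217, 8), (33831393311, 9), (33831647264, 10), (33847904352, 11), (33848166368, 12), (33848166432, 1), (34888353888, 12), (34888615904, 13), (34888615968, 2), (34904872992, 14), (34904873056, 3), (34905126945, 15), (34905127009, 4), (34905131039, 16), (34905131103, 5), (34905135072, 4), (34905389025, 5), (34905393119, 6), (34921646113, 6), (34921650207, 7), (34921904160, 8), (35962095649, 7), (35962099743, 8), (35962353696, 9), (35978610784, 10), (35978872800, 11), (35978872864, 0)]) (by decide) hA hπ (by decide +kernel) (by decide +kernel)]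
  simp only [List.map_cons, List.map_nil, List.sum_cons, List.sum_nil]
  ring

theorem poinc_E6_prod (hA : ∀ i j, R.A i j = aN tabE6.Am i j) {T : Tw R} (hπ : ∀ i, (T.π i : ℕ) = lk 5514788471040 i) (q : A) :
    poinc R (T.W1 Set.univ : Set (Equiv.Perm Φ)) q = (1 + q ^ 1 + q ^ 2 + q ^ 3 + 2 * q ^ 4 + 2 * q ^ 5 + 2 * q ^ 6 + 2 * q ^ 7 + 3 * q ^ 8 + 2 * q ^ 9 + 2 * q ^ 10 + 2 * q ^ 11 + 2 * q ^ 12 + q ^ 13 + q ^ 14 + q ^ 15 + q ^ 16) * ((1 + q ^ 1 + q ^ 2 + 2 * q ^ 3 + 2 * q ^ 4 + 2 * q ^ 5 + 2 * q ^ 6 + 2 * q ^ 7 + q ^ 8 + q ^ 9 + q ^ 10) * ((1 + q ^ 1 + q ^ 2 + q ^ 3 + q ^ 4) * ((1 + q ^ 1 + q ^ 2 + q ^ 3) * ((1 + q ^ 1 + q ^ 2) * ((1 + q ^ 1)))))) := by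
  rw [← bset_all, show 2 ^ 6 - 1 = 63 from rfl, pstep_E6_6 hA hπ, pstep_E6_5 hA hπ, pstep_E6_4 hA hπ, pstep_E6_3 hA hπ, pstep_E6_2 hA hπ, pstep_E6_1 hA hπ, bset_zero, Tw.poinc_W1_empty, mul_one]

theorem poinc_E6_eq {A : Type*} [CommRing A] (hA : ∀ i j, R.A i j = aN tabE6.Am i j) {T : Tw R}
    (hπ : ∀ i, (T.π i : ℕ) = lk 5514788471040 i) (q : A) :
    poinc R (T.W1 Set.univ : Set (Equiv.Perm Φ)) q * ((q - 1) ^ 6) = (q ^ 2 - 1) * (q ^ 5 - 1) * (q ^ 6 - 1) * (q ^ 8 - 1) * (q ^ 9 - 1) * (q ^ 12 - 1) := by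
  rw [poinc_E6_prod hA hπ]; ring

theorem pstep_E6t_1 (hA : ∀ i j, R.A i j = aN tabE6.Am i j) {T : Tw R} (hπ : ∀ i, (T.π i : ℕ) = lk 8640528645 i) (q : A) :
    poinc R (T.W1 (bset 6 2) : Set (Equiv.Perm Φ)) q =
      (1 + q ^ 1) * poinc R (T.W1 (bset 6 0) : Set (Equiv.Perm Φ)) q := by
  rw [poinc_step (J := 0) (c := 34905131104) (G := [(1, [1])]) (L := [(34905131104, 0), (34905393120, 1)]) (by decide) hA hπ (by decide +kernel) (by decide +kernel)]
  simp only [List.map_cons, List.map_nil, List.sum_cons, List.sum_nil]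
  ring

theorem pstep_E6t_2 (hA : ∀ i j, R.A i j = aN tabE6.Am i j) {T : Tw R} (hπ : ∀ i, (T.π i : ℕ) = lk 8640528645 i) (q : A) :
    poinc R (T.W1 (bset 6 10) : Set (Equiv.Perm Φ)) q =
      (1 + q ^ 1 + q ^ 2) * poinc R (T.W1 (bset 6 2) : Set (Equiv.Perm Φ)) q := by
  rw [poinc_step (J := 2) (c := 34905393184) (G := [(1, [1]), (3, [3])]) (L := [(34905393184, 0), (34921650272, 1), (34921912288, 2)]) (by decide) hA hπ (by decide +kernel) (by decide +kernel)]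
  simp only [List.map_cons, List.map_nil, List.sum_cons, List.sum_nil]
  ring

theorem pstep_E6t_3 (hA : ∀ i j, R.A i j = aN tabE6.Am i j) {T : Tw R} (hπ : ∀ i, (T.π i : ℕ) = lk 8640528645 i) (q : A) :
    poinc R (T.W1 (bset 6 30) : Set (Equiv.Perm Φ)) q =
      (1 + q ^ 2 + q ^ 3 + q ^ 4 + q ^ 5 + q ^ 6 + q ^ 7 + q ^ 9) * poinc R (T.W1 (bset 6 10) : Set (Equiv.Perm Φ)) q := by
  rw [poinc_step (J := 10) (c := 34921912352) (G := [(1, [1]), (2, [4, 2]), (3, [3])]) (L := [(34921912352, 0), (35962615841, 2), (35995130017, 3), (35995654049, 4), (37035833506, 5), (37036357538, 6), (37068871714, 7), (38109575203, 9)]) (by decide) hA hπ (by decide +kernel) (by decide +kernel)]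
  simp only [List.map_cons, List.map_nil, List.sum_cons, List.sum_nil]
  ring

theorem pstep_E6t_4 (hA : ∀ i j, R.A i j = aN tabE6.Am i j) {T : Tw R} (hπ : ∀ i, (T.π i : ℕ) = lk 8640528645 i) (q : A) :
    poinc R (T.W1 (bset 6 63) : Set (Equiv.Perm Φ)) q =
      (1 + q ^ 2 + q ^ 4 + q ^ 5 + q ^ 6 + q ^ 7 + q ^ 8 + 2 * q ^ 9 + q ^ 10 + 2 * q ^ 11 + 2 * q ^ 13 + q ^ 14 + 2 * q ^ 15 + q ^ 16 + q ^ 17 + q ^ 18 + q ^ 19 + q ^ 20 + q ^ 22 + q ^ 24) * poinc R (T.W1 (bset 6 30) : Set (Equiv.Perm Φ)) q := by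
  rw [poinc_step (J := 30) (c := 35978872865) (G := [(0, [5, 0]), (1, [1]), (2, [4, 2]), (3, [3])]) (L := [(32774428702, 13), (33815132191, 15), (33831389215, 24), (33831389343, 9), (33831913375, 10), (33847646367, 16), (33848170399, 17), (33848170527, 2), (33864427551, 11), (34888349856, 18), (34888873888, 19), (34888874016, 4), (34921388064, 20), (34921388192, 5), (34921912224, 6), (35945834529, 13), (35962091553, 22), (35962091681, 7), (35962615713, 8), (35978348705, 14), (35978872737, 15), (35978872865, 0), (35995129889, 9), (37035833378, 11)]) (by decide) hA hπ (by decide +kernel) (by decide +kernel)]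
  simp only [List.map_cons, List.map_nil, List.sum_cons, List.sum_nil]
  ring

theorem poinc_E6t_prod (hA : ∀ i j, R.A i j = aN tabE6.Am i j) {T : Tw R} (hπ : ∀ i, (T.π i : ℕ) = lk 8640528645 i) (q : A) :
    poinc R (T.W1 Set.univ : Set (Equiv.Perm Φ)) q = (1 + q ^ 2 + q ^ 4 + q ^ 5 + q ^ 6 + q ^ 7 + q ^ 8 + 2 * q ^ 9 + q ^ 10 + 2 * q ^ 11 + 2 * q ^ 13 + q ^ 14 + 2 * q ^ 15 + q ^ 16 + q ^ 17 + q ^ 18 + q ^ 19 + q ^ 20 + q ^ 22 + q ^ 24) * ((1 + q ^ 2 + q ^ 3 + q ^ 4 + q ^ 5 + q ^ 6 + q ^ 7 + q ^ 9) * ((1 + q ^ 1 + q ^ 2) * ((1 + q ^ 1)))) := by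
  rw [← bset_all, show 2 ^ 6 - 1 = 63 from rfl, pstep_E6t_4 hA hπ, pstep_E6t_3 hA hπ, pstep_E6t_2 hA hπ, pstep_E6t_1 hA hπ, bset_zero, Tw.poinc_W1_empty, mul_one]

theorem poinc_E6t_eq {A : Type*} [CommRing A] (hA : ∀ i j, R.A i j = aN tabE6.Am i j) {T : Tw R}
    (hπ : ∀ i, (T.π i : ℕ) = lk 8640528645 i) (q : A) :
    poinc R (T.W1 Set.univ : Set (Equiv.Perm Φ)) q * ((q - 1) ^ 2 * (q ^ 2 - 1) ^ 2) = (q ^ 2 - 1) * (q ^ 5 + 1) * (q ^ 6 - 1) * (q ^ 8 - 1) * (q ^ 9 + 1) * (q ^ 12 - 1) := by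
  rw [poinc_E6t_prod hA hπ]; ring

end Cfsg.Lib.Twist
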