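/-
Poincaré sums of the Weyl group of type E7 (and of its twisted form, if there is one).
-/
import Cfsg.Agent.Lib.Twist.PoincChk
import Cfsg.Agent.Lib.Twist.RootE7

set_option autoImplicit false
set_option maxRecDepth 100000

namespace Cfsg.Lib.Twist

open Cfsg.Lib.Chev

variable {Φ : Type*} [Finite Φ] {R : RootSys (Fin 7) Φ} {A : Type*} [CommSemiring A]

theorem pstep_E7_1 (hA : ∀ i j, R.A i j = aN tabE7.Am i j) {T : Tw R} (hπ : ∀ i, (T.π i : ℕ) = lk 1694364648734976 i) (q : A) :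
    poinc R (T.W1 (bset 7 1) : Set (Equiv.Perm Φ)) q =
      (1 + q ^ 1) * poinc R (T.W1 (bset 7 0) : Set (Equiv.Perm Φ)) q := by
  rw [poinc_step (J := 0) (c := 2233928386593) (G := [(0, [0])]) (L := [(2233928386593, 0), (2233928390687, 1)]) (by decide) hA hπ (by decide +kernel) (by decide +kernel)]
  simp only [List.map_cons, List.map_nil, List.sum_cons, List.sum_nil]
  ring

theorem pstep_E7_2 (hA : ∀ i j, R.A i j = aN tabE7.Am i j) {T : Tw R} (hπ : ∀ i, (T.π i : ℕ) = lk 1694364648734976 i) (q : A) :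
    poinc R (T.W1 (bset 7 5) : Set (Equiv.Perm Φ)) q =
      (1 + q ^ 1 + q ^ 2) * poinc R (T.W1 (bset 7 1) : Set (Equiv.Perm Φ)) q := by
  rw [poinc_step (J := 1) (c := 2233928390688) (G := [(0, [0]), (2, [2])]) (L := [(2233928390688, 0), (2233928644641, 1), (2233928648735, 2)]) (by decide) hA hπ (by decide +kernel) (by decide +kernel)]
  simp only [List.map_cons, List.map_nil, List.sum_cons, List.sum_nil]
  ring

theorem pstep_E7_3 (hA : ∀ i j, R.A i j = aN tabE7.Am i j) {T : Tw R} (hπ : ∀ i, (T.π i : ℕ) = lk 1694364648734976 i) (q : A) :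
    poinc R (T.W1 (bset 7 13) : Set (Equiv.Perm Φ)) q =
      (1 + q ^ 1 + q ^ 2 + q ^ 3) * poinc R (T.W1 (bset 7 5) : Set (Equiv.Perm Φ)) q := by
  rw [poinc_step (J := 5) (c := 2233928648736) (G := [(0, [0]), (2, [2]), (3, [3])]) (L := [(2233928648736, 0), (2233944905824, 1), (2233945159777, 2), (2233945163871, 3)]) (by decide) hA hπ (by decide +kernel) (by decide +kernel)]
  simp only [List.map_cons, List.map_nil, List.sum_cons, List.sum_nil]
  ring

theorem pstep_E7_4 (hA : ∀ i j, R.A i j = aN tabE7.Am i j) {T : Tw R} (hπ : ∀ i, (T.π i : ℕ) = lk 1694364648734976 i) (q : A) :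
    poinc R (T.W1 (bset 7 15) : Set (Equiv.Perm Φ)) q =
      (1 + q ^ 1 + q ^ 2 + q ^ 3 + q ^ 4) * poinc R (T.W1 (bset 7 13) : Set (Equiv.Perm Φ)) q := by
  rw [poinc_step (J := 13) (c := 2233928386656) (G := [(0, [0]), (1, [1]), (2, [2]), (3, [3])]) (L := [(2233928386656, 0), (2233928648672, 1), (2233944905760, 2), (2233945159713, 3), (2233945163807, 4)]) (by decide) hA hπ (by decide +kernel) (by decide +kernel)]
  simp only [List.map_cons, List.map_nil, List.sum_cons, List.sum_nil]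
  ring

theorem pstep_E7_5 (hA : ∀ i j, R.A i j = aN tabE7.Am i j) {T : Tw R} (hπ : ∀ i, (T.π i : ℕ) = lk 1694364648734976 i) (q : A) :
    poinc R (T.W1 (bset 7 31) : Set (Equiv.Perm Φ)) q =
      (1 + q ^ 1 + q ^ 2 + 2 * q ^ 3 + 2 * q ^ 4 + 2 * q ^ 5 + 2 * q ^ 6 + 2 * q ^ 7 + q ^ 8 + q ^ 9 + q ^ 10) * poinc R (T.W1 (bset 7 15) : Set (Equiv.Perm Φ)) q := by
  rw [poinc_step (J := 15) (c := 2233945163808) (G := [(0, [0]), (1, [1]), (2, [2]), (3, [3]), (4, [4])]) (L := [(2233945163808, 0), (2234985613344, 1), (2235001870432, 2), (2235002124385, 3), (2235002128479, 4), (2235002132448, 3), (2235002386401, 4), (2235002390495, 5), (2235018643489, 5), (2235018647583, 6), (2235018901536, 7), (2236059093025, 6), (2236059097119, 7), (2236059351072, 8), (2236075608160, 9), (2236075870176, 10)]) (by decide) hA hπ (by decide +kernel) (by decide +kernel)]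
  simp only [List.map_cons, List.map_nil, List.sum_cons, List.sum_nil]
  ring

theorem pstep_E7_6 (hA : ∀ i j, R.A i j = aN tabE7.Am i j) {T : Tw R} (hπ : ∀ i, (T.π i : ℕ) = lk 1694364648734976 i) (q : A) :
    poinc R (T.W1 (bset 7 63) : Set (Equiv.Perm Φ)) q =
      (1 + q ^ 1 + q ^ 2 + q ^ 3 + 2 * q ^ 4 + 2 * q ^ 5 + 2 * q ^ 6 + 2 * q ^ 7 + 3 * q ^ 8 + 2 * q ^ 9 + 2 * q ^ 10 + 2 * q ^ 11 + 2 * q ^ 12 + q ^ 13 + q ^ 14 + q ^ 15 + q ^ 16) * poinc R (T.W1 (bset 7 31) : Set (Equiv.Perm Φ)) q := by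
  rw [poinc_step (J := 31) (c := 2235002128416) (G := [(0, [0]), (1, [1]), (2, [2]), (3, [3]), (4, [4]), (5, [5])]) (L := [(2235002128416, 0), (2301590898720, 1), (2302631348256, 2), (2302647605344, 3), (2302647859297, 4), (2302647863391, 5), (2302647867360, 4), (2302648121313, 5), (2302648125407, 6), (2302664378401, 6), (2302664382495, 7), (2302664636448, 8), (2303704827937, 7), (2303704832031, 8), (2303705085984, 9), (2303721343072, 10), (2303721605088, 11), (2370293598241, 8), (2370293602335, 9), (2370293856288, 10), (2370310113376, 11), (2370310375392, 12), (2371350562912, 12), (2371350824928, 13), (2371367082016, 14), (2371367335969, 15), (2371367340063, 16)]) (by decide) hA hπ (by decide +kernel) (by decide +kernel)]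
  simp only [List.map_cons, List.map_nil, List.sum_cons, List.sum_nil]
  ring

theorem pstep_E7_7 (hA : ∀ i j, R.A i j = aN tabE7.Am i j) {T : Tw R} (hπ : ∀ i, (T.π i : ℕ) = lk 1694364648734976 i) (q : A) :
    poinc R (T.W1 (bset 7 127) : Set (Equiv.Perm Φ)) q =
      (1 + q ^ 1 + q ^ 2 + q ^ 3 + q ^ 4 + 2 * q ^ 5 + 2 * q ^ 6 + 2 * q ^ 7 + 2 * q ^ 8 + 3 * q ^ 9 + 3 * q ^ 10 + 3 * q ^ 11 + 3 * q ^ 12 + 3 * q ^ 13 + 3 * q ^ 14 + 3 * q ^ 15 + 3 * q ^ 16 + 3 * q ^ 17 + 3 * q ^ 18 + 2 * q ^ 19 + 2 * q ^ 20 + 2 * q ^ 21 + 2 * q ^ 22 + q ^ 23 + q ^ 24 + q ^ 25 + q ^ 26 + q ^ 27) * poinc R (T.W1 (bset 7 63) : Set (Equiv.Perm Φ)) q := by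
  rw [poinc_step (J := 63) (c := 2302647863328) (G := [(0, [0]), (1, [1]), (2, [2]), (3, [3]), (4, [4]), (5, [5]), (6, [6])]) (L := [(2165208909856, 27), (2165208909857, 10), (2165208913951, 11), (2165209167904, 12), (2165225424992, 13), (2165225687008, 14), (2166265874528, 14), (2166266136544, 15), (2166282393632, 16), (2166282647585, 17), (2166282651679, 18), (2166282651680, 1), (2232854644832, 15), (2232854906848, 16), (2232871163936, 17), (2232871417889, 18), (2232871421983, 19), (2232871421984, 2), (2233911613472, 18), (2233911867425, 19), (2233911871519, 20), (2233911871520, 3), (2233928124513, 20), (2233928128607, 21), (2233928128608, 4), (2233928382560, 22), (2233928382561, 5), (2233928386529, 21), (2233928386655, 6), (2233928390623, 22), (2233928390624, 5), (2233928644576, 23), (2233928644577, 6), (2233928648671, 7), (2233944901664, 24), (2233944901665, 7), (2233944905759, 8), (2233945159712, 9), (2234985351200,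 25), (2234985351201, 8), (2234985355295, 9), (2234985609248, 10), (2235001866336, 11), (2235002128352, 12), (2301574121504, 26), (2301574121505, 9), (2301574125599, 10), (2301574379552, 11), (2301590636640, 12), (2301590898656, 13), (2302631086176, 13), (2302631348192, 14), (2302647605280, 15), (2302647859233, 16), (2302647863327, 17), (2302647863328, 0)]) (by decide) hA hπ (by decide +kernel) (by decide +kernel)]
  simp only [List.map_cons, List.map_nil, List.sum_cons, List.sum_nil]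
  ring

theorem poinc_E7_prod (hA : ∀ i j, R.A i j = aN tabE7.Am i j) {T : Tw R} (hπ : ∀ i, (T.π i : ℕ) = lk 1694364648734976 i) (q : A) :
    poinc R (T.W1 Set.univ : Set (Equiv.Perm Φ)) q = (1 + q ^ 1 + q ^ 2 + q ^ 3 + q ^ 4 + 2 * q ^ 5 + 2 * q ^ 6 + 2 * q ^ 7 + 2 * q ^ 8 + 3 * q ^ 9 + 3 * q ^ 10 + 3 * q ^ 11 + 3 * q ^ 12 + 3 * q ^ 13 + 3 * q ^ 14 + 3 * q ^ 15 + 3 * q ^ 16 + 3 * q ^ 17 + 3 * q ^ 18 + 2 * q ^ 19 + 2 * q ^ 20 + 2 * q ^ 21 + 2 * q ^ 22 + q ^ 23 + q ^ 24 + q ^ 25 + q ^ 26 + q ^ 27) * ((1 + q ^ 1 + q ^ 2 + q ^ 3 + 2 * q ^ 4 + 2 * q ^ 5 + 2 * q ^ 6 + 2 * q ^ 7 + 3 * q ^ 8 + 2 * q ^ 9 + 2 * q ^ 10 + 2 * q ^ 11 + 2 * q ^ 12 + q ^ 13 + q ^ 14 + q ^ 15 + q ^ 16) * ((1 + q ^ 1 + q ^ 2 + 2 * q ^ 3 + 2 * q ^ 4 + 2 * q ^ 5 + 2 * q ^ 6 + 2 * q ^ 7 + q ^ 8 + q ^ 9 + q ^ 10) * ((1 + q ^ 1 + q ^ 2 + q ^ 3 + q ^ 4) * ((1 + q ^ 1 + q ^ 2 + q ^ 3) * ((1 + q ^ 1 + q ^ 2) * ((1 + q ^ 1))))))) := by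
  rw [← bset_all, show 2 ^ 7 - 1 = 127 from rfl, pstep_E7_7 hA hπ, pstep_E7_6 hA hπ, pstep_E7_5 hA hπ, pstep_E7_4 hA hπ, pstep_E7_3 hA hπ, pstep_E7_2 hA hπ, pstep_E7_1 hA hπ, bset_zero, Tw.poinc_W1_empty, mul_one]

theorem poinc_E7_eq {A : Type*} [CommRing A] (hA : ∀ i j, R.A i j = aN tabE7.Am i j) {T : Tw R}
    (hπ : ∀ i, (T.π i : ℕ) = lk 1694364648734976 i) (q : A) :
    poinc R (T.W1 Set.univ : Set (Equiv.Perm Φ)) q * ((q - 1) ^ 7) = (q ^ 2 - 1) * (q ^ 6 - 1) * (q ^ 8 - 1) * (q ^ 10 - 1) * (q ^ 12 - 1) * (q ^ 14 - 1) * (q ^ 18 - 1) := by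
  rw [poinc_E7_prod hA hπ]; ring

end Cfsg.Lib.Twist
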