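/-
Poincaré sums of the Weyl group of type F4 (and of its twisted form, if there is one).
-/
import Cfsg.Agent.Lib.Twist.PoincChk
import Cfsg.Agent.Lib.Twist.RootF4

set_option autoImplicit false
set_option maxRecDepth 100000

namespace Cfsg.Lib.Twist

open Cfsg.Lib.Chev

variable {Φ : Type*} [Finite Φ] {R : RootSys (Fin 4) Φ} {A : Type*} [CommSemiring A]

theorem pstep_F4_1 (hA : ∀ i j, R.A i j = aN tabF4.Am i j) {T : Tw R} (hπ : ∀ i, (T.π i : ℕ) = lk 50462976 i) (q : A) :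
    poinc R (T.W1 (bset 4 1) : Set (Equiv.Perm Φ)) q =
      (1 + q ^ 1) * poinc R (T.W1 (bset 4 0) : Set (Equiv.Perm Φ)) q := by
  rw [poinc_step (J := 0) (c := 8521761) (G := [(0, [0])]) (L := [(8521761, 0), (8521823, 1)]) (by decide) hA hπ (by decide +kernel) (by decide +kernel)]
  simp only [List.map_cons, List.map_nil, List.sum_cons, List.sum_nil]
  ring

theorem pstep_F4_2 (hA : ∀ i j, R.A i j = aN tabF4.Am i j) {T : Tw R} (hπ : ∀ i, (T.π i : ℕ) = lk 50462976 i) (q : A) :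
    poinc R (T.W1 (bset 4 3) : Set (Equiv.Perm Φ)) q =
      (1 + q ^ 1 + q ^ 2) * poinc R (T.W1 (bset 4 1) : Set (Equiv.Perm Φ)) q := by
  rw [poinc_step (J := 1) (c := 8521824) (G := [(0, [0]), (1, [1])]) (L := [(8521824, 0), (8529889, 1), (8529951, 2)]) (by decide) hA hπ (by decide +kernel) (by decide +kernel)]
  simp only [List.map_cons, List.map_nil, List.sum_cons, List.sum_nil]
  ring

theorem pstep_F4_3 (hA : ∀ i j, R.A i j = aN tabF4.Am i j) {T : Tw R} (hπ : ∀ i, (T.π i : ℕ) = lk 50462976 i) (q : A) :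
    poinc R (T.W1 (bset 4 7) : Set (Equiv.Perm Φ)) q =
      (1 + q ^ 1 + q ^ 2 + 2 * q ^ 3 + q ^ 4 + q ^ 5 + q ^ 6) * poinc R (T.W1 (bset 4 3) : Set (Equiv.Perm Φ)) q := by
  rw [poinc_step (J := 3) (c := 8525856) (G := [(0, [0]), (1, [1]), (2, [2])]) (L := [(8525856, 0), (8779872, 1), (8787937, 2), (8787999, 3), (9041953, 3), (9042015, 4), (9050080, 5), (9304096, 6)]) (by decide) hA hπ (by decide +kernel) (by decide +kernel)]
  simp only [List.map_cons, List.map_nil, List.sum_cons, List.sum_nil]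
  ring

theorem pstep_F4_4 (hA : ∀ i j, R.A i j = aN tabF4.Am i j) {T : Tw R} (hπ : ∀ i, (T.π i : ℕ) = lk 50462976 i) (q : A) :
    poinc R (T.W1 (bset 4 15) : Set (Equiv.Perm Φ)) q =
      (1 + q ^ 1 + q ^ 2 + q ^ 3 + 2 * q ^ 4 + 2 * q ^ 5 + 2 * q ^ 6 + 2 * q ^ 7 + 2 * q ^ 8 + 2 * q ^ 9 + 2 * q ^ 10 + 2 * q ^ 11 + q ^ 12 + q ^ 13 + q ^ 14 + q ^ 15) * poinc R (T.W1 (bset 4 7) : Set (Equiv.Perm Φ)) q := by
  rw [poinc_step (J := 7) (c := 8783904) (G := [(0, [0]), (1, [1]), (2, [2]), (3, [3])]) (L := [(8001568, 8), (8255584, 9), (8259616, 15), (8259617, 5), (8259679, 6), (8263649, 10), (8263711, 11), (8263712, 1), (8267744, 7), (8517665, 11), (8517727, 12), (8517728, 2), (8525792, 13), (8525793, 3), (8525855, 4), (8775776, 8), (8779808, 14), (8779809, 4), (8779871, 5), (8783841, 9), (8783903, 10), (8783904, 0), (8787936, 6), (9041952, 7)]) (by decide) hA hπ (by decide +kernel)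 (by decide +kernel)]
  simp only [List.map_cons, List.map_nil, List.sum_cons, List.sum_nil]
  ring

theorem poinc_F4_prod (hA : ∀ i j, R.A i j = aN tabF4.Am i j) {T : Tw R} (hπ : ∀ i, (T.π i : ℕ) = lk 50462976 i) (q : A) :
    poinc R (T.W1 Set.univ : Set (Equiv.Perm Φ)) q = (1 + q ^ 1 + q ^ 2 + q ^ 3 + 2 * q ^ 4 + 2 * q ^ 5 + 2 * q ^ 6 + 2 * q ^ 7 + 2 * q ^ 8 + 2 * q ^ 9 + 2 * q ^ 10 + 2 * q ^ 11 + q ^ 12 + q ^ 13 + q ^ 14 + q ^ 15) * ((1 + q ^ 1 + q ^ 2 + 2 * q ^ 3 + q ^ 4 + q ^ 5 + q ^ 6) * ((1 + q ^ 1 + q ^ 2) * ((1 + q ^ 1)))) := by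
  rw [← bset_all, show 2 ^ 4 - 1 = 15 from rfl, pstep_F4_4 hA hπ, pstep_F4_3 hA hπ, pstep_F4_2 hA hπ, pstep_F4_1 hA hπ, bset_zero, Tw.poinc_W1_empty, mul_one]

theorem poinc_F4_eq {A : Type*} [CommRing A] (hA : ∀ i j, R.A i j = aN tabF4.Am i j) {T : Tw R}
    (hπ : ∀ i, (T.π i : ℕ) = lk 50462976 i) (q : A) :
    poinc R (T.W1 Set.univ : Set (Equiv.Perm Φ)) q * ((q - 1) ^ 4) = (q ^ 2 - 1) * (q ^ 6 - 1) * (q ^ 8 - 1) * (q ^ 12 - 1) := by
  rw [poinc_F4_prod hA hπ]; ring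

theorem pstep_F4t_1 (hA : ∀ i j, R.A i j = aN tabF4.Am i j) {T : Tw R} (hπ : ∀ i, (T.π i : ℕ) = lk 66051 i) (q : A) :
    poinc R (T.W1 (bset 4 6) : Set (Equiv.Perm Φ)) q =
      (1 + q ^ 4) * poinc R (T.W1 (bset 4 0) : Set (Equiv.Perm Φ)) q := by
  rw [poinc_step (J := 0) (c := 8525920) (G := [(1, [2, 1, 2, 1])]) (L := [(8525920, 0), (9566179, 4)]) (by decide) hA hπ (by decide +kernel) (by decide +kernel)]
  simp only [List.map_cons, List.map_nil, List.sum_cons, List.sum_nil]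
  ring

theorem pstep_F4t_2 (hA : ∀ i j, R.A i j = aN tabF4.Am i j) {T : Tw R} (hπ : ∀ i, (T.π i : ℕ) = lk 66051 i) (q : A) :
    poinc R (T.W1 (bset 4 15) : Set (Equiv.Perm Φ)) q =
      (1 + q ^ 2 + q ^ 6 + q ^ 8 + q ^ 12 + q ^ 14 + q ^ 18 + q ^ 20) * poinc R (T.W1 (bset 4 6) : Set (Equiv.Perm Φ)) q := by
  rw [poinc_step (J := 6) (c := 8783905) (G := [(0, [3, 0]), (1, [2, 1, 2, 1])]) (L := [(7739486, 14), (7743582, 8), (8259615, 20), (8263775, 2), (8779745, 18), (8783905, 0), (9299938, 12), (9304034, 6)]) (by decide) hA hπ (by decide +kernel) (by decide +kernel)]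
  simp only [List.map_cons, List.map_nil, List.sum_cons, List.sum_nil]
  ring

theorem poinc_F4t_prod (hA : ∀ i j, R.A i j = aN tabF4.Am i j) {T : Tw R} (hπ : ∀ i, (T.π i : ℕ) = lk 66051 i) (q : A) :
    poinc R (T.W1 Set.univ : Set (Equiv.Perm Φ)) q = (1 + q ^ 2 + q ^ 6 + q ^ 8 + q ^ 12 + q ^ 14 + q ^ 18 + q ^ 20) * ((1 + q ^ 4)) := by
  rw [← bset_all, show 2 ^ 4 - 1 = 15 from rfl, pstep_F4t_2 hA hπ, pstep_F4t_1 hA hπ, bset_zero, Tw.poinc_W1_empty, mul_one]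

theorem poinc_F4t_eq {A : Type*} [CommRing A] (hA : ∀ i j, R.A i j = aN tabF4.Am i j) {T : Tw R}
    (hπ : ∀ i, (T.π i : ℕ) = lk 66051 i) (q : A) :
    poinc R (T.W1 Set.univ : Set (Equiv.Perm Φ)) q * ((q ^ 2 - 1) ^ 2) = (q ^ 2 - 1) * (q ^ 6 + 1) * (q ^ 8 - 1) * (q ^ 12 + 1) := by
  rw [poinc_F4t_prod hA hπ]; ring

end Cfsg.Lib.Twist
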