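/-
Squares of conjugacy classes in twisted groups of rank two: a Gauss decomposition with respect to a parabolic
subgroup with prescribed torus part.
-/
import Cfsg.Agent.Lib.Twist.FixMore

set_option autoImplicit false

namespace Cfsg.Lib.Twist

open Cfsg.Lib.Chev PreSys RootSys

variable {I Φ : Type*} [Fintype I] [DecidableEq I] {R : RootSys I Φ} {K : Type*} [Field K] {G : Type*} [Group G]

theorem exists_conj_of_fpf {V : Subgroup G} [Finite V] {x : G} (hx : ∀ v ∈ V, x⁻¹ * v * x ∈ V)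
    (hf : ∀ v ∈ V, x * v = v * x → v = 1) {v : G} (hv : v ∈ V) : ∃ a ∈ V, x * v = a * x * a⁻¹ := by
  let f : V → V := fun a => ⟨x⁻¹ * a * x * (a : G)⁻¹, mul_mem (hx _ a.2) (inv_mem a.2)⟩
  have hi : Function.Injective f := fun a b h => by
    have h1 : x⁻¹ * a * x * (a : G)⁻¹ = x⁻¹ * b * x * (b : G)⁻¹ := congrArg Subtype.val h
    have := hf ((b : G)⁻¹ * a) (mul_mem (inv_mem b.2) a.2) (by
      calc x * ((b : G)⁻¹ * a) = (b : G)⁻¹ * x * (x⁻¹ * b * x * (b : G)⁻¹) * a := by group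
        _ = _ := by rw [← h1]; group)
    exact Subtype.ext (inv_mul_eq_one.1 this).symm
  obtain ⟨a, ha⟩ := Finite.surjective_of_injective hi ⟨v, hv⟩
  have h1 : x⁻¹ * a * x * (a : G)⁻¹ = v := congrArg Subtype.val ha
  exact ⟨a, a.2, by rw [← h1]; group⟩

theorem exists_conj_of_fpf' {V : Subgroup G} [Finite V] {x : G} (hx : ∀ v ∈ V, x * v * x⁻¹ ∈ V)
    (hf : ∀ v ∈ V, x * v = v * x → v = 1) {v : G} (hv : v ∈ V) : ∃ a ∈ V, v * x = a * x * a⁻¹ := by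
  obtain ⟨a, ha, e⟩ := exists_conj_of_fpf (x := x⁻¹) (by simpa using hx)
    (fun v hv h => hf v hv (Commute.inv_left_iff.1 h)) (inv_mem hv)
  exact ⟨a, ha, by simpa [mul_assoc] using congrArg (·⁻¹) e⟩

theorem conj_mem_of {Γ : Subgroup G} {a g : G} (ha : a ∈ Γ) (hg : g ∈ Γ) : a * g * a⁻¹ ∈ Γ :=
  mul_mem (mul_mem ha hg) (inv_mem ha)

theorem conj_mem_of' {Γ : Subgroup G} {a g : G} (ha : a ∈ Γ) (hg : g ∈ Γ) : a⁻¹ * g * a ∈ Γ :=
  mul_mem (mul_mem (inv_mem ha) hg) ha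

theorem cone_subset_radical' {J : Set I} {r s : Φ} (hs : R.InSub J s) (hr : ¬ R.Pos r ∧ ¬ R.InSub J r) :
    r ≠ R.neg s ∧ R.cone s r ⊆ {r | ¬ R.Pos r ∧ ¬ R.InSub J r} := by
  have := cone_subset_radical (J := J) (r := R.neg r) (s := R.neg s) (Or.inr (inSub_neg.2 hs))
    ⟨(R.pos_neg_iff r).2 hr.1, fun h => hr.2 (inSub_neg.1 h)⟩
  refine ⟨fun h => this.1 (by rw [h]), fun k hk => ?_⟩
  have h := this.2 (neg_mem_cone hk)
  exact ⟨(R.pos_neg_iff k).1 h.1, fun h' => h.2 (inSub_neg.2 h')⟩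

/-- The Levi subgroup. -/
def Levi0 (S : PreSys R K G) (J : Set I) : Subgroup G := S.H ⊔ S.U {r | R.InSub J r}

theorem Levi0_norm_pos {S : PreSys R K G} (hS : S.St) (J : Set I) :
    Levi0 S J ≤ Subgroup.normalizer (S.U {r | R.Pos r ∧ ¬ R.InSub J r} : Set G) :=
  (le_sup_right.trans (hS.radical_sup_levi J).le).trans (hS.P_le_normalizer J)

theorem Levi0_norm_neg {S : PreSys R K G} (hS : S.St) (J : Set I) :
    Levi0 S J ≤ Subgroup.normalizer (S.U {r | ¬ R.Pos r ∧ ¬ R.InSub J r} : Set G) :=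
  sup_le (hS.H_le_normalizer _) (S.U_le_normalizer fun _ hs _ hr => cone_subset_radical' hs hr)

namespace TwSys

variable {S : PreSys R K G} {T : Tw R} (X : TwSys S T)

def Up : Subgroup G := S.U {r | R.Pos r} ⊓ X.Fix
def Vp (J : Set I) : Subgroup G := S.U {r | R.Pos r ∧ ¬ R.InSub J r} ⊓ X.Fix
def Vm (J : Set I) : Subgroup G := S.U {r | ¬ R.Pos r ∧ ¬ R.InSub J r} ⊓ X.Fix

theorem Vp_le_Up (J : Set I) : X.Vp J ≤ X.Up := inf_le_inf_right _ (S.U_mono fun _ h => h.1)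

variable {X}

theorem conj_Vp {J : Set I} {a v : G} (ha : a ∈ Levi0 S J) (ha' : a ∈ X.Fix) (hv : v ∈ X.Vp J) : a * v * a⁻¹ ∈ X.Vp J :=
  ⟨(Subgroup.mem_normalizer_iff.1 (Levi0_norm_pos X.st J ha) v).1 hv.1, conj_mem_of ha' hv.2⟩

theorem conj_Vp' {J : Set I} {a v : G} (ha : a ∈ Levi0 S J) (ha' : a ∈ X.Fix) (hv : v ∈ X.Vp J) : a⁻¹ * v * a ∈ X.Vp J := by
  simpa using conj_Vp (inv_mem ha) (inv_mem ha') hv

theorem conj_Vm {J : Set I} {a v : G} (ha : a ∈ Levi0 S J) (ha' : a ∈ X.Fix) (hv : v ∈ X.Vm J) : a * v * a⁻¹ ∈ X.Vm J :=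
  ⟨(Subgroup.mem_normalizer_iff.1 (Levi0_norm_neg X.st J ha) v).1 hv.1, conj_mem_of ha' hv.2⟩

theorem conj_Up {a u : G} (ha : a ∈ S.H ⊓ X.Fix) (hu : u ∈ X.Up) : a⁻¹ * u * a ∈ X.Up :=
  ⟨by simpa using X.st.H_conj_mem_U (inv_mem ha.1) hu.1, conj_mem_of' ha.2 hu.2⟩

theorem split [Finite Φ] {J : Set I} (hJ : T.Stable J) {u : G} (hu : u ∈ X.Up) :
    ∃ a ∈ S.U {r | R.Pos r ∧ R.InSub J r} ⊓ X.Fix, ∃ v ∈ X.Vp J, u = a * v := by
  obtain ⟨a, ha, b, hb, rfl⟩ := S.exists_mul nil_pos {r | R.InSub J r} hu.1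
  have h : S.U {r | R.Pos r ∧ R.InSub J r} ⊓ S.U {r | R.Pos r ∧ ¬ R.InSub J r} = ⊥ :=
    le_bot_iff.1 ((le_inf inf_le_right (inf_le_left.trans ((S.U_mono fun _ h => h.2).trans le_sup_right))).trans
      (X.st.radical_inf_levi X.sep X.opp J).le)
  have := fix_of_mul h ha hb (X.σ_mem_U (fun r hr => by exact ⟨(T.pos_ρ r).2 hr.1, (T.inSub_ρ hJ r).2 hr.2⟩) ha)
    (X.σ_mem_U (fun r hr => by exact ⟨(T.pos_ρ r).2 hr.1, fun h => hr.2 ((T.inSub_ρ hJ r).1 h)⟩) hb) hu.2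
  exact ⟨a, ⟨ha, this.1⟩, b, ⟨hb, this.2⟩, rfl⟩

theorem exists_lng' [Finite Φ] {i : I} {Γ : Subgroup G} (hle : Γ ≤ X.Fix)
    (hp : S.U {r | R.Pos r ∧ R.InSub (T.orb i) r} ⊓ X.Fix ≤ Γ)
    (hn : ∃ v ∈ Γ, v ∈ S.U {r | ¬ R.Pos r ∧ R.InSub (T.orb i) r} ∧ v ≠ 1) : ∃ m ∈ S.N ⊓ Γ, S.Act m (lng R (T.orb i)) := by
  obtain ⟨v, hv, hv', h1⟩ := hn
  have h2 : v ∈ S.U {r | R.InSub (T.orb i) r} := S.U_mono (fun _ hr => hr.2) hv'
  obtain ⟨w, hw, h3⟩ := X.st.exists_cell_of_P (J := T.orb i) (g := v)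
    (X.st.radical_sup_levi _ ▸ Subgroup.mem_sup_right (Subgroup.mem_sup_right h2))
  have h4 := X.mem_W1_of_cell hw h3 (hle hv)
  rcases Tw.eq_one_or_lng h4 with rfl | rfl
  · exact (h1 (Subgroup.mem_bot.1 (X.opp ▸ Subgroup.mem_inf.2 ⟨(X.st.mem_cell_one X.sep).1 h3,
      S.U_mono (fun _ hr => hr.1) hv'⟩))).elim
  obtain ⟨u', hu', m, hm, h5, u, hu, rfl⟩ := X.fix_cell h4 h3 (hle hv)
  rw [Inv_lng] at hu
  have h6 : m ∈ S.H ⊔ S.U {r | R.InSub (T.orb i) r} := by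
    obtain ⟨l, hl, e⟩ := R.exists_word hw
    have := X.st.mul_inv_mem_H X.sep hm.1 (S.nw_mem_N l) (lng_mem_W _) h5 (e ▸ X.st.act_nw l)
    simpa using Subgroup.mul_mem_sup this (S.nw_mem (X := S.U {r | R.InSub (T.orb i) r}) fun j hj =>
      S.n_mem_U (inSub_simple.2 (hl j hj)) (inSub_neg.2 (inSub_simple.2 (hl j hj))) 1)
  obtain ⟨a, ha, b, hb, rfl⟩ := S.exists_mul' nil_pos {r | R.InSub (T.orb i) r} hu'.1
  have h7 : a ∈ S.U {r | R.Pos r ∧ ¬ R.InSub (T.orb i) r} ⊓ (S.H ⊔ S.U {r | R.InSub (T.orb i) r}) := ⟨ha, by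
    have := mul_mem (mul_mem (mul_mem (Subgroup.mem_sup_right h2) (inv_mem (Subgroup.mem_sup_right
      (S.U_mono (fun _ hr => hr.2) hu.1)))) (inv_mem h6)) (inv_mem (Subgroup.mem_sup_right (S.U_mono (fun _ hr => hr.2) hb)))
    simpa using this⟩
  rw [X.st.radical_inf_levi X.sep X.opp, Subgroup.mem_bot] at h7
  rw [h7, one_mul] at hu' hv
  refine ⟨m, ⟨hm.1, ?_⟩, h5⟩
  simpa [mul_assoc] using mul_mem (mul_mem (inv_mem (hp ⟨hb, hu'.2⟩)) hv) (inv_mem (hp hu))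

/-- `∏ n_k(c_k)`. -/
def nl (S : PreSys R K G) (l : List I) (c : I → K) : G := (l.map fun i => S.n (R.simple i) (c i)).prod

namespace Orth

variable {l : List I} (h : X.Orth l)
include h

theorem zl_nl (c : I → Kˣ) : zl S R.simple l (fun i => c i) * nl S l (fun _ => -1) =
    zl S (fun i => R.neg (R.simple i)) l (fun i => (c i)⁻¹) * zl S R.simple l (fun i => -c i) * S.hprod l c := by
  have a1 : ∀ i, R.simple i ∈ ({R.simple i, R.neg (R.simple i)} : Set Φ) := by simp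
  have a2 : ∀ i, R.neg (R.simple i) ∈ ({R.simple i, R.neg (R.simple i)} : Set Φ) := by simp
  rw [zl, zl, zl, nl, hprod, ← prod_map_mul_of_comm _ _ (h.pairwise' (fun i => S.n_mem_U (a1 i) (a2 i) _) fun i =>
      S.x_mem_U (a1 i) _), ← prod_map_mul_of_comm _ _ (h.pairwise' (fun i => S.x_mem_U (a1 i) _) fun i =>
      S.x_mem_U (a2 i) _), ← prod_map_mul_of_comm _ _ (h.pairwise' (fun i => S.h_mem_U (a1 i) (a2 i) _) fun i =>
      mul_mem (S.x_mem_U (a2 i) _) (S.x_mem_U (a1 i) _))]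
  refine congrArg _ (List.map_congr_left fun i _ => ?_)
  rw [S.x_neg_eq, inv_inv, S.x_neg, PreSys.h, S.n_neg _ (c i : K)]
  group

theorem hprod_fix [Finite Φ] (hΓ : X.Grp X.Fix) {c : I → Kˣ}
    (hc : ∀ i ∈ l, (c (T.π i) : K) = X.φ (R.simple i) (c i)) : S.hprod l c ∈ S.H ⊓ X.Fix :=
  ⟨hprod_mem_H l c, h.hprod_mem hΓ hc⟩

theorem zl_Up {c : I → K} (hc : ∀ i ∈ l, c (T.π i) = X.φ (R.simple i) (c i)) : zl S R.simple l c ∈ X.Up :=
  ⟨zl_mem (fun j _ => R.pos_simple j) c, h.zl_fix (Or.inl rfl) hc⟩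

theorem nl_eq : nl S l (fun _ => -1) = (zl S R.simple l 1)⁻¹ * zl S (fun i => R.neg (R.simple i)) l 1 *
    zl S R.simple l (fun _ => -1) := by
  have := h.zl_nl 1
  have h1 : S.hprod l 1 = 1 := map_one (X.st.torus X.mult l)
  simp only [Pi.one_apply, Units.val_one, inv_one, h1, mul_one] at this
  rw [mul_assoc, eq_inv_mul_iff_mul_eq]
  exact this

theorem nl_fix : nl S l (fun _ => -1) ∈ S.N ⊓ X.Fix :=
  ⟨Subgroup.list_prod_mem _ fun g hg => by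
    obtain ⟨i, -, rfl⟩ := List.mem_map.1 hg
    exact S.n_mem_N _ (by simp), by
    rw [h.nl_eq]
    exact X.Fix.mul_mem (X.Fix.mul_mem (X.Fix.inv_mem (h.zl_fix (Or.inl rfl) (by simp))) (h.zl_fix (Or.inr rfl) (by simp)))
      (h.zl_fix (Or.inl rfl) (by simp))⟩

omit h in
theorem nl_Lv {J : Set I} (hJ : ∀ i, i ∈ J ↔ i ∈ l) (c : I → K) : nl S l c ∈ Levi0 S J :=
  Subgroup.mem_sup_right (Subgroup.list_prod_mem _ fun g hg => by
    obtain ⟨i, hi, rfl⟩ := List.mem_map.1 hg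
    exact S.n_mem_U (inSub_simple.2 ((hJ i).2 hi)) (inSub_neg.2 (inSub_simple.2 ((hJ i).2 hi))) _)

theorem nl_act [Finite Φ] {i : I} (hJ : ∀ k, k ∈ T.orb i ↔ k ∈ l) : S.Act (nl S l (fun _ => -1)) (lng R (T.orb i)) := by
  obtain ⟨w, hw, h1⟩ := X.st.exists_act h.nl_fix.1
  have h2 := h1.mem_cell h.nl_fix.1
  have h3 := X.st.mem_WJ_of_mem_P X.sep hw h2 (J := T.orb i)
    (X.st.radical_sup_levi _ ▸ Subgroup.mem_sup_right (nl_Lv hJ _))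
  rcases Tw.eq_one_or_lng (X.mem_W1_of_cell h3 h2 h.nl_fix.2) with rfl | rfl
  · refine (h.neg_ne_one ((hJ i).1 (T.mem_orb i)) (Subgroup.mem_bot.1 (X.opp ▸ Subgroup.mem_inf.2 ⟨?_,
      zl_mem (fun j _ => R.not_pos_neg_simple j) _⟩))).elim
    have h4 := (X.st.mem_cell_one X.sep).1 h2
    rw [h.nl_eq] at h4
    simpa [mul_assoc] using mul_mem (mul_mem (S.U_le_B (zl_mem (l := l) (fun j _ => R.pos_simple j) (1 : I → K))) h4)
      (inv_mem (S.U_le_B (zl_mem (l := l) (fun j _ => R.pos_simple j) fun _ => (-1 : K))))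
  · exact h1

end Orth

variable (X) in
/-- The data of a "derived Levi subgroup" `Y` for the orbit of `j`, the other orbit being the orthogonal list `l`. -/
structure Levi (i j : I) (l : List I) (Y : Subgroup G) : Prop where
  grp : X.Grp X.Fix
  hall : ∀ k, k ∈ T.orb i ∨ k ∈ T.orb j
  orth : X.Orth l
  hl : ∀ k, k ∈ T.orb i ↔ k ∈ l
  hij : ∀ k ∈ l, k ∉ T.orb j
  le : Y ≤ Levi0 S (T.orb j)
  fix : Y ≤ X.Fix
  pos : S.U {r | R.Pos r ∧ R.InSub (T.orb j) r} ⊓ X.Fix ≤ Y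
  neg : ∃ v ∈ Y, v ∈ S.U {r | ¬ R.Pos r ∧ R.InSub (T.orb j) r} ∧ v ≠ 1
  norm : ∀ a ∈ S.H ⊓ X.Fix, ∀ y ∈ Y, a * y * a⁻¹ ∈ Y
  tor : ∀ a ∈ S.H ⊓ X.Fix, ∃ c : I → Kˣ, (∀ k ∈ l, (c (T.π k) : K) = X.φ (R.simple k) (c k)) ∧ (S.hprod l c)⁻¹ * a ∈ Y

variable (X) in
def Qg (J : Set I) (Y : Subgroup G) (m a : G) : Prop :=
  ∃ u ∈ X.Up, ∃ v ∈ X.Vm J, ∃ y ∈ Y, ∃ u' ∈ X.Up, u * m = v * (a * y) * u'

namespace Levi

variable {i j : I} {l : List I} {Y : Subgroup G} (h : X.Levi i j l Y)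
include h

theorem norm' {a y : G} (ha : a ∈ S.H ⊓ X.Fix) (hy : y ∈ Y) : a⁻¹ * y * a ∈ Y := by
  simpa using h.norm _ (inv_mem ha) y hy

theorem Q_H {m a b : G} (hq : X.Qg (T.orb j) Y m a) (hb : b ∈ S.H ⊓ X.Fix) : X.Qg (T.orb j) Y (m * b) (a * b) := by
  obtain ⟨u, hu, v, hv, y, hy, u', hu', e⟩ := hq
  exact ⟨u, hu, v, hv, _, h.norm' hb hy, _, conj_Up hb hu', by rw [← mul_assoc, e]; group⟩

variable [Finite Φ]

theorem Up_mul {u y : G} (hu : u ∈ X.Up) (hy : y ∈ Y) : ∃ y' ∈ Y, ∃ v ∈ X.Vp (T.orb j), u * y = y' * v := by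
  obtain ⟨a, ha, b, hb, rfl⟩ := split (T.stable_orb j) hu
  exact ⟨_, mul_mem (h.pos ha) hy, _, conj_Vp' (h.le hy) (h.fix hy) hb, by group⟩

theorem Q_Y {m a y : G} (hq : X.Qg (T.orb j) Y m a) (hy : y ∈ Y) : X.Qg (T.orb j) Y (m * y) a := by
  obtain ⟨u, hu, v, hv, y', hy', u', hu', e⟩ := hq
  obtain ⟨y'', h1, v', h2, e'⟩ := h.Up_mul hu' hy
  exact ⟨u, hu, v, hv, _, mul_mem hy' h1, v', X.Vp_le_Up _ h2, by rw [← mul_assoc, e, mul_assoc, e']; group⟩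

theorem Q_α {m a a' : G} (hq : X.Qg (T.orb j) Y m a) (hm : m ∈ X.Fix) {w : Equiv.Perm Φ} (hw : w ∈ T.W1 Set.univ)
    (h1 : S.Act m w) (h2 : R.Pos (w (R.simple i))) (ha : a ∈ S.H ⊓ X.Fix) (ha' : a' ∈ S.H ⊓ X.Fix) :
    X.Qg (T.orb j) Y (m * nl S l fun _ => -1) a' := by
  obtain ⟨u, hu, v, hv, y, hy, u', hu', e⟩ := hq
  obtain ⟨c, hc, hc'⟩ := h.tor _ (mul_mem (inv_mem ha) ha')
  obtain ⟨x, hx, v', hv', rfl⟩ := split (T.stable_orb i) hu'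
  have hz : zl S R.simple l (fun k => c k) ∈ S.U {r | R.Pos r ∧ R.InSub (T.orb i) r} ⊓ X.Fix :=
    (h.orth.mem_iff h.hl).2 ⟨_, hc, rfl⟩
  have h3 := mul_mem (inv_mem hx) hz
  have h4 : x⁻¹ * zl S R.simple l (fun k => c k) ∈ Levi0 S (T.orb i) :=
    Subgroup.mem_sup_right (S.U_mono (fun _ h => h.2) h3.1)
  have h5 := conj_Vp' (Orth.nl_Lv h.hl fun _ => -1) h.orth.nl_fix.2 (conj_Vp' h4 h3.2 hv')
  have h6 := h.orth.hprod_fix h.grp hc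
  have h7 : zl S (fun k => R.neg (R.simple k)) l (fun k => (c k : K)⁻¹) ∈ X.Vm (T.orb j) :=
    ⟨zl_mem (fun k hk => by
      exact ⟨R.not_pos_neg_simple k, fun h' => h.hij k hk (inSub_simple.1 (inSub_neg.1 h'))⟩) _,
      h.orth.zl_fix (Or.inr rfl) fun k hk => by rw [hc k hk, map_inv₀]⟩
  have h8 : a * y ∈ Levi0 S (T.orb j) := mul_mem (Subgroup.mem_sup_left ha.1) (h.le hy)
  refine ⟨u * (m * (x⁻¹ * zl S R.simple l fun k => c k) * m⁻¹), mul_mem hu ⟨h1.conj_mem (fun r hr =>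
    pos_of_inSub (T.W1_le_W _ hw) (fun k hk => (Tw.pos_orb hw hk).2 h2) hr.1 hr.2) h3.1,
    conj_mem_of hm h3.2⟩, _, mul_mem hv (conj_Vm h8 (mul_mem ha.2 (h.fix hy)) h7),
    _, mul_mem (inv_mem hc') (h.norm' h6 hy), _, mul_mem (conj_Up h6 (h.orth.zl_Up (c := fun k => -c k)
      fun k hk => by rw [hc k hk, map_neg])) (X.Vp_le_Up _ h5), ?_⟩
  have e' := h.orth.zl_nl c
  set z := zl S R.simple l fun k => c k
  set n := nl S l fun _ => -1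
  calc _ = u * m * (x⁻¹ * z) * n := by group
    _ = v * (a * y) * (z * n) * (n⁻¹ * ((x⁻¹ * z)⁻¹ * v' * (x⁻¹ * z)) * n) := by
      rw [e]; group
    _ = _ := by rw [e']; group

theorem exists_m : ∃ m ∈ S.N ⊓ Y, S.Act m (lng R (T.orb j)) := exists_lng' h.fix h.pos h.neg

theorem gauss_aux {w : Equiv.Perm Φ} (hw : w ∈ T.W1 Set.univ) : ∀ m ∈ S.N ⊓ X.Fix, S.Act m w →
    (∃ a ∈ S.H ⊓ X.Fix, X.Qg (T.orb j) Y m a) ∧ (w ∉ R.WJ (T.orb j) → ∀ a ∈ S.H ⊓ X.Fix, X.Qg (T.orb j) Y m a) := by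
  induction hw using Tw.W1_induction T.stable_univ with
  | h1 =>
    refine fun m hm h1 => ⟨⟨m, ⟨X.st.mem_H_of_act_one X.sep hm.1 h1, hm.2⟩, 1, one_mem _, 1, one_mem _, 1, one_mem _, 1,
      one_mem _, by simp⟩, fun h2 => (h2 (one_mem _)).elim⟩
  | h2 w hw k _ hk ih =>
    intro m hm h1
    have key : ∀ n ∈ S.N ⊓ X.Fix, S.Act n (lng R (T.orb k)) → S.Act (m * n⁻¹) w := fun n _ hn => by
      simpa using h1.mul (inv_mem (lng_mem_W _)) (hn.inv (lng_mem_W _))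
    rcases h.hall k with hk' | hk'
    · rw [T.orb_eq hk'] at key
      obtain ⟨⟨a, ha, hq⟩, -⟩ := ih _ (mul_mem hm (inv_mem h.orth.nl_fix)) (key _ h.orth.nl_fix (h.orth.nl_act h.hl))
      have := fun a' ha' => h.Q_α (a' := a') hq (mul_mem hm.2 (inv_mem h.orth.nl_fix.2)) hw
        (key _ h.orth.nl_fix (h.orth.nl_act h.hl)) ((Tw.pos_orb hw hk').1 hk) ha ha'
      simp only [inv_mul_cancel_right] at this
      exact ⟨⟨1, one_mem _, this 1 (one_mem _)⟩, fun _ => this⟩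
    · rw [T.orb_eq hk'] at key ⊢
      obtain ⟨n, hn, hn'⟩ := h.exists_m
      have hn2 : n ∈ S.N ⊓ X.Fix := ⟨hn.1, h.fix hn.2⟩
      obtain ⟨⟨a, ha, hq⟩, h2⟩ := ih _ (mul_mem hm (inv_mem hn2)) (key _ hn2 hn')
      refine ⟨⟨a, ha, by simpa using h.Q_Y hq hn.2⟩, fun h3 a ha => ?_⟩
      simpa using h.Q_Y (h2 (fun h4 => h3 (mul_mem h4 (lng_mem _))) a ha) hn.2

theorem gauss {w : Equiv.Perm Φ} (hw : w ∈ T.W1 Set.univ) (hw' : w ∉ R.WJ (T.orb j)) {m : G} (hm : m ∈ S.N ⊓ X.Fix)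
    (h1 : S.Act m w) : ∃ u ∈ X.Up, ∃ v ∈ X.Vm (T.orb j), ∃ y ∈ Y, ∃ v' ∈ X.Vp (T.orb j), u * m = v * y * v' := by
  obtain ⟨u, hu, v, hv, y, hy, u', hu', e⟩ := (h.gauss_aux hw m hm h1).2 hw' 1 (one_mem _)
  obtain ⟨y', h2, v', h3, e'⟩ := h.Up_mul hu' (one_mem _)
  exact ⟨u, hu, v, hv, _, mul_mem hy h2, v', h3, by rw [e, ← mul_one u', e']; group⟩

/-- A non-trivial element of a simple twisted group has a conjugate outside the parabolic subgroup. -/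
theorem exists_conj (hs : IsSimpleGroup X.Fix) {g : G} (hg : g ∈ X.Fix) (h1 : g ≠ 1) : ∃ a ∈ X.Fix,
    ∃ w ∈ T.W1 Set.univ, w ∉ R.WJ (T.orb j) ∧ ∃ m ∈ S.N ⊓ X.Fix, S.Act m w ∧ ∃ u ∈ X.Up, a * g * a⁻¹ = m * u := by
  obtain ⟨a, ha⟩ : ∃ a : X.Fix, (a : G) * g * a⁻¹ ∉ S.P (T.orb j) := by
    by_contra h2
    push Not at h2
    rcases hs.eq_bot_or_eq_top_of_normal ((S.P (T.orb j)).subgroupOf X.Fix).normalCore inferInstance with h3 | h3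
    · have : (⟨g, hg⟩ : X.Fix) ∈ ((S.P (T.orb j)).subgroupOf X.Fix).normalCore := fun b => h2 b
      rw [h3, Subgroup.mem_bot] at this
      exact h1 (congrArg Subtype.val this)
    · have h4 : zl S (fun k => R.neg (R.simple k)) l 1 ∈ X.Fix := h.orth.zl_fix (Or.inr rfl) (by simp)
      have h5 : (⟨_, h4⟩ : X.Fix) ∈ (S.P (T.orb j)).subgroupOf X.Fix :=
        Subgroup.normalCore_le _ (h3 ▸ Subgroup.mem_top _)
      exact h.orth.neg_ne_one ((h.hl i).1 (T.mem_orb i)) (Subgroup.mem_bot.1 (X.st.neg_radical_inf_P X.sep X.opp _ ▸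
        Subgroup.mem_inf.2 ⟨zl_mem (fun k hk => by
          exact ⟨R.not_pos_neg_simple k, fun h' => h.hij k hk (inSub_simple.1 (inSub_neg.1 h'))⟩) _, h5⟩))
  have h2 : (a : G) * g * a⁻¹ ∈ X.Fix := mul_mem (mul_mem a.2 hg) (inv_mem a.2)
  obtain ⟨w, hw, h3⟩ := X.exists_W1_cell h2
  obtain ⟨u', hu', m, hm, h4, u, hu, e⟩ := X.fix_cell hw h3 h2
  refine ⟨u'⁻¹ * a, mul_mem (inv_mem hu'.2) a.2, w, hw, fun h5 => ha (X.st.mem_P_of_cell X.sep h5 h3), m, hm, h4, u * u',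
    mul_mem ⟨S.U_mono (fun _ h => h.1) hu.1, hu.2⟩ hu', ?_⟩
  calc _ = u'⁻¹ * ((a : G) * g * (a : G)⁻¹) * u' := by group
    _ = _ := by rw [show (a : G) * g * (a : G)⁻¹ = _ from e]; group

theorem exists_gauss (hs : IsSimpleGroup X.Fix) {g : G} (hg : g ∈ X.Fix) (h1 : g ≠ 1) : ∃ a ∈ X.Fix,
    ∃ v ∈ X.Vm (T.orb j), ∃ y ∈ Y, ∃ v' ∈ X.Vp (T.orb j), a * g * a⁻¹ = v * y * v' := by
  obtain ⟨a, ha, w, hw, hw', m, hm, h2, u, hu, e⟩ := h.exists_conj hs hg h1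
  obtain ⟨u₁, hu₁, v, hv, y, hy, v', hv', e'⟩ := h.gauss hw hw' hm h2
  obtain ⟨y', h3, v'', h4, e''⟩ := h.Up_mul (mul_mem (mul_mem (X.Vp_le_Up _ hv') hu) (inv_mem hu₁)) (one_mem _)
  refine ⟨u₁ * a, mul_mem hu₁.2 ha, v, hv, _, mul_mem hy h3, v'', h4, ?_⟩
  calc _ = u₁ * (a * g * a⁻¹) * u₁⁻¹ := by group
    _ = u₁ * m * u * u₁⁻¹ := by rw [e]; group
    _ = v * y * (v' * u * u₁⁻¹ * 1) := by rw [e']; group
    _ = _ := by rw [e'']; group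

end Levi

variable (X) in
/-- `g` is a product of two conjugates of `x`. -/
def CCov (x g : G) : Prop := ∃ a ∈ X.Fix, ∃ b ∈ X.Fix, g = a * x * a⁻¹ * (b * x * b⁻¹)

theorem CCov.of_conj {x g a : G} (ha : a ∈ X.Fix) (h : X.CCov x (a * g * a⁻¹)) : X.CCov x g := by
  obtain ⟨b, hb, c, hc, e⟩ := h
  refine ⟨a⁻¹ * b, mul_mem (inv_mem ha) hb, a⁻¹ * c, mul_mem (inv_mem ha) hc, ?_⟩
  calc g = a⁻¹ * (a * g * a⁻¹) * a := by group
    _ = _ := by rw [e]; group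

variable (X) in
/-- An element of the Levi subgroup without fixed points in the two radicals. -/
structure FP (J : Set I) (x : G) : Prop where
  lv : x ∈ Levi0 S J
  fix : x ∈ X.Fix
  pos : ∀ v ∈ S.U {r | R.Pos r ∧ ¬ R.InSub J r}, x * v = v * x → v = 1
  neg : ∀ v ∈ S.U {r | ¬ R.Pos r ∧ ¬ R.InSub J r}, x * v = v * x → v = 1

theorem FP.conj {J : Set I} {x a : G} (h : X.FP J x) (ha : a ∈ Levi0 S J) (ha' : a ∈ X.Fix) : X.FP J (a * x * a⁻¹) := by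
  have key : ∀ V : Subgroup G, a ∈ Subgroup.normalizer (V : Set G) → (∀ v ∈ V, x * v = v * x → v = 1) →
      ∀ v ∈ V, a * x * a⁻¹ * v = v * (a * x * a⁻¹) → v = 1 := fun V h1 h2 v hv e => by
    have := h2 (a⁻¹ * v * a) (by simpa using (Subgroup.mem_normalizer_iff.1 (inv_mem h1) v).1 hv) (by
      calc _ = a⁻¹ * (a * x * a⁻¹ * v) * a := by group
        _ = _ := by rw [e]; group)
    calc v = a * (a⁻¹ * v * a) * a⁻¹ := by group
      _ = 1 := by rw [this]; group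
  exact ⟨mul_mem (mul_mem ha h.lv) (inv_mem ha), mul_mem (mul_mem ha' h.fix) (inv_mem ha'),
    key _ (Levi0_norm_pos X.st J ha) h.pos, key _ (Levi0_norm_neg X.st J ha) h.neg⟩

theorem cov_of [Finite G] {J : Set I} {x a b v v' : G} (ha : a ∈ X.Fix) (hb : b ∈ X.Fix) (h1 : X.FP J (a * x * a⁻¹))
    (h2 : X.FP J (b * x * b⁻¹)) (hv : v ∈ X.Vm J) (hv' : v' ∈ X.Vp J) :
    X.CCov x (v * (a * x * a⁻¹ * (b * x * b⁻¹)) * v') := by
  obtain ⟨c, hc, e1⟩ := exists_conj_of_fpf' (V := X.Vm J) (fun v hv => conj_Vm h1.lv h1.fix hv)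
    (fun v hv => h1.neg v hv.1) hv
  obtain ⟨d, hd, e2⟩ := exists_conj_of_fpf (V := X.Vp J) (fun v hv => conj_Vp' h2.lv h2.fix hv)
    (fun v hv => h2.pos v hv.1) hv'
  refine ⟨c * a, mul_mem hc.2 ha, d * b, mul_mem hd.2 hb, ?_⟩
  calc _ = v * (a * x * a⁻¹) * (b * x * b⁻¹ * v') := by group
    _ = _ := by rw [e1, e2]; group

variable (X) in
/-- `y` is a product of two fixed-point-free conjugates of `x`. -/
def Good (J : Set I) (x y : G) : Prop :=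
  ∃ a ∈ X.Fix, ∃ b ∈ X.Fix, X.FP J (a * x * a⁻¹) ∧ X.FP J (b * x * b⁻¹) ∧ y = a * x * a⁻¹ * (b * x * b⁻¹)

theorem Good.cov [Finite G] {J : Set I} {x y v v' : G} (h : X.Good J x y) (hv : v ∈ X.Vm J) (hv' : v' ∈ X.Vp J) :
    X.CCov x (v * y * v') := by
  obtain ⟨a, ha, b, hb, h1, h2, rfl⟩ := h
  exact cov_of ha hb h1 h2 hv hv'

theorem Levi.cover [Finite Φ] [Finite G] {i j : I} {l : List I} {Y : Subgroup G} (h : X.Levi i j l Y)
    (hs : IsSimpleGroup X.Fix) {x : G} (hx : ∀ y ∈ Y, X.Good (T.orb j) x y) {g : G} (hg : g ∈ X.Fix) (h1 : g ≠ 1) :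
    X.CCov x g := by
  obtain ⟨a, ha, v, hv, y, hy, v', hv', e⟩ := h.exists_gauss hs hg h1
  exact CCov.of_conj ha (e ▸ (hx y hy).cov hv hv')

end TwSys

end Cfsg.Lib.Twist
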