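/-
Products of two elements of determinant `-1` with prescribed irreducible characteristic polynomials in `GL₂(q)`.
-/
import Cfsg.Agent.Lib.Known.GL2Basic
import Cfsg.Agent.Lib.Chev.A1

set_option autoImplicit false

namespace Cfsg.Lib.Twist

open Matrix Cfsg.Lib.Known Cfsg.Lib.Chev PreSys

abbrev S2 (K : Type*) [Field K] := SpecialLinearGroup (Fin 2) K

variable {K : Type*} [Field K]

theorem S2_det (s : S2 K) : s.1 0 0 * s.1 1 1 - s.1 0 1 * s.1 1 0 = 1 := by rw [← det_fin_two]; exact s.2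

theorem S2_ext {s s' : S2 K} (h00 : s.1 0 0 = s'.1 0 0) (h01 : s.1 0 1 = s'.1 0 1) (h10 : s.1 1 0 = s'.1 1 0)
    (h11 : s.1 1 1 = s'.1 1 1) : s = s' := Subtype.ext (m2_ext h00 h01 h10 h11)

theorem S2_mul (s s' : S2 K) (i j : Fin 2) : (s * s').1 i j = s.1 i 0 * s'.1 0 j + s.1 i 1 * s'.1 1 j := m2_mul s.1 s'.1 i j

def mk2 (a b c d : K) (h : a * d - b * c = 1) : S2 K := ⟨!![a, b; c, d], by rw [det_fin_two_of]; exact h⟩

@[simp] theorem mk2_00 (a b c d : K) (h) : (mk2 a b c d h).1 0 0 = a := rfl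
@[simp] theorem mk2_01 (a b c d : K) (h) : (mk2 a b c d h).1 0 1 = b := rfl
@[simp] theorem mk2_10 (a b c d : K) (h) : (mk2 a b c d h).1 1 0 = c := rfl
@[simp] theorem mk2_11 (a b c d : K) (h) : (mk2 a b c d h).1 1 1 = d := rfl

/-- Conjugation by `diag(e, 1)`. -/
def dl (e : Kˣ) : S2 K →* S2 K := MonoidHom.mk' (fun s => mk2 (s.1 0 0) (e * s.1 0 1) ((e : K)⁻¹ * s.1 1 0) (s.1 1 1)
  (by have := S2_det s; have := e.ne_zero; field_simp; assumption)) fun s s' => by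
    have := e.ne_zero
    apply S2_ext <;> simp only [S2_mul, mk2_00, mk2_01, mk2_10, mk2_11] <;> field_simp

/-- Conjugation by an antidiagonal matrix. -/
def sw (e : Kˣ) : S2 K →* S2 K := MonoidHom.mk' (fun s => mk2 (s.1 1 1) ((e : K)⁻¹ * s.1 1 0) (e * s.1 0 1) (s.1 0 0)
  (by have := S2_det s; have := e.ne_zero; field_simp; linear_combination ‹_ = (1 : K)›)) fun s s' => by
    have := e.ne_zero
    apply S2_ext <;> simp only [S2_mul, mk2_00, mk2_01, mk2_10, mk2_11] <;> field_simp <;> ring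

@[simp] theorem dl_00 (e : Kˣ) (s : S2 K) : (dl e s).1 0 0 = s.1 0 0 := rfl
@[simp] theorem dl_01 (e : Kˣ) (s : S2 K) : (dl e s).1 0 1 = e * s.1 0 1 := rfl
@[simp] theorem dl_10 (e : Kˣ) (s : S2 K) : (dl e s).1 1 0 = (e : K)⁻¹ * s.1 1 0 := rfl
@[simp] theorem dl_11 (e : Kˣ) (s : S2 K) : (dl e s).1 1 1 = s.1 1 1 := rfl
@[simp] theorem sw_00 (e : Kˣ) (s : S2 K) : (sw e s).1 0 0 = s.1 1 1 := rfl
@[simp] theorem sw_01 (e : Kˣ) (s : S2 K) : (sw e s).1 0 1 = (e : K)⁻¹ * s.1 1 0 := rfl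
@[simp] theorem sw_10 (e : Kˣ) (s : S2 K) : (sw e s).1 1 0 = e * s.1 0 1 := rfl
@[simp] theorem sw_11 (e : Kˣ) (s : S2 K) : (sw e s).1 1 1 = s.1 0 0 := rfl

@[simp] theorem xt_00 (t : K) : ((sl2 K).x true t).1 0 0 = 1 := rfl
@[simp] theorem xt_01 (t : K) : ((sl2 K).x true t).1 0 1 = t := rfl
@[simp] theorem xt_10 (t : K) : ((sl2 K).x true t).1 1 0 = 0 := rfl
@[simp] theorem xt_11 (t : K) : ((sl2 K).x true t).1 1 1 = 1 := rfl
@[simp] theorem xf_00 (t : K) : ((sl2 K).x false t).1 0 0 = 1 := rfl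
@[simp] theorem xf_01 (t : K) : ((sl2 K).x false t).1 0 1 = 0 := rfl
@[simp] theorem xf_10 (t : K) : ((sl2 K).x false t).1 1 0 = t := rfl
@[simp] theorem xf_11 (t : K) : ((sl2 K).x false t).1 1 1 = 1 := rfl

theorem dl_xt (e : Kˣ) (t : K) : dl e ((sl2 K).x true t) = (sl2 K).x true (e * t) := by apply S2_ext <;> simp
theorem dl_xf (e : Kˣ) (t : K) : dl e ((sl2 K).x false t) = (sl2 K).x false ((e : K)⁻¹ * t) := by apply S2_ext <;> simp
theorem sw_xt (e : Kˣ) (t : K) : sw e ((sl2 K).x true t) = (sl2 K).x false (e * t) := by apply S2_ext <;> simp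
theorem sw_xf (e : Kˣ) (t : K) : sw e ((sl2 K).x false t) = (sl2 K).x true ((e : K)⁻¹ * t) := by apply S2_ext <;> simp

theorem S2_hom_ext {G : Type*} [Group G] {f g : S2 K →* G} (h1 : ∀ t, f ((sl2 K).x true t) = g ((sl2 K).x true t))
    (h2 : ∀ t, f ((sl2 K).x false t) = g ((sl2 K).x false t)) (s : S2 K) : f s = g s :=
  ((sl2 K).U_le_iff (H := f.eqLocus g)).2 (fun r _ t => by cases r; exacts [h2 t, h1 t]) ((sl2_gen (K := K)).ge (Subgroup.mem_top s))

def mp {k : Type*} [Field k] (ι : k →+* K) : S2 k →* S2 K := SpecialLinearGroup.map ι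

@[simp] theorem mp_apply {k : Type*} [Field k] (ι : k →+* K) (s : S2 k) (i j : Fin 2) : (mp ι s).1 i j = ι (s.1 i j) := rfl

theorem mp_x {k : Type*} [Field k] (ι : k →+* K) (b : Bool) (t : k) : mp ι ((sl2 k).x b t) = (sl2 K).x b (ι t) := by
  cases b <;> apply S2_ext <;> simp

def tau (s : S2 K) : K := s.1 1 1 - s.1 0 0

def tr2 (s : S2 K) : K := s.1 0 0 + s.1 1 1

/-- `X² - τ X - 1` has no root. -/
def Rootless (τ : K) : Prop := ∀ c : K, c ^ 2 - τ * c - 1 ≠ 0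

theorem Rootless.neg {τ : K} (h : Rootless τ) : Rootless (-τ) := fun c e => h (-c) (by linear_combination e)

theorem Rootless.ne_zero {τ : K} (h : Rootless τ) : τ ≠ 0 := fun e => h 1 (by simp [e])

theorem exists_rootless (k : Type*) [Field k] [Finite k] : ∃ τ : k, Rootless τ := by
  by_contra h
  simp only [Rootless, not_exists, not_forall, not_not] at h
  choose f hf using h
  have h0 : ∀ τ, f τ ≠ 0 := fun τ e => by simpa [e] using hf τ
  have hi : Function.Injective f := fun a b e => mul_right_cancel₀ (h0 a) (by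
    have h1 := hf b
    rw [← e] at h1
    linear_combination h1 - hf a)
  obtain ⟨τ, e⟩ := Finite.surjective_of_injective hi 0
  exact h0 τ e

theorem Rootless.map {k : Type*} [Field k] {ι : k →+* K} {φ : K →+* K} (h1 : ∀ t, φ t = t ↔ t ∈ ι.range)
    (h3 : ∀ t, φ (φ (φ t)) = t) {τ : k} (h : Rootless τ) : Rootless (ι τ) := fun c e => by
  have hτ : φ (ι τ) = ι τ := (h1 _).2 ⟨τ, rfl⟩
  have key : φ c = c := by
    have e1 : φ c ^ 2 - ι τ * φ c - 1 = 0 := by simpa [hτ] using congrArg φ e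
    rcases mul_eq_zero.1 (show (φ c - c) * (φ c + c - ι τ) = 0 by linear_combination e1 - e) with h4 | h4
    · exact sub_eq_zero.1 h4
    · have h5 : φ c = ι τ - c := by linear_combination h4
      have h6 : φ (φ c) = c := by rw [h5, map_sub, hτ, h5]; ring
      simpa [h6] using h3 c
  obtain ⟨d, rfl⟩ := (h1 c).1 key
  exact h d (ι.injective (by simpa using e))

theorem exists_tau (τ : K) : ∃ s : S2 K, tau s = τ := ⟨mk2 0 (-1) 1 τ (by simp), by simp [tau]⟩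

variable [Finite K]

theorem conj_of_tau {τ : K} (h : Rootless τ) {s s' : S2 K} (h1 : tau s = τ) (h2 : tau s' = τ) :
    ∃ y : S2 K, s' = dl (-1) y * s * y⁻¹ := by
  have key : ∀ s : S2 K, tau s = τ → (!![-s.1 0 0, -s.1 0 1; s.1 1 0, s.1 1 1] : M2 K).trace = τ ∧
      (!![-s.1 0 0, -s.1 0 1; s.1 1 0, s.1 1 1] : M2 K).det = -1 ∧ ∃ x y,
      qf !![-s.1 0 0, -s.1 0 1; s.1 1 0, s.1 1 1] x y = 1 := fun s hs => by
    have := S2_det s
    have a1 : (!![-s.1 0 0, -s.1 0 1; s.1 1 0, s.1 1 1] : M2 K).trace = τ := by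
      rw [trace_fin_two_of, ← hs, tau]; ring
    have a2 : (!![-s.1 0 0, -s.1 0 1; s.1 1 0, s.1 1 1] : M2 K).det = -1 := by
      rw [det_fin_two_of]; linear_combination -this
    refine ⟨a1, a2, exists_qf_eq (fun hb => h (s.1 1 1) ?_) ?_ one_ne_zero⟩
    · obtain ⟨b1, b2, b3⟩ := hb
      simp only [of_apply, cons_val', cons_val_one, cons_val_zero, cons_val_fin_one, neg_eq_zero] at b1 b2 b3
      rw [← hs, tau]; rw [b1] at this; linear_combination this
    · rw [a1, a2]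
      by_contra h3
      push Not at h3
      exact h (τ / 2) (by have := h3.1; field_simp; linear_combination -h3.2)
  obtain ⟨a1, a2, x, y, a3⟩ := key s h1
  obtain ⟨b1, b2, x', y', b3⟩ := key s' h2
  obtain ⟨X, hX, e⟩ := exists_intertwiner (a1.trans b1.symm) (a2.trans b2.symm) (a3 ▸ one_ne_zero) x' y'
  rw [a3, b3, div_one] at hX
  obtain ⟨y, rfl⟩ : ∃ y : S2 K, y.1 = X := ⟨⟨X, hX⟩, rfl⟩
  refine ⟨y, eq_mul_inv_of_mul_eq ?_⟩
  have e1 := fun i j => congrFun (congrFun e i) j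
  simp only [m2_mul] at e1
  have e00 := e1 0 0; have e01 := e1 0 1; have e10 := e1 1 0; have e11 := e1 1 1
  simp only [of_apply, cons_val', cons_val_one, cons_val_zero, cons_val_fin_one] at e00 e01 e10 e11
  apply S2_ext <;> simp only [S2_mul, dl_00, dl_01, dl_10, dl_11, Units.val_neg, Units.val_one, inv_neg, inv_one]
  · linear_combination e00
  · linear_combination e01
  · linear_combination -e10
  · linear_combination -e11

theorem conic {τ σ : K} (h : Rootless τ) (h2 : (2 : K) ≠ 0 ∨ σ ≠ 0) : ∃ ε p u : K, (ε = 1 ∨ ε = -1) ∧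
    p ^ 2 + σ * p * u + u ^ 2 + τ * p + (σ + ε) * τ * u = 1 := by
  have h0 := h.ne_zero
  by_cases h4 : σ ^ 2 - 4 = 0
  · have h3 : (2 : K) ≠ 0 := h2.elim id fun h5 h6 => h5 (pow_eq_zero_iff two_ne_zero |>.1 (by linear_combination h4 + 2 * h6))
    rcases mul_eq_zero.1 (show (σ - 2) * (σ + 2) = 0 by linear_combination h4) with h5 | h5
    · exact ⟨1, -(2 * τ)⁻¹, (2 * τ)⁻¹, Or.inl rfl, by rw [sub_eq_zero.1 h5]; field_simp; ring⟩
    · exact ⟨-1, -(2 * τ)⁻¹, -(2 * τ)⁻¹, Or.inr rfl, by rw [add_eq_zero_iff_eq_neg.1 h5]; field_simp; ring⟩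
  · obtain ⟨a, b, h5, h6⟩ : ∃ a b : K, 2 * a + σ * b + τ = 0 ∧ σ * a + 2 * b + (σ + 1) * τ = 0 :=
      ⟨(2 * τ - σ * (σ + 1) * τ) / (σ ^ 2 - 4), (2 * (σ + 1) * τ - σ * τ) / (σ ^ 2 - 4), by field_simp; ring,
        by field_simp; ring⟩
    obtain ⟨x, y, e⟩ : ∃ x y : K, 1 * x ^ 2 + σ * x * y + 1 * y ^ 2 =
        1 - (a ^ 2 + σ * a * b + b ^ 2 + τ * a + (σ + 1) * τ * b) := by
      by_cases h7 : (2 : K) = 0
      · obtain ⟨x, hx⟩ := isSquare_of_two_eq_zero h7 (1 - (a ^ 2 + σ * a * b + b ^ 2 + τ * a + (σ + 1) * τ * b))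
        exact ⟨x, 0, by rw [hx]; ring⟩
      · exact binary_form_surj h7 (by simpa using h4) _
    exact ⟨1, x + a, y + b, Or.inl rfl, by linear_combination e + x * h5 + y * h6⟩

theorem exists_prod_tau {τ : K} (h : Rootless τ) {l : S2 K} (hl : (2 : K) ≠ 0 ∨ tr2 l ≠ 0 ∨ l = 1) :
    ∃ s s' : S2 K, (tau s = τ ∨ tau s = -τ) ∧ tau s' = τ ∧ l = dl (-1) s * s' := by
  have hd := S2_det l
  by_cases hs : IsScal l.1
  · obtain ⟨h1, h2, h3⟩ := hs
    rw [h1, ← h3] at hd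
    rcases mul_eq_zero.1 (show (l.1 0 0 - 1) * (l.1 0 0 + 1) = 0 by linear_combination hd) with h4 | h4
    · refine ⟨mk2 τ (-1) 1 0 (by simp), mk2 0 (-1) 1 τ (by simp), Or.inr (by simp [tau]), by simp [tau], ?_⟩
      apply S2_ext <;> simp [S2_mul, h1, h2, ← h3, sub_eq_zero.1 h4]
    · refine ⟨mk2 (-τ) 1 (-1) 0 (by simp), mk2 0 (-1) 1 τ (by simp), Or.inl (by simp [tau]), by simp [tau], ?_⟩
      apply S2_ext <;> simp [S2_mul, h1, h2, ← h3, add_eq_zero_iff_eq_neg.1 h4]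
  obtain ⟨ε, p, u, hε, e⟩ := conic (σ := tr2 l) h (hl.imp id fun h' => h'.resolve_right fun h'' => hs (h'' ▸ isScal_one))
  obtain ⟨x, y, hxy⟩ := exists_qf_ne_zero hs
  have e0 := mul_cyc l.1 x y
  rw [← det_cyc] at hxy
  set X := cyc l.1 x y
  have hu : IsUnit X.det := hxy.isUnit
  set r := u + tr2 l * (τ + p) + ε * τ with hr
  let M : M2 K := !![-u, τ + p; p + tr2 l * u, r - tr2 l * (τ + p)]
  let M' : M2 K := !![τ + p, r; u, -p]
  have a1 : M.det = -1 := by rw [det_fin_two_of]; linear_combination -e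
  have a2 : M'.det = -1 := by rw [det_fin_two_of]; linear_combination -e
  have a3 : M * M' = comp2 l.1.trace l.1.det := by
    rw [l.2, trace_fin_two]
    apply m2_ext <;> simp only [m2_mul, M, M', comp2, of_apply, cons_val', cons_val_one, cons_val_zero, cons_val_fin_one]
    · ring
    · linear_combination -e
    · linear_combination e
    · rw [show l.1 0 0 + l.1 1 1 = tr2 l from rfl]; linear_combination tr2 l * e
  have key : ∀ M : M2 K, M.det = -1 → ∃ s : S2 K, tau s = M.trace ∧ (s.1 0 0 = -(X * M * X⁻¹) 0 0 ∧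
      s.1 0 1 = -(X * M * X⁻¹) 0 1 ∧ s.1 1 0 = (X * M * X⁻¹) 1 0 ∧ s.1 1 1 = (X * M * X⁻¹) 1 1) := fun M hM => by
    have b1 : (X * M * X⁻¹).det = -1 := by
      rw [det_mul, det_mul, hM, det_nonsing_inv, Ring.inverse_eq_inv]; field_simp
    have b2 : (X * M * X⁻¹).trace = M.trace := by rw [trace_mul_cycle, nonsing_inv_mul _ hu, one_mul]
    rw [det_fin_two] at b1
    rw [trace_fin_two] at b2
    exact ⟨mk2 (-(X * M * X⁻¹) 0 0) (-(X * M * X⁻¹) 0 1) ((X * M * X⁻¹) 1 0) ((X * M * X⁻¹) 1 1)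
      (by linear_combination -b1), by simp only [tau, mk2_00, mk2_11]; linear_combination b2, rfl, rfl, rfl, rfl⟩
  obtain ⟨s, c1, c2⟩ := key M a1
  obtain ⟨s', d1, d2⟩ := key M' a2
  have a4 : l.1 = (X * M * X⁻¹) * (X * M' * X⁻¹) := by
    calc l.1 = l.1 * X * X⁻¹ := by rw [mul_assoc, mul_nonsing_inv _ hu, mul_one]
      _ = X * M * (X⁻¹ * X) * M' * X⁻¹ := by rw [e0, ← a3, nonsing_inv_mul _ hu, mul_one, ← mul_assoc]
      _ = _ := by simp only [mul_assoc]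
  refine ⟨s, s', ?_, by rw [d1, trace_fin_two_of]; ring, ?_⟩
  · rw [c1, trace_fin_two_of, hr]
    exact hε.imp (fun h' => by rw [h']; ring) fun h' => by rw [h']; ring
  · apply S2_ext <;> rw [a4, m2_mul (X * M * X⁻¹)] <;>
      simp only [S2_mul, dl_00, dl_01, dl_10, dl_11, Units.val_neg, Units.val_one, inv_neg, inv_one, c2.1, c2.2.1,
        c2.2.2.1, c2.2.2.2, d2.1, d2.2.1, d2.2.2.1, d2.2.2.2] <;> ring

omit [Finite K] in
/-- Diagonalisation of `diag(-1,1) s`. -/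
theorem exists_diag {s : S2 K} {c : K} (hc : c ^ 2 + tau s * c - 1 = 0) (h : c ^ 2 + 1 ≠ 0) (h1 : s.1 1 0 ≠ 0) :
    ∃ y : S2 K, s = dl (-1) y * (sl2 K).h true c * y⁻¹ := by
  have h0 : c ≠ 0 := fun e => by simp [e] at hc
  have hd := S2_det s
  rw [tau] at hc
  refine ⟨mk2 (-c - s.1 1 1) ((c⁻¹ - s.1 1 1) * (-c / (s.1 1 0 * (c ^ 2 + 1)))) (s.1 1 0) (-c / (c ^ 2 + 1))
    (by field_simp; ring), eq_mul_inv_of_mul_eq ?_⟩
  apply S2_ext <;> simp only [S2_mul, dl_00, dl_01, dl_10, dl_11, Units.val_neg, Units.val_one, inv_neg, inv_one,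
    mk2_00, mk2_01, mk2_10, mk2_11, sl2_h h0, of_apply, cons_val', cons_val_one, cons_val_zero, cons_val_fin_one]
  · linear_combination hc - hd
  · field_simp; linear_combination c ^ 2 * hd + hc
  · ring
  · field_simp; ring

end Cfsg.Lib.Twist
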