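/-
Squares of conjugacy classes in twisted groups of rank two with a Levi subgroup of type `SL₂`.
-/
import Cfsg.Agent.Lib.Twist.CCA
import Cfsg.Agent.Lib.Twist.CCB
import Cfsg.Agent.Lib.Chev.Fams

set_option autoImplicit false

namespace Cfsg.Lib.Twist

open Cfsg.Lib.Chev PreSys RootSys Cfsg.Lib.Known

section
variable {I Φ : Type*} [Fintype I] [DecidableEq I] {R : RootSys I Φ} {K : Type*} [Field K] {G : Type*} [Group G]
  {k : Type*} [Field k]

structure IsSL (S : PreSys R K G) (β : Φ) (ι : k →+* K) (ψ : S2 k →* G) : Prop where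
  t : ∀ t, ψ ((sl2 k).x true t) = S.x β (ι t)
  f : ∀ t, ψ ((sl2 k).x false t) = S.x (R.neg β) (ι t)

theorem exists_isSL {S : PreSys R K G} (hS : S.St) (hM : S.Mult) (β : Φ) (ι : k →+* K) : ∃ ψ, IsSL S β ι ψ := by
  obtain ⟨φ, -, h⟩ := hS.exists_sl2_hom hM β
  exact ⟨φ.comp (mp ι), fun t => by rw [MonoidHom.comp_apply, mp_x, (h _).1],
    fun t => by rw [MonoidHom.comp_apply, mp_x, (h _).2]⟩

theorem inv_H {S : PreSys R K G} (hS : S.St) (hM : S.Mult) {m : G} {w : Equiv.Perm Φ} (hw : w ∈ R.W) (h1 : S.Act m w)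
    (hw' : ∀ r, w r = R.neg r) {a : G} (ha : a ∈ S.H) : m * a * m⁻¹ = a⁻¹ := by
  induction ha using Subgroup.closure_induction with
  | mem g hg =>
    obtain ⟨r, t, ht, rfl⟩ := hg
    rw [hS.conj_h hM hw h1 r ht, hw', h_neg_root hS hM r ht]
  | one => simp
  | mul a b ha hb e1 e2 => rw [mul_inv_rev, hS.H_comm hM (inv_mem hb) (inv_mem ha), ← e1, ← e2]; group
  | inv a ha e => rw [← conj_inv, e]

namespace IsSL
variable {S : PreSys R K G} {β : Φ} {ι : k →+* K} {ψ : S2 k →* G} (h : IsSL S β ι ψ)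
include h

theorem mem {Γ : Subgroup G} (h1 : ∀ t, S.x β (ι t) ∈ Γ) (h2 : ∀ t, S.x (R.neg β) (ι t) ∈ Γ) (s : S2 k) : ψ s ∈ Γ :=
  ((sl2 k).U_le_iff (H := Γ.comap ψ)).2 (fun r _ t => by
    cases r
    · rw [Subgroup.mem_comap, h.f]; exact h2 t
    · rw [Subgroup.mem_comap, h.t]; exact h1 t) ((sl2_gen (K := k)).ge (Subgroup.mem_top s))

theorem conj_dl {g : G} {e : kˣ} (h1 : ∀ t, g * S.x β t * g⁻¹ = S.x β (ι e * t))
    (h2 : ∀ t, g * S.x (R.neg β) t * g⁻¹ = S.x (R.neg β) ((ι e)⁻¹ * t)) (s : S2 k) : g * ψ s * g⁻¹ = ψ (dl e s) :=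
  S2_hom_ext (f := (MulAut.conj g).toMonoidHom.comp ψ) (g := ψ.comp (dl e))
    (fun t => by simp [dl_xt, h.t, h1]) (fun t => by simp [dl_xf, h.f, h2]) s

theorem conj_sw {g : G} {e : kˣ} (h1 : ∀ t, g * S.x β t * g⁻¹ = S.x (R.neg β) (ι e * t))
    (h2 : ∀ t, g * S.x (R.neg β) t * g⁻¹ = S.x β ((ι e)⁻¹ * t)) (s : S2 k) : g * ψ s * g⁻¹ = ψ (sw e s) :=
  S2_hom_ext (f := (MulAut.conj g).toMonoidHom.comp ψ) (g := ψ.comp (sw e))
    (fun t => by simp [sw_xt, h.f, h.t, h1]) (fun t => by simp [sw_xf, h.f, h.t, h2]) s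

theorem n (c : k) : ψ ((sl2 k).n true c) = S.n β (ι c) := by
  rw [PreSys.n, PreSys.n, map_mul, map_mul, h.t, show rA1.neg true = false from rfl, h.f, map_neg, map_inv₀]

theorem hh (c : k) : ψ ((sl2 k).h true c) = S.h β (ι c) := by
  rw [PreSys.h, PreSys.h, map_mul, h.n, h.n, map_neg, map_one]

end IsSL

theorem dl_dl (e e' : kˣ) (s : S2 k) : dl e (dl e' s) = dl (e * e') s := by
  apply S2_ext <;> simp [mul_assoc, mul_left_comm]

theorem dl_one (s : S2 k) : dl 1 s = s := by apply S2_ext <;> simp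

namespace TwSys

variable {S : PreSys R K G} {T : Tw R} (X : TwSys S T)

structure SLv (j : I) (ι : k →+* K) (ψ : S2 k →* G) : Prop where
  sl : IsSL S (R.simple j) ι ψ
  hι : ∀ t, X.φ (R.simple j) t = t ↔ t ∈ ι.range
  orth : X.Orth [j]
  horb : ∀ l, l ∈ T.orb j ↔ l ∈ [j]

namespace SLv
variable {X} {j : I} {ι : k →+* K} {ψ : S2 k →* G} (h : X.SLv j ι ψ)
include h

theorem fix (s : S2 k) : ψ s ∈ X.Fix :=
  h.sl.mem (fun t => Orth.fix1 (Or.inl rfl) h.orth ((h.hι _).2 ⟨t, rfl⟩))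
    (fun t => Orth.fix1 (Or.inr rfl) h.orth ((h.hι _).2 ⟨t, rfl⟩)) s

theorem mem_U (s : S2 k) : ψ s ∈ S.U {r | R.InSub (T.orb j) r} :=
  h.sl.mem (fun _ => S.x_mem_U (inSub_simple.2 (T.mem_orb j)) _)
    (fun _ => S.x_mem_U (inSub_neg.2 (inSub_simple.2 (T.mem_orb j))) _) s

theorem lv (s : S2 k) : ψ s ∈ Levi0 S (T.orb j) := Subgroup.mem_sup_right (h.mem_U s)

theorem ρ_eq : T.ρ (R.simple j) = R.simple j := by
  rw [T.ρ_simple, List.mem_singleton.1 ((h.orth.stab j).2 (by simp))]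

theorem exists_unit {g : G} (hg : g ∈ X.Fix) {r : Φ} (hr : r = R.simple j ∨ r = R.neg (R.simple j)) {e : K} (he : e ≠ 0)
    (h1 : g * S.x (R.simple j) 1 * g⁻¹ = S.x r e) : ∃ e' : kˣ, ι e' = e := by
  have h2 := conj_mem_of hg (Orth.fix1 (Or.inl rfl) h.orth (map_one _))
  rw [h1, mem_Fix, X.σ_x] at h2
  have h3 : X.φ (R.simple j) e = e := by
    rcases hr with rfl | rfl
    · rw [h.ρ_eq, h.orth.eps j (by simp), one_mul] at h2; exact X.sep.x_inj h2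
    · rw [T.ρ_neg, h.ρ_eq, X.ε_neg, X.φ_neg, h.orth.eps j (by simp), one_mul] at h2; exact X.sep.x_inj h2
  obtain ⟨e', rfl⟩ := (h.hι e).1 h3
  exact ⟨Units.mk0 e' fun h => he (by simp [h]), rfl⟩

theorem exists_dl {g : G} (hg : g ∈ X.Fix) {w : Equiv.Perm Φ} (hw : w ∈ R.W) (h1 : S.Act g w)
    (h2 : w (R.simple j) = R.simple j) : ∃ e, ∀ s, g * ψ s * g⁻¹ = ψ (dl e s) := by
  obtain ⟨χ, a1, a2, a3⟩ := h1
  obtain ⟨e, he⟩ := h.exists_unit hg (Or.inl rfl) (a1 (R.simple j)) (by rw [a3, h2, mul_one])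
  exact ⟨e, h.sl.conj_dl (fun t => by rw [a3, h2, he]) fun t => by rw [a3, W_neg hw, h2, a2, he]⟩

theorem exists_sw {g : G} (hg : g ∈ X.Fix) {w : Equiv.Perm Φ} (hw : w ∈ R.W) (h1 : S.Act g w)
    (h2 : w (R.simple j) = R.neg (R.simple j)) : ∃ e, ∀ s, g * ψ s * g⁻¹ = ψ (sw e s) := by
  obtain ⟨χ, a1, a2, a3⟩ := h1
  obtain ⟨e, he⟩ := h.exists_unit hg (Or.inr rfl) (a1 (R.simple j)) (by rw [a3, h2, mul_one])
  exact ⟨e, h.sl.conj_sw (fun t => by rw [a3, h2, he]) fun t => by rw [a3, W_neg hw, h2, R.neg_neg, a2, he]⟩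

variable [Finite Φ]

theorem mem_pos {g : G} (hg : g ∈ S.U {r | R.Pos r ∧ R.InSub (T.orb j) r} ⊓ X.Fix) : ∃ t, ψ ((sl2 k).x true t) = g := by
  obtain ⟨⟨t, ht⟩, rfl⟩ := (h.orth.mem_iff1 h.horb).1 hg
  obtain ⟨t, rfl⟩ := (h.hι t).1 ht
  exact ⟨t, h.sl.t t⟩

theorem levi (hΓ : X.Grp X.Fix) {i : I} {l : List I} (hall : ∀ k, k ∈ l ∨ k = j) (ho : X.Orth l)
    (hl : ∀ k, k ∈ T.orb i ↔ k ∈ l) (hj : j ∉ l) (hZ : ∀ g ∈ S.H, (∀ s u, g * S.x s u * g⁻¹ = S.x s u) → g = 1)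
    (hz : ∀ z ∈ cartanKer R.A Kˣ, ∀ c, X.τ c = z * c → ∃ y ∈ cartanKer R.A Kˣ, X.τ y * z = y) :
    X.Levi i j l ψ.range where
  grp := hΓ
  hall k := (hall k).imp (hl k).2 fun e => by rw [e]; exact T.mem_orb j
  orth := ho
  hl := hl
  hij k hk hk' := hj (List.mem_singleton.1 ((h.horb k).1 hk') ▸ hk)
  le := by rintro _ ⟨s, rfl⟩; exact h.lv s
  fix := by rintro _ ⟨s, rfl⟩; exact h.fix s
  pos g hg := let ⟨_, e⟩ := h.mem_pos hg; ⟨_, e⟩
  neg := ⟨S.x (R.neg (R.simple j)) 1, ⟨_, (h.sl.f 1).trans (by rw [map_one])⟩,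
    S.x_mem_U (by exact ⟨R.not_pos_neg_simple j, inSub_neg.2 (inSub_simple.2 (T.mem_orb j))⟩) _,
    fun e => one_ne_zero (X.sep.x_eq_one e)⟩
  norm a ha := by
    rintro _ ⟨s, rfl⟩
    obtain ⟨e, he⟩ := h.exists_dl ha.2 (one_mem _) (X.st.act_H ha.1) rfl
    exact ⟨_, (he s).symm⟩
  tor a ha := by
    rw [X.H_inf_Fix (l := l ++ [j]) (List.nodup_append.2 ⟨ho.nodup, by simp, fun a ha b hb e => hj (by
      rw [← List.mem_singleton.1 hb, ← e]; exact ha)⟩) (fun k => by simpa using hall k) hZ hz] at ha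
    obtain ⟨c, hc, rfl⟩ := ha
    refine ⟨c, fun k _ => X.mem_Tf.1 hc k, ?_⟩
    have h1 := X.mem_Tf.1 hc j
    rw [List.mem_singleton.1 ((h.orth.stab j).2 (by simp))] at h1
    obtain ⟨t, ht⟩ := (h.hι _).1 h1.symm
    refine ⟨(sl2 k).h true t, ?_⟩
    rw [h.sl.hh, ht]
    show _ = _ * S.hprod (l ++ [j]) c
    rw [hprod_append, inv_mul_cancel_left]
    simp [hprod]

variable [Finite k]

omit [Finite Φ] [Fintype I] [DecidableEq I] [Field K] h in
theorem conj_tau {a : G} (ha : ∀ s, a * ψ s * a⁻¹ = ψ (dl (-1) s)) {τ : k} (hτ : Rootless τ) {s s' : S2 k}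
    (h1 : tau s = τ) (h2 : tau s' = τ) : ∃ y, a * ψ s' = ψ y * (a * ψ s) * (ψ y)⁻¹ := by
  obtain ⟨y, rfl⟩ := conj_of_tau hτ h1 h2
  have := ha (dl (-1) y)
  rw [dl_dl, neg_mul_neg, one_mul, dl_one] at this
  refine ⟨y, ?_⟩
  nth_rewrite 1 [← this]
  rw [map_mul, map_mul, map_inv]; group

theorem good (hΓ : X.Grp X.Fix) (hw : ∃ w ∈ T.W1 Set.univ, ∀ r, w r = R.neg r) {a : G} (ha : a ∈ S.H)
    (ha' : ∀ s, a * ψ s * a⁻¹ = ψ (dl (-1) s)) (h2 : (2 : k) = 0 ∨ a⁻¹ = a) {τ : k} (hτ : Rootless τ)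
    (f1 : ∀ s, tau s = τ → X.FP (T.orb j) (a * ψ s)) (f2 : ∀ s, tau s = -τ → X.FP (T.orb j) (a⁻¹ * ψ s))
    {s₀ : S2 k} (h0 : tau s₀ = τ) {l : S2 k} (hl : (2 : k) ≠ 0 ∨ tr2 l ≠ 0 ∨ l = 1) :
    X.Good (T.orb j) (a * ψ s₀) (ψ l) := by
  obtain ⟨s, s', h3, h4, rfl⟩ := exists_prod_tau hτ hl
  have ha2 : ∀ s, a⁻¹ * ψ s * a⁻¹⁻¹ = ψ (dl (-1) s) := fun s => by
    have := ha' (dl (-1) s)
    rw [dl_dl, neg_mul_neg, one_mul, dl_one] at this
    rw [← this]; group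
  obtain ⟨y', e'⟩ := conj_tau ha' hτ h0 h4
  obtain ⟨b, hb, e, f⟩ : ∃ b ∈ X.Fix, a⁻¹ * ψ s = b * (a * ψ s₀) * b⁻¹ ∧ X.FP (T.orb j) (a⁻¹ * ψ s) := by
    have key : tau s = -τ → ∃ b ∈ X.Fix, a⁻¹ * ψ s = b * (a * ψ s₀) * b⁻¹ ∧ X.FP (T.orb j) (a⁻¹ * ψ s) := fun h5 => by
      obtain ⟨w, hw, hw'⟩ := hw
      obtain ⟨m, hm, h6⟩ := hΓ.exists_rep hw
      obtain ⟨e, he⟩ := h.exists_sw hm.2 (T.W1_le_W _ hw) h6 (hw' _)
      obtain ⟨y, e1⟩ := conj_tau ha2 hτ.neg (s := sw e s₀) (by rw [← h0]; simp [tau]) h5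
      refine ⟨ψ y * m, mul_mem (h.fix y) hm.2, ?_, f2 s h5⟩
      rw [e1, ← he, ← inv_H X.st X.mult (T.W1_le_W _ hw) h6 hw' ha]; group
    rcases h3 with h3 | h3
    · rcases h2 with h2 | h2
      · exact key (by linear_combination h3 + τ * h2)
      · obtain ⟨y, e⟩ := conj_tau ha' hτ h0 h3
        exact ⟨_, h.fix y, by rw [h2, e], h2.symm ▸ f1 s h3⟩
    · exact key h3
  exact ⟨b, hb, _, h.fix y', e ▸ f, e' ▸ f1 s' h4, by rw [← e, ← e', map_mul, ← ha2]; group⟩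

end SLv
end TwSys
end

universe u

variable {I Φ : Type} [Fintype I] [DecidableEq I] [Finite Φ] {R : RootSys I Φ} {F : Fam.{u} R} {K : Type u} [Field K]
  [Finite K] {k : Type*} [Field k] {T : Tw R} {X : TwSys (F.S K) T}

theorem not_dvd_of_pow {G K : Type*} [Group G] [Field K] [Finite K] (p : ℕ) [Fact p.Prime] [CharP K p] {g : G}
    (h : g ^ (Nat.card K - 1) = 1) : ¬ p ∣ orderOf g := fun h1 => by
  have := Fintype.ofFinite K
  obtain ⟨n, -, hn⟩ := FiniteField.card K p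
  have h2 : p ∣ Nat.card K := by rw [Nat.card_eq_fintype_card, hn]; exact dvd_pow_self p n.ne_zero
  have h3 := h1.trans (orderOf_dvd_of_pow_eq_one h)
  have h4 : 0 < Nat.card K := Nat.card_pos
  exact (Fact.out : p.Prime).ne_one (Nat.dvd_one.1 (by
    have := Nat.dvd_sub h2 h3
    rwa [Nat.sub_sub_self h4] at this))

open Polynomial in
theorem exists_ext_root {K : Type u} [Field K] [Finite K] (p : ℕ) [CharP K p] (τ : K) :
    ∃ (K' : Type u) (_ : Field K') (_ : Finite K') (_ : CharP K' p) (jj : K →+* K') (c : K'), c ^ 2 + jj τ * c - 1 = 0 := by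
  let P : K[X] := Polynomial.X ^ 2 + C τ * Polynomial.X - 1
  have hP : P.degree = 2 := by unfold P; compute_degree!
  obtain ⟨c, hc⟩ := (SplittingField.splits P).exists_eval_eq_zero (by rw [degree_map, hP]; decide)
  exact ⟨P.SplittingField, inferInstance, Module.finite_of_finite K,
    charP_of_injective_algebraMap (algebraMap K _).injective p, algebraMap K _, c, by simpa [P] using hc⟩

theorem TwSys.SLv.fp {j : I} {ι : k →+* K} {ψ : S2 k →* F.G K} (h : X.SLv j ι ψ) (p : ℕ) [Fact p.Prime] [CharP K p]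
    (hp : ∀ r, |R.pair (R.simple j) r| ≤ 2) {a : F.G K} (ha : a ∈ (F.S K).H ⊓ X.Fix) {χ : Φ → Kˣ}
    (h1 : ∀ r t, a * (F.S K).x r t * a⁻¹ = (F.S K).x r (χ r * t)) (h2 : χ (R.simple j) = -1)
    (h2' : χ (R.neg (R.simple j)) = -1) (h3 : ∀ r, R.pair (R.simple j) r = 0 → χ r ≠ 1) {s : S2 k}
    (hs : Rootless (ι (tau s))) : X.FP (T.orb j) (a * ψ s) ∧ ¬ p ∣ orderOf (a * ψ s) := by
  obtain ⟨K', _, _, _, jj, c, hc⟩ := exists_ext_root p (ι (tau s))
  have hc0 : c ≠ 0 := fun e => by simp [e] at hc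
  have hτ : jj (ι (tau s)) ≠ 0 := (_root_.map_ne_zero _).2 hs.ne_zero
  have c1 : c ∉ jj.fieldRange := fun ⟨d, hd⟩ => hs.neg d (jj.injective (by
    have hd' : jj d = c := hd
    simpa [hd'] using hc))
  have c2 : c ^ 2 ∉ jj.fieldRange := fun h' => c1 (by
    rw [show c = (1 - c ^ 2) / jj (ι (tau s)) by rw [eq_div_iff hτ]; linear_combination hc]
    exact div_mem (sub_mem (one_mem _) h') ⟨_, rfl⟩)
  obtain ⟨ψ', hψ⟩ := exists_isSL (F.st K') (F.mult K') (R.simple j) (RingHom.id K')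
  set f := F.map jj with hf
  have e1 : f (ψ s) = ψ' (mp (jj.comp ι) s) :=
    S2_hom_ext (f := f.comp ψ) (g := ψ'.comp (mp (jj.comp ι)))
      (fun t => by simp [mp_x, h.sl.t, hψ.t, hf, F.map_x]) (fun t => by simp [mp_x, h.sl.f, hψ.f, hf, F.map_x]) s
  obtain ⟨y, hy⟩ := exists_diag (s := mp (jj.comp ι) s) (c := c) (by simpa [tau] using hc)
    (fun e => c2 (by rw [eq_neg_of_add_eq_zero_left e]; exact neg_mem (one_mem _))) (fun e => hs.neg (ι (s.1 0 0)) (by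
      have e2 : s.1 1 0 = 0 := by simpa using e
      have e3 := congrArg ι (S2_det s)
      simp only [e2, mul_zero, sub_zero, map_mul, map_one] at e3
      simp only [tau, map_sub]; linear_combination e3))
  have ha1 : f a ∈ (F.S K').H := ((F.S K).H_le_iff (X := (F.S K').H.comap f)).2 (fun r t ht => by
    rw [Subgroup.mem_comap, PreSys.h, PreSys.n, PreSys.n]
    simp only [map_mul, hf, F.map_x, map_neg, map_inv₀, map_one]
    exact (F.S K').h_mem_H r ((_root_.map_ne_zero _).2 ht)) ha.1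
  obtain ⟨χ', -, h4⟩ := (F.st K').exists_char ha1
  have h5 : ∀ r, χ' (R.rt r) = jj (χ r) := fun r => by
    have := congrArg f (h1 r 1)
    rw [map_mul, map_mul, map_inv, hf, F.map_x, F.map_x, ← hf, h4] at this
    simpa using (F.sep K').x_inj this
  have e2 : f (a * ψ s) = ψ' y * (f a * (F.S K').h (R.simple j) c) * (ψ' y)⁻¹ := by
    have := hψ.conj_dl (g := f a) (e := -1) (fun t => by rw [h4, h5, h2]; simp)
      (fun t => by rw [h4, h5, h2']; simp) (dl (-1) y)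
    rw [dl_dl, neg_mul_neg, one_mul, dl_one] at this
    nth_rewrite 1 [← this]
    rw [map_mul, e1, hy, map_mul, map_mul, map_inv, hψ.hh]; simp only [RingHom.id_apply]; group
  have h6 : ∀ r t, f a * (F.S K').h (R.simple j) c * (F.S K').x r t * (f a * (F.S K').h (R.simple j) c)⁻¹ =
      (F.S K').x r (jj (χ r) * c ^ R.pair (R.simple j) r * t) := fun r t => by
    rw [mul_assoc (jj _), ← h5, ← h4, ← (F.st K').h_conj _ hc0]; group
  have h7 : ∀ r, jj (χ r) * c ^ R.pair (R.simple j) r ≠ 1 := fun r e => by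
    have e3 : c ^ R.pair (R.simple j) r ∈ jj.fieldRange := by
      rw [eq_inv_of_mul_eq_one_right e]; exact inv_mem ⟨_, rfl⟩
    have e4 := abs_le.1 (hp r)
    have e5 : R.pair (R.simple j) r = -2 ∨ R.pair (R.simple j) r = -1 ∨ R.pair (R.simple j) r = 0 ∨
      R.pair (R.simple j) r = 1 ∨ R.pair (R.simple j) r = 2 := by omega
    rcases e5 with e5 | e5 | e5 | e5 | e5
    · exact c2 (by simpa [e5, zpow_ofNat] using inv_mem e3)
    · exact c1 (by simpa [e5] using inv_mem e3)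
    · exact h3 r e5 (Units.ext (jj.injective (by simpa [e5] using e)))
    · exact c1 (by simpa [e5] using e3)
    · exact c2 (by simpa [e5, zpow_ofNat] using e3)
  have hy' : ψ' y ∈ Levi0 (F.S K') (T.orb j) := Subgroup.mem_sup_right (hψ.mem
    (fun _ => (F.S K').x_mem_U (inSub_simple.2 (T.mem_orb j)) _)
    (fun _ => (F.S K').x_mem_U (inSub_neg.2 (inSub_simple.2 (T.mem_orb j))) _) y)
  have key : ∀ (A : Set Φ) (g : (I → ℤ) →+ ℤ), R.Nil A g → ψ' y ∈ Subgroup.normalizer ((F.S K').U A : Set (F.G K')) →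
      ∀ v ∈ (F.S K).U A, a * ψ s * v = v * (a * ψ s) → v = 1 := fun A g hA h8 v hv e => by
    have h9 : f v ∈ (F.S K').U A := ((F.S K).U_le_iff (H := ((F.S K').U A).comap f)).2 (fun r hr t => by
      rw [Subgroup.mem_comap, hf, F.map_x]; exact (F.S K').x_mem_U hr _) hv
    have h10 := mem_U_of_conj_eq (F.sep K') hA h6 ((Subgroup.mem_normalizer_iff.1 (inv_mem h8) _).1 h9) (by
      have := congrArg f e
      rw [map_mul _ _ v, map_mul _ v, e2] at this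
      calc _ = (ψ' y)⁻¹ * (ψ' y * (f a * (F.S K').h (R.simple j) c) * (ψ' y)⁻¹ * f v) * ψ' y *
          (f a * (F.S K').h (R.simple j) c)⁻¹ := by group
        _ = _ := by rw [this]; group)
    rw [show {r | r ∈ A ∧ jj (χ r) * c ^ R.pair (R.simple j) r = 1} = ∅ from
      Set.eq_empty_of_forall_notMem fun r hr => h7 r hr.2, U_empty, Subgroup.mem_bot, conj_eq_one_iff] at h10
    exact F.inj _ (h10.trans (map_one _).symm)
  refine ⟨⟨mul_mem (Subgroup.mem_sup_left ha.1) (h.lv s), mul_mem ha.2 (h.fix s),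
    key _ _ (nil_pos.mono (fun _ h => h.1) fun r hr s hs => (cone_subset_radical (Or.inl hr.1) hs).2)
      (Levi0_norm_pos (F.st K') _ hy'),
    key _ _ (nil_neg.mono (fun _ h => h.1) fun r hr s hs k hk => ⟨not_pos_of_mem_cone hk hr.1 hs.1, fun h' => ?_⟩)
      (Levi0_norm_neg (F.st K') _ hy')⟩, ?_⟩
  · exact ((cone_subset_radical (J := T.orb j) (Or.inl ((R.pos_neg_iff r).2 hr.1))
      ⟨(R.pos_neg_iff s).2 hs.1, fun h => hs.2 (inSub_neg.1 h)⟩).2 (neg_mem_cone hk)).2 (inSub_neg.2 h')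
  · rw [← orderOf_injective f (F.inj _)]
    refine not_dvd_of_pow (K := K') p ?_
    rw [e2, conj_pow, H_pow (F.st K') (F.mult K') (mul_mem ha1 ((F.S K').h_mem_H _ hc0)), mul_one, mul_inv_cancel]

end Cfsg.Lib.Twist
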