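/-
Schur multipliers of twisted groups: lifting a filtered unipotent group to a central extension.
-/
import Cfsg.Agent.Lib.Chev.CExt

set_option autoImplicit false

namespace Cfsg.Lib.Twist

open Subgroup
open scoped commutatorElement

variable {E K : Type*} [Group E] [Field K]

/-- One layer of a filtration, with a coordinate. -/
structure Lv (H A A' : Subgroup E) (c : E → K) : Prop where
  le : A' ≤ A
  add : ∀ a ∈ A, ∀ b ∈ A, c (a * b) = c a + c b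
  ker : ∀ a ∈ A, c a = 0 ↔ a ∈ A'
  conj : ∀ h ∈ H, ∀ a ∈ A, h * a * h⁻¹ ∈ A

/-- Conjugation by `h` multiplies the coordinate by `κ`. -/
def Scl (A : Subgroup E) (c : E → K) (h : E) (κ : K) : Prop := ∀ a ∈ A, c (h * a * h⁻¹) = κ * c a

namespace Lv
variable {H A A' : Subgroup E} {c : E → K} (L : Lv H A A' c)
include L

theorem inv {a : E} (ha : a ∈ A) : c a⁻¹ = -c a := eq_neg_of_add_eq_zero_left (by
  rw [← L.add _ (inv_mem ha) _ ha, inv_mul_cancel, L.ker _ (one_mem _)]; exact one_mem _)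

theorem eqv {a b : E} (ha : a ∈ A) (hb : b ∈ A) (e : c a = c b) : a⁻¹ * b ∈ A' :=
  (L.ker _ (mul_mem (inv_mem ha) hb)).1 (by rw [L.add _ (inv_mem ha) _ hb, L.inv ha, e, neg_add_cancel])

omit L in
theorem surj [Finite K] {ψ : E → E} {l : K} (hl : l ≠ 0) (h : ∀ a ∈ A, ψ a ∈ A ∧ c (ψ a) = l * c a) {a : E} (ha : a ∈ A) :
    ∃ b ∈ A, c (ψ b) = c a := by
  obtain ⟨_, ⟨b, hb, rfl⟩, e⟩ := (((Set.toFinite (c '' A)).injOn_iff_bijOn_of_mapsTo (f := (l * ·))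
    (by rintro _ ⟨a, ha, rfl⟩; exact ⟨_, (h a ha).1, (h a ha).2⟩)).1 (mul_right_injective₀ hl).injOn).surjOn ⟨a, ha, rfl⟩
  exact ⟨b, hb, (h b hb).2.trans e⟩

theorem scl_inv {h : E} (hh : h ∈ H) {κ : K} (h0 : κ ≠ 0) (e : Scl A c h κ) : Scl A c h⁻¹ κ⁻¹ := fun a ha => by
  rw [eq_inv_mul_iff_mul_eq₀ h0, ← e _ (L.conj _ (inv_mem hh) a ha)]; congr 1; group

theorem surj_comm [Finite K] {h : E} (hh : h ∈ H) {κ : K} (h1 : κ ≠ 1) (e : Scl A c h κ) {a : E} (ha : a ∈ A) :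
    ∃ b ∈ A, c (h * b * h⁻¹ * b⁻¹) = c a := Lv.surj (ψ := fun b => h * b * h⁻¹ * b⁻¹) (sub_ne_zero.2 h1) (fun b hb =>
      ⟨mul_mem (L.conj h hh b hb) (inv_mem hb), by rw [L.add _ (L.conj h hh b hb) _ (inv_mem hb), e b hb, L.inv hb]; ring⟩) ha

end Lv

/-- An invariant bimultiplicative map on two layers. -/
structure Bil (H A A' B B' : Subgroup E) (f : E → E → E) : Prop where
  l : ∀ u ∈ A, ∀ u' ∈ A, ∀ a ∈ B, f (u * u') a = f u a * f u' a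
  r : ∀ u ∈ A, ∀ a ∈ B, ∀ a' ∈ B, f u (a * a') = f u a * f u a'
  conj : ∀ h ∈ H, ∀ u ∈ A, ∀ a ∈ B, f (h * u * h⁻¹) (h * a * h⁻¹) = f u a
  l1 : ∀ u ∈ A', ∀ a ∈ B, f u a = 1
  r1 : ∀ u ∈ A, ∀ a ∈ B', f u a = 1

namespace Bil
variable {H A A' B B' : Subgroup E} {f : E → E → E} (b : Bil H A A' B B' f) {c d : E → K}
include b

theorem flip : Bil H B B' A A' fun a u => f u a :=
  ⟨fun a ha a' ha' u hu => b.r u hu a ha a' ha', fun a ha u hu u' hu' => b.l u hu u' hu' a ha, fun h hh a ha u hu => b.conj h hh u hu a ha,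
    fun a ha u hu => b.r1 u hu a ha, fun a ha u hu => b.l1 u hu a ha⟩

theorem congr_l (L : Lv H A A' c) {u u' a : E} (hu : u ∈ A) (hu' : u' ∈ A) (ha : a ∈ B) (e : c u = c u') : f u a = f u' a := by
  have := L.eqv hu hu' e
  rw [← mul_inv_cancel_left u u', b.l _ hu _ (L.le this) _ ha, b.l1 _ this _ ha, mul_one]

variable (L : Lv H A A' c) (M : Lv H B B' d)
include L M

theorem congr {u u' a a' : E} (hu : u ∈ A) (hu' : u' ∈ A) (ha : a ∈ B) (ha' : a' ∈ B) (e : c u = c u') (e' : d a = d a') :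
    f u a = f u' a' := (b.congr_l L hu hu' ha e).trans (b.flip.congr_l M ha ha' hu' e')

omit L in
theorem conj' {h u a : E} (hh : h ∈ H) (hu : u ∈ A) (ha : a ∈ B) : f (h * u * h⁻¹) a = f u (h⁻¹ * a * h⁻¹⁻¹) := by
  rw [← b.conj h hh u hu _ (M.conj _ (inv_mem hh) a ha)]; congr 1; group

variable [Finite K]

theorem sep {h : E} (hh : h ∈ H) (e : Scl A c h 1) {κ : K} (h1 : κ ≠ 1) (e' : Scl B d h κ) : ∀ u ∈ A, ∀ a ∈ B, f u a = 1 := fun u hu a ha => by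
  obtain ⟨x, hx, e1⟩ := M.surj_comm hh h1 e' ha
  have h2 := M.conj h hh x hx
  rw [← b.congr L M hu hu (mul_mem h2 (inv_mem hx)) ha rfl e1, b.r _ hu _ h2 _ (inv_mem hx),
    b.congr_l L hu (L.conj h hh u hu) h2 (by rw [e u hu, one_mul]), b.conj h hh u hu x hx, ← b.r _ hu _ hx _ (inv_mem hx), mul_inv_cancel]
  exact b.r1 _ hu _ (one_mem _)

theorem two {h h' : E} (hh : h ∈ H) (hh' : h' ∈ H) {v v' κ κ' : K} (e : Scl A c h v) (e' : Scl A c h' v') (h1 : v + v' = 1)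
    (g : Scl B d h κ) (g' : Scl B d h' κ') (h0 : κ ≠ 0) (h0' : κ' ≠ 0) (h2 : κ⁻¹ + κ'⁻¹ ≠ 1) : ∀ u ∈ A, ∀ a ∈ B, f u a = 1 :=
  fun u hu a ha => by
  have m := fun x => M.conj _ (inv_mem hh) x
  have m' := fun x => M.conj _ (inv_mem hh') x
  obtain ⟨x, hx, e1⟩ := Lv.surj (c := d) (ψ := fun x => h⁻¹ * x * h⁻¹⁻¹ * (h'⁻¹ * x * h'⁻¹⁻¹) * x⁻¹) (sub_ne_zero.2 h2) (fun x hx =>
    ⟨mul_mem (mul_mem (m x hx) (m' x hx)) (inv_mem hx), by
      rw [M.add _ (mul_mem (m x hx) (m' x hx)) _ (inv_mem hx), M.add _ (m x hx) _ (m' x hx), M.scl_inv hh h0 g x hx, M.scl_inv hh' h0' g' x hx,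
        M.inv hx]; ring⟩) ha
  have n := L.conj h hh u hu
  have n' := L.conj h' hh' u hu
  rw [← b.congr L M hu hu (mul_mem (mul_mem (m x hx) (m' x hx)) (inv_mem hx)) ha rfl e1, b.r _ hu _ (mul_mem (m x hx) (m' x hx)) _ (inv_mem hx),
    b.r _ hu _ (m x hx) _ (m' x hx), ← b.conj' M hh hu hx, ← b.conj' M hh' hu hx, ← b.l _ n _ n' _ hx,
    b.congr_l L (mul_mem n n') hu hx (by rw [L.add _ n _ n', e u hu, e' u hu, ← add_mul, h1, one_mul]), ← b.r _ hu _ hx _ (inv_mem hx),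
    mul_inv_cancel]
  exact b.r1 _ hu _ (one_mem _)

end Bil

/-- A filtration of the preimage `A 0` of a unipotent group in a central extension with kernel `Z`. -/
structure Fil (Z H : Subgroup E) (A : ℕ → Subgroup E) (c : ℕ → E → K) (n : ℕ) : Prop where
  cen : ∀ z ∈ Z, ∀ g, z * g = g * z
  top : A n = Z
  lv : ∀ k < n, Lv H (A k) (A (k + 1)) (c k)
  comm : ∀ k, ∀ u ∈ A 0, ∀ a ∈ A k, ⁅u, a⁆ ∈ A (k + 1)
  hc : ∀ h ∈ H, ∀ h' ∈ H, ⁅h, h'⁆ ∈ Z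

/-- An invariant complement to `Z` in `A k`. -/
structure Lf (Z H : Subgroup E) (A : ℕ → Subgroup E) (W : Subgroup E) (k : ℕ) : Prop where
  le : W ≤ A k
  inj : ∀ w ∈ W, w ∈ Z → w = 1
  sur : ∀ a ∈ A k, ∃ w ∈ W, w⁻¹ * a ∈ Z
  nU : ∀ g ∈ A 0, ∀ w ∈ W, g * w * g⁻¹ ∈ W
  nH : ∀ g ∈ H, ∀ w ∈ W, g * w * g⁻¹ ∈ W

/-- The reasons for the vanishing of the defect on two layers. -/
def PairOK (H W A : Subgroup E) (c : E → K) (B : Subgroup E) (d : E → K) : Prop :=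
  (∃ h ∈ H, ∃ κ, κ ≠ 1 ∧ (Scl A c h 1 ∧ Scl B d h κ ∨ Scl A c h κ ∧ Scl B d h 1)) ∨
  (∃ h ∈ H, ∃ h' ∈ H, ∃ v v' κ κ', Scl A c h v ∧ Scl A c h' v' ∧ v + v' = 1 ∧ Scl B d h κ ∧ Scl B d h' κ' ∧
    κ ≠ 0 ∧ κ' ≠ 0 ∧ κ⁻¹ + κ'⁻¹ ≠ 1) ∨
  ∀ u ∈ A, ∀ a ∈ B, ∃ u' ∈ A, ∃ a' ∈ B, c u = c u' ∧ d a = d a' ∧ ⁅u', a'⁆ ∈ W

theorem PairOK.mono {H A B W W' : Subgroup E} {c d : E → K} (h : PairOK H W A c B d) (e : W ≤ W') : PairOK H W' A c B d :=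
  h.imp_right (Or.imp_right fun h u hu a ha => let ⟨u', a1, a', a2, a3, a4, a5⟩ := h u hu a ha; ⟨u', a1, a', a2, a3, a4, e a5⟩)

namespace Fil
variable {Z H : Subgroup E} {A : ℕ → Subgroup E} {c : ℕ → E → K} {n : ℕ} (F : Fil Z H A c n) {W : Subgroup E} {k : ℕ}
include F

theorem le {j k : ℕ} (h : j ≤ k) (hk : k ≤ n) : A k ≤ A j := by
  induction k, h using Nat.le_induction with
  | base => exact le_rfl
  | succ k _ ih => exact (F.lv k hk).le.trans (ih (by omega))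

theorem lf_bot : Lf Z H A ⊥ n :=
  ⟨bot_le, fun _ h _ => h, fun a ha => ⟨1, one_mem _, by simpa [F.top] using ha⟩, by simp +contextual, by simp +contextual⟩

theorem good' [Finite K] (hk : k < n) (L : Lf Z H A W (k + 1)) {B : ℕ → Subgroup E} {d : ℕ → E → K} {m : ℕ}
    (hB : ∀ j < m, Lv H (B j) (B (j + 1)) (d j)) (hB0 : ∀ j < m, B j ≤ A 0) (hm : B m ≤ A (k + 1))
    (hp : ∀ j < m, PairOK H W (B j) (d j) (A k) (c k)) : ∀ u ∈ B 0, ∀ a ∈ A k, ⁅u, a⁆ ∈ W := by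
  have h0 := F.le (Nat.zero_le k) hk.le
  have c1 : ∀ z ∈ Z, ∀ g x, g * (z * x) = z * (g * x) := fun z hz g x => by rw [← mul_assoc, ← F.cen z hz, mul_assoc]
  have ex : ∀ u a, ∃ z, u ∈ A 0 → a ∈ A k → z ∈ Z ∧ ∃ w ∈ W, ⁅u, a⁆ = z * w := fun u a => by
    by_cases h : u ∈ A 0 ∧ a ∈ A k
    · obtain ⟨w, h1, h2⟩ := L.sur _ (F.comm k u h.1 a h.2)
      exact ⟨_, fun _ _ => ⟨h2, w, h1, by rw [F.cen _ h2]; group⟩⟩
    · exact ⟨1, fun a b => (h ⟨a, b⟩).elim⟩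
  choose f hf using ex
  have uq : ∀ u ∈ A 0, ∀ a ∈ A k, ∀ z ∈ Z, ∀ w ∈ W, ⁅u, a⁆ = z * w → f u a = z := fun u hu a ha z hz w hw e => by
    obtain ⟨h1, w', h2, h3⟩ := hf u a hu ha
    have : z⁻¹ * f u a = w * w'⁻¹ := by rw [inv_mul_eq_iff_eq_mul, ← mul_assoc, ← e, h3, mul_inv_cancel_right]
    exact (inv_mul_eq_one.1 (this.trans (L.inj _ (mul_mem hw (inv_mem h2)) (this ▸ mul_mem (inv_mem hz) h1)))).symm
  have f1 : ∀ u ∈ A 0, ∀ a ∈ A k, ⁅u, a⁆ ∈ W → f u a = 1 := fun u hu a ha e => uq u hu a ha 1 (one_mem _) _ e (one_mul _).symm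
  have g1 : ∀ u ∈ A 0, ∀ a ∈ A (k + 1), ⁅u, a⁆ ∈ W := fun u hu a ha => by
    obtain ⟨w, h1, h2⟩ := L.sur a ha
    have : ⁅u, a⁆ = u * w * u⁻¹ * w⁻¹ := by
      rw [← mul_inv_cancel_left w a]; generalize w⁻¹ * a = z at h2
      rw [commutatorElement_def, ← F.cen z h2, mul_inv_rev, c1 z h2, mul_assoc, mul_assoc, ← mul_assoc _ w⁻¹, F.cen z h2]; group
    exact this ▸ mul_mem (L.nU u hu w h1) (inv_mem h1)
  have h2 : B m ≤ A 0 := hm.trans (F.le (Nat.zero_le _) hk)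
  have key : ∀ i ≤ m, ∀ u ∈ B (m - i), ∀ a ∈ A k, f u a = 1 := fun i => by
    induction i with
    | zero => exact fun _ u hu a ha => f1 u (h2 hu) a ha (by rw [← commutatorElement_inv]; exact inv_mem (g1 a (h0 ha) u (hm hu)))
    | succ i ih =>
      intro hi
      obtain ⟨j, hj⟩ : ∃ j, m = j + 1 + i := ⟨m - 1 - i, by omega⟩
      rw [show m - i = j + 1 by omega] at ih
      rw [show m - (i + 1) = j by omega]
      have h1 := hB0 j (by omega)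
      have La := hB j (by omega)
      have Lb := F.lv k hk
      have b : Bil H (B j) (B (j + 1)) (A k) (A (k + 1)) f := by
        refine ⟨fun u hu u' hu' a ha => ?_, fun u hu a ha a' ha' => ?_, fun h hh u hu a ha => ?_, ih (by omega),
          fun u hu a ha => f1 u (h1 hu) a (Lb.le ha) (g1 u (h1 hu) a ha)⟩
        · obtain ⟨z1, w, w1, e⟩ := hf u a (h1 hu) ha
          obtain ⟨z2, w', w2, e'⟩ := hf u' a (h1 hu') ha
          refine uq _ (h1 (mul_mem hu hu')) a ha _ (mul_mem z1 z2) _ (mul_mem (L.nU u (h1 hu) _ w2) w1) ?_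
          rw [show ⁅u * u', a⁆ = u * ⁅u', a⁆ * u⁻¹ * ⁅u, a⁆ by group, e, e', c1 _ z1, c1 _ z2]; simp only [mul_assoc]
        · obtain ⟨z1, w, w1, e⟩ := hf u a (h1 hu) ha
          obtain ⟨z2, w', w2, e'⟩ := hf u a' (h1 hu) ha'
          refine uq _ (h1 hu) _ (mul_mem ha ha') _ (mul_mem z1 z2) _ (mul_mem w1 (L.nU a (h0 ha) _ w2)) ?_
          rw [show ⁅u, a * a'⁆ = ⁅u, a⁆ * (a * ⁅u, a'⁆ * a⁻¹) by group, e, e', c1 _ z2, mul_assoc (f u a'), mul_assoc (f u a), c1 _ z2]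
          simp only [mul_assoc]
        · obtain ⟨z1, w, w1, e⟩ := hf u a (h1 hu) ha
          refine uq _ (h1 (La.conj h hh u hu)) _ (Lb.conj h hh a ha) _ z1 _ (L.nH h hh _ w1) ?_
          rw [← conjugate_commutatorElement, e, c1 _ z1]; simp only [mul_assoc]
      rcases hp j (by omega) with ⟨h, hh, κ, h2, ⟨e, e'⟩ | ⟨e, e'⟩⟩ | ⟨h, hh, h', hh', v, v', κ, κ', a1, a2, a3, a4, a5, a6, a7, a8⟩ | e
      · exact b.sep La Lb hh e h2 e'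
      · exact fun u hu a ha => b.flip.sep Lb La hh e' h2 e a ha u hu
      · exact b.two La Lb hh hh' a1 a2 a3 a4 a5 a6 a7 a8
      · intro u hu a ha
        obtain ⟨u', a1, a', a2, a3, a4, a5⟩ := e u hu a ha
        exact (b.congr La Lb hu a1 ha a2 a3 a4).trans (f1 _ (h1 a1) _ a2 a5)
  intro u hu a ha
  obtain ⟨-, w, w1, e⟩ := hf u a ((Nat.eq_zero_or_pos m).elim (fun e => h2 (e ▸ hu)) (hB0 0 · hu)) ha
  rwa [e, key m le_rfl u (by simpa using hu) a ha, one_mul]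

theorem good [Finite K] (hk : k < n) (L : Lf Z H A W (k + 1)) (hp : ∀ j ≤ k, PairOK H W (A j) (c j) (A k) (c k)) :
    ∀ u ∈ A 0, ∀ a ∈ A k, ⁅u, a⁆ ∈ W :=
  F.good' hk L (fun j _ => F.lv j (by omega)) (fun j _ => F.le (Nat.zero_le j) (by omega)) le_rfl fun j _ => hp j (by omega)

theorem lift' (hk : k < n) (L : Lf Z H A W (k + 1)) (hg : ∀ u ∈ A 0, ∀ a ∈ A k, ⁅u, a⁆ ∈ W) {W' : Subgroup E} (h1 : W ≤ W') (h2 : W' ≤ A k)
    (h3 : ∀ w ∈ W', c k w = 0 → w ∈ W) (h4 : ∀ a ∈ A k, ∃ w ∈ W', c k w = c k a) (h5 : ∀ g ∈ H, ∀ w ∈ W', g * w * g⁻¹ ∈ W') :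
    Lf Z H A W' k := by
  refine ⟨h2, fun w hw hz => L.inj w (h3 w hw (((F.lv k hk).ker w (h2 hw)).2 (F.le hk le_rfl (F.top ▸ hz)))) hz, fun a ha => ?_,
    fun g hg' w hw => ?_, h5⟩
  · obtain ⟨w, a1, a2⟩ := h4 a ha
    obtain ⟨w', a3, a4⟩ := L.sur _ ((F.lv k hk).eqv (h2 a1) ha a2)
    exact ⟨w * w', mul_mem a1 (h1 a3), by rwa [mul_inv_rev, mul_assoc]⟩
  · rw [show g * w * g⁻¹ = ⁅g, w⁆ * w by group]
    exact mul_mem (h1 (hg g hg' w (h2 hw))) hw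

theorem lift₂ (hk : k < n) (L : Lf Z H A W (k + 1)) (hg : ∀ u ∈ A 0, ∀ a ∈ A k, ⁅u, a⁆ ∈ W) {w : E} (h1 : w ∈ A k) (h2 : c k w ≠ 0)
    (h3 : ∀ a ∈ A k, c k a = 0 ∨ c k a = c k w) (h4 : w * w ∈ W) (h5 : ∀ g ∈ H, g * w * g⁻¹ = w) :
    ∃ W', W ≤ W' ∧ (∀ g, g ∈ W' ↔ g ∈ W ∨ w⁻¹ * g ∈ W) ∧ Lf Z H A W' k := by
  have M := F.lv k hk
  have h0 := F.le (Nat.zero_le k) hk.le h1
  let W' : Subgroup E :=
    { carrier := {g | g ∈ W ∨ w⁻¹ * g ∈ W}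
      one_mem' := Or.inl (one_mem _)
      mul_mem' := by
        rintro a b (ha | ha) (hb | hb)
        · exact Or.inl (mul_mem ha hb)
        · exact Or.inr (by simpa [mul_assoc] using mul_mem (L.nU _ (inv_mem h0) _ ha) hb)
        · exact Or.inr (by simpa [mul_assoc] using mul_mem ha hb)
        · exact Or.inl (by simpa [mul_assoc] using mul_mem h4 (mul_mem (L.nU _ (inv_mem h0) _ ha) hb))
      inv_mem' := by
        rintro a (ha | ha)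
        · exact Or.inl (inv_mem ha)
        · exact Or.inr (by simpa [mul_assoc] using mul_mem (inv_mem h4) (L.nU _ h0 _ (inv_mem ha))) }
  have w2 : W' ≤ A k := fun g h => h.elim (fun h => M.le (L.le h)) fun h => (mul_mem_cancel_left (inv_mem h1)).1 (M.le (L.le h))
  refine ⟨W', fun _ => Or.inl, fun _ => Iff.rfl, F.lift' hk L hg (fun _ => Or.inl) w2 (fun g hw e0 => hw.elim id fun h => (h2 ?_).elim)
    (fun a ha => (h3 a ha).elim (fun e => ⟨1, one_mem _, ((M.ker _ (one_mem _)).2 (one_mem _)).trans e.symm⟩)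
      fun e => ⟨w, Or.inr (by simp), e.symm⟩) fun g hg' a ha => ha.imp (L.nH g hg' a) fun h => ?_⟩
  · simpa [M.add _ (inv_mem h1) _ (w2 hw), e0, M.inv h1] using (M.ker _ (M.le (L.le h))).2 (L.le h)
  · rw [← h5 g hg']; simpa [mul_assoc] using L.nH g hg' _ h

theorem lift [Finite K] (hk : k < n) (L : Lf Z H A W (k + 1)) (hg : ∀ u ∈ A 0, ∀ a ∈ A k, ⁅u, a⁆ ∈ W) {h : E} (hh : h ∈ H) {κ : K} (h1 : κ ≠ 1)
    (e : Scl (A k) (c k) h κ) : ∃ W', W ≤ W' ∧ Lf Z H A W' k := by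
  have M := F.lv k hk
  have h0 := F.le (Nat.zero_le k) hk.le
  have m : ∀ a ∈ A k, ⁅h, a⁆ ∈ A k := fun a ha => mul_mem (M.conj h hh a ha) (inv_mem ha)
  let W' : Subgroup E :=
    { carrier := {g | ∃ a ∈ A k, ⁅h, a⁆⁻¹ * g ∈ W}
      one_mem' := ⟨1, one_mem _, by simp⟩
      mul_mem' := by
        rintro g g' ⟨a, ha, e⟩ ⟨a', ha', e'⟩
        refine ⟨a * a', mul_mem ha ha', ?_⟩
        rw [show ⁅h, a * a'⁆⁻¹ * (g * g') = ⁅a, ⁅h, a'⁆⁻¹⁆ * (⁅h, a'⁆⁻¹ * (⁅h, a⁆⁻¹ * g) * ⁅h, a'⁆⁻¹⁻¹) * (⁅h, a'⁆⁻¹ * g') by group]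
        exact mul_mem (mul_mem (hg _ (h0 ha) _ (inv_mem (m _ ha'))) (L.nU _ (h0 (inv_mem (m _ ha'))) _ e)) e'
      inv_mem' := by
        rintro g ⟨a, ha, e⟩
        refine ⟨a⁻¹, inv_mem ha, ?_⟩
        rw [show ⁅h, a⁻¹⁆⁻¹ * g⁻¹ = ⁅a⁻¹, ⁅h, a⁆⁆ * (⁅h, a⁆ * (⁅h, a⁆⁻¹ * g)⁻¹ * ⁅h, a⁆⁻¹) by group]
        exact mul_mem (hg _ (h0 (inv_mem ha)) _ (m _ ha)) (L.nU _ (h0 (m _ ha)) _ (inv_mem e)) }
  have w1 : W ≤ W' := fun w hw => ⟨1, one_mem _, by simpa using hw⟩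
  have w2 : W' ≤ A k := fun g ⟨a, ha, e⟩ => (mul_mem_cancel_left (inv_mem (m a ha))).1 (M.le (L.le e))
  refine ⟨W', w1, F.lift' hk L hg w1 w2 (fun g hw e0 => ?_) (fun a ha => ?_) fun g hg' w ⟨a, ha, e⟩ => ⟨_, M.conj g hg' a ha, ?_⟩⟩
  · obtain ⟨a, ha, e1⟩ := id hw
    have e2 := (M.ker _ (M.le (L.le e1))).2 (L.le e1)
    rw [M.add _ (inv_mem (m a ha)) _ (w2 hw), e0, add_zero, M.inv (m a ha), neg_eq_zero, commutatorElement_def,
      M.add _ (M.conj h hh a ha) _ (inv_mem ha), e a ha, M.inv ha, ← sub_eq_add_neg, ← sub_one_mul, mul_eq_zero, sub_eq_zero, or_iff_right h1,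
      M.ker a ha] at e2
    obtain ⟨w, a1, a2⟩ := L.sur a e2
    refine (mul_mem_cancel_left (inv_mem ?_)).1 e1
    rw [← mul_inv_cancel_left w a]; generalize w⁻¹ * a = z at a2
    rw [show ⁅h, w * z⁆ = h * w * h⁻¹ * (h * z * h⁻¹ * z⁻¹) * w⁻¹ by group, ← F.cen z a2, mul_inv_cancel_right, mul_inv_cancel, mul_one]
    exact mul_mem (L.nH h hh w a1) (inv_mem a1)
  · obtain ⟨b, hb, e1⟩ := M.surj_comm hh h1 e ha
    exact ⟨_, ⟨b, hb, by rw [commutatorElement_def, inv_mul_cancel]; exact one_mem _⟩, e1⟩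
  · have := F.cen _ (F.hc g hg' h hh)
    rw [show ⁅h, g * a * g⁻¹⁆ = g * ⁅h, a⁆ * g⁻¹ by
      rw [conjugate_commutatorElement, show g * h * g⁻¹ = ⁅g, h⁆ * h by group, commutatorElement_def (_ * h), mul_assoc ⁅g, h⁆, mul_inv_rev ⁅g, h⁆,
        ← mul_assoc, mul_assoc ⁅g, h⁆, this, mul_inv_cancel_right, commutatorElement_def]]
    simpa only [mul_inv_rev, inv_inv, mul_assoc, inv_mul_cancel_left] using L.nH g hg' _ e

theorem descend [Finite K] {m : ℕ} (hm : m ≤ n) (h0 : 0 < m) (L : Lf Z H A W m) (hp : ∀ k < m, ∀ j ≤ k, PairOK H W (A j) (c j) (A k) (c k))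
    (hs : ∀ k < m, 0 < k → ∃ h ∈ H, ∃ κ, κ ≠ 1 ∧ Scl (A k) (c k) h κ) : ∀ z ∈ ⁅A 0, A 0⁆, z ∈ Z → z = 1 := by
  induction m generalizing W with
  | zero => omega
  | succ m ih =>
    have hg := F.good hm L (hp m (by omega))
    rcases Nat.eq_zero_or_pos m with rfl | h1
    · exact fun z hz => L.inj z (commutator_le.2 hg hz)
    · obtain ⟨h, hh, κ, h2, e⟩ := hs m (by omega) h1
      obtain ⟨W', a, b⟩ := F.lift hm L hg hh h2 e
      exact ih (by omega) h1 b (fun k hk j hj => (hp k (by omega) j hj).mono a) fun k hk => hs k (by omega)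

end Fil

end Cfsg.Lib.Twist
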