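/-
Schur multipliers of twisted groups: central extensions with kernel of order prime to the characteristic.
-/
import Cfsg.Agent.Lib.Twist.MuA
import Cfsg.Agent.Lib.Twist.FixTorus
import Cfsg.Agent.Lib.Chev.Aut
import Cfsg.Agent.Lib.Chev.Coord
import Mathlib.GroupTheory.Transfer

set_option autoImplicit false

namespace Cfsg.Lib.Twist

open Subgroup Cfsg.Lib.Chev PreSys RootSys
open scoped commutatorElement IsMulCommutative

variable {E G : Type*} [Group E] [Group G]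

/-- A homomorphism with central kernel without elements of order `p`. -/
structure PExt (π : E →* G) (p : ℕ) : Prop where
  cen : ∀ z, π z = 1 → ∀ g, z * g = g * z
  cop : ∀ z, π z = 1 → ∀ k, z ^ p ^ k = 1 → z = 1

/-- The canonical lift of a `p`-subgroup. -/
def pl (π : E →* G) (p : ℕ) (A : Subgroup G) : Subgroup E := closure {g | π g ∈ A ∧ ∃ k, g ^ p ^ k = 1}

section
variable {π : E →* G} {p : ℕ} {A A' : Subgroup G}

theorem map_pl {g : E} (h : g ∈ pl π p A) : π g ∈ A := (closure_le (K := A.comap π)).2 (fun _ h => h.1) h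

theorem conj_pl {g u : E} (h : ∀ a ∈ A, π g * a * (π g)⁻¹ ∈ A') (hu : u ∈ pl π p A) : g * u * g⁻¹ ∈ pl π p A' :=
  (closure_le (K := (pl π p A').comap (MulAut.conj g).toMonoidHom)).2 (fun u (⟨a, k, b⟩ : _ ∧ ∃ k, _) => subset_closure
    (show _ ∧ ∃ k, _ from ⟨by simpa using h _ a, k, by simp [b]⟩)) hu

theorem PExt.comm_left (hπ : PExt π p) {z : E} (hz : π z = 1) (a b : E) : ⁅z * a, b⁆ = ⁅a, b⁆ := by
  rw [show ⁅z * a, b⁆ = z * (a * b * a⁻¹) * z⁻¹ * b⁻¹ by group, hπ.cen z hz, mul_inv_cancel_right, commutatorElement_def]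

theorem pl_mono (h : A ≤ A') : pl π p A ≤ pl π p A' := closure_mono fun _ a => ⟨h a.1, a.2⟩

variable [Finite E] [Fact p.Prime] (hπ : PExt π p) (hA : IsPGroup p A)
include hπ hA

theorem PExt.mem_pl {g : E} : g ∈ pl π p A ↔ π g ∈ A ∧ ∃ k, g ^ p ^ k = 1 := by
  refine ⟨fun h => ?_, fun h => subset_closure h⟩
  induction h using closure_induction with
  | mem g h => exact h
  | one => exact ⟨by simp, 0, by simp⟩
  | inv g _ h => exact ⟨by simpa using h.1, h.2.imp fun k e => by simp [e]⟩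
  | mul a b _ _ ha hb =>
    obtain ⟨a1, k, a2⟩ := ha
    obtain ⟨b1, l, b2⟩ := hb
    have h1 : IsPGroup p (A.comap π ⧸ center (A.comap π)) := fun y => by
      obtain ⟨y, rfl⟩ := QuotientGroup.mk_surjective y
      obtain ⟨j, e⟩ := hA ⟨_, y.2⟩
      refine ⟨j, by
        rw [← QuotientGroup.mk_pow, QuotientGroup.eq_one_iff, mem_center_iff]
        exact fun g => Subtype.ext (hπ.cen _ (by simpa using congrArg Subtype.val e) _).symm⟩
    obtain ⟨j, e⟩ := IsPGroup.iff_card.1 h1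
    let f := MonoidHom.transferCenterPow (A.comap π)
    have f1 : ∀ (g : A.comap π) k, (g : E) ^ p ^ k = 1 → f g ^ p ^ k = 1 := fun g k h => by
      rw [← map_pow, show g ^ p ^ k = 1 from Subtype.ext h, map_one]
    have f2 : ∀ a b : A.comap π, (a : E) ^ p ^ k = 1 → (b : E) ^ p ^ l = 1 → (a * b : E) ^ p ^ (j + (k + l)) = 1 := fun a b a2 b2 => by
      have : f (a * b) ^ p ^ (k + l) = 1 := by
        rw [map_mul, mul_pow, pow_add, pow_mul, f1 _ k a2, one_pow, mul_comm (p ^ k), pow_mul, f1 _ l b2, one_pow, one_mul]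
      have := congrArg (fun x : center (A.comap π) => (x : E)) this
      rw [pow_add, pow_mul, ← e]
      exact this
    exact ⟨by simpa using mul_mem a1 b1, _, f2 ⟨a, a1⟩ ⟨b, b1⟩ a2 b2⟩

theorem PExt.inj {g : E} (h : g ∈ pl π p A) (e : π g = 1) : g = 1 := let ⟨_, k, h⟩ := (hπ.mem_pl hA).1 h; hπ.cop g e k h

theorem PExt.mem_of {g : E} (h : g ∈ pl π p A) (e : π g ∈ A') : g ∈ pl π p A' := subset_closure ⟨e, ((hπ.mem_pl hA).1 h).2⟩

omit [Fact p.Prime] in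
theorem PExt.exists_lift {a : G} (ha : a ∈ A) (h : a ∈ π.range) : ∃ g ∈ pl π p A, π g = a := by
  obtain ⟨g, rfl⟩ := h
  obtain ⟨k, e⟩ := hA ⟨_, ha⟩
  have c : ∀ z : π.ker, ∀ g, Commute g z.1⁻¹ := fun z g => (hπ.cen _ (inv_mem z.2) g).symm
  obtain ⟨z, e'⟩ := (Finite.injective_iff_surjective (f := fun z : π.ker => z ^ p ^ k)).1 (fun z z' h => Subtype.ext (mul_inv_eq_one.1
    (hπ.cop _ (mul_mem z.2 (inv_mem z'.2)) k (by
      rw [(c z' z).mul_pow, inv_pow, mul_inv_eq_one]; exact congrArg Subtype.val h)))) ⟨g ^ p ^ k, by simpa using congrArg Subtype.val e⟩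
  have e1 : π (g * z.1⁻¹) = π g := by simp [MonoidHom.mem_ker.1 z.2]
  exact ⟨_, subset_closure ⟨e1 ▸ ha, k, by rw [(c z g).mul_pow, inv_pow, mul_inv_eq_one]; exact (congrArg Subtype.val e').symm⟩, e1⟩

theorem PExt.eq_of {g g' : E} (h : g ∈ pl π p A) (h' : g' ∈ pl π p A) (e : π g = π g') : g = g' :=
  mul_inv_eq_one.1 (hπ.inj hA (mul_mem h (inv_mem h')) (by simp [e]))

end

theorem mem_of_stable {ι : Sort*} {Y : Set E} {A : ι → Subgroup E} (h : ∀ i, ∀ a ∈ A i, ∀ y ∈ Y, y * a ∈ Y) (h1 : 1 ∈ Y) {g : E}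
    (hg : g ∈ ⨆ i, A i) : g ∈ Y := by
  simpa using iSup_induction A (C := fun g => ∀ y ∈ Y, y * g ∈ Y) hg h (by simp) (fun a b ha hb y hy => mul_assoc y a b ▸ hb _ (ha y hy)) 1 h1

theorem card_iSup_dvd [Finite E] {ι : Type*} (s : Finset ι) (A : ι → Subgroup E) (h : ∀ i, (A i).Normal) :
    Nat.card (⨆ i ∈ s, A i : Subgroup E) ∣ ∏ i ∈ s, Nat.card (A i) := by
  classical
  induction s using Finset.induction_on with
  | empty => simp
  | insert i s hi ih =>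
    have := h i
    rw [Finset.iSup_insert, Finset.prod_insert hi, ← card_mul_index ((A i).subgroupOf _), Nat.card_congr (subgroupOfEquivOfLe le_sup_left).toEquiv]
    refine mul_dvd_mul_left _ (dvd_trans ?_ ih)
    rw [← relIndex, relIndex_sup_left]
    exact relIndex_dvd_card _ _

namespace TwSys

variable {I Φ : Type*} [Fintype I] [DecidableEq I] {R : RootSys I Φ} {K : Type*} [Field K] {S : PreSys R K G} {T : Tw R} (X : TwSys S T)
  [Finite Φ]

theorem split_pos {J : Set I} (hJ : T.Stable J) {u : G} (hu : u ∈ S.U {r | R.Pos r} ⊓ X.Fix) :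
    ∃ a ∈ S.U {r | R.Pos r ∧ ¬ R.InSub J r}, ∃ b ∈ S.U {r | R.Pos r ∧ R.InSub J r} ⊓ X.Fix, u = a * b := by
  obtain ⟨a, ha, b, hb, rfl⟩ := S.exists_mul' nil_pos {r | R.InSub J r} hu.1
  exact ⟨a, ha, b, ⟨hb, (fix_of_mul (le_bot_iff.1 (X.st.radical_inf_levi X.sep X.opp J ▸ inf_le_inf_left _ (le_sup_of_le_right
    (S.U_mono fun _ hr => hr.2)))) ha hb (X.σ_mem_U (fun r hr => by exact ⟨(T.pos_ρ r).2 hr.1, mt (T.inSub_ρ hJ r).1 hr.2⟩) ha)
    (X.σ_mem_U (fun r hr => by exact ⟨(T.pos_ρ r).2 hr.1, (T.inSub_ρ hJ r).2 hr.2⟩) hb) hu.2).2⟩, rfl⟩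

include X in
omit [Finite Φ] in
theorem levi_le_P (J : Set I) : S.U {r | R.InSub J r} ≤ S.P J := X.st.radical_sup_levi J ▸ le_sup_of_le_right le_sup_right

theorem levi_decomp {J : Set I} (hJ : T.Stable J) {g : G} (hg : g ∈ S.U {r | R.InSub J r}) (h : g ∈ X.Fix) :
    ∃ a ∈ S.U {r | R.Pos r ∧ R.InSub J r} ⊓ X.Fix, ∃ m ∈ S.N, ∃ b ∈ S.U {r | R.Pos r ∧ R.InSub J r} ⊓ X.Fix, g = a * m * b := by
  obtain ⟨w, hw, h3⟩ := X.st.exists_cell_of_P (X.levi_le_P J hg)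
  obtain ⟨u', hu', m, hm, h5, u, hu, rfl⟩ := X.fix_cell (X.mem_W1_of_cell hw h3 h) h3 h
  have h4 : u ∈ S.U {r | R.Pos r ∧ R.InSub J r} := S.U_mono (fun r hr => by
    exact ⟨hr.1, not_not.1 fun h => hr.2 ((WJ_pos_iff hw h).2 hr.1)⟩) hu.1
  have h6 : m ∈ S.H ⊔ S.U {r | R.InSub J r} := by
    obtain ⟨l, hl, e⟩ := R.exists_word hw
    have := X.st.mul_inv_mem_H X.sep hm.1 (S.nw_mem_N l) (R.WJ_le_W _ hw) h5 (e ▸ X.st.act_nw l)
    simpa using Subgroup.mul_mem_sup this (S.nw_mem (X := S.U {r | R.InSub J r}) fun j hj =>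
      S.n_mem_U (inSub_simple.2 (hl j hj)) (inSub_neg.2 (inSub_simple.2 (hl j hj))) 1)
  obtain ⟨a, ha, b, hb, rfl⟩ := X.split_pos hJ hu'
  have h7 : a ∈ S.U {r | R.Pos r ∧ ¬ R.InSub J r} ⊓ (S.H ⊔ S.U {r | R.InSub J r}) := ⟨ha, by
    have := mul_mem (mul_mem (mul_mem (Subgroup.mem_sup_right hg) (inv_mem (Subgroup.mem_sup_right
      (S.U_mono (fun _ hr => hr.2) h4)))) (inv_mem h6)) (inv_mem (Subgroup.mem_sup_right (S.U_mono (fun _ hr => hr.2) hb.1)))
    simpa using this⟩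
  rw [X.st.radical_inf_levi X.sep X.opp, Subgroup.mem_bot] at h7
  exact ⟨b, hb, m, hm.1, u, ⟨h4, hu.2⟩, by rw [h7, one_mul]⟩

variable (π : E →* G) (p : ℕ)

/-- A finite central extension of the group of fixed points, with kernel of order prime to `p`. -/
structure Cov : Prop extends PExt π p where
  range : π.range = X.Fix
  grp : X.Grp X.Fix
  gen : X.Fix ≤ S.U {r | R.Pos r} ⊓ X.Fix ⊔ S.U {r | ¬ R.Pos r} ⊓ X.Fix
  stem : π.ker ≤ commutator E

variable (S T) in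
/-- The lift of a rank one subgroup. -/
def Lh (i : I) : Subgroup E := pl π p (S.U {r | R.Pos r ∧ R.InSub (T.orb i) r}) ⊔ pl π p (S.U {r | ¬ R.Pos r ∧ R.InSub (T.orb i) r})

variable (S T) in
/-- The lift of the torus. -/
def Th : Subgroup E := ⨆ i, Lh S T π p i ⊓ S.H.comap π

variable (S T) in
/-- Lifts of the fundamental reflections. -/
def Gn (i : I) (a : E) : Prop := a ∈ Lh S T π p i ∧ π a ∈ S.N ∧ S.Act (π a) (lng R (T.orb i))

variable (S T) in
/-- Words in the lifts of the fundamental reflections. -/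
inductive Wd : ℕ → Equiv.Perm Φ → E → Prop
  | nil {t : E} : t ∈ Th S T π p → Wd 0 1 t
  | cons {k : ℕ} {w : Equiv.Perm Φ} {g : E} {i : I} {a : E} : Gn S T π p i a → Wd k w g → Wd (k + 1) (lng R (T.orb i) * w) (a * g)

variable {π p} {i j : I}

omit [Finite Φ] in
theorem map_Lh {g : E} (h : g ∈ Lh S T π p i) : π g ∈ S.U {r | R.InSub (T.orb i) r} :=
  sup_le (c := (S.U _).comap π) (fun _ h => S.U_mono (fun _ hr => hr.2) (map_pl h)) (fun _ h => S.U_mono (fun _ hr => hr.2) (map_pl h)) h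

omit [Finite Φ] in
theorem conj_Lh {y g : E} {w : Equiv.Perm Φ} (hw : w ∈ R.W) (h : S.Act (π y) w)
    (e : ∀ r, R.Pos r → R.InSub (T.orb j) r → R.Pos (w r) ∧ R.InSub (T.orb i) (w r)) (hg : g ∈ Lh S T π p j) : y * g * y⁻¹ ∈ Lh S T π p i :=
  sup_le (c := (Lh S T π p i).comap (MulAut.conj y).toMonoidHom)
    (fun _ hu => mem_sup_left (conj_pl (fun _ => h.conj_mem fun r hr => e r hr.1 hr.2) hu))
    (fun _ hu => mem_sup_right (conj_pl (fun _ => h.conj_mem fun r hr => by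
      have := e _ ((R.pos_neg_iff r).2 hr.1) (inSub_neg.2 hr.2)
      rwa [W_neg hw, R.pos_neg_iff, inSub_neg] at this) hu)) hg

omit [Finite Φ] in
theorem Th_le : Th S T π p ≤ S.H.comap π := iSup_le fun _ => inf_le_right

theorem Gn.inv {a : E} (h : Gn S T π p i a) : Gn S T π p i a⁻¹ :=
  ⟨inv_mem h.1, by simpa using h.2.1, by simpa [lng_inv] using h.2.2.inv (lng_mem_W _)⟩

variable {X}

omit [Finite Φ] in
theorem H_conj_Lh (X : TwSys S T) {y g : E} (h : π y ∈ S.H) (hg : g ∈ Lh S T π p i) : y * g * y⁻¹ ∈ Lh S T π p i :=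
  conj_Lh (one_mem _) (X.st.act_H h) (fun _ a b => ⟨a, b⟩) hg

theorem Gn.conj_Th (X : TwSys S T) {a t : E} (h : Gn S T π p i a) (ht : t ∈ Th S T π p) : a * t * a⁻¹ ∈ Th S T π p := by
  rw [show a * t * a⁻¹ = a * (t * a⁻¹ * t⁻¹) * t by group]
  refine mul_mem (mem_iSup_of_mem i ⟨mul_mem h.1 (H_conj_Lh X (Th_le ht) (inv_mem h.1)), ?_⟩) ht
  simpa [mul_assoc] using mul_mem (X.st.conj_mem_H h.2.1 (Th_le ht)) (inv_mem (Th_le ht))

namespace Wd
variable {k : ℕ} {w : Equiv.Perm Φ} {g : E}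

theorem act (X : TwSys S T) (h : Wd S T π p k w g) : w ∈ T.W1 Set.univ ∧ π g ∈ S.N ∧ S.Act (π g) w := by
  induction h with
  | nil h => exact ⟨one_mem _, S.H_le_N (Th_le h), X.st.act_H (Th_le h)⟩
  | cons h _ ih => exact ⟨mul_mem (Tw.lng_orb_mem T.stable_univ trivial) ih.1, by simpa using mul_mem h.2.1 ih.2.1,
      by simpa using h.2.2.mul (T.W1_le_W _ ih.1) ih.2.2⟩

theorem mul_left (X : TwSys S T) (h : Wd S T π p k w g) {t : E} (ht : t ∈ Th S T π p) : Wd S T π p k w (t * g) := by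
  induction h generalizing t with
  | nil h => exact nil (mul_mem ht h)
  | cons h _ ih => simpa [mul_assoc] using cons h (ih (h.inv.conj_Th X ht))

theorem mul_right (h : Wd S T π p k w g) {t : E} (ht : t ∈ Th S T π p) : Wd S T π p k w (g * t) := by
  induction h with
  | nil h => exact nil (mul_mem h ht)
  | cons h _ ih => simpa [mul_assoc] using cons h ih

theorem snoc (X : TwSys S T) (h : Wd S T π p k w g) {a : E} (ha : Gn S T π p j a) : Wd S T π p (k + 1) (w * lng R (T.orb j)) (g * a) := by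
  induction h with
  | nil h => simpa [mul_assoc] using cons ha (nil (ha.inv.conj_Th X h))
  | cons h _ ih => simpa [mul_assoc] using cons h ih

theorem inv (X : TwSys S T) (h : Wd S T π p k w g) : Wd S T π p k w⁻¹ g⁻¹ := by
  induction h with
  | nil h => exact nil (inv_mem h)
  | cons h _ ih => simpa [lng_inv] using ih.snoc X h.inv

end Wd

namespace Cov
variable (C : X.Cov π p)
include C

omit [Finite Φ] in
theorem fix (g : E) : π g ∈ X.Fix := C.range ▸ ⟨g, rfl⟩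

theorem mem_or {m : E} (h : m ∈ Lh S T π p i) (hm : π m ∈ S.N) : π m ∈ S.H ∨ Gn S T π p i m := by
  obtain ⟨w, hw, e⟩ := X.st.exists_act hm
  rcases Tw.eq_one_or_lng (X.mem_W1_of_cell (X.st.mem_WJ_of_mem_P X.sep hw (e.mem_cell hm) (X.levi_le_P _ (map_Lh h))) (e.mem_cell hm)
    (C.fix m)) with rfl | rfl
  exacts [Or.inl (X.st.mem_H_of_act_one X.sep hm e), Or.inr ⟨h, hm, e⟩]

theorem exchange {k : ℕ} {w : Equiv.Perm Φ} {g : E} (h : Wd S T π p k w g) {n : E} (hn : Gn S T π p j n) (e : ¬ R.Pos (w (R.simple j))) :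
    ∃ k', k' + 1 = k ∧ Wd S T π p k' (w * lng R (T.orb j)) (g * n) := by
  induction h with
  | nil h => exact (e (R.pos_simple j)).elim
  | @cons k w g i a ha h ih =>
    by_cases e' : R.Pos (w (R.simple j))
    · obtain ⟨h1, h2, h3⟩ := h.act X
      have hw := T.W1_le_W _ h1
      have h4 : a * (g * n * g⁻¹) ∈ Lh S T π p i := mul_mem ha.1 (conj_Lh hw h3 (fun r hr hr' => by
        have := pos_of_inSub hw (fun l hl => (Tw.pos_orb h1 hl).2 e') hr hr'
        exact ⟨this, not_not.1 fun h => not_pos_of_inSub (mul_mem (lng_mem_W (T.orb i)) hw) (fun l hl => mt (Tw.pos_orb (mul_mem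
          (Tw.lng_orb_mem T.stable_univ trivial) h1) hl).1 e) hr hr' ((pos_lng_iff' h).2 this)⟩) hn.1)
      have h5 : S.Act (π (a * (g * n * g⁻¹))) (lng R (T.orb i) * (w * lng R (T.orb j) * w⁻¹)) := by
        simpa using ha.2.2.mul (mul_mem (mul_mem hw (lng_mem_W _)) (inv_mem hw)) ((h3.mul (lng_mem_W _) hn.2.2).mul (inv_mem hw) (h3.inv hw))
      rcases C.mem_or h4 (by simpa using mul_mem ha.2.1 (mul_mem (mul_mem h2 hn.2.1) (inv_mem h2))) with h6 | h6
      · refine ⟨k, rfl, ?_⟩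
        have := h5.unique X.sep (X.st.act_H h6)
        rw [← mul_assoc, mul_inv_eq_one, ← mul_assoc] at this
        simpa [this, mul_assoc] using h.mul_left X (mem_iSup_of_mem i ⟨h4, h6⟩)
      · exact (lng_ne_one (T.mem_orb j) (by simpa using h5.unique X.sep h6.2.2)).elim
    · obtain ⟨k', rfl, h1⟩ := ih e'
      exact ⟨_, rfl, by simpa [mul_assoc] using h1.cons ha⟩

theorem short {k : ℕ} {w : Equiv.Perm Φ} {g : E} (h : Wd S T π p k w g) : (∃ k' < k, Wd S T π p k' w g) ∨ k ≤ R.length w := by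
  induction h with
  | nil h => exact Or.inr (Nat.zero_le _)
  | @cons k w g i a ha h ih =>
    rcases ih with ⟨k', h1, h2⟩ | ih
    · exact Or.inl ⟨_, by omega, h2.cons ha⟩
    have h1 := (h.inv X).act X
    by_cases e : R.Pos (w⁻¹ (R.simple i))
    · have := Tw.length_mul_lng h1.1 e
      have := Tw.length_lng_pos (T := T) i
      rw [← R.length_inv (T.W1_le_W _ ((h.cons ha).act X).1), mul_inv_rev, lng_inv, ← R.length_inv (T.W1_le_W _ (h.act X).1)] at *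
      omega
    · obtain ⟨k', rfl, h2⟩ := C.exchange (h.inv X) ha.inv e
      exact Or.inl ⟨k', by omega, by simpa [lng_inv] using h2.inv X⟩

theorem mem_Th {k : ℕ} {g : E} (h : Wd S T π p k 1 g) : g ∈ Th S T π p := by
  induction k using Nat.strong_induction_on with
  | _ k ih =>
    rcases C.short h with ⟨k', h1, h2⟩ | h1
    · exact ih _ h1 h2
    · rw [R.length_one, Nat.le_zero] at h1
      subst h1
      generalize (1 : Equiv.Perm Φ) = w at h
      cases h; assumption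

variable [Finite E] [Finite K] [Fact p.Prime] [CharP K p]

omit C in
theorem pg (X : TwSys S T) {A : Set Φ} (h : A ⊆ {r | R.Pos r} ∨ A ⊆ {r | ¬ R.Pos r}) : IsPGroup p (S.U A) :=
  h.elim (fun h => (isPGroup_U p X.sep nil_pos).to_le (S.U_mono h)) fun h => (isPGroup_U p X.sep nil_neg).to_le (S.U_mono h)

theorem lift {A : Set Φ} (h : A ⊆ {r | R.Pos r} ∨ A ⊆ {r | ¬ R.Pos r}) {a : G} (ha : a ∈ S.U A ⊓ X.Fix) : ∃ g ∈ pl π p (S.U A), π g = a :=
  C.exists_lift (pg X h) ha.1 (C.range ▸ ha.2)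

theorem bruhat {g : E} (h : g ∈ Lh S T π p i) : ∃ a ∈ pl π p (S.U {r | R.Pos r ∧ R.InSub (T.orb i) r}), ∃ m ∈ Lh S T π p i, π m ∈ S.N ∧
    ∃ b ∈ pl π p (S.U {r | R.Pos r ∧ R.InSub (T.orb i) r}), g = a * m * b := by
  obtain ⟨a, ha, m, hm, b, hb, e⟩ := X.levi_decomp (T.stable_orb i) (map_Lh h) (C.fix g)
  obtain ⟨a, a1, rfl⟩ := C.lift (Or.inl fun _ h => h.1) ha
  obtain ⟨b, b1, rfl⟩ := C.lift (Or.inl fun _ h => h.1) hb
  exact ⟨a, a1, a⁻¹ * g * b⁻¹, mul_mem (mul_mem (inv_mem (mem_sup_left a1)) h) (inv_mem (mem_sup_left b1)), by simpa [e, mul_assoc] using hm,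
    b, b1, by group⟩

theorem eq_of_H {u m u' : E} (hu : u ∈ pl π p (S.U {r | R.Pos r})) (hm : π m ∈ S.N) (hu' : u' ∈ pl π p (S.U {r | R.Pos r}))
    (h : π (u * m * u') ∈ S.H) : u * m * u' = m := by
  have h1 : π m ∈ S.H := X.st.B_inf_N X.sep ▸ mem_inf.2 ⟨by
    simpa [mul_assoc] using mul_mem (mul_mem (inv_mem (S.U_le_B (map_pl hu))) (S.H_le_B h)) (inv_mem (S.U_le_B (map_pl hu'))), hm⟩
  have h2 := mul_mem hu (conj_pl (fun _ => X.st.H_conj_mem_U h1) hu')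
  refine mul_inv_eq_one.1 (C.inj (pg X (Or.inl le_rfl)) (by simpa [mul_assoc] using h2) (mem_bot.1 (X.st.U_inf_H X.opp ▸ mem_inf.2
    ⟨by simpa [mul_assoc] using map_pl h2, by simpa using mul_mem h (inv_mem h1)⟩)))

theorem exists_neg (i : I) : ∃ v ∈ pl π p (S.U {r | ¬ R.Pos r ∧ R.InSub (T.orb i) r}), π v ≠ 1 := by
  obtain ⟨v, h1, h2, h3⟩ := C.grp.neg i
  obtain ⟨v, h4, rfl⟩ := C.lift (Or.inr fun _ h => h.1) ⟨h2, h1⟩
  exact ⟨v, h4, h3⟩

theorem exists_gn (i : I) : ∃ a, Gn S T π p i a := by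
  obtain ⟨v, h1, h2⟩ := C.exists_neg i
  obtain ⟨a, ha, m, hm, h3, b, hb, rfl⟩ := C.bruhat (mem_sup_right h1)
  refine ⟨m, (C.mem_or hm h3).resolve_left fun h => h2 (mem_bot.1 (X.opp ▸ mem_inf.2 ⟨?_, S.U_mono (fun _ h => h.1) (map_pl h1)⟩))⟩
  simpa using mul_mem (mul_mem (S.U_le_B (S.U_mono (fun _ h => h.1) (map_pl ha))) (S.H_le_B h)) (S.U_le_B (S.U_mono (fun _ h => h.1) (map_pl hb)))

theorem mem_iSup (g : E) : g ∈ ⨆ i, Lh S T π p i := by
  have h1 : X.Grp ((⨆ i, Lh S T π p i).map π) := ⟨C.range ▸ map_le_range _ _, fun i a ha =>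
    let ⟨g, h, e⟩ := C.lift (Or.inl fun _ h => h.1) ha; ⟨g, mem_iSup_of_mem i (mem_sup_left h), e⟩, fun i =>
    let ⟨v, h, e⟩ := C.exists_neg i; ⟨_, ⟨v, mem_iSup_of_mem i (mem_sup_right h), rfl⟩, map_pl h, e⟩⟩
  have h2 : ∀ g, ∃ l ∈ ⨆ i, Lh S T π p i, ∃ z, π z = 1 ∧ g = z * l := fun g =>
    let ⟨l, h, e⟩ := (C.gen.trans (sup_le h1.pos_le h1.neg_le)) (C.fix g); ⟨l, h, g * l⁻¹, by simp [e], by simp⟩
  obtain ⟨l, h, z, hz, rfl⟩ := h2 g
  refine mul_mem (commutator_le.2 (fun a _ b _ => ?_) (C.stem hz)) h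
  obtain ⟨l, h, z, hz, rfl⟩ := h2 a
  obtain ⟨l', h', z', hz', rfl⟩ := h2 b
  rw [C.comm_left hz, ← commutatorElement_inv, C.comm_left hz']
  exact inv_mem (mul_mem (mul_mem (mul_mem h' h) (inv_mem h')) (inv_mem h))

theorem comap_H_le : S.H.comap π ≤ Th S T π p := fun g hg => by
  have key : ∀ {k w m l j}, Wd S T π p k w m → R.Pos (w (R.simple j)) → l ∈ Lh S T π p j → ∃ u ∈ pl π p (S.U {r | R.Pos r}), ∃ k w n,
      Wd S T π p k w n ∧ ∃ u' ∈ pl π p (S.U {r | R.Pos r}), m * l = u * n * u' := fun {k w m l j} h e hl => by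
    obtain ⟨a, ha, n, hn, h1, b, hb, rfl⟩ := C.bruhat hl
    obtain ⟨h2, -, h3⟩ := h.act X
    have h4 := conj_pl (A' := S.U {r | R.Pos r}) (fun _ => h3.conj_mem fun r hr => pos_of_inSub (T.W1_le_W _ h2)
      (fun l hl => (Tw.pos_orb h2 hl).2 e) hr.1 hr.2) ha
    have h5 := pl_mono (S.U_mono fun _ h => h.1) hb
    rcases C.mem_or hn h1 with h6 | h6
    exacts [⟨_, h4, _, _, _, h.mul_right (mem_iSup_of_mem j ⟨hn, h6⟩), b, h5, by group⟩, ⟨_, h4, _, _, _, h.snoc X h6, b, h5, by group⟩]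
  obtain ⟨u, hu, k, w, m, h, u', hu', rfl⟩ := mem_of_stable (Y := {g | ∃ u ∈ pl π p (S.U {r | R.Pos r}), ∃ k w m, Wd S T π p k w m ∧
      ∃ u' ∈ pl π p (S.U {r | R.Pos r}), g = u * m * u'}) (fun j l hl _ ⟨u, hu, k, w, m, h, u', hu', e⟩ => by
    obtain ⟨a, ha, b, hb, e'⟩ := X.split_pos (T.stable_orb j) ⟨map_pl hu', C.fix _⟩
    obtain ⟨b, b1, rfl⟩ := C.lift (Or.inl fun _ h => h.1) hb
    have h1 := mul_mem (mem_sup_left b1) hl
    have h2 := conj_pl (g := (b * l)⁻¹) (A' := S.U {r | R.Pos r}) (fun _ ha => S.U_mono (fun _ h => h.1) ((mem_normalizer_iff.1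
      (X.st.P_le_normalizer _ (X.levi_le_P _ (map_Lh (inv_mem h1)))) _).1 ha))
      (C.mem_of (pg X (Or.inl le_rfl)) (mul_mem hu' (inv_mem (pl_mono (S.U_mono fun _ h => h.1) b1))) (by simpa [e'] using ha))
    obtain ⟨v, hv, k', w', n, h3, v', hv', e1⟩ : ∃ u ∈ pl π p (S.U {r | R.Pos r}), ∃ k w n,
        Wd S T π p k w n ∧ ∃ u' ∈ pl π p (S.U {r | R.Pos r}), m * (b * l) = u * n * u' := by
      by_cases e : R.Pos (w (R.simple j))
      · exact key h e h1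
      · obtain ⟨n, hn⟩ := C.exists_gn j
        simpa [mul_assoc] using key (h.snoc X hn) ((Tw.pos_mul_lng_iff (h.act X).1 j).2 e) (mul_mem (inv_mem hn.1) h1)
    exact ⟨_, mul_mem hu hv, k', w', n, h3, _, mul_mem hv' h2, by
      rw [e, ← mul_assoc _ v', mul_assoc u v, mul_assoc u (v * n), ← e1]; group⟩)
    ⟨1, one_mem _, 0, 1, 1, .nil (one_mem _), 1, one_mem _, by simp⟩ (C.mem_iSup g)
  have e := C.eq_of_H hu (h.act X).2.1 hu' hg
  rw [e] at hg ⊢
  exact C.mem_Th ((h.act X).2.2.unique X.sep (X.st.act_H hg) ▸ h)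

theorem card_dvd {s : Finset I} (hs : ∀ i, ∃ j ∈ s, i ∈ T.orb j) {n : I → ℕ} (hn : ∀ j ∈ s, Nat.card (Lh S T π p j ⊓ S.H.comap π : Subgroup E) ∣ n j) :
    Nat.card π.ker * Nat.card (S.H ⊓ X.Fix : Subgroup G) ∣ ∏ j ∈ s, n j := by
  have h1 := card_iSup_dvd s (fun j => (Lh S T π p j).subgroupOf (S.H.comap π)) fun j => ⟨fun a ha g => H_conj_Lh X g.2 ha⟩
  have h2 : ⨆ j ∈ s, (Lh S T π p j).subgroupOf (S.H.comap π) = ⊤ := map_injective (subtype_injective _) (by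
    simp only [Subgroup.map_iSup, subgroupOf_map_subtype, ← MonoidHom.range_eq_map, range_subtype]
    refine le_antisymm (iSup₂_le fun _ _ => inf_le_right) (C.comap_H_le.trans (iSup_le fun i => ?_))
    obtain ⟨j, h, e⟩ := hs i
    exact le_iSup₂_of_le j h (by rw [Lh, Lh, T.orb_eq e]))
  rw [h2, card_top, ← card_inf_ker_mul π, inf_eq_left.2 (ker_le_comap _ _), map_comap_eq, C.range, inf_comm] at h1
  refine h1.trans (Finset.prod_dvd_prod_of_dvd _ _ fun j hj => dvd_trans (dvd_of_eq ?_) (hn j hj))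
  rw [← inf_subgroupOf_right]
  exact Nat.card_congr (subgroupOfEquivOfLe inf_le_right).toEquiv

end Cov

end TwSys

end Cfsg.Lib.Twist
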