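/-
Schur multipliers of twisted groups: the rank one tori.
-/
import Cfsg.Agent.Lib.Twist.MuB
import Cfsg.Agent.Lib.Chev.A1
import Cfsg.Agent.Lib.BN.SzMult

set_option autoImplicit false

namespace Cfsg.Lib.Twist

open Subgroup Cfsg.Lib.Chev PreSys RootSys
open scoped commutatorElement

variable {E G : Type*} [Group E] [Group G] {π : E →* G} {p : ℕ} [Finite E] [Fact p.Prime]

theorem PExt.conj_eq (hπ : PExt π p) {A A' : Subgroup G} (hA : IsPGroup p A) (hA' : IsPGroup p A') {g u v : E} (hu : u ∈ pl π p A)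
    (hv : v ∈ pl π p A') (e : π (g * u * g⁻¹) = π v) : g * u * g⁻¹ = v :=
  let ⟨_, k, h⟩ := (hπ.mem_pl hA).1 hu; hπ.eq_of hA' (subset_closure ⟨e ▸ map_pl hv, k, by simp [h]⟩) hv e

omit [Fact p.Prime] in
theorem PExt.exists_section (hπ : PExt π p) {Γ : Type*} [Group Γ] [Finite Γ] (hΓ : commutator Γ = ⊤)
    (hc : ∀ r, [Fact r.Prime] → r ≠ p → ∀ P : Subgroup Γ, IsPGroup r P → IsCyclic P) (θ : Γ →* G) (hθ : ∀ g, θ g ∈ π.range) :
    ∃ τ : Γ →* E, ∀ g, π (τ g) = θ g := by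
  let Y := (π.comp (MonoidHom.fst E Γ)).eqLocus (θ.comp (MonoidHom.snd E Γ))
  have a1 : ∀ c : Y, c.1.2 = 1 → π c.1.1 = 1 := fun c hc => (show π c.1.1 = θ c.1.2 from c.2).trans (by rw [hc, map_one])
  have h := BN.stem_commutator (π := (MonoidHom.snd E Γ).comp Y.subtype) ⟨fun g => let ⟨a, e⟩ := hθ g; ⟨⟨(a, g), e⟩, rfl⟩,
    fun c hc g => Subtype.ext (Prod.ext (hπ.cen _ (a1 c hc) _) (by simp [show c.1.2 = 1 from hc]))⟩ hΓ
  set σ := ((MonoidHom.snd E Γ).comp Y.subtype).comp (commutator Y).subtype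
  have h1 : σ.ker = ⊥ := by
    by_contra hne
    obtain ⟨r, h1, h2⟩ := Nat.exists_prime_and_dvd (mt card_eq_one.1 hne)
    obtain ⟨z, hz, h3, h4⟩ := exists_prime_mem h1 h2
    have := Fact.mk h1
    by_cases e : r = p
    · exact h3 (Subtype.ext (Subtype.ext (Prod.ext (hπ.cop _ (a1 z.1 hz) 1 (by
        rw [pow_one, ← e, ← h4]; exact congrArg (fun x : commutator Y => x.1.1.1) (pow_orderOf_eq_one z))) hz)))
    obtain ⟨P⟩ := (inferInstance : Nonempty (Sylow r Γ))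
    have hσ := CExt.of_ker_le h.1 h.2.1
    refine P.not_dvd_index (index_comap_of_surjective (P : Subgroup Γ) h.1 ▸ h4.symm.dvd.trans (orderOf_dvd_of_pow_eq_one (comm_comap_of_cm
      (fun x hx y hy => ?_) _ (Mult.pow_index_mem_commutator (h.2.1 hz) (h.2.2 hz)) (pow_mem hz _))))
    obtain ⟨g, hg⟩ := (hc r e P P.2).exists_generator
    obtain ⟨i, rfl⟩ : x ∈ zpowers (g : Γ) := let ⟨i, e⟩ := hg ⟨x, hx⟩; ⟨i, congrArg Subtype.val e⟩
    obtain ⟨j, rfl⟩ : y ∈ zpowers (g : Γ) := let ⟨i, e⟩ := hg ⟨y, hy⟩; ⟨i, congrArg Subtype.val e⟩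
    exact (hσ.cmSub _).zpow_mem (Cm.symm ((hσ.cmSub _).zpow_mem (hσ.cm_self _) i)) j
  let e := MulEquiv.ofBijective σ ⟨(MonoidHom.ker_eq_bot_iff _).1 h1, h.1⟩
  exact ⟨(((MonoidHom.fst E Γ).comp Y.subtype).comp (commutator Y).subtype).comp e.symm.toMonoidHom, fun g =>
    (e.symm g).1.2.trans (congrArg θ (e.apply_symm_apply g))⟩

namespace TwSys.Cov

variable {I Φ : Type*} [Fintype I] [DecidableEq I] {R : RootSys I Φ} {K : Type*} [Field K] {S : PreSys R K G} {T : Tw R} {X : TwSys S T}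
  [Finite Φ] [Finite K] [CharP K p] (C : X.Cov π p) {i : I}
include C

theorem Lh_le {Y : Subgroup E} (h : pl π p (S.U {r | R.Pos r ∧ R.InSub (T.orb i) r}) ≤ Y) {v : E} (hv : v ∈ Y)
    (h1 : v ∈ pl π p (S.U {r | ¬ R.Pos r ∧ R.InSub (T.orb i) r})) (h2 : π v ≠ 1) : Lh S T π p i ≤ Y := by
  obtain ⟨a, ha, m, hm, h3, b, hb, rfl⟩ := C.bruhat (mem_sup_right h1)
  have h4 := ((C.mem_or hm h3).resolve_left fun h => h2 (mem_bot.1 (X.opp ▸ mem_inf.2 ⟨by
    simpa using mul_mem (mul_mem (S.U_le_B (S.U_mono (fun _ h => h.1) (map_pl ha))) (S.H_le_B h))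
      (S.U_le_B (S.U_mono (fun _ h => h.1) (map_pl hb))), S.U_mono (fun _ h => h.1) (map_pl h1)⟩))).2.2
  have h5 := (mul_mem_cancel_left (h ha)).1 ((mul_mem_cancel_right (h hb)).1 hv)
  refine sup_le h fun u hu => (mul_mem_cancel_left h5).1 ((mul_mem_cancel_right (inv_mem h5)).1 (h (conj_pl (fun _ => h4.conj_mem fun r hr => ?_) hu)))
  exact ⟨(pos_lng_iff hr.2).2 hr.1, (WJ_inSub (lng_mem _)).2 hr.2⟩

theorem card_orth {l : List I} (h : X.Orth l) (hJ : ∀ j, j ∈ T.orb i ↔ j ∈ l) {F : Type*} [Field F] [Finite F] (ψ : I → F →+* K)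
    (h1 : ∀ t, ∀ j ∈ l, ψ (T.π j) t = X.φ (R.simple j) (ψ j t))
    (h2 : ∀ c : I → K, (∀ j ∈ l, c (T.π j) = X.φ (R.simple j) (c j)) → ∃ t, ∀ j ∈ l, c j = ψ j t) :
    Nat.card (Lh S T π p i ⊓ S.H.comap π : Subgroup E) ∣ Nat.card F - 1 := by
  let a : Bool → I → Φ := fun b => if b then R.simple else fun i => R.neg (R.simple i)
  let P : Bool → Set Φ := fun b => if b then {r | R.Pos r ∧ R.InSub (T.orb i) r} else {r | ¬ R.Pos r ∧ R.InSub (T.orb i) r}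
  have ha : ∀ b, a b = R.simple ∨ a b = fun i => R.neg (R.simple i) := by simp [a]
  have hP : ∀ b, P b ⊆ {r | R.Pos r} ∨ P b ⊆ {r | ¬ R.Pos r} := Bool.rec (Or.inr fun _ h => h.1) (Or.inl fun _ h => h.1)
  choose x x1 x2 using fun b t => C.lift (hP b) (a := zl S (a b) l fun j => ψ j t) ⟨by
    cases b
    exacts [h.neg_mem hJ, ((h.mem_iff hJ).2 ⟨_, h1 t, rfl⟩).1], h.zl_fix (ha b) (h1 t)⟩
  let S1 := rankOne x fun b t u => C.eq_of (pg X (hP b)) (x1 b _) (mul_mem (x1 b _) (x1 b _)) (by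
    simp only [map_mul, x2, zl, map_add, S.x_add]; exact prod_map_mul_of_comm _ _ (h.pairwise (ha b) (ha b) _ _))
  have a1 : ∀ i, R.simple i ∈ ({R.simple i, R.neg (R.simple i)} : Set Φ) := by simp
  have a2 : ∀ i, R.neg (R.simple i) ∈ ({R.simple i, R.neg (R.simple i)} : Set Φ) := by simp
  have x3 : ∀ t, π (S1.x true t) = (l.map fun j => S.x (R.simple j) (ψ j t)).prod := x2 true
  have x4 : ∀ t, π (S1.x false t) = (l.map fun j => S.x (R.neg (R.simple j)) (ψ j t)).prod := x2 false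
  have n1 : ∀ t, π (S1.n true t) = (l.map fun j => S.n (R.simple j) (ψ j t)).prod := fun t => by
    simp only [n]
    rw [prod_map_mul_of_comm _ _ (h.pairwise' (fun i => S.x_mem_U (a1 i) _) fun i => mul_mem (S.x_mem_U (a1 i) _) (S.x_mem_U (a2 i) _)),
      prod_map_mul_of_comm _ _ (h.pairwise' (fun i => S.x_mem_U (a2 i) _) fun i => S.x_mem_U (a1 i) _), map_mul, map_mul]
    exact congrArg₂ _ (congrArg₂ _ (x2 true t) ((x2 false _).trans (by simp [zl, a]))) (x2 true t)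
  have hS : S1.St := st_A1 fun t u ht => C.conj_eq (pg X (hP true)) (pg X (hP false)) (x1 true u) (x1 false _) (by
    rw [map_mul, map_mul, map_inv, mul_inv_eq_iff_eq_mul, n1, x3, x4,
      ← prod_map_mul_of_comm _ _ (h.pairwise' (fun i => S.x_mem_U (a1 i) _) fun i => S.n_mem_U (a1 i) (a2 i) _),
      ← prod_map_mul_of_comm _ _ (h.pairwise' (fun i => S.n_mem_U (a1 i) (a2 i) _) fun i => S.x_mem_U (a2 i) _)]
    refine congrArg _ (List.map_congr_left fun j _ => ?_)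
    simpa [mul_inv_eq_iff_eq_mul] using X.st.n_conj_self (R.simple j) ((map_ne_zero (ψ j)).2 ht) (ψ j u))
  have ne : ∀ t, t ≠ 0 → π (x false t) ≠ 1 := fun t ht e => ht ((map_eq_zero (ψ i)).1 (zl_inj X.sep nil_neg (R.neg_inj.comp R.simple_inj) h.nodup
    (fun j _ => R.not_pos_neg_simple j) (c' := 0) ((x2 false t).symm.trans (e.trans (by simp [zl, S.x_zero]))) i ((hJ i).1 (T.mem_orb i))))
  have b1 : S1.N ≤ S.N.comap π := S1.N_le_iff.2 fun r t ht => by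
    have : ∀ t, t ≠ 0 → π (S1.n true t) ∈ S.N := fun t ht => n1 t ▸ S.N.list_prod_mem fun g hg => by
      obtain ⟨j, -, rfl⟩ := List.mem_map.1 hg; exact S.n_mem_N _ ((map_ne_zero _).2 ht)
    cases r
    exacts [(hS.n_neg_root true ht).symm ▸ this _ (by simpa using ht), this t ht]
  have b2 : S1.U {r | rA1.Pos r} ≤ pl π p (S.U {r | R.Pos r}) := S1.U_le_iff.2 fun r hr t => by
    cases r
    exacts [absurd (hr ()) (by decide), pl_mono (S.U_mono fun _ h => h.1) (x1 true t)]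
  refine (card_dvd_of_le (fun g hg => ?_ : _ ≤ S1.H)).trans ?_
  · obtain ⟨w, -, b, hb, m, hm, -, b', hb', rfl⟩ := hS.exists_cell (C.Lh_le (Y := S1.U Set.univ) (fun u hu => by
      obtain ⟨c, c1, c2⟩ := (h.mem_iff hJ).1 ⟨map_pl hu, C.fix u⟩
      obtain ⟨t, ht⟩ := h2 c c1
      rw [C.eq_of (pg X (hP true)) hu (x1 true t) (c2.symm.trans ((congrArg _ (List.map_congr_left fun j hj => by rw [ht j hj]; rfl)).trans
        (x2 true t).symm))]
      exact S1.x_mem_U (Set.mem_univ true) t) (S1.x_mem_U (Set.mem_univ false) 1) (x1 false 1) (ne 1 one_ne_zero) hg.1)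
    obtain ⟨u, hu, c, hc, rfl⟩ := hS.mem_U_sup_H.1 hb
    obtain ⟨c', hc', u', hu', rfl⟩ := hS.mem_U_sup_H'.1 hb'
    have c1 := mul_mem (mul_mem (S1.H_le_N hc) hm) (S1.H_le_N hc')
    have c2 := hg.2
    rw [show u * c * m * (c' * u') = u * (c * m * c') * u' by group] at c2 ⊢
    have c4 := C.eq_of_H (b2 hu) (b1 c1) (b2 hu') c2
    rw [c4] at c2 ⊢
    obtain ⟨k, c3⟩ := hS.exists_word c1
    obtain ⟨χ, d1, -, d2⟩ := hS.act_of_mem_H (rA1.wprod_mem_W k) (hS.act_nw k) c3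
    refine (mul_mem_cancel_right (inv_mem (hS.nw_mem_H (rA1.eq_one_of_forall_pos_W (rA1.wprod_mem_W k) fun j => ?_)))).1 c3
    have := d2 true 1
    change rA1.Pos (rA1.wprod k true)
    revert this
    cases rA1.wprod k true
    · exact fun e => (ne _ (mul_ne_zero (d1 true) one_ne_zero) (mem_bot.1 (X.opp ▸ mem_inf.2 ⟨S.U_le_B (by
        refine (congrArg π e) ▸ ?_
        rw [map_mul, map_mul _ _ (S1.x _ _), map_inv]
        exact X.st.H_conj_mem_U c2 (S.U_mono (fun _ h => h.1) (map_pl (x1 true 1)))), S.U_mono (fun _ h => h.1) (map_pl (x1 false _))⟩))).elim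
    · exact fun _ => rA1.pos_simple ()
  · rw [← hS.range_torus hS.mult_of_finite (l := [()]) (by simp) (by simp)]
    exact (card_range_dvd _).trans (by simp [Nat.card_fun, Nat.card_units])

theorem card_hom {Γ : Type*} [Group Γ] [Finite Γ] (hΓ : commutator Γ = ⊤)
    (hc : ∀ r, [Fact r.Prime] → r ≠ p → ∀ P : Subgroup Γ, IsPGroup r P → IsCyclic P) (θ : Γ →* G) (hθ : ∀ g, θ g ∈ X.Fix)
    (h1 : ∀ a ∈ S.U {r | R.Pos r ∧ R.InSub (T.orb i) r} ⊓ X.Fix, ∃ g k, g ^ p ^ k = 1 ∧ θ g = a) {v : Γ} {k : ℕ} (h2 : v ^ p ^ k = 1)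
    (h3 : θ v ∈ S.U {r | ¬ R.Pos r ∧ R.InSub (T.orb i) r}) (h4 : θ v ≠ 1) :
    Nat.card (Lh S T π p i ⊓ S.H.comap π : Subgroup E) ∣ Nat.card (S.H.comap θ) := by
  obtain ⟨τ, e⟩ := C.exists_section hΓ hc θ (C.range ▸ hθ)
  refine (card_dvd_of_le (fun g hg => ?_)).trans (card_map_dvd _ τ)
  obtain ⟨g, rfl⟩ := C.Lh_le (Y := τ.range) (fun u hu => by
    obtain ⟨g, k, a, b⟩ := h1 _ ⟨map_pl hu, C.fix u⟩
    exact ⟨g, C.eq_of (pg X (Or.inl fun _ h => h.1)) (subset_closure ⟨by rw [e, b]; exact map_pl hu, k, by rw [← map_pow, a, map_one]⟩) hu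
      ((e g).trans b)⟩) ⟨v, rfl⟩ (subset_closure ⟨e v ▸ h3, k, by rw [← map_pow, h2, map_one]⟩) (e v ▸ h4) hg.1
  exact ⟨g, mem_comap.2 (e g ▸ hg.2), rfl⟩

end TwSys.Cov

end Cfsg.Lib.Twist
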