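/-
Schur multipliers of twisted groups: filtrations from root data.
-/
import Cfsg.Agent.Lib.Twist.MuC
import Cfsg.Agent.Lib.Twist.FixAut
import Cfsg.Agent.Lib.Chev.CentD

set_option autoImplicit false

namespace Cfsg.Lib.Twist

open Subgroup Cfsg.Lib.Chev PreSys RootSys Cfsg.Lie
open scoped commutatorElement

theorem exists_two {K : Type*} [Field K] [Finite K] (h : 7 < Nat.card K) : ∃ v : K, v ≠ 0 ∧ 1 - v ≠ 0 ∧ v⁻¹ + (1 - v)⁻¹ ≠ 1 := by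
  obtain ⟨v, hv⟩ := exists_pow_ne_one_of_isCyclic (G := Kˣ) (k := 6) (by simp) (by rw [Nat.card_units]; omega)
  have h1 : 1 - (v : K) ≠ 0 := fun e => hv (by rw [Units.val_eq_one.1 (sub_eq_zero.1 e).symm, one_pow])
  refine ⟨v, v.ne_zero, h1, fun e => hv (Units.val_eq_one.1 ?_)⟩
  have := v.ne_zero
  field_simp at e
  rw [Units.val_pow_eq_pow_val]
  linear_combination ((v : K) + 1) * (v ^ 3 - 1) * e

variable {E G : Type*} [Group E] [Group G] {I Φ : Type*} [Fintype I] [DecidableEq I] {R : RootSys I Φ} {K : Type*} [Field K]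
  {S : PreSys R K G} {T : Tw R}

variable (T) in
/-- `A \ A'` is the orbit of `r`. -/
structure Lay (A A' : Set Φ) (r : Φ) : Prop where
  le : A' ⊆ A
  mem : r ∈ A \ A'
  ext : ∀ s ∈ A \ A', R.Ext A A s
  inv : ∀ s ∈ A, T.ρ s ∈ A
  inv' : ∀ s ∈ A \ A', T.ρ s ∉ A'
  orb : ∀ s ∈ A \ A', s = r ∨ s = T.ρ r ∨ s = T.ρ (T.ρ r)

variable (R) in
/-- The positive roots of level at least `k`. -/
def lv (ℓ : Φ → ℕ) (k : ℕ) : Set Φ := {r | R.Pos r ∧ k ≤ ℓ r}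

variable (S T) in
/-- A level function on the positive roots. -/
structure Lev (ℓ : Φ → ℕ) (rep : ℕ → Φ) (n : ℕ) : Prop where
  lt : ∀ r, R.Pos r → ℓ r < n
  pos : ∀ k < n, R.Pos (rep k) ∧ ℓ (rep k) = k
  inv : ∀ r, R.Pos r → ℓ (T.ρ r) = ℓ r
  orb : ∀ r, R.Pos r → r = rep (ℓ r) ∨ r = T.ρ (rep (ℓ r)) ∨ r = T.ρ (T.ρ (rep (ℓ r)))
  cone : ∀ s t k, R.Pos s → R.Pos t → k ∈ R.cone s t → ℓ s < ℓ k ∨ ℓ t < ℓ k
  cm : ∀ k, S.Cm (lv R ℓ k) (lv R ℓ (k + 1))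

theorem lv_zero (ℓ : Φ → ℕ) : lv R ℓ 0 = {r | R.Pos r} := by simp [lv]

theorem Lev.lay {ℓ : Φ → ℕ} {rep : ℕ → Φ} {n : ℕ} (L : Lev S T ℓ rep n) {k : ℕ} (hk : k < n) : Lay T (lv R ℓ k) (lv R ℓ (k + 1)) (rep k) := by
  have h1 : ∀ s ∈ lv R ℓ k \ lv R ℓ (k + 1), ℓ s = k := fun s hs => le_antisymm (not_lt.1 fun h => hs.2 ⟨hs.1.1, h⟩) hs.1.2
  have h2 : ∀ s ∈ lv R ℓ k, ∀ t ∈ lv R ℓ k, R.cone s t ⊆ lv R ℓ (k + 1) := fun s hs t ht a ha =>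
    ⟨pos_of_mem_cone ha hs.1 ht.1, (L.cone s t a hs.1 ht.1 ha).elim hs.2.trans_lt ht.2.trans_lt⟩
  have h3 : lv R ℓ (k + 1) ⊆ lv R ℓ k := fun _ h => ⟨h.1, Nat.le_of_succ_le h.2⟩
  exact ⟨h3, ⟨⟨(L.pos k hk).1, (L.pos k hk).2.ge⟩, fun h => by simpa [(L.pos k hk).2] using h.2⟩, fun s hs =>
    ⟨⟨_, nil_pos.mono (fun _ h => h.1) fun s hs t ht => (h2 s hs t ht).trans h3⟩, le_rfl, hs.1, fun a ha b hb =>
      ⟨nil_pos.ne_neg hb.1 ha.1, fun c hc => ⟨h3 (h2 a ha b hb hc), fun e => hs.2 (e ▸ h2 a ha b hb hc)⟩⟩⟩,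
    fun s hs => ⟨(T.pos_ρ s).2 hs.1, L.inv s hs.1 ▸ hs.2⟩, fun s hs h => hs.2 ⟨hs.1.1, L.inv s hs.1.1 ▸ h.2⟩,
    fun s hs => h1 s hs ▸ L.orb s hs.1.1⟩

namespace TwSys

variable (X : TwSys S T)

/-- Characters of fixed elements of the torus. -/
def Tor (χ : Φ → K) : Prop := ∃ g ∈ S.H ⊓ X.Fix, ∀ s t, g * S.x s t * g⁻¹ = S.x s (χ s * t)

/-- A central extension of the group of fixed points. -/
structure Cen (π : E →* G) : Prop where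
  cen : ∀ z, π z = 1 → ∀ g, z * g = g * z
  range : π.range = X.Fix

variable {X}

theorem Tor.mul {χ ψ : Φ → K} (h : X.Tor χ) (h' : X.Tor ψ) : X.Tor fun s => χ s * ψ s :=
  let ⟨g, a, b⟩ := h; let ⟨g', a', b'⟩ := h'
  ⟨g * g', mul_mem a a', fun s t => by rw [mul_assoc (χ s), ← b, ← b']; group⟩

variable (X)

theorem tor₂ {c : Φ} (h : T.ρ (T.ρ c) = c) {a : K} (ha : a ≠ 0) (e : X.φ (T.ρ c) (X.φ c a) = a) :
    X.Tor fun s => a ^ R.pair c s * X.φ c a ^ R.pair (T.ρ c) s := by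
  have h1 := (map_ne_zero (X.φ c)).2 ha
  refine ⟨S.h c a * S.h (T.ρ c) (X.φ c a), ⟨mul_mem (S.h_mem_H _ ha) (S.h_mem_H _ h1), X.mem_Fix.2 ?_⟩, fun s t => ?_⟩
  · rw [map_mul, X.σ_h _ ha, X.σ_h _ h1, h, e, X.st.h_comm X.mult _ _ ha h1]
  · rw [mul_assoc (a ^ _), ← X.st.h_conj _ ha, ← X.st.h_conj _ h1]; group

theorem tor₃ {c : Φ} (h : T.ρ (T.ρ (T.ρ c)) = c) {f : K →+* K} (hf : ∀ r, X.φ r = f) {a : K} (ha : a ≠ 0) (e : f (f (f a)) = a) :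
    X.Tor fun s => a ^ R.pair c s * (f a ^ R.pair (T.ρ c) s * f (f a) ^ R.pair (T.ρ (T.ρ c)) s) := by
  have h1 := (map_ne_zero f).2 ha
  have h2 := (map_ne_zero f).2 h1
  refine ⟨S.h c a * (S.h (T.ρ c) (f a) * S.h (T.ρ (T.ρ c)) (f (f a))), ⟨mul_mem (S.h_mem_H _ ha) (mul_mem (S.h_mem_H _ h1) (S.h_mem_H _ h2)),
    X.mem_Fix.2 ?_⟩, fun s t => ?_⟩
  · rw [map_mul, map_mul, X.σ_h _ ha, X.σ_h _ h1, X.σ_h _ h2, h, hf, hf, hf, e, ← mul_assoc,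
      X.st.H_comm X.mult (mul_mem (S.h_mem_H _ h1) (S.h_mem_H _ h2)) (S.h_mem_H _ ha)]
  · rw [mul_assoc (a ^ _), mul_assoc (f a ^ _), ← X.st.h_conj _ ha, ← X.st.h_conj _ h1, ← X.st.h_conj _ h2]; group

theorem comm_long {τ : Φ → Φ → List (Φ × ℤ × ℕ × ℕ)} (hE : S.Exact τ) {a b s : Φ} {C : ℤ} (h1 : b ≠ a) (h2 : b ≠ R.neg a)
    (hτ : τ a b = [(s, C, 1, 1)]) (hC : C * C = 1) (ha : T.ρ a = a) (ha' : X.ε a = 1) (hb : T.ρ b = b) (hb' : X.ε b = 1) {t : K}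
    (ht : X.φ a t = t) : S.x b (-1) ∈ X.Fix ∧ S.x a (C * t) ∈ X.Fix ∧ ⁅S.x b (-1), S.x a (C * t)⁆ = S.x s t := by
  refine ⟨X.x_fix hb hb' (by simp), X.x_fix ha ha' (by simp [ht]), ?_⟩
  have := hE.prod_eq h1 h2 (-(C * t)) 1
  rw [hτ, _root_.neg_neg] at this
  simpa [← mul_assoc, ← Int.cast_mul, hC] using this.symm

variable [Finite Φ] {A A' B B' : Set Φ} {r s : Φ}

theorem co_σ (L : Lay T A A' r) (hs : s ∈ A \ A') {g : G} (hg : g ∈ S.U A ⊓ X.Fix) : S.co A (T.ρ s) g = X.ε s * X.φ s (S.co A s g) := by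
  conv_lhs => rw [← X.mem_Fix.1 hg.2]
  exact co_map (L.ext s hs) X.sep (L.ext _ ⟨L.inv s hs.1, L.inv' s hs⟩) X.σ (φ := fun t => X.ε s * X.φ s t) (X.σ_x s)
    (fun k hk t => X.σ_x k t ▸ S.x_mem_U (by exact ⟨L.inv k hk.1, fun e => hk.2 (T.ρ.injective e)⟩) _) hg.1

theorem mem_of_co_eq (L : Lay T A A' r) {g : G} (hg : g ∈ S.U A ⊓ X.Fix) (h : S.co A r g = 0) : g ∈ S.U A' := by
  have h1 : T.ρ r ∈ A \ A' := ⟨L.inv r L.mem.1, L.inv' r L.mem⟩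
  have h2 := X.co_σ L L.mem hg
  have h3 := X.co_σ L h1 hg
  rw [h, map_zero, mul_zero] at h2
  rw [h2, map_zero, mul_zero] at h3
  obtain ⟨f, hf⟩ := (L.ext r L.mem).nil
  obtain ⟨c, -, rfl⟩ := S.exists_prod hf (Set.toFinite A).toFinset.nodup_toList (by simp) hg.1
  refine S.prod_mem fun k hk e => ?_
  have h4 : k ∈ A \ A' := ⟨by simpa using hk, e⟩
  rw [← co_prod (L.ext k h4) X.sep (Set.toFinite A).toFinset.nodup_toList (by simp) hk c]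
  rcases L.orb k h4 with rfl | rfl | rfl <;> assumption

theorem pure₂ (L : Lay T A A' r) (h1 : T.ρ (T.ρ r) = r) (h2 : T.ρ r ≠ r) (h3 : ∀ s, X.ε s = 1) (h4 : ∀ t, X.φ (T.ρ r) (X.φ r t) = t)
    (h5 : ∀ t u, Commute (S.x r t) (S.x (T.ρ r) u)) (t : K) :
    S.x r t * S.x (T.ρ r) (X.φ r t) ∈ X.Fix ∧ S.co A r (S.x r t * S.x (T.ρ r) (X.φ r t)) = t :=
  ⟨X.mem_Fix.2 (by rw [map_mul, X.σ_x, X.σ_x, h1, h3, h3, one_mul, one_mul, h4, h5]), by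
    rw [co_mul (L.ext r L.mem) X.sep (S.x_mem_U L.mem.1 _) (S.x_mem_U (L.inv r L.mem.1) _), co_x (L.ext r L.mem) X.sep,
      co_x_ne (L.ext r L.mem) X.sep (L.inv r L.mem.1) h2, add_zero]⟩

variable {X}

namespace Cen
variable {π : E →* G} (C : X.Cen π)
include C

omit [Finite Φ]

theorem fix (g : E) : π g ∈ X.Fix := C.range ▸ ⟨g, rfl⟩

theorem lift {g : G} (h : g ∈ X.Fix) : ∃ a, π a = g := (C.range ▸ h : g ∈ π.range)

theorem cext : CExt π.rangeRestrict := ⟨π.rangeRestrict_surjective, fun c h => C.cen c (congrArg Subtype.val h)⟩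

theorem comm_congr {a a' b b' : E} (e : π a = π a') (e' : π b = π b') : ⁅a, b⁆ = ⁅a', b'⁆ := C.cext.comm_congr (Subtype.ext e) (Subtype.ext e')

theorem comm_comm {x a b : E} (h : Commute (π x) (π a)) (h' : Commute (π x) (π b)) : ⁅x, ⁅a, b⁆⁆ = 1 :=
  commutatorElement_eq_one_iff_mul_comm.2 (C.cext.cm_comm (a := π.rangeRestrict x) (b := π.rangeRestrict a) (c := π.rangeRestrict b) (Subtype.ext h)
    (Subtype.ext h') _ _ rfl (map_commutatorElement _ _ _))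

theorem comm_scale {y : K → G} (h1 : ∀ t u, y (t + u) = y t * y u) (h2 : ∀ t, y t ∈ X.Fix) {b : E} (h3 : ∀ t, Commute (y t) (π b)) {k : G}
    (hk : k ∈ X.Fix) {κ : K} (hκ : κ ≠ 1) (h4 : ∀ t, k * y t * k⁻¹ = y (κ * t)) (h5 : k * π b * k⁻¹ = π b) {a : E} {t : K} (e : π a = y t) :
    ⁅a, b⁆ = 1 := commutatorElement_eq_one_iff_mul_comm.2 (C.cext.cm_of_scale (x := fun t => ⟨y t, C.lift (h2 t)⟩) (fun t u => Subtype.ext (h1 t u))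
      (g := π.rangeRestrict b) (k := ⟨k, C.lift hk⟩) (fun t => Subtype.ext (h3 t)) hκ (fun t => Subtype.ext (h4 t)) (Subtype.ext h5) t _ _
      (Subtype.ext e) rfl)

variable [Finite Φ]

theorem lv (L : Lay T A A' r) : Lv (S.H.comap π) ((S.U A).comap π) ((S.U A').comap π) fun g => S.co A r (π g) :=
  ⟨comap_mono (S.U_mono L.le), fun a ha b hb => by rw [map_mul, co_mul (L.ext r L.mem) X.sep ha hb],
    fun a ha => ⟨X.mem_of_co_eq L ⟨ha, C.fix a⟩, fun h => co_of_mem (L.ext r L.mem) X.sep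
      (S.U_mono (fun k hk => by exact ⟨L.le hk, fun e => L.mem.2 (e ▸ hk)⟩) h)⟩,
    fun h hh a ha => by simpa using X.st.H_conj_mem_U hh ha⟩

theorem scl {χ : Φ → K} (h : X.Tor χ) : ∃ g ∈ S.H.comap π, ∀ {A A' r}, Lay T A A' r → Scl ((S.U A).comap π) (fun g => S.co A r (π g)) g (χ r) := by
  obtain ⟨g, h1, h2⟩ := h
  obtain ⟨g, rfl⟩ := C.lift h1.2
  exact ⟨g, h1.1, fun L a ha => by simpa using co_conj_char (L.ext _ L.mem) X.sep h2 ha⟩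

theorem fil {ℓ : Φ → ℕ} {rep : ℕ → Φ} {n : ℕ} (L : Lev S T ℓ rep n) :
    Fil π.ker (S.H.comap π) (fun k => (S.U (Twist.lv R ℓ k)).comap π) (fun k g => S.co (Twist.lv R ℓ k) (rep k) (π g)) n :=
  ⟨C.cen, by rw [show Twist.lv R ℓ n = ∅ from Set.eq_empty_of_forall_notMem fun r h => (L.lt r h.1).not_ge h.2, S.U_empty]; rfl,
    fun k hk => C.lv (L.lay hk), fun k u hu a ha => by
      simpa using (L.cm k).comm_mem (fun _ h => ⟨h.1, Nat.le_of_succ_le h.2⟩) (fun _ h => h.1) (lv_zero (R := R) ℓ ▸ hu) ha,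
    fun a ha b hb => by simpa [commutatorElement_eq_one_iff_mul_comm] using X.st.H_comm X.mult ha hb⟩

variable (La : Lay T A A' r) (Lb : Lay T B B' s) {W : Subgroup E}
include La Lb

theorem pair_sep {χ : Φ → K} (h : X.Tor χ) (e : χ r = 1 ∧ χ s ≠ 1 ∨ χ r ≠ 1 ∧ χ s = 1) :
    PairOK (S.H.comap π) W ((S.U A).comap π) (fun g => S.co A r (π g)) ((S.U B).comap π) fun g => S.co B s (π g) :=
  let ⟨g, a, b⟩ := C.scl h
  Or.inl ⟨g, a, e.elim (fun e => ⟨_, e.2, Or.inl ⟨e.1 ▸ b La, b Lb⟩⟩) fun e => ⟨_, e.1, Or.inr ⟨b La, e.2 ▸ b Lb⟩⟩⟩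

theorem pair_two [Finite K] (hK : 7 < Nat.card K) (h : ∀ v, v ≠ 0 → ∃ χ, X.Tor χ ∧ χ r = v ∧ χ s = v) :
    PairOK (S.H.comap π) W ((S.U A).comap π) (fun g => S.co A r (π g)) ((S.U B).comap π) fun g => S.co B s (π g) := by
  obtain ⟨v, h1, h2, h3⟩ := exists_two hK
  obtain ⟨χ, a1, a2, a3⟩ := h v h1
  obtain ⟨ψ, b1, b2, b3⟩ := h _ h2
  obtain ⟨g, a4, a5⟩ := C.scl a1
  obtain ⟨g', b4, b5⟩ := C.scl b1
  exact Or.inr (Or.inl ⟨g, a4, g', b4, v, 1 - v, v, 1 - v, a2 ▸ a5 La, b2 ▸ b5 La, by simp, a3 ▸ a5 Lb, b3 ▸ b5 Lb, h1, h2, h3⟩)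

theorem pair_long (hr : T.ρ r = r) (hr' : X.ε r = 1) (hs : T.ρ s = s) (hs' : X.ε s = 1) (h : ∀ t u, X.φ r t = t → X.φ s u = u →
    ∃ a b, π a = S.x r t ∧ π b = S.x s u ∧ ⁅a, b⁆ ∈ W) :
    PairOK (S.H.comap π) W ((S.U A).comap π) (fun g => S.co A r (π g)) ((S.U B).comap π) fun g => S.co B s (π g) :=
  Or.inr (Or.inr fun u hu a ha => by
    obtain ⟨u', a', h1, h2, h3⟩ := h _ _ (by simpa [hr, hr'] using (X.co_σ La La.mem ⟨hu, C.fix u⟩).symm)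
      (by simpa [hs, hs'] using (X.co_σ Lb Lb.mem ⟨ha, C.fix a⟩).symm)
    exact ⟨u', mem_comap.2 (h1 ▸ S.x_mem_U La.mem.1 _), a', mem_comap.2 (h2 ▸ S.x_mem_U Lb.mem.1 _),
      by simp only [h1, co_x (La.ext r La.mem) X.sep], by simp only [h2, co_x (Lb.ext s Lb.mem) X.sep], h3⟩)

theorem pair_comm (hr : T.ρ r = r) (hr' : X.ε r = 1) (hs : T.ρ s = s) (hs' : X.ε s = 1) (h : ∀ u, X.φ s u = u →
    ∃ g ∈ X.Fix, ∃ g' ∈ X.Fix, ⁅g, g'⁆ = S.x s u ∧ ∀ t, Commute (S.x r t) g ∧ Commute (S.x r t) g') :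
    PairOK (S.H.comap π) W ((S.U A).comap π) (fun g => S.co A r (π g)) ((S.U B).comap π) fun g => S.co B s (π g) :=
  C.pair_long La Lb hr hr' hs hs' fun t u ht hu => by
    obtain ⟨g, h1, g', h2, h3, h4⟩ := h u hu
    obtain ⟨a, ha⟩ := C.lift (X.x_fix hr hr' ht)
    obtain ⟨g, rfl⟩ := C.lift h1
    obtain ⟨g', rfl⟩ := C.lift h2
    exact ⟨a, ⁅g, g'⁆, ha, (map_commutatorElement _ _ _).trans h3, C.comm_comm (ha ▸ (h4 t).1) (ha ▸ (h4 t).2) ▸ one_mem _⟩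

omit La Lb

theorem cov [Finite E] [Finite G] [Finite K] {p : ℕ} [Fact p.Prime] [CharP K p] (h1 : X.Grp X.Fix)
    (h2 : X.Fix ≤ S.U {r | R.Pos r} ⊓ X.Fix ⊔ S.U {r | ¬ R.Pos r} ⊓ X.Fix) (h3 : π.ker ≤ commutator E) {ℓ : Φ → ℕ}
    (h4 : ∀ z ∈ ⁅(S.U (Twist.lv R ℓ 0)).comap π, (S.U (Twist.lv R ℓ 0)).comap π⁆, z ∈ π.ker → z = 1) : X.Cov π p := by
  refine ⟨⟨C.cen, fun z hz k e => ?_⟩, C.range, h1, h2, h3⟩
  obtain ⟨P, hP⟩ := h1.exists_sylow p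
  have h5 := h4 _ (Mult.pow_index_mem_commutator (mem_center_iff.2 fun g => (C.cen z hz g).symm) (h3 hz)) (pow_mem hz _)
  rw [index_comap, C.range, lv_zero, relIndex, ← hP] at h5
  simpa using pow_gcd_eq_one.2 ⟨e, h5⟩ |>.symm.trans (by
    rw [Nat.Coprime.pow_left k ((Fact.out : p.Prime).coprime_iff_not_dvd.2 P.not_dvd_index), pow_one]) |>.symm

theorem of_pairs [Finite K] {ℓ : Φ → ℕ} {rep : ℕ → Φ} {n : ℕ} (L : Lev S T ℓ rep n) {m : ℕ} (hm : m ≤ n) (h0 : 0 < m) {W : Subgroup E}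
    (hW : Lf π.ker (S.H.comap π) (fun k => (S.U (Twist.lv R ℓ k)).comap π) W m)
    (hp : ∀ k < m, ∀ j ≤ k, PairOK (S.H.comap π) W ((S.U (Twist.lv R ℓ j)).comap π) (fun g => S.co (Twist.lv R ℓ j) (rep j) (π g))
      ((S.U (Twist.lv R ℓ k)).comap π) fun g => S.co (Twist.lv R ℓ k) (rep k) (π g))
    (hs : ∀ k < m, 0 < k → ∃ χ, X.Tor χ ∧ χ (rep k) ≠ 1) :
    ∀ z ∈ ⁅(S.U (Twist.lv R ℓ 0)).comap π, (S.U (Twist.lv R ℓ 0)).comap π⁆, z ∈ π.ker → z = 1 :=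
  (C.fil L).descend hm h0 hW hp fun k hk h => let ⟨_, a, b⟩ := hs k hk h; let ⟨g, c, d⟩ := C.scl a; ⟨g, c, _, b, d (L.lay (by omega))⟩

end Cen

end TwSys

end Cfsg.Lib.Twist
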