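/-
Schur multipliers of twisted groups: tabulated data.
-/
import Cfsg.Agent.Lib.Twist.MuD
import Cfsg.Agent.Lib.Twist.FixMat
import Cfsg.Agent.Lib.Chev.Mult
import Cfsg.Agent.Lib.Chev.InvolD

set_option autoImplicit false

namespace Cfsg.Lib.Twist

open Subgroup Cfsg.Lib.Chev PreSys RootSys Cfsg.Lie
open scoped commutatorElement

universe u

section
variable {E G : Type*} [Group E] [Group G] {I Φ : Type*} [Fintype I] [DecidableEq I] {R : RootSys I Φ} {K : Type*} [Field K]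
  {S : PreSys R K G} {T : Tw R} {X : TwSys S T}

theorem TwSys.cen_of_stem {σ : E →* X.Fix} (h : IsStemExtension σ) : X.Cen (X.Fix.subtype.comp σ) ∧ (X.Fix.subtype.comp σ).ker = σ.ker :=
  ⟨⟨fun z hz g => (mem_center_iff.1 (h.2.1 (Subtype.ext hz)) g).symm, by
    rw [MonoidHom.range_comp, MonoidHom.range_eq_top.2 h.1, ← MonoidHom.range_eq_map, range_subtype]⟩,
    MonoidHom.ker_comp_of_injective _ _ (subtype_injective _)⟩

variable {π : E →* G} {p : ℕ} [Finite E] [Fact p.Prime] [Finite Φ] [Finite K] [CharP K p] (C : X.Cov π p) {i a b c : I}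
include C

theorem TwSys.Cov.card₁ (h : X.Orth [a]) (hJ : ∀ j, j ∈ T.orb i ↔ j ∈ [a]) :
    Nat.card (TwSys.Lh S T π p i ⊓ S.H.comap π : Subgroup E) ∣ Nat.card {t : K // X.φ (R.simple a) t = t} - 1 := by
  have e : T.π a = a := by simpa using (h.stab a).2 (by simp)
  exact C.card_orth (F := (X.φ (R.simple a)).eqLocusField (RingHom.id K)) h hJ (fun _ => Subfield.subtype _) (fun t j hj => by
    obtain rfl := List.mem_singleton.1 hj; exact t.2.symm) fun c hc => ⟨⟨c a, by simpa [e] using (hc a (by simp)).symm⟩, by simp⟩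

theorem TwSys.Cov.card₂ (h : X.Orth [a, b]) (ha : T.π a = b) (hb : T.π b = a) (hJ : ∀ j, j ∈ T.orb i ↔ j ∈ [a, b])
    (hφ : ∀ t, X.φ (R.simple b) (X.φ (R.simple a) t) = t) : Nat.card (TwSys.Lh S T π p i ⊓ S.H.comap π : Subgroup E) ∣ Nat.card K - 1 := by
  have := h.nodup
  simp only [List.nodup_cons, List.mem_singleton, ← ne_eq] at this
  exact C.card_orth h hJ (fun j => if j = a then RingHom.id K else X.φ (R.simple a)) (by simp [*, this.1.symm]) fun c hc =>
    ⟨c a, by simpa [this.1.symm, ha] using hc a (by simp)⟩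

theorem TwSys.Cov.card₃ (h : X.Orth [a, b, c]) (ha : T.π a = b) (hb : T.π b = c) (hc : T.π c = a) (hJ : ∀ j, j ∈ T.orb i ↔ j ∈ [a, b, c])
    (hφ : ∀ t, X.φ (R.simple c) (X.φ (R.simple b) (X.φ (R.simple a) t)) = t) :
    Nat.card (TwSys.Lh S T π p i ⊓ S.H.comap π : Subgroup E) ∣ Nat.card K - 1 := by
  have := h.nodup
  simp only [List.nodup_cons, List.mem_cons, List.not_mem_nil, or_false, not_or, ← ne_eq] at this
  refine C.card_orth h hJ (fun j => if j = a then RingHom.id K else if j = b then X.φ (R.simple a) else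
    (X.φ (R.simple b)).comp (X.φ (R.simple a))) (by simp [*, this.1.1.symm, this.1.2.symm, this.2.1.symm]) fun d hd => ⟨d a, ?_⟩
  have h1 := hd a (by simp)
  have h2 := hd b (by simp)
  rw [ha] at h1
  rw [hb, h1] at h2
  simp [h1, h2, this.1.1.symm, this.1.2.symm, this.2.1.symm]

end

variable {D : ChevalleyDatum} {t : RTab} (h : RootOK D t)

/-- The root with a given number. -/
def RootOK.rr (m : ℕ) : Fin D.nroots := ⟨m % D.nroots, Nat.mod_lt _ (Nat.zero_lt_of_lt (h.simple_lt 0 (Nat.zero_lt_of_lt h.two_le)))⟩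

variable (D t) in
/-- The check of a level function. -/
noncomputable def chkLev (p S L P n : ℕ) : Bool :=
  allLt n (fun k => decide (D.nroots ≤ 2 * (lk P k % D.nroots) ∧ lk L (lk P k % D.nroots) = k)) &&
  allLt D.nroots fun r => Nat.blt (2 * r) D.nroots || (decide (lk L r < n ∧ lk L (lk S r) = lk L r ∧ (r = lk P (lk L r) % D.nroots ∨
    r = lk S (lk P (lk L r) % D.nroots) ∨ r = lk S (lk S (lk P (lk L r) % D.nroots)))) && allLt D.nroots fun s => Nat.blt (2 * s) D.nroots ||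
      ((D.commTerms r s).all (fun c => decide ((p : ℤ) ∣ c.2.1 ∨ lk L r < lk L c.1)) && allLt D.nroots fun k => Nat.blt (2 * k) D.nroots ||
        Nat.blt (lk L r) (lk L k) || Nat.blt (lk L s) (lk L k) || anyLt D.rank fun i => decide (rtN D t k i < rtN D t r i + rtN D t s i)))

theorem lev_of_chk {K G : Type*} [Field K] [Group G] {S : PreSys h.R K G} {T : Tw h.R} (hE : S.Exact fun r s => termsF D r s) {p ρ L P n : ℕ}
    (hp : (p : K) = 0) (hρ : ∀ r, (T.ρ r : ℕ) = lk ρ r) (hk : chkLev D t p ρ L P n = true) :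
    Lev S T (fun r => lk L r) (fun k => h.rr (lk P k)) n := by
  simp only [chkLev, Bool.and_eq_true, allLt_iff, Bool.or_eq_true, Nat.blt_eq, decide_eq_true_eq, List.all_eq_true] at hk
  have h1 := fun (r : Fin D.nroots) hr => (hk.2 r r.2).resolve_left (not_lt.2 ((h.pos_iff_half r).1 hr))
  have h2 := fun (r s : Fin D.nroots) hr hs => ((h1 r hr).2 s s.2).resolve_left (not_lt.2 ((h.pos_iff_half s).1 hs))
  refine ⟨fun r hr => (h1 r hr).1.1, fun k hk' => ⟨(h.pos_iff_half _).2 (hk.1 k hk').1, (hk.1 k hk').2⟩, fun r hr => by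
    rw [hρ]; exact (h1 r hr).1.2.1, fun r hr => by simpa only [Fin.ext_iff, hρ, RootOK.rr] using (h1 r hr).1.2.2, fun r s k hr hs hk => ?_,
    fun k => hE.cm (fun _ h => h.1) fun s hs r hr c hc => ((h2 r s hr.1 hs).1 _ (h.compat.mem_termsF_iff.1 hc)).imp (fun ⟨e, he⟩ => by
      simp [show c.2.1 = _ from he, hp]) fun e => ⟨pos_of_mem_cone (h.compat.terms r s c hc) hr.1 hs, hr.2.trans_lt e⟩⟩
  rcases (h2 r s hr hs).2 k k.2 with ((e | e) | e) | e
  · exact absurd ((h.pos_iff_half k).1 (pos_of_mem_cone hk hr hs)) (not_le.2 e)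
  · exact Or.inl e
  · exact Or.inr e
  · obtain ⟨i, hi, e⟩ := anyLt_spec e
    have := le_of_mem_cone hk (f := Pi.evalAddMonoidHom (fun _ => ℤ) (⟨i, hi⟩ : Fin D.rank)) (hr _) (hs _)
    exact absurd (of_decide_eq_true e) (not_lt.2 this)

variable (D) in
/-- `r` and `s` are fixed roots, and `x_s` is a commutator of fixed root elements commuting with `x_r`. -/
def okLong (S E r s a b : ℕ) : Prop := (∀ k ∈ [r, s, a, b], lk S k = k ∧ bt E k = false) ∧ b ≠ a ∧ b ≠ D.neg a ∧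
  (D.commTerms a b = [(s, 1, 1, 1)] ∨ D.commTerms a b = [(s, -1, 1, 1)]) ∧ ∀ k ∈ [a, b], r = k ∨ r ≠ D.neg k ∧ D.commTerms k r = []

instance (S E r s a b : ℕ) : Decidable (okLong D S E r s a b) := by unfold okLong; infer_instance

namespace GData

variable {h} {η : ℕ → ℕ → ℤ} {hm : MatOK D η} {p S E : ℕ} {K : Type u} [Field K] {q : ℕ} (d : GData h hm p S E K q)

theorem fixed {r : Fin D.nroots} (e : lk S r = r ∧ bt E r = false) : d.T.ρ r = r ∧ d.X.ε r = 1 :=
  ⟨Fin.ext ((d.ρ_val r).trans e.1), by simp [d.ε_eq, e.2, sgn]⟩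

theorem φ_const (r s : Fin D.nroots) : d.X.φ r = d.X.φ s := RingHom.ext fun t => by rw [d.φ_eq, d.φ_eq]

theorem pair_long {Γ : Type*} [Group Γ] {π : Γ →* D.group K} (C : d.X.Cen π) {A A' B B' : Set (Fin D.nroots)} {r s a b : Fin D.nroots}
    (La : Lay d.T A A' r) (Lb : Lay d.T B B' s) (e : okLong D S E r s a b) {W : Subgroup Γ} :
    PairOK ((h.compat.gsys hm K).H.comap π) W (((h.compat.gsys hm K).U A).comap π) (fun g => (h.compat.gsys hm K).co A r (π g))
      (((h.compat.gsys hm K).U B).comap π) fun g => (h.compat.gsys hm K).co B s (π g) := by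
  obtain ⟨h1, h2, h3, h4, h5⟩ := e
  have a1 := d.fixed (h1 r (by simp))
  have a2 := d.fixed (h1 s (by simp))
  have a3 := d.fixed (h1 a (by simp))
  have a4 := d.fixed (h1 b (by simp))
  obtain ⟨c, c1, c2⟩ : ∃ c : ℤ, c * c = 1 ∧ termsF D a b = [(s, c, 1, 1)] :=
    h4.elim (fun e => ⟨1, rfl, h.compat.termsF_eq e⟩) fun e => ⟨-1, rfl, h.compat.termsF_eq e⟩
  have a5 : ∀ k : Fin D.nroots, (k : ℕ) ∈ [(a : ℕ), b] → ∀ t u, Commute ((h.compat.gsys hm K).x r t) ((h.compat.gsys hm K).x k u) := fun k hk t u =>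
    x_comm_of h hm (p := ringChar K) ((h5 k hk).imp Fin.ext fun e => ⟨e.1, by simp [e.2]⟩) u t
  exact C.pair_comm La Lb a1.1 a1.2 a2.1 a2.2 fun u hu =>
    let ⟨b1, b2, b3⟩ := d.X.comm_long (h.compat.gexact hm) (Fin.ne_of_val_ne h2) (h.compat.ne_neg_of_val h3) c2 c1 a3.1 a3.2 a4.1 a4.2
      (d.φ_const a s ▸ hu)
    ⟨_, b1, _, b2, b3, fun t => ⟨a5 b (by simp) _ _, a5 a (by simp) _ _⟩⟩

end GData

end Cfsg.Lib.Twist
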