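/-
The Schur multiplier of ²E₆(q).
-/
import Cfsg.Agent.Lib.Twist.MuE
import Cfsg.Agent.Lib.Twist.TwE6
import Cfsg.Agent.Lib.Mult.Hopf

set_option autoImplicit false

namespace Cfsg.Lib.Twist

open Subgroup Cfsg.Lib.Chev PreSys RootSys Cfsg.Lie
open scoped commutatorElement

universe u

theorem mult_of_dvd {P : Type u} [Group P] [Finite P] {n : ℕ} (hn : n = 1 ∨ n.Prime)
    (h : ∀ (Γ : Type u) [Group Γ] [Finite Γ] (σ : Γ →* P), IsStemExtension σ → Nat.card σ.ker ∣ n)
    (hc : n.Prime → ∃ (Γ : Type u) (_ : Group Γ) (_ : Finite Γ) (σ : Γ →* P), IsStemExtension σ ∧ σ.ker ≠ ⊥) : HasCyclicSchurMultiplier P n := by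
  rcases hn with rfl | hn
  · exact Mult.mult_one_iff.2 fun Γ _ _ σ hσ => card_eq_one.1 (Nat.dvd_one.1 (h Γ σ hσ))
  obtain ⟨Γ, _, _, σ, h1, h2⟩ := hc hn
  have := Fact.mk hn
  refine Mult.mult_cyclic_of h1 (((Nat.dvd_prime hn).1 (h Γ σ h1)).resolve_left (mt card_eq_one.1 h2)) fun Γ _ _ σ hσ => ?_
  obtain ⟨z, hz⟩ := (isCyclic_of_card_dvd_prime (h Γ σ hσ)).exists_generator
  exact ⟨z, z.2, Subtype.ext_iff.1 (orderOf_dvd_iff_pow_eq_one.1 ((_root_.orderOf_dvd_natCard z).trans (h Γ σ hσ))),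
    fun g hg => let ⟨k, e⟩ := hz ⟨g, hg⟩; ⟨k, congrArg Subtype.val e⟩⟩

theorem comm_top_of_equiv {A B : Type*} [Group A] [Group B] (e : A ≃* B) (h : commutator A = ⊤) : commutator B = ⊤ := by
  rw [← top_le_iff, ← map_top_of_surjective e.toMonoidHom e.surjective, ← h, map_commutator_eq]; exact commutator_mono le_top le_top

theorem exists_stem {E G : Type*} [Group E] [Group G] {θ : E →* G} (hθ : CExt θ) {Γ : Subgroup G} (hΓ : commutator Γ = ⊤) {z : E}
    (hz : z ∈ ⁅Γ.comap θ, Γ.comap θ⁆) (h1 : θ z = 1) (h2 : z ≠ 1) : ∃ σ : commutator (Γ.comap θ) →* Γ, IsStemExtension σ ∧ σ.ker ≠ ⊥ := by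
  obtain ⟨z, h3, rfl⟩ := map_subtype_commutator (Γ.comap θ) ▸ hz
  exact ⟨_, BN.stem_commutator (π := θ.subgroupComap Γ) ⟨θ.subgroupComap_surjective_of_surjective Γ hθ.surj, fun c hc g =>
    Subtype.ext (hθ.cent _ (congrArg Subtype.val hc) _)⟩ hΓ, fun e => h2 (congrArg (fun x : commutator (Γ.comap θ) => x.1.1)
      (mem_bot.1 (e.le (x := ⟨z, h3⟩) (Subtype.ext h1))))⟩

theorem hh_mem_comm {I Φ : Type*} [Fintype I] [DecidableEq I] {R : RootSys I Φ} {K G : Type*} [Field K] [Group G] {S : PreSys R K G} (hS : S.St)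
    {i j : I} (hij : i ≠ j) (h0 : R.A i j = 0) (f : K →+* K) {Y : Subgroup G} (hp : ∀ t, S.x (R.simple i) t * S.x (R.simple j) (f t) ∈ Y)
    (hn : ∀ t, S.x (R.neg (R.simple i)) t * S.x (R.neg (R.simple j)) (f t) ∈ Y) {a : K} (h1 : a ≠ 0) (h2 : a ^ 2 ≠ 1) (t : K) :
    S.h (R.simple i) t * S.h (R.simple j) (f t) ∈ ⁅Y, Y⁆ := by
  have a1 : ∀ i, R.simple i ∈ ({R.simple i, R.neg (R.simple i)} : Set Φ) := by simp
  have a2 : ∀ i, R.neg (R.simple i) ∈ ({R.simple i, R.neg (R.simple i)} : Set Φ) := by simp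
  have c : ∀ {g g'}, g ∈ S.U {R.simple i, R.neg (R.simple i)} → g' ∈ S.U {R.simple j, R.neg (R.simple j)} → Commute g g' := fun {g g'} h h' =>
    (S.U_le_iff (H := centralizer {g'})).2 (fun a ha t => mem_centralizer_singleton_iff.2 ((S.U_le_iff (H := centralizer {S.x a t})).2
      (fun _ hb u => mem_centralizer_singleton_iff.2 (commute_of_A hij h0 ha hb t u).symm) h' _ rfl)) h _ rfl |>.symm
  have key : ∀ Y : Subgroup G, (∀ t, S.x (R.simple i) t * S.x (R.simple j) (f t) ∈ Y) →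
      (∀ t, S.x (R.neg (R.simple i)) t * S.x (R.neg (R.simple j)) (f t) ∈ Y) → ∀ t, S.h (R.simple i) t * S.h (R.simple j) (f t) ∈ Y := fun Y hp hn t => by
    have : ∀ t, S.n (R.simple i) t * S.n (R.simple j) (f t) ∈ Y := fun t => by
      rw [n, n, (c (S.x_mem_U (a1 i) _) (mul_mem (S.x_mem_U (a1 j) _) (S.x_mem_U (a2 j) _))).mul_mul_mul_comm,
        (c (S.x_mem_U (a2 i) _) (S.x_mem_U (a1 j) _)).mul_mul_mul_comm, ← map_inv₀, ← map_neg]
      exact mul_mem (mul_mem (hp _) (hn _)) (hp _)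
    rw [h, h, (c (S.n_mem_U (a1 i) (a2 i) _) (S.n_mem_U (a1 j) (a2 j) _)).mul_mul_mul_comm]
    exact mul_mem (this t) (by simpa using this (-1))
  have h3 : R.A j i = 0 := by_contra fun e => R.A_ne_zero_symm e h0
  have h4 := (map_ne_zero f).2 h1
  have k2 : ∀ {r s : Φ} {κ : K}, κ ≠ 1 → a ^ R.pair (R.simple i) r * f a ^ R.pair (R.simple j) r = κ →
      a ^ R.pair (R.simple i) s * f a ^ R.pair (R.simple j) s = f κ → (∀ t u, Commute (S.x r t) (S.x s u)) →
      (∀ t, S.x r t * S.x s (f t) ∈ Y) → ∀ t, S.x r t * S.x s (f t) ∈ ⁅Y, Y⁆ := fun {r s κ} e e1 e2 e3 e4 t => by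
    obtain ⟨t, rfl⟩ := mul_left_surjective₀ (sub_ne_zero.2 e) t
    have e5 : ∀ r t, S.h (R.simple i) a * S.h (R.simple j) (f a) * S.x r t * (S.h (R.simple i) a * S.h (R.simple j) (f a))⁻¹ =
      S.x r (a ^ R.pair (R.simple i) r * f a ^ R.pair (R.simple j) r * t) := fun r t => by
        rw [mul_assoc (a ^ _), ← hS.h_conj _ h1, ← hS.h_conj _ h4]; group
    convert commutator_mem_commutator (key Y hp hn a) (e4 t) using 1
    rw [commutatorElement_def, ← conj_mul, e5, e5, e1, e2, (e3 t _).eq, mul_inv_rev, ← S.x_neg, ← S.x_neg,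
      (e3 _ _).symm.mul_mul_mul_comm, ← S.x_add, ← S.x_add]
    simp [sub_eq_add_neg, add_mul]
  refine key _ (k2 h2 ?_ ?_ (commute_of_A hij h0 (Or.inl rfl) (Or.inl rfl)) hp)
    (k2 (inv_ne_one.2 h2) ?_ ?_ (commute_of_A hij h0 (Or.inr rfl) (Or.inr rfl)) hn) t <;>
  simp [R.pair_neg_right, R.pair_self, R.pair_simple_simple, h0, h3, zpow_ofNat]

theorem good_ne {K : Type*} [Field K] (f : K →+* K) {a : K} (h : a * f a ≠ 1) {p : ℤ × ℤ}
    (hp : p ∈ [(1, 0), (-1, 0), (0, 1), (0, -1), (1, 1), (-1, -1)]) : a ^ p.1 * f a ^ p.2 ≠ 1 := by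
  have h1 : a ≠ 1 := fun e => h (by simp [e])
  have h2 : f a ≠ 1 := fun e => h1 (f.injective (e.trans f.map_one.symm))
  simp only [List.mem_cons, List.not_mem_nil, or_false] at hp
  rcases hp with rfl | rfl | rfl | rfl | rfl | rfl <;> simp [h, h1, h2, ← mul_inv, -mul_inv_rev]

/-- Levels of the roots of `E₆`. -/
def lvE6 : ℕ := 0x1716151412141310110d0b0f0a07040012100e0d0c090b0906030a080501070502040100000000000000000000000000000000000000000000000000000000000000000000000000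

/-- Representatives of the levels. -/
def repE6 : ℕ := 0x4746454241373f363c353433312d302c292f28262e272524

/-- Certificates for pairs of levels. -/
def sepE6 : ℕ := 0x8060b020601020402010101060103020102010203010100000608020604020002060302000200000300000200000000000006040701060003010101000100000100000300000000000026020601020002010101000100000100000200000000000000000201040003010101000100000100000300000000000000000f010200020101010001000001000002000000000000000000000100010403020002000003000001000000000000000000000e00030101010001000001000003000000000000000000000000000000000400030200020100030101000000000000000000000101010001000001000004000000000000000000000000000d030200020000030000010000000000000000000000000000000200020000040000010000000000000000000000000000000c0006000002000001000000000000000000000000000000000a0003020002010003010100000000000000000000000000000d0000020000010000000000000000000000000000000000000002000201000401010000000000000000000000000000000009000601000201010000000000000000000000000000000000000000010000000000000000000000000000000000000000000a0100020101000000000000000000000000000000000000000700010602000000000000000000000000000000000000000000000000000000000000000000000000000000000000000000000101000000000000000000000000000000000000000000000a02000000000000000000000000000000000000000000000004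

/-- The exponents of a character. -/
noncomputable def pr2 (D : ChevalleyDatum) (S c r : ℕ) : ℤ × ℤ := (prN D (c % D.nroots) (r % D.nroots), prN D (lk S (c % D.nroots)) (r % D.nroots))

theorem chkLev_E6 : chkLev chevE6 tabE6 0 rhoE6 lvE6 repE6 24 = true := by decide +kernel

set_option synthInstance.maxSize 4000 in
theorem chkSep_E6 : (∀ r < 72, lk rhoE6 (lk rhoE6 r) = r) ∧ ∀ k < 24,
    pr2 chevE6 rhoE6 (lk 0x10000000000000001000000000100010100010200010203 k) (lk repE6 k) ∈ [(1, 0), (-1, 0), (0, 1), (0, -1), (1, 1), (-1, -1)] ∧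
    (pr2 chevE6 rhoE6 (lk sepE6 (24 * k + k)) (lk repE6 k) = (1, 0) ∨ okLong chevE6 rhoE6 epsE6 (lk repE6 k % 72) (lk repE6 k % 72)
      (lk 0x2e1918001400120012080006000000060002000001020000 k % 72) (lk 0x464747004700470046470047000000460047000047460000 k % 72)) ∧ ∀ j < k,
    pr2 chevE6 rhoE6 (lk sepE6 (24 * k + j)) (lk repE6 j) = (0, 0) ∧
      pr2 chevE6 rhoE6 (lk sepE6 (24 * k + j)) (lk repE6 k) ∈ [(1, 0), (-1, 0), (0, 1), (0, -1), (1, 1), (-1, -1)] ∨
    pr2 chevE6 rhoE6 (lk sepE6 (24 * k + j)) (lk repE6 j) ∈ [(1, 0), (-1, 0), (0, 1), (0, -1), (1, 1), (-1, -1)] ∧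
      pr2 chevE6 rhoE6 (lk sepE6 (24 * k + j)) (lk repE6 k) = (0, 0) := by decide +kernel

namespace E6Data

variable {K : Type u} [Field K] {q : ℕ} (d : E6Data K q) [Fintype K] (hK : Fintype.card K = q ^ 2)
include hK

theorem tor (c : ℕ) {a : K} (ha : a ≠ 0) : ∃ χ, d.X.Tor χ ∧ ∀ r, χ (rootOK_E6.rr r) =
    a ^ (pr2 chevE6 rhoE6 c r).1 * d.X.φ (rootOK_E6.rr 0) a ^ (pr2 chevE6 rhoE6 c r).2 :=
  ⟨_, d.X.tor₂ (c := rootOK_E6.rr c) (Fin.ext (by rw [d.ρ_val, d.ρ_val]; exact chkSep_E6.1 _ (Fin.prop _))) ha (d.φφ hK _ _ _), fun r => by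
    simp only [rootOK_E6.compat.pair_eq, d.ρ_val, d.φ_eq]; rfl⟩

theorem cov {p : ℕ} [Fact p.Prime] [CharP K p] (hq : 2 < q) {E : Type*} [Group E] [Finite E] {π : E →* chevE6.group K} (C : d.X.Cen π)
    (h : π.ker ≤ commutator E) : d.X.Cov π p := by
  have L := lev_of_chk (S := sE6 K) rootOK_E6 (rootOK_E6.compat.gexact matOK_E6) Nat.cast_zero d.ρ_val chkLev_E6
  obtain ⟨a, ha⟩ := exists_pow_ne_one_of_isCyclic (G := Kˣ) (k := q + 1) (by simp) (by
    rw [Nat.card_units, Nat.card_eq_fintype_card, hK, Nat.lt_sub_iff_add_lt]; nlinarith)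
  have h1 : a * d.X.φ (rootOK_E6.rr 0) a ≠ 1 := fun e => ha (Units.ext (by simpa [d.φ_eq, pow_succ'] using e))
  refine C.cov (d.grp hK).fix (d.eq_Fix hK ▸ (d.gen hK).2) h (C.of_pairs L le_rfl (by simp) (C.fil L).lf_bot (fun k hk j hj => ?_) fun k hk _ => ?_)
  · obtain rfl | hj := hj.eq_or_lt
    · refine (chkSep_E6.2 j hk).2.1.elim (fun e => C.pair_two (L.lay hk) (L.lay hk) (by rw [Nat.card_eq_fintype_card, hK]; nlinarith) fun v hv => ?_)
        fun e => d.pair_long C (L.lay hk) (L.lay hk) (a := rootOK_E6.rr _) (b := rootOK_E6.rr _) e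
      obtain ⟨χ, h2, h3⟩ := d.tor hK (lk sepE6 (24 * j + j)) hv
      exact ⟨χ, h2, by simp [h3, e]⟩
    obtain ⟨χ, h2, h3⟩ := d.tor hK (lk sepE6 (24 * k + j)) a.ne_zero
    exact C.pair_sep (L.lay (by omega)) (L.lay hk) h2 (((chkSep_E6.2 k hk).2.2 j hj).imp (fun e => ⟨by simp [h3, e], h3 _ ▸ good_ne _ h1 e.2⟩)
      fun e => ⟨h3 _ ▸ good_ne _ h1 e.1, by simp [h3, e]⟩)
  · obtain ⟨χ, h2, h3⟩ := d.tor hK _ a.ne_zero
    exact ⟨χ, h2, h3 _ ▸ good_ne _ h1 (chkSep_E6.2 k hk).1⟩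

theorem ker_dvd (hq : IsPrimePow q) (h2 : 2 < q) {E : Type*} [Group E] [Finite E] {σ : E →* d.X.Fix} (h : IsStemExtension σ) :
    Nat.card σ.ker ∣ Nat.gcd 3 (q + 1) := by
  obtain ⟨C, e⟩ := TwSys.cen_of_stem h
  obtain ⟨p, hp⟩ := CharP.exists K
  have := Fact.mk (CharP.char_is_prime K p)
  have C := d.cov hK (p := p) h2 C (e ▸ h.2.2)
  have h3 := C.card_dvd (s := {n6 0, n6 2, n6 1, n6 3}) (n := fun j => if j = n6 0 ∨ j = n6 2 then q ^ 2 - 1 else q - 1) (fun i => by
    rcases n6_cases i with h | h | h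
    exacts [⟨i, by revert i; decide, d.T.mem_orb i⟩, ⟨n6 0, by simp, (orb_of d.π_val (by decide) i).2 h⟩,
      ⟨n6 2, by simp, (orb_of d.π_val (by decide) i).2 h⟩]) fun j hj => by
    have c1 := fun {i} h => (C.card₁ (d.orb1 (i := i) h).1 (d.orb1 h).2).trans (dvd_of_eq (congrArg (· - 1)
      (show _ = q by simpa [d.φ_eq] using (card_fixed hq.one_lt hK).2)))
    simp only [Finset.mem_insert, Finset.mem_singleton] at hj
    rcases hj with rfl | rfl | rfl | rfl
    exacts [by simpa [hK] using C.card₂ d.o05 d.π_eq.1 d.π_eq.2.1 (orb_of d.π_val (by decide)) (d.φφ hK _ _),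
      by simpa [hK] using C.card₂ d.o24 d.π_eq.2.2.1 d.π_eq.2.2.2.1 (orb_of d.π_val (by decide)) (d.φφ hK _ _), c1 (Or.inl rfl), c1 (Or.inr rfl)]
  have h4 := (congrArg (· * _) (d.card_ker hK)).symm.trans ((d.X.card_H_Fix (List.nodup_finRange _) List.mem_finRange (gZ _ _) (d.hz hK)).trans
    (d.card_Tf hK hq.one_lt))
  rw [e, show ∏ j ∈ _, _ = (q ^ 2 - 1) * ((q ^ 2 - 1) * ((q - 1) * (q - 1))) by
    rw [Finset.prod_insert (by decide), Finset.prod_insert (by decide), Finset.prod_pair (by decide)]; rfl] at h3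
  exact Nat.dvd_of_mul_dvd_mul_right Nat.card_pos (h3.trans (dvd_of_eq (h4.trans (by ring)).symm))

/-- The fixed points form the twisted group. -/
noncomputable def equiv : d.X.Fix ≃* twistedE6 K q := (MulEquiv.subgroupCongr (d.eq_Fix hK).symm).trans (subgroupOfEquivOfLe (d.gen hK).1)

theorem exists_cover (hq : 1 < q) (h3 : (Nat.gcd 3 (q + 1)).Prime) :
    ∃ (Γ : Type u) (_ : Group Γ) (_ : Finite Γ) (σ : Γ →* d.X.Fix), IsStemExtension σ ∧ σ.ker ≠ ⊥ := by
  have hc := rootOK_E6.compat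
  have hD : chevE6 ∈ [chevG2, chevB2, chevD4, chevF4, chevE6, chevE7, chevE8] := by simp
  have := hc.finite_st matOK_E6 (K := K) hD
  have hS := hc.st_of_exact matOK_E6 hD (hc.st_exact (K := K))
  obtain ⟨θ, hθ⟩ := hc.exists_st_proj matOK_E6 (K := K)
  obtain ⟨l, l1, l2, l3⟩ := hc.st_sc hD K
  obtain ⟨⟨c, c1, c2⟩, c3⟩ := ne_bot_iff_exists_ne_one.1 ((one_lt_card_iff_ne_bot _).1 (d.card_ker hK ▸ h3.one_lt))
  obtain ⟨a, a1, a2⟩ := exists_sq_ne_one (K := K) (by rw [hK]; nlinarith)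
  have k1 : ∀ i, piE6 i = i → c i = 1 := fun i e => by
    have := ker_rel c1 i
    rw [e, pow_three, this.2, mul_one] at this
    exact this.1
  have k2 : ∀ i j, d.X.Orth [i, j] → d.T.π i = j → d.T.π j = i → hS.torus hc.st_mult l (Pi.mulSingle i (c i) * Pi.mulSingle j (c j)) ∈
      ⁅d.X.Fix.comap θ, d.X.Fix.comap θ⁆ := fun i j h e e' => by
    have h1 : i ≠ j := by simpa using h.nodup
    rw [map_mul, torus_single hS _ l1 l2, torus_single hS _ l1 l2, ← e, d.X.mem_Tf.1 c2, e]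
    exact hh_mem_comm hS h1 (h.orth i (by simp) j (by simp) h1) _ (fun t => by
      simpa only [mem_comap, map_mul, hθ] using h.fix2 (Or.inl rfl) e e' rfl (d.φφ hK _ _ t)) (fun t => by
      simpa only [mem_comap, map_mul, hθ] using h.fix2 (Or.inr rfl) e e' rfl (d.φφ hK _ _ t)) a1 a2 _
  obtain ⟨σ, h⟩ := exists_stem (CExt.of_ker_le (surjective_of_gen hθ (hc.ggen matOK_E6)) (hc.ker_eq_center matOK_E6 hS hc.st_gen hθ).le)
    (comm_top_of_equiv (d.equiv hK).symm (d.perfect hK hq)) (z := hS.torus hc.st_mult l c) (by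
      rw [show c = _ * _ * (_ * _) from funext fun i => ?_, map_mul]
      · exact mul_mem (k2 _ _ d.o05 d.π_eq.1 d.π_eq.2.1) (k2 _ _ d.o24 d.π_eq.2.2.1 d.π_eq.2.2.2.1)
      have := n6_cases i
      simp only [List.mem_cons, List.not_mem_nil, or_false] at this
      rcases this with (rfl | rfl) | (rfl | rfl) | rfl | rfl <;> simp [k1 (n6 1) (by decide), k1 (n6 3) (by decide),
        show ∀ a b, n6 a = n6 b ↔ a = b from fun _ _ => Iff.rfl])
    ((map_hprod hθ l c).trans ((d.X.ker_torus l1 l2 (gZ _ _)).ge c1)) fun e => c3 (Subtype.ext (l3 c e))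
  exact ⟨_, _, inferInstance, σ, h⟩

include d in
theorem mult (hq : IsPrimePow q) (h2 : q ≠ 2) : HasCyclicSchurMultiplier (twistedE6 K q) (Nat.gcd 3 (q + 1)) :=
  Mult.mult_congr_left (mult_of_dvd (gcd_eq_one_or_prime Nat.prime_three _) (fun _ _ _ _ => d.ker_dvd hK hq (by have := hq.two_le; omega))
    (d.exists_cover hK hq.one_lt)) (d.equiv hK)

end E6Data

end Cfsg.Lib.Twist
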