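/-
Small Ree groups: lower bound for the degrees of complex representations.
-/
import Cfsg.Agent.Lib.Twist.ReeSyl

set_option autoImplicit false

namespace Cfsg.Lib.Twist

open Subgroup Module LinearMap

theorem idem_avg {A V : Type*} [AddGroup A] [Fintype A] [AddCommGroup V] [Module ℂ V] {T : A → End ℂ V}
    (hT : ∀ x y, T (x + y) = T x * T y) : IsIdempotentElem ((Fintype.card A : ℂ)⁻¹ • ∑ x, T x) := by
  have h : ∀ x, T x * ∑ y, T y = ∑ y, T y := fun x => by
    rw [Finset.mul_sum]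
    exact Fintype.sum_equiv (Equiv.addLeft x) _ _ fun y => (hT x y).symm
  rw [IsIdempotentElem, smul_mul_smul_comm, Finset.sum_mul]
  simp [h, ← Nat.cast_smul_eq_nsmul ℂ, smul_smul]

theorem exists_nat_trace {V : Type*} [AddCommGroup V] [Module ℂ V] [FiniteDimensional ℂ V] {e : End ℂ V}
    (h : IsIdempotentElem e) : ∃ n : ℕ, trace ℂ V e = n := ⟨_, (LinearMap.IsIdempotentElem.isProj_range _ h).trace⟩

theorem two_le_of_irr {G : Type*} [Group G] {k : ℕ} {ρ : Representation ℂ G (Fin k → ℂ)} (h : ρ.IsIrreducible)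
    (h1 : ∀ g, ρ g = 1) : k < 2 := by
  by_contra hk
  let v : Fin k → ℂ := Pi.single ⟨0, by omega⟩ 1
  have hv : v ≠ 0 := fun h => by simpa [v] using congrFun h ⟨0, by omega⟩
  let S : Subrepresentation ρ := ⟨Submodule.span ℂ {v}, fun g u hu => by simpa [h1] using hu⟩
  rcases h.eq_bot_or_eq_top S with h3 | h3
  · exact hv (Submodule.span_singleton_eq_bot.1 (congrArg Subrepresentation.toSubmodule h3))
  · have h4 := finrank_span_singleton (K := ℂ) hv
    rw [show Submodule.span ℂ {v} = ⊤ from congrArg Subrepresentation.toSubmodule h3] at h4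
    simp at h4
    omega

namespace Ree

variable {K : Type*} [Field K] {G : Type*} [Group G] (R : Ree K G) [Finite K]

local notation "𝔞" => R.D (-1)
local notation "𝔮" => Nat.card K

theorem deg_le {V : Type*} [AddCommGroup V] [Module ℂ V] [FiniteDimensional ℂ V] (ρ : G →* End ℂ V)
    (hρ : ρ (R.U 0 0 1) ≠ 1) : 𝔮 ^ 2 - 𝔮 + 1 ≤ finrank ℂ V := by
  classical
  let _ := Fintype.ofFinite K
  have hψ := AddChar.FiniteField.primitiveChar_to_Complex_isPrimitive K
  generalize AddChar.FiniteField.primitiveChar_to_Complex K = ψ at hψ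
  have hq : (Fintype.card K : ℂ) ≠ 0 := by simp
  have hc : ∀ g x, trace ℂ V (ρ (g * x * g⁻¹)) = trace ℂ V (ρ x) := fun g x => by
    rw [map_mul, trace_mul_comm, ← map_mul, inv_mul_cancel_left]
  have he : ∀ c d, IsIdempotentElem ((Fintype.card (K × K) : ℂ)⁻¹ • ∑ x : K × K, ψ (c * x.1 + d * x.2) • ρ (R.U 0 x.1 x.2)) :=
    fun c d => idem_avg fun x y => by
      simp only [smul_mul_smul_comm, ← map_mul, ← AddChar.map_add_eq_mul, R.U_mul, Prod.fst_add, Prod.snd_add]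
      congr 2; ring; simp
  choose m hm using fun c d => exists_nat_trace (he c d)
  simp only [map_smul, map_sum, smul_eq_mul] at hm
  have h1 : ∀ c d, d ≠ 0 → m c d = m 0 1 := fun c d hd => by
    obtain ⟨k, rfl⟩ := R.exists_sq_σ d
    have hk : k ≠ 0 := by rintro rfl; simp at hd
    have hk' : k * R.σ k ≠ 0 := by simp [hk]
    refine Nat.cast_injective (R := ℂ) ?_
    rw [← hm, ← hm]
    congr 1
    refine Fintype.sum_bijective (fun x => (k * R.σ k * x.1, c * x.1 + k ^ 2 * R.σ k * x.2))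
      (Finite.injective_iff_bijective.1 fun x y h => ?_) _ _ fun x => ?_
    · obtain ⟨h1, h2⟩ := Prod.mk.inj h
      have h3 := mul_left_cancel₀ hk' h1
      exact Prod.ext h3 (mul_left_cancel₀ hd (by simpa [h3] using h2))
    · rw [← hc (R.D (Units.mk0 k hk)), ← hc (R.U (c / (k * R.σ k)) 0 0), R.D_U, R.U_inv, R.U_mul, R.U_mul]
      refine congrArg₂ _ (by simp) (congrArg (fun g => trace ℂ V (ρ g)) (R.U_congr (by simp) (by simp) ?_))
      have : R.σ k ≠ 0 := by simpa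
      simp only [Units.val_mk0, mul_zero, map_zero, map_neg]
      generalize R.σ (c / _) = y
      field_simp
      linear_combination c ^ 2 * y * R.three
  have h2 : ∀ x : K × K, ∑ c, ∑ d, ψ (c * x.1 + d * x.2) = if x = 0 then (Fintype.card (K × K) : ℂ) else 0 := fun x => by
    simp only [AddChar.map_add_eq_mul, ← Finset.sum_mul_sum, AddChar.sum_mulShift _ hψ, Prod.ext_iff]
    split_ifs <;> simp_all
  have h3 : ∑ c, ∑ d, m c d = finrank ℂ V := Nat.cast_injective (R := ℂ) (by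
    simp only [Nat.cast_sum, ← hm, ← Finset.mul_sum]
    simp only [Finset.sum_comm (t := (Finset.univ : Finset (K × K))), ← Finset.sum_mul, h2]
    simp [R.U_zero]; field_simp)
  have h4 : finrank ℂ V = ∑ c, m c 0 + 𝔮 * (𝔮 - 1) * m 0 1 := by
    rw [← h3, Finset.sum_comm, ← Finset.add_sum_erase _ _ (Finset.mem_univ 0),
      Finset.sum_congr rfl fun d hd => Finset.sum_congr rfl fun c _ => h1 c d (Finset.ne_of_mem_erase hd)]
    simp [Finset.card_erase_of_mem, mul_assoc, mul_left_comm]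
  have h5 : IsIdempotentElem ((Fintype.card K : ℂ)⁻¹ • ∑ v, ρ (R.U 0 0 v)) := idem_avg fun x y => by simp [← map_mul, R.U_mul]
  have h6 : trace ℂ V ((Fintype.card K : ℂ)⁻¹ • ∑ v, ρ (R.U 0 0 v)) = ∑ c, m c 0 := by
    simp only [Nat.cast_sum, ← hm, ← Finset.mul_sum]
    rw [Finset.sum_comm]
    simp only [← Finset.sum_mul, zero_mul, add_zero, AddChar.sum_mulShift _ hψ]
    simp [Fintype.sum_prod_type, mul_assoc, ← Finset.mul_sum]
  generalize hP : (Fintype.card K : ℂ)⁻¹ • ∑ v, ρ (R.U 0 0 v) = P at h5 h6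
  have h7 : m 0 1 ≠ 0 := fun h => hρ (by
    have h8 : 1 - P = 0 := LinearMap.IsIdempotentElem.eq_zero_of_trace_eq_zero h5.one_sub (by simp [h6, h4, h])
    rw [← mul_one (ρ _), sub_eq_zero.1 h8, ← hP, mul_smul_comm, Finset.mul_sum]
    exact congrArg _ (Fintype.sum_equiv (Equiv.addLeft 1) _ _ fun y => by simp [← map_mul, R.U_mul]))
  have h8 := R.q_mod.1
  obtain ⟨n, hn⟩ : ∃ n, 𝔮 = n + 1 := ⟨𝔮 - 1, by omega⟩
  rw [show 𝔮 ^ 2 - 𝔮 = 𝔮 * (𝔮 - 1) by rw [Nat.mul_sub_one, pow_two], h4]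
  by_contra h9
  have h10 : 0 < 𝔮 * (𝔮 - 1) := Nat.mul_pos (by omega) (by omega)
  obtain ⟨h11, h12⟩ : ∑ c, m c 0 = 0 ∧ m 0 1 = 1 := by
    obtain ⟨l, hl⟩ := Nat.exists_eq_add_one_of_ne_zero h7
    rw [hl, mul_add] at h9
    have := Nat.eq_zero_of_not_pos fun h => (Nat.mul_pos h10 h).not_ge (show 𝔮 * (𝔮 - 1) * l ≤ 0 by omega)
    omega
  have h13 : trace ℂ V (ρ 𝔞) = 0 := by
    have h := congrArg (fun f => trace ℂ V (ρ 𝔞 * f)) (hP.trans (LinearMap.IsIdempotentElem.eq_zero_of_trace_eq_zero h5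
      (by simp [h6, h11])))
    have h' : ∀ v, trace ℂ V (ρ 𝔞 * ρ (R.U 0 0 v)) = trace ℂ V (ρ 𝔞) := fun v => by
      rw [← map_mul, ← hc (R.U 0 0 (-v)), ← mul_assoc, show R.U 0 0 (-v) * 𝔞 = 𝔞 * R.U 0 0 v from
        (mul_inv_eq_iff_eq_mul.1 (by simp [R.a_U])).symm, mul_assoc, mul_assoc, R.U_inv, R.U_mul, R.U_mul,
        R.U_eq_one.2 ⟨by simp, by simp, by simp; linear_combination v * R.three⟩, mul_one]
    simpa [Finset.mul_sum, h'] using h
  have h14 : ∀ x, x * x = 1 → IsIdempotentElem ((2 : ℂ)⁻¹ • (1 + ρ x)) := fun x hx => by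
    rw [IsIdempotentElem, smul_mul_smul_comm, add_mul, mul_add, mul_add, ← map_mul, hx]
    simp only [map_one, mul_one, one_mul]
    module
  obtain ⟨l, hl⟩ := exists_nat_trace (IsIdempotentElem.mul_of_commute (((Commute.one_left _).add_left
    ((Commute.one_right _).add_right (Commute.map R.a_w ρ))).smul_left _ |>.smul_right _) (h14 _ R.a_sq) (h14 _ R.w_w))
  obtain ⟨g, hg⟩ := isConj_iff.1 R.isConj_w
  obtain ⟨g', hg'⟩ := isConj_iff.1 R.isConj_aw
  have h15 : trace ℂ V (ρ R.w) = 0 := by rw [← hg, hc, h13]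
  have h16 : trace ℂ V (ρ 𝔞 * ρ R.w) = 0 := by rw [← map_mul, ← hg', hc, h15]
  simp only [smul_mul_smul_comm, add_mul, mul_add, one_mul, mul_one, map_smul, map_add, h13, h15, h16, trace_one, h4, h11, h12,
    smul_eq_mul] at hl
  have h17 : 𝔮 * (𝔮 - 1) = 4 * l := Nat.cast_injective (R := ℂ) (by push_cast at hl ⊢; linear_combination 4 * hl)
  obtain ⟨j, hj⟩ : ∃ j, 𝔮 = 8 * j + 3 := ⟨𝔮 / 8, by omega⟩
  rw [hj, show (8 * j + 3) * (8 * j + 3 - 1) = 4 * (16 * j ^ 2 + 10 * j + 1) + 2 by rw [show 8 * j + 3 - 1 = 8 * j + 2 by omega]; ring] at h17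
  omega

include R in
theorem deg_irr (hq : 3 < 𝔮) {k : ℕ} {ρ : Representation ℂ G (Fin k → ℂ)} (h : ρ.IsIrreducible) (hk : 2 ≤ k) :
    𝔮 ^ 2 - 𝔮 + 1 ≤ k := by
  have := R.simple hq
  refine (R.deg_le ρ fun e => (two_le_of_irr h fun g => ?_).not_ge hk).trans_eq (by simp)
  exact ((MonoidHom.normal_ker ρ).eq_bot_or_eq_top.resolve_left fun h2 => one_ne_zero
    (R.U_eq_one.1 (mem_bot.1 (h2.le e))).2.2).ge (mem_top g)

end Ree

end Cfsg.Lib.Twist
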