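/-
Squares of conjugacy classes in twisted groups of rank two with a Levi subgroup of type `SL₂`: characteristic two, and
the main theorem.
-/
import Cfsg.Agent.Lib.Twist.CCC

set_option autoImplicit false

namespace Cfsg.Lib.Twist

open Cfsg.Lib.Chev PreSys RootSys Cfsg.Lib.Known

section
variable {I Φ : Type*} [Fintype I] [DecidableEq I] {R : RootSys I Φ} {K : Type*} [Field K] {G : Type*} [Group G]
  {k : Type*} [Field k]

def ExAct (S : PreSys R K G) (g : G) (w : Equiv.Perm Φ) : Prop := ∀ s u, g * S.x s u * g⁻¹ = S.x (w s) u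

theorem ExAct.act {S : PreSys R K G} {g : G} {w : Equiv.Perm Φ} (h : ExAct S g w) : S.Act g w :=
  ⟨fun _ => 1, fun _ => one_ne_zero, fun _ => inv_one.symm, fun s u => by rw [one_mul, h]⟩

theorem ExAct.mul {S : PreSys R K G} {g g' : G} {w w' : Equiv.Perm Φ} (h : ExAct S g w) (h' : ExAct S g' w') :
    ExAct S (g * g') (w * w') := fun s u => by rw [Equiv.Perm.mul_apply, ← h, ← h']; group

theorem eq_one_of_sq {e : K} (h2 : (2 : K) = 0) (h : e * e = 1) : e = 1 :=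
  (mul_self_eq_one_iff.1 h).elim id fun h' => by linear_combination h' - h2

theorem exAct_n {S : PreSys R K G} (hS : S.St) (h2 : (2 : K) = 0) (r : Φ) : ExAct S (S.n r 1) (R.reflPerm r) := fun s u => by
  obtain ⟨ε, h1, -, -, h3⟩ := hS r
  rw [h3 _ _ _ one_ne_zero, one_zpow, mul_one, eq_one_of_sq h2 (h1 s), one_mul, reflPerm_apply]

variable (R) in
def wL (L : List Φ) : Equiv.Perm Φ := (L.map R.reflPerm).prod

theorem wL_mem (L : List Φ) : wL R L ∈ R.W := Subgroup.list_prod_mem _ fun g hg => by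
  obtain ⟨r, -, rfl⟩ := List.mem_map.1 hg
  exact R.reflPerm_mem_W r

theorem wL_fix {L : List Φ} {s : Φ} (h : ∀ r ∈ L, R.pair r s = 0) : wL R L s = s := by
  induction L with
  | nil => rfl
  | cons r L ih =>
    have := ih fun r hr => h r (List.mem_cons_of_mem _ hr)
    rw [wL] at this ⊢
    rw [List.map_cons, List.prod_cons, Equiv.Perm.mul_apply, this, reflPerm_apply,
      R.refl_of_pair_eq_zero (h r List.mem_cons_self)]

theorem rt_wL {L : List Φ} (h : L.Pairwise fun r s => R.pair r s = 0) (s : Φ) (i : I) :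
    R.rt (wL R L s) i = R.rt s i - (L.map fun r => R.pair r s * R.rt r i).sum := by
  induction L with
  | nil => simp [wL]
  | cons r L ih =>
    rw [List.pairwise_cons] at h
    have h1 : R.pair r (wL R L s) = R.pair r s := by
      rw [← W_pair (wL_mem L) r s, wL_fix fun r' hr' => (R.pair_eq_zero_iff _ _).1 (h.1 r' hr')]
    have := ih h.2
    rw [wL] at this h1 ⊢
    rw [List.map_cons, List.prod_cons, Equiv.Perm.mul_apply, reflPerm_apply, R.rt_refl, h1]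
    simp [this]; ring

theorem wL_not_mem {J : Set I} {L : List Φ} (h : L.Pairwise fun r s => R.pair r s = 0) (h0 : L ≠ [])
    (h1 : ∀ r ∈ L, R.Pos r ∧ ¬ R.InSub J r) : wL R L ∉ R.WJ J := fun h2 => by
  obtain ⟨r, L, rfl⟩ := List.exists_cons_of_ne_nil h0
  rw [List.pairwise_cons] at h
  have h3 := wL_fix fun r' hr' => (R.pair_eq_zero_iff _ _).1 (h.1 r' hr')
  have h4 := (WJ_pos_iff h2 (h1 r List.mem_cons_self).2).2 (h1 r List.mem_cons_self).1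
  rw [wL] at h3 h4
  rw [List.map_cons, List.prod_cons, Equiv.Perm.mul_apply, h3, reflPerm_apply, R.refl_self, R.pos_neg_iff] at h4
  exact h4 (h1 r List.mem_cons_self).1

theorem exists_tr2 (hk : (2 : k) = 0) (y s z : S2 k) :
    ∃ t, tr2 (y * (sl2 k).x true t * s * z) ≠ 0 ∨ y * (sl2 k).x true t * s * z = 1 := by
  have key : ∀ t, tr2 (y * (sl2 k).x true t * s * z) = tr2 (s * z * y) + t * (s * z * y).1 1 0 := fun t => by
    simp only [tr2, S2_mul, xt_00, xt_01, xt_10, xt_11]; ring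
  by_cases b1 : (s * z * y).1 1 0 = 0
  · by_cases b2 : tr2 (s * z * y) = 0
    · refine ⟨-(s * z * y).1 0 1, Or.inr ?_⟩
      have b3 := S2_det (s * z * y)
      have b4 : (s * z * y).1 1 1 = (s * z * y).1 0 0 := by
        rw [tr2] at b2; linear_combination b2 - (s * z * y).1 0 0 * hk
      rw [b1, b4, mul_zero, sub_zero] at b3
      have b5 := eq_one_of_sq hk b3
      have b6 : (sl2 k).x true (-(s * z * y).1 0 1) * (s * z * y) = 1 := by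
        generalize s * z * y = a at *
        apply S2_ext <;> simp [S2_mul, b1, b4, b5]
      generalize (sl2 k).x true (-(s * z * y).1 0 1) = a at b6
      rw [eq_inv_of_mul_eq_one_left b6]; group
    · exact ⟨0, Or.inl (by rwa [key, zero_mul, add_zero])⟩
  · exact ⟨(1 - tr2 (s * z * y)) / (s * z * y).1 1 0, Or.inl (by rw [key]; field_simp; simp)⟩

namespace TwSys

variable {S : PreSys R K G} {T : Tw R} {X : TwSys S T}

theorem exists_cl (h2 : (2 : K) = 0) (hc : ∀ r s, R.pair r s = 0 → ∀ a b, Commute (S.x r a) (S.x s b)) {J : Set I}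
    {L : List Φ} (h : L.Pairwise fun r s => R.pair r s = 0) (hp : (L.map T.ρ).Perm L)
    (h1 : ∀ r ∈ L, R.Pos r ∧ ¬ R.InSub J r) :
    ∃ m ∈ S.N ⊓ X.Fix, ExAct S m (wL R L) ∧ ∃ u ∈ X.Vp J, ∃ v ∈ X.Vm J, u * m = v * u := by
  have a1 : ∀ r, r ∈ ({r, R.neg r} : Set Φ) := by simp
  have a2 : ∀ r, R.neg r ∈ ({r, R.neg r} : Set Φ) := by simp
  have pw : ∀ f g : Φ → G, (∀ r, f r ∈ S.U {r, R.neg r}) → (∀ r, g r ∈ S.U {r, R.neg r}) →
      L.Pairwise fun r s => Commute (f r) (g s) := fun f g hf hg => h.imp fun {r s} e =>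
    (S.U_le_iff (H := Subgroup.centralizer {g s})).2 (fun a ha t =>
      Subgroup.mem_centralizer_singleton_iff.2 ((S.U_le_iff (H := Subgroup.centralizer {S.x a t})).2 (fun b hb u =>
        Subgroup.mem_centralizer_singleton_iff.2 (hc a b (by
          rcases ha with rfl | rfl <;> rcases hb with rfl | rfl <;> simp [R.pair_neg_left, R.pair_neg_right, e]) t u).symm)
        (hg s) _ rfl)) (hf r) _ rfl |>.symm
  have fx : ∀ a : Φ → Φ, (∀ r, a r ∈ ({r, R.neg r} : Set Φ)) → (∀ r, T.ρ (a r) = a (T.ρ r)) →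
      (L.map fun r => S.x (a r) 1).prod ∈ X.Fix := fun a ha ha' => by
    rw [mem_Fix, map_list_prod, ← ((hp.symm.map _).prod_eq' (List.pairwise_map.2 (pw _ _
      (fun r => S.x_mem_U (ha r) _) fun r => S.x_mem_U (ha r) _))).symm, List.map_map, List.map_map]
    exact congrArg _ (List.map_congr_left fun r _ => by simp [X.σ_x, ha', eq_one_of_sq h2 (X.ε_sq _)])
  have e : (L.map fun r => S.x r 1).prod * (L.map fun r => S.n r 1).prod =
      (L.map fun r => S.x (R.neg r) 1).prod * (L.map fun r => S.x r 1).prod := by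
    rw [← prod_map_mul_of_comm _ _ (pw _ _ (fun r => S.n_mem_U (a1 r) (a2 r) _) fun r => S.x_mem_U (a1 r) _),
      ← prod_map_mul_of_comm _ _ (pw _ _ (fun r => S.x_mem_U (a1 r) _) fun r => S.x_mem_U (a2 r) _)]
    refine congrArg _ (List.map_congr_left fun r _ => ?_)
    rw [S.x_neg_eq, inv_one, show (-1 : K) = 1 by linear_combination -h2, mul_assoc, ← S.x_add, one_add_one_eq_two, h2,
      S.x_zero, mul_one]
  have f1 := fx id a1 fun _ => rfl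
  have f2 := fx R.neg a2 T.ρ_neg
  refine ⟨(L.map fun r => S.n r 1).prod, ⟨Subgroup.list_prod_mem _ fun g hg => ?_, ?_⟩, ?_, _,
    ⟨Subgroup.list_prod_mem _ fun g hg => ?_, f1⟩, _, ⟨Subgroup.list_prod_mem _ fun g hg => ?_, f2⟩, e⟩
  · obtain ⟨r, -, rfl⟩ := List.mem_map.1 hg
    exact S.n_mem_N _ one_ne_zero
  · rw [eq_inv_mul_of_mul_eq e]; exact X.Fix.mul_mem (X.Fix.inv_mem f1) (X.Fix.mul_mem f2 f1)
  · clear e f1 f2 fx pw h hp h1
    induction L with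
    | nil => exact fun s u => by simp [wL]
    | cons r L ih => simpa [wL] using (exAct_n X.st h2 r).mul ih
  · obtain ⟨r, hr, rfl⟩ := List.mem_map.1 hg
    exact S.x_mem_U (h1 r hr) _
  · obtain ⟨r, hr, rfl⟩ := List.mem_map.1 hg
    exact S.x_mem_U (by exact ⟨fun h' => (R.pos_neg_iff r).1 h' (h1 r hr).1, fun h' => (h1 r hr).2 (inSub_neg.1 h')⟩) _

variable [Finite Φ] {i j : I} {l : List I} {ι : k →+* K} {ψ : S2 k →* G} (h : X.SLv j ι ψ) (hL : X.Levi i j l ψ.range)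
  (hw0 : ∃ w ∈ T.W1 Set.univ, ∀ r, w r = R.neg r)
include h hL hw0

theorem opp_unique {w : Equiv.Perm Φ} (hw : w ∈ T.W1 Set.univ) (hw' : w ∉ R.WJ (T.orb j))
    (h1 : w (R.simple j) = R.simple j) (r : Φ) : (w * R.s j) r = R.neg r := by
  have hW := T.W1_le_W _ hw
  obtain ⟨w0, h2, h3⟩ := hw0
  have h4 : ¬ R.Pos (w (R.simple i)) := fun h4 => hw' (by
    rw [R.eq_one_of_forall_pos_W hW fun k => (hL.hall k).elim (fun hk => (Tw.pos_orb hw hk).2 h4) fun hk => by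
      rw [List.mem_singleton.1 ((h.horb k).1 hk), h1]; exact R.pos_simple j]
    exact one_mem _)
  rw [eq_lng (J := Set.univ) (w := w * R.s j) (R.WJ_univ ▸ mul_mem hW (R.s_mem_W j)) fun k _ => ?_,
    ← eq_lng (T.W1_le_WJ _ h2) fun k _ => by rw [h3]; exact R.not_pos_neg_simple k, h3]
  rcases hL.hall k with hk | hk
  · have h5 : k ≠ j := fun e => hL.hij k ((hL.hl k).1 hk) (e ▸ T.mem_orb k)
    rw [s, W_mul_reflPerm hW, h1, Equiv.Perm.mul_apply]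
    have h6 := (Tw.pos_orb hw hk).not.2 h4
    refine fun h7 => h6 ((R.pos_s_iff (i := j) (fun e => h6 (by rw [e]; exact R.pos_simple j)) fun e => ?_).1 h7)
    rw [← h1, ← W_neg hW] at e
    exact R.not_pos_neg_simple j (w.injective e ▸ R.pos_simple k)
  · rw [List.mem_singleton.1 ((h.horb k).1 hk), Equiv.Perm.mul_apply, R.s_simple, W_neg hW, h1]
    exact R.not_pos_neg_simple j

variable [Finite K] (h2 : (2 : K) = 0)
include h2

theorem exists_norm {w w' : Equiv.Perm Φ} (hw : w ∈ T.W1 Set.univ) (hw' : w ∉ R.WJ (T.orb j))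
    (h1 : w (R.simple j) = R.simple j) (hv : w' ∈ T.W1 Set.univ) (hv' : w' ∉ R.WJ (T.orb j))
    (h1' : w' (R.simple j) = R.simple j) {m m' : G} (hm : m ∈ S.N ⊓ X.Fix) (hm' : m' ∈ S.N ⊓ X.Fix) (a : S.Act m w)
    (a' : S.Act m' w') (c : ∀ s, m * ψ s * m⁻¹ = ψ s) (c' : ∀ s, m' * ψ s * m'⁻¹ = ψ s) (s : S2 k) {v : G}
    (hv1 : v ∈ X.Vp (T.orb j)) : ∃ d ∈ X.Fix, ∃ v' ∈ X.Vp (T.orb j), d * (m * ψ s * v) * d⁻¹ = m' * ψ s * v' := by
  have e1 := opp_unique h hL hw0 hw hw' h1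
  obtain rfl : w = w' := mul_right_cancel (Equiv.ext fun r => (e1 r).trans (opp_unique h hL hw0 hv hv' h1' r).symm)
  have hW := T.W1_le_W _ hw
  have b1 := X.st.mul_inv_mem_H X.sep hm'.1 hm.1 hW a' a
  have b2 : ∀ s, Commute (m' * m⁻¹) (ψ s) := fun s =>
    Commute.mul_left (mul_inv_eq_iff_eq_mul.1 (c' s)) (Commute.inv_left (mul_inv_eq_iff_eq_mul.1 (c s)))
  obtain ⟨n, hn⟩ : 2 ∣ Nat.card K := by
    have := Fintype.ofFinite K
    have : CharP K 2 := (CharP.charP_iff_prime_eq_zero Nat.prime_two).2 (by exact_mod_cast h2)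
    obtain ⟨n, -, hn⟩ := FiniteField.card K 2
    rw [Nat.card_eq_fintype_card, hn]; exact dvd_pow_self 2 n.ne_zero
  have b3 : (m' * m⁻¹) ^ n * (m' * m⁻¹) ^ n = m' * m⁻¹ := by
    have : 0 < Nat.card K := Nat.card_pos
    rw [← pow_add, ← two_mul, ← hn, ← Nat.sub_add_cancel this, pow_succ, H_pow X.st X.mult b1, one_mul]
  have b4 : (m' * m⁻¹) ^ n ∈ S.H ⊓ X.Fix := pow_mem (Subgroup.mem_inf.2 ⟨b1, mul_mem hm'.2 (inv_mem hm.2)⟩) n
  have b5 := fun s => (b2 s).pow_left n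
  set d := (m' * m⁻¹) ^ n
  have b6 := inv_H X.st X.mult (mul_mem hW (R.s_mem_W j)) (a.mul (R.s_mem_W j) (X.st.act_n _ one_ne_zero)) e1 b4.1
  rw [← map_one ι, ← h.sl.n, mul_assoc m, ← (b5 _).eq] at b6
  refine ⟨d, b4.2, _, conj_Vp (Subgroup.mem_sup_left b4.1) b4.2 hv1, ?_⟩
  have b7 : m * d⁻¹ = d * m := by
    rw [← b6]
    have : m * d * m⁻¹ = d⁻¹ := by rw [← b6]; group
    calc _ = m * d⁻¹ := by rw [b6]
      _ = (m * d * m⁻¹)⁻¹ * m := by group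
      _ = _ := by rw [this, inv_inv]
  calc _ = d * (m * d⁻¹) * (d * ψ s) * v * d⁻¹ := by group
    _ = d * d * m * ψ s * (d * v * d⁻¹) := by rw [b7, (b5 s).eq]; group
    _ = _ := by rw [b3]; group

variable [Finite k] (hc : ∀ r s, R.pair r s = 0 → ∀ a b, Commute (S.x r a) (S.x s b)) {L₁ L₂ : List Φ}
  (p1 : L₁.Pairwise fun r s => R.pair r s = 0) (q1 : (L₁.map T.ρ).Perm L₁) (n1 : L₁ ≠ [])
  (r1 : ∀ r ∈ L₁, R.Pos r ∧ ¬ R.InSub (T.orb j) r) (s1 : ∀ r ∈ L₁, R.pair r (R.simple j) = 0)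
  (p2 : L₂.Pairwise fun r s => R.pair r s = 0) (q2 : (L₂.map T.ρ).Perm L₂) (n2 : L₂ ≠ [])
  (r2 : ∀ r ∈ L₂, R.Pos r ∧ ¬ R.InSub (T.orb j) r)
  (s2 : ∀ i, (L₂.map fun r => R.pair r (R.simple j) * R.rt r i).sum = 2 * R.rt (R.simple j) i)
include hc p1 q1 n1 r1 s1 p2 q2 n2 r2 s2

theorem gauss_opp {w : Equiv.Perm Φ} (hw : w ∈ T.W1 Set.univ) (hw' : w ∉ R.WJ (T.orb j))
    (h1 : w (R.simple j) = R.simple j) {m : G} (hm : m ∈ S.N ⊓ X.Fix) (a : S.Act m w) (s : S2 k) {v : G}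
    (hv : v ∈ X.Vp (T.orb j)) : ∃ d ∈ X.Fix, ∃ v₁ ∈ X.Vm (T.orb j), ∃ s', ∃ v₂ ∈ X.Vp (T.orb j),
      (tr2 s' ≠ 0 ∨ s' = 1) ∧ d * (m * ψ s * v) * d⁻¹ = v₁ * ψ s' * v₂ := by
  have hk : (2 : k) = 0 := ι.injective (by rw [map_ofNat, h2, map_zero])
  have hW := T.W1_le_W _ hw
  obtain ⟨e, he⟩ := h.exists_dl hm.2 hW a h1
  obtain ⟨c, hc'⟩ := isSquare_of_two_eq_zero hk (e : k)⁻¹
  have c0 : c ≠ 0 := fun e' => by simp [e'] at hc'
  have c1 : ι c ≠ 0 := (map_ne_zero _).2 c0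
  have f1 : S.h (R.simple j) (ι c) ∈ X.Fix := h.sl.hh c ▸ h.fix _
  have f2 : ∀ s, m * S.h (R.simple j) (ι c) * ψ s * (m * S.h (R.simple j) (ι c))⁻¹ = ψ s := fun s => by
    have := h.sl.conj_dl (g := S.h (R.simple j) (ι c)) (e := e⁻¹) (fun t => by
      rw [X.st.h_conj _ c1, R.pair_self, Units.val_inv_eq_inv_val, hc', map_mul, zpow_two]) (fun t => by
      rw [X.st.h_conj _ c1, R.pair_neg_right, R.pair_self, Units.val_inv_eq_inv_val, hc', map_mul, zpow_neg, zpow_two]) s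
    have h3 := he (dl e⁻¹ s)
    rw [dl_dl, mul_inv_cancel, dl_one, ← this] at h3
    exact (by group : _ = _).trans h3
  have f3 : S.Act (m * S.h (R.simple j) (ι c)) w := by simpa using a.mul (one_mem _) (X.st.act_H (S.h_mem_H _ c1))
  have f4 : m * S.h (R.simple j) (ι c) ∈ S.N ⊓ X.Fix := mul_mem hm ⟨S.H_le_N (S.h_mem_H _ c1), f1⟩
  rw [show m * ψ s = m * S.h (R.simple j) (ι c) * ψ (((sl2 k).h true c)⁻¹ * s) by rw [map_mul, map_inv, h.sl.hh]; group]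
  generalize ((sl2 k).h true c)⁻¹ * s = s
  generalize m * S.h (R.simple j) (ι c) = m at f2 f3 f4
  have ex : ∀ {g w}, ExAct S g w → w ∈ R.W → w (R.simple j) = R.simple j → ∀ s, g * ψ s * g⁻¹ = ψ s :=
    fun h1 h2 h3 s => (h.sl.conj_dl (e := 1) (fun t => by rw [h1, h3]; simp)
      (fun t => by rw [h1, W_neg h2, h3]; simp) s).trans (by rw [dl_one])
  by_cases hs : tr2 s ≠ 0 ∨ s = 1
  · obtain ⟨m₁, hm₁, a₁, u, hu, v₁, hv₁, e₁⟩ := exists_cl (X := X) h2 hc p1 q1 r1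
    obtain ⟨d, hd, v', hv', e₂⟩ := exists_norm h hL hw0 h2 hw hw' h1
      (X.mem_W1_of_cell (R.WJ_univ ▸ wL_mem L₁) (a₁.act.mem_cell hm₁.1) hm₁.2) (wL_not_mem p1 n1 r1) (wL_fix s1) f4 hm₁ f3
      a₁.act f2 (ex a₁ (wL_mem _) (wL_fix s1)) s hv
    refine ⟨u * d, mul_mem hu.2 hd, v₁, hv₁, s, _, mul_mem (mul_mem (conj_Vp' (h.lv s) (h.fix s) hu) hv') (inv_mem hu), hs, ?_⟩
    calc _ = u * (d * (m * ψ s * v) * d⁻¹) * u⁻¹ := by group
      _ = u * m₁ * ψ s * v' * u⁻¹ := by rw [e₂]; group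
      _ = _ := by rw [e₁]; group
  push Not at hs
  obtain ⟨m₂, hm₂, a₂, u, hu, v₁, hv₁, e₁⟩ := exists_cl (X := X) h2 hc p2 q2 r2
  have g1 : wL R L₂ (R.simple j) = R.neg (R.simple j) := R.rt_inj (funext fun i => by
    rw [rt_wL p2, s2, R.rt_neg, Pi.neg_apply]; ring)
  have g2 : (wL R L₂ * R.s j) (R.simple j) = R.simple j := by
    rw [Equiv.Perm.mul_apply, R.s_simple, W_neg (wL_mem _), g1, R.neg_neg]
  have g3 : S.n (R.simple j) 1 = ψ ((sl2 k).n true 1) := by rw [h.sl.n, map_one]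
  have g4 : m₂ * S.n (R.simple j) 1 ∈ S.N ⊓ X.Fix := mul_mem hm₂ ⟨S.n_mem_N _ one_ne_zero, g3 ▸ h.fix _⟩
  have g5 := a₂.mul (exAct_n X.st h2 (R.simple j))
  have g6 := mul_mem (wL_mem L₂) (R.s_mem_W j)
  have g7 := ex g5 g6 g2
  obtain ⟨d, hd, v', hv', e₂⟩ := exists_norm h hL hw0 h2 hw hw' h1
    (X.mem_W1_of_cell (R.WJ_univ ▸ g6) (g5.act.mem_cell g4.1) g4.2) (fun h' => wL_not_mem p2 n2 r2 (by
      simpa [mul_assoc, RootSys.s, R.reflPerm_mul_self] using mul_mem h' (R.s_mem_WJ (T.mem_orb j)))) g2 f4 g4 f3 g5.act f2 g7 s hv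
  have hd' := S2_det s
  obtain ⟨y, hy⟩ := isConj_iff.1 (isConj_SL2_of_trace (g := s) (h := (sl2 k).n true 1) (fun ⟨b1, b2, b3⟩ => hs.2 (by
      rw [b1, ← b3, zero_mul, sub_zero] at hd'
      have := eq_one_of_sq hk hd'
      apply S2_ext <;> simp [b1, b2, ← b3, this])) (by simp [IsScal, sl2_n])
    (by rw [sl2_n one_ne_zero, Matrix.trace_fin_two_of, Matrix.trace_fin_two, add_zero]; exact hs.1) (Or.inl hk))
  have g8 : S.n (R.simple j) 1 * S.n (R.simple j) 1 = 1 := by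
    nth_rewrite 2 [show (1 : K) = -1 by linear_combination h2]
    rw [S.n_neg, mul_inv_cancel]
  refine ⟨u * ψ y * d, mul_mem (mul_mem hu.2 (h.fix y)) hd, v₁, hv₁, 1, _,
    mul_mem (mul_mem hu (conj_Vp (h.lv y) (h.fix y) hv')) (inv_mem hu), Or.inr rfl, ?_⟩
  calc _ = u * ψ y * (d * (m * ψ s * v) * d⁻¹) * (ψ y)⁻¹ * u⁻¹ := by group
    _ = u * (m₂ * S.n (R.simple j) 1 * ψ y * (m₂ * S.n (R.simple j) 1)⁻¹) * (m₂ * S.n (R.simple j) 1 * ψ s * v') *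
      (ψ y)⁻¹ * u⁻¹ := by rw [e₂, g7]
    _ = u * m₂ * (S.n (R.simple j) 1 * ψ (y * s * y⁻¹)) * (ψ y * v' * (ψ y)⁻¹) * u⁻¹ := by
      rw [map_mul, map_mul, map_inv]; group
    _ = _ := by rw [hy, ← g3, g8, e₁, map_one]; group

theorem exists_gauss_two (hs : IsSimpleGroup X.Fix) {g : G} (hg : g ∈ X.Fix) (h1 : g ≠ 1) : ∃ d ∈ X.Fix,
    ∃ v₁ ∈ X.Vm (T.orb j), ∃ s', ∃ v₂ ∈ X.Vp (T.orb j), (tr2 s' ≠ 0 ∨ s' = 1) ∧ d * g * d⁻¹ = v₁ * ψ s' * v₂ := by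
  have hk : (2 : k) = 0 := ι.injective (by rw [map_ofNat, h2, map_zero])
  obtain ⟨a, ha, w, hw, hw', m, hm, h3, u, hu, e⟩ := hL.exists_conj hs hg h1
  obtain ⟨w', hw1, hw2, h4, m', hm', h5, s, v, hv, e'⟩ : ∃ w' ∈ T.W1 Set.univ, w' ∉ R.WJ (T.orb j) ∧
      R.Pos (w' (R.simple j)) ∧ ∃ m' ∈ S.N ⊓ X.Fix, S.Act m' w' ∧ ∃ s, ∃ v ∈ X.Vp (T.orb j), m * u = m' * ψ s * v := by
    obtain ⟨_, ⟨s, rfl⟩, v, hv, e'⟩ := hL.Up_mul hu (one_mem _)
    rw [mul_one] at e'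
    by_cases h4 : R.Pos (w (R.simple j))
    · exact ⟨w, hw, hw', h4, m, hm, h3, s, v, hv, by rw [e', mul_assoc]⟩
    · obtain ⟨n, ⟨hn, s', rfl⟩, hn'⟩ := hL.exists_m
      exact ⟨_, mul_mem hw (Tw.lng_orb_mem T.stable_univ (Set.mem_univ j)), fun h5 => hw' (by
        simpa [mul_assoc, lng_mul_lng] using mul_mem h5 (lng_mem _)), (Tw.pos_mul_lng_iff hw j).2 h4, _,
        mul_mem hm ⟨hn, h.fix _⟩, h3.mul (lng_mem_W _) hn', s'⁻¹ * s, v, hv, by rw [e', map_mul, map_inv]; group⟩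
  rw [e'] at e
  by_cases h6 : w' (R.simple j) = R.simple j
  · obtain ⟨d, hd, v₁, hv₁, s', v₂, hv₂, h7, e₁⟩ := gauss_opp h hL hw0 h2 hc p1 q1 n1 r1 s1 p2 q2 n2 r2 s2 hw1 hw2 h6 hm'
      h5 s hv
    exact ⟨d * a, mul_mem hd ha, v₁, hv₁, s', v₂, hv₂, h7, by rw [← e₁, ← e]; group⟩
  obtain ⟨u₁, hu₁, v₁, hv₁, _, ⟨y, rfl⟩, v', hv', e₁⟩ := hL.gauss hw1 hw2 hm' h5
  obtain ⟨_, ⟨z, rfl⟩, v'', hv'', e₂⟩ := hL.Up_mul (inv_mem hu₁) (one_mem _)
  rw [mul_one] at e₂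
  obtain ⟨t, ht⟩ := exists_tr2 hk y s z
  have h7 : m' * ψ ((sl2 k).x true t) * m'⁻¹ ∈ X.Vp (T.orb j) := ⟨by
    rw [h.sl.t]
    refine h5.conj_mem (T := {R.simple j}) (fun r hr => ?_) (S.x_mem_U (Set.mem_singleton _) _)
    rw [Set.mem_singleton_iff.1 hr]
    refine ⟨h4, fun h8 => ?_⟩
    obtain ⟨k, hk, e⟩ := eq_simple_of_orth (fun a ha b hb e => (e (by
      exact (List.mem_singleton.1 ((h.horb a).1 ha)).trans (List.mem_singleton.1 ((h.horb b).1 hb)).symm)).elim) h4 h8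
    exact h6 (by rw [e, List.mem_singleton.1 ((h.horb k).1 hk)]), conj_mem_of hm'.2 (h.fix _)⟩
  refine ⟨u₁ * (m' * ψ ((sl2 k).x true t) * m'⁻¹) * a, mul_mem (mul_mem hu₁.2 h7.2) ha, v₁, hv₁, _, _,
    mul_mem (conj_Vp' (h.lv z) (h.fix z) (mul_mem (mul_mem (conj_Vp' (h.lv ((sl2 k).x true t * s)) (h.fix _) hv') hv)
      (inv_mem h7))) hv'', ht, ?_⟩
  calc _ = u₁ * (m' * ψ ((sl2 k).x true t) * m'⁻¹) * (a * g * a⁻¹) * (m' * ψ ((sl2 k).x true t) * m'⁻¹)⁻¹ * u₁⁻¹ := by group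
    _ = u₁ * m' * ψ ((sl2 k).x true t) * ψ s * v * (m' * ψ ((sl2 k).x true t) * m'⁻¹)⁻¹ * u₁⁻¹ := by rw [e]; group
    _ = _ := by rw [e₁, e₂]; simp only [map_mul]; group

end TwSys
end

universe u

variable {I Φ : Type} [Fintype I] [DecidableEq I] [Finite Φ] {R : RootSys I Φ} {F : Fam.{u} R} {K : Type u} [Field K]
  [Finite K] [Finite (F.G K)] {k : Type*} [Field k] [Finite k] {T : Tw R} {X : TwSys (F.S K) T}

theorem TwSys.SLv.main {i j : I} {l : List I} {ι : k →+* K} {ψ : S2 k →* F.G K} (h : X.SLv j ι ψ)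
    (hL : X.Levi i j l ψ.range) (hw0 : ∃ w ∈ T.W1 Set.univ, ∀ r, w r = R.neg r) (hs : IsSimpleGroup X.Fix)
    (hφ : ∀ t, X.φ (R.simple j) (X.φ (R.simple j) (X.φ (R.simple j) t)) = t) (p : ℕ) [Fact p.Prime] [CharP K p]
    (hp : ∀ r, |R.pair (R.simple j) r| ≤ 2) {a : F.G K} (ha : a ∈ (F.S K).H ⊓ X.Fix) {χ : Φ → Kˣ}
    (h1 : ∀ r t, a * (F.S K).x r t * a⁻¹ = (F.S K).x r (χ r * t)) (h2 : χ (R.simple j) = -1)
    (h2' : χ (R.neg (R.simple j)) = -1) (h3 : ∀ r, R.pair (R.simple j) r = 0 → χ r ≠ 1)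
    (h4 : ((2 : K) ≠ 0 ∧ a⁻¹ = a) ∨ (2 : K) = 0 ∧
      (∀ r s, R.pair r s = 0 → ∀ a b, Commute ((F.S K).x r a) ((F.S K).x s b)) ∧ ∃ L₁ L₂ : List Φ,
      (L₁.Pairwise fun r s => R.pair r s = 0) ∧ (L₁.map T.ρ).Perm L₁ ∧ L₁ ≠ [] ∧
      (∀ r ∈ L₁, R.Pos r ∧ ¬ R.InSub (T.orb j) r) ∧ (∀ r ∈ L₁, R.pair r (R.simple j) = 0) ∧
      (L₂.Pairwise fun r s => R.pair r s = 0) ∧ (L₂.map T.ρ).Perm L₂ ∧ L₂ ≠ [] ∧
      (∀ r ∈ L₂, R.Pos r ∧ ¬ R.InSub (T.orb j) r) ∧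
      ∀ i, (L₂.map fun r => R.pair r (R.simple j) * R.rt r i).sum = 2 * R.rt (R.simple j) i) :
    ∃ x ∈ X.Fix, ¬ p ∣ orderOf x ∧ ∀ g ∈ X.Fix, g ≠ 1 → X.CCov x g := by
  obtain ⟨τ, hτ⟩ := exists_rootless k
  obtain ⟨s₀, h0⟩ := exists_tau τ
  have hτ' := hτ.map h.hι hφ
  have f1 := fun s (hs : tau s = τ) => h.fp p hp ha h1 h2 h2' h3 (hs ▸ hτ')
  have f2 := fun s (hs : tau s = -τ) => h.fp p hp (inv_mem ha) (χ := fun r => (χ r)⁻¹) (fun r t => by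
    rw [inv_inv, ← mul_inv_cancel_left₀ (χ r).ne_zero t, ← h1, Units.val_inv_eq_inv_val,
      inv_mul_cancel_left₀ (χ r).ne_zero]; group) (by simp [h2]) (by simp [h2']) (by simpa using h3)
    (s := s) (by rw [hs, map_neg]; exact hτ'.neg)
  have key := fun (h5 : (2 : k) = 0 ∨ a⁻¹ = a) => @TwSys.SLv.good _ _ _ _ _ _ _ _ _ _ _ _ _ _ _ _ _ h _ _ hL.grp hw0 _ ha.1
    (h.sl.conj_dl (fun t => by simp [h1, h2]) fun t => by simp [h1, h2']) h5 _ hτ (fun s hs => (f1 s hs).1)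
    (fun s hs => (f2 s hs).1) _ h0
  refine ⟨_, (f1 s₀ h0).1.fix, (f1 s₀ h0).2, fun g hg hg' => ?_⟩
  rcases h4 with ⟨h4, h5⟩ | ⟨h4, hc, L₁, L₂, p1, q1, n1, r1, s1, p2, q2, n2, r2, s2⟩
  · refine hL.cover hs ?_ hg hg'
    rintro _ ⟨s, rfl⟩
    exact key (Or.inr h5) (Or.inl fun e => h4 (by rw [← map_ofNat ι, e, map_zero]))
  · obtain ⟨d, hd, v, hv, s, v', hv', h5, e⟩ :=
      TwSys.exists_gauss_two h hL hw0 h4 hc p1 q1 n1 r1 s1 p2 q2 n2 r2 s2 hs hg hg'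
    exact TwSys.CCov.of_conj hd (e ▸ (key (Or.inl (ι.injective (by rw [map_ofNat, h4, map_zero]))) (Or.inr h5)).cov hv hv')

end Cfsg.Lib.Twist
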