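/-
Schur multipliers of twisted groups: explicit elements.
-/
import Cfsg.Agent.Lib.Twist.MuE6
import Cfsg.Agent.Lib.Twist.InvTw

set_option autoImplicit false

namespace Cfsg.Lib.Twist

open Subgroup Cfsg.Lib.Chev PreSys RootSys Cfsg.Lie
open scoped commutatorElement

section
variable {E G : Type*} [Group E] [Group G] {I Φ : Type*} [Fintype I] [DecidableEq I] {R : RootSys I Φ} {K : Type*} [Field K]
  {S : PreSys R K G} {T : Tw R} {X : TwSys S T} {ℓ : Φ → ℕ} {rep : ℕ → Φ} {n : ℕ}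

/-- The terms of the filtration. -/
abbrev Lev.A (_ : Lev S T ℓ rep n) (π : E →* G) (k : ℕ) : Subgroup E := (S.U (lv R ℓ k)).comap π

/-- The coordinates of the filtration. -/
noncomputable abbrev Lev.c (_ : Lev S T ℓ rep n) (π : E →* G) (k : ℕ) (g : E) : K := S.co (lv R ℓ k) (rep k) (π g)

/-- The condition on two layers. -/
abbrev Lev.PO (L : Lev S T ℓ rep n) (π : E →* G) (W : Subgroup E) (j k : ℕ) : Prop :=
  PairOK (S.H.comap π) W (L.A π j) (L.c π j) (L.A π k) (L.c π k)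

/-- Lifts of the terms of the filtration. -/
abbrev Lev.LF (L : Lev S T ℓ rep n) (π : E →* G) (W : Subgroup E) (k : ℕ) : Prop := Lf π.ker (S.H.comap π) (L.A π) W k

variable (S) in
/-- A product over an orbit of length three. -/
def tri (f : K →+* K) (a b c : Φ) (t : K) : G := S.x a t * (S.x b (f t) * S.x c (f (f t)))

variable (X) in
/-- An orbit of three commuting root subgroups. -/
structure TwSys.Tri (f : K →+* K) (a b c : Φ) : Prop where
  ab : T.ρ a = b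
  bc : T.ρ b = c
  ca : T.ρ c = a
  ne : b ≠ a ∧ c ≠ a
  ε : ∀ s, X.ε s = 1
  φ : ∀ s, X.φ s = f
  fff : ∀ t, f (f (f t)) = t
  c1 : ∀ t u, Commute (S.x a t) (S.x b u)
  c2 : ∀ t u, Commute (S.x a t) (S.x c u)
  c3 : ∀ t u, Commute (S.x b t) (S.x c u)

namespace TwSys.Tri
variable {f : K →+* K} {a b c : Φ} (h : X.Tri f a b c)
include h

theorem fix (t : K) : tri S f a b c t ∈ X.Fix := X.mem_Fix.2 (by
  rw [tri, map_mul, map_mul, X.σ_x, X.σ_x, X.σ_x, ((h.c1 _ _).mul_right (h.c2 _ _)).eq]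
  simp only [h.ab, h.bc, h.ca, h.ε, h.φ, h.fff, one_mul, mul_assoc])

theorem add (t u : K) : tri S f a b c (t + u) = tri S f a b c t * tri S f a b c u := by
  simp only [tri, map_add, S.x_add]
  rw [(h.c3 _ _).mul_mul_mul_comm, ((h.c1 _ _).mul_right (h.c2 _ _)).mul_mul_mul_comm]

theorem conj {g : G} (hg : g ∈ X.Fix) {χ : Φ → K} (e : ∀ s t, g * S.x s t * g⁻¹ = S.x s (χ s * t)) (t : K) :
    g * tri S f a b c t * g⁻¹ = tri S f a b c (χ a * t) := by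
  have h1 := X.char_ρ hg e a
  have h2 := X.char_ρ hg e b
  rw [h.ab, h.φ] at h1
  rw [h.bc, h.φ, h1] at h2
  simp only [tri, map_mul, h1, h2, ← conj_mul, e]

omit h in
theorem mem {A : Set Φ} (ha : a ∈ A) (hb : b ∈ A) (hc : c ∈ A) (t : K) : tri S f a b c t ∈ S.U A :=
  mul_mem (S.x_mem_U ha _) (mul_mem (S.x_mem_U hb _) (S.x_mem_U hc _))

theorem lay [Finite Φ] {A A' : Set Φ} (L : Lay T A A' a) (t : K) : tri S f a b c t ∈ S.U A ∧ S.co A a (tri S f a b c t) = t := by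
  have hb := h.ab ▸ L.inv a L.mem.1
  have hc := h.bc ▸ L.inv b hb
  exact ⟨mem L.mem.1 hb hc t, co_eq (L.ext a L.mem) X.sep (by
    simpa [tri] using mul_mem (S.x_mem_U (T := A \ {a}) ⟨hb, h.ne.1⟩ _) (S.x_mem_U (T := A \ {a}) ⟨hc, h.ne.2⟩ _))⟩

end TwSys.Tri

namespace TwSys.Cen
variable {π : E →* G} (C : X.Cen π) (h2 : ∀ r t, X.φ r t = t → t = 0 ∨ t = 1)
include C h2

theorem H_fix {r : Φ} (hr : T.ρ r = r) {g a : E} (hg : g ∈ S.H.comap π) (ha : π a = S.x r 1) : π (g * a * g⁻¹) = π a := by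
  obtain ⟨χ, h1, h3⟩ := X.st.exists_char hg
  have := X.char_ρ (C.fix g) h3 r
  rw [hr] at this
  rw [map_mul, map_mul, map_inv, ha, h3, (h2 _ _ this.symm).resolve_left (h1.ne_zero _), one_mul]

variable [Finite Φ] (L : Lev S T ℓ rep n) {j k : ℕ} (hj : j < n) (hk : k < n) (hr : T.ρ (rep k) = rep k ∧ X.ε (rep k) = 1) {W : Subgroup E}
include hk hr

include hj in
theorem pair_one (hs : T.ρ (rep j) = rep j ∧ X.ε (rep j) = 1) {a b : E} (ha : π a = S.x (rep j) 1) (hb : π b = S.x (rep k) 1) (e : ⁅a, b⁆ ∈ W) :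
    L.PO π W j k := C.pair_long (L.lay hj) (L.lay hk) hs.1 hs.2 hr.1 hr.2 fun t u ht hu => by
  rcases h2 _ _ ht with rfl | rfl <;> rcases h2 _ _ hu with rfl | rfl
  exacts [⟨1, 1, by simp [S.x_zero]⟩, ⟨1, b, by simp [S.x_zero, hb]⟩, ⟨a, 1, by simp [S.x_zero, ha]⟩, ⟨a, b, ha, hb, e⟩]

theorem lift_one (hW : L.LF π W (k + 1)) (hg : ∀ u ∈ L.A π 0, ∀ a ∈ L.A π k, ⁅u, a⁆ ∈ W) {w : E} (h1 : π w = S.x (rep k) 1) (h4 : w * w ∈ W)
    (h5 : ∀ g ∈ S.H.comap π, g * w * g⁻¹ = w) : ∃ W', W ≤ W' ∧ (∀ g, g ∈ W' ↔ g ∈ W ∨ w⁻¹ * g ∈ W) ∧ L.LF π W' k := by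
  have M := L.lay hk
  have e : S.co (Twist.lv R ℓ k) (rep k) (π w) = 1 := by rw [h1, co_x (M.ext _ M.mem) X.sep]
  exact (C.fil L).lift₂ hk hW hg (mem_comap.2 (h1 ▸ S.x_mem_U M.mem.1 _)) (e ▸ one_ne_zero) (fun a ha => e ▸ h2 (rep k) _ (by
    simpa [hr] using (X.co_σ M M.mem ⟨ha, C.fix a⟩).symm)) h4 h5

end TwSys.Cen

end

theorem co_evW {D : ChevalleyDatum} {t : RTab} (h : RootOK D t) {K G : Type*} [Field K] [Group G] {S : PreSys h.R K G} {T : Tw h.R} (hF : S.Sep)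
    (hE : S.Exact fun r s => termsF D r s) {p L P n : ℕ} (hp : (p : K) = 0) (M : Lev S T (fun r => lk L r) (fun k => h.rr (lk P k)) n) {k : ℕ}
    (hk : k < n) {w : PW} {Q : Pol} (e : (colW D p w).head? = some (lk P k % D.nroots, Q) ∧ ∀ a ∈ (colW D p w).tail,
      D.nroots ≤ 2 * a.1 ∧ k ≤ lk L a.1 ∧ a.1 ≠ lk P k % D.nroots) (v : ℕ → K) :
    S.evW v w ∈ S.U (lv h.R (fun r => lk L r) k) ∧ S.co (lv h.R (fun r => lk L r) k) (h.rr (lk P k)) (S.evW v w) = evP v Q := by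
  have N := M.lay hk
  have h1 := S.evW_mem v (T := lv h.R (fun r => lk L r) k \ {h.rr (lk P k)}) (w := (colW D p w).tail) fun a ha r hr => by
    have := e.2 a ha
    rw [← hr] at this
    exact ⟨⟨(h.pos_iff_half r).2 this.1, this.2.1⟩, fun e => this.2.2 (congrArg Fin.val e)⟩
  rw [← evW_colW v hp h.compat hE, ← List.cons_head?_tail e.1, evW_cons, show S.xN (lk P k % D.nroots, Q).1 _ = S.x (h.rr (lk P k)) _ from S.xN_coe (h.rr _) _]
  exact ⟨mul_mem (S.x_mem_U N.mem.1 _) (S.U_mono Set.sdiff_subset h1), co_eq (N.ext _ N.mem) hF (by simpa using h1)⟩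

end Cfsg.Lib.Twist
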