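/-
The Schur multiplier of ³D₄(q).
-/
import Cfsg.Agent.Lib.Twist.MuF
import Cfsg.Agent.Lib.Twist.TwD4

set_option autoImplicit false

namespace Cfsg.Lib.Twist

open Subgroup Cfsg.Lib.Chev PreSys RootSys Cfsg.Lie
open scoped commutatorElement

universe u

/-- Levels of the roots of `D₄`. -/
def lvD4 : ℕ := 0x50403030201030202000101000000000000000000000000

/-- Representatives of the levels. -/
def repD4 : ℕ := 0x1716110f0c0e

/-- Certificates for pairs of levels. -/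
def sepD4 : ℕ := 0x409010002000009000002000000010000000000000001000000000100000000000000

/-- The exponents of a character. -/
noncomputable def pr3 (c r : ℕ) : ℤ × ℤ × ℤ :=
  (prN chevD4 (c % 24) (r % 24), prN chevD4 (lk rhoD4 (c % 24)) (r % 24), prN chevD4 (lk rhoD4 (lk rhoD4 (c % 24))) (r % 24))

theorem chkLev_D4 : chkLev chevD4 tabD4 0 rhoD4 lvD4 repD4 6 = true := by decide +kernel

set_option synthInstance.maxSize 4000 in
theorem chkSep_D4 : (∀ r < 24, lk rhoD4 (lk rhoD4 (lk rhoD4 r)) = r) ∧ (∀ j ∈ [1, 2, 3], pr3 (lk repD4 j) (lk repD4 j) = (2, 0, 0) ∧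
    pr3 (lk sepD4 (7 * j)) (lk repD4 j) = (-1, -1, -1) ∧ ∀ k ∈ [0, 4, 5], ∃ m ∈ [-1, 0, 1], pr3 (lk repD4 j) (lk repD4 k) = (m, m, m)) ∧
    ∀ k < 6, pr3 (lk 0x10000000100 k) (lk repD4 k) = (-1, -1, -1) ∧ (k ∈ [1, 2, 3] ∨ okLong chevD4 rhoD4 epsD4 (lk repD4 k % 24) (lk repD4 k % 24)
      (lk 0xe0900000001 k % 24) (lk 0x161700000017 k % 24)) ∧ ∀ j < k, j ∈ [1, 2, 3] ∧ k ∈ [0, 4, 5] ∨ j ∈ [0, 4, 5] ∧ k ∈ [1, 2, 3] ∨
    (pr3 (lk sepD4 (6 * k + j)) (lk repD4 j) = (0, 0, 0) ∧ pr3 (lk sepD4 (6 * k + j)) (lk repD4 k) ∈ [(1, 1, 1), (-1, -1, -1)] ∨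
    pr3 (lk sepD4 (6 * k + j)) (lk repD4 j) ∈ [(1, 1, 1), (-1, -1, -1)] ∧ pr3 (lk sepD4 (6 * k + j)) (lk repD4 k) = (0, 0, 0)) := by decide +kernel

namespace D4Data

variable {K : Type u} [Field K] {q : ℕ} (d : D4Data K q)

theorem lev : Lev (sD4 K) d.T (fun r => lk lvD4 r) (fun k => rootOK_D4.rr (lk repD4 k)) 6 :=
  lev_of_chk rootOK_D4 (rootOK_D4.compat.gexact matOK_D4) Nat.cast_zero d.ρ_val chkLev_D4

variable [Fintype K] (hK : Fintype.card K = q ^ 3)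
include hK

include d in
theorem qqq (t : K) : ((t ^ q) ^ q) ^ q = t := by simpa only [d.φ_eq] using d.φφ hK (rootOK_D4.rr 0) (rootOK_D4.rr 0) (rootOK_D4.rr 0) t

theorem tor (c : ℕ) {a : K} (ha : a ≠ 0) : ∃ χ, d.X.Tor χ ∧ ∀ r, χ (rootOK_D4.rr r) =
    a ^ (pr3 c r).1 * ((a ^ q) ^ (pr3 c r).2.1 * ((a ^ q) ^ q) ^ (pr3 c r).2.2) :=
  ⟨_, d.X.tor₃ (c := rootOK_D4.rr c) (Fin.ext (by rw [d.ρ_val, d.ρ_val, d.ρ_val]; exact chkSep_D4.1 _ (Fin.prop _)))
    (fun r => d.φ_const r (rootOK_D4.rr 0)) ha (d.φφ hK _ _ _ _), fun r => by simp only [rootOK_D4.compat.pair_eq, d.ρ_val, d.φ_eq]; rfl⟩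

variable (hq : 1 < q)
include hq

theorem sep {j k : ℕ} (hj : j ∈ [1, 2, 3]) (hk : k ∈ [0, 4, 5]) :
    ∃ χ, d.X.Tor χ ∧ χ (rootOK_D4.rr (lk repD4 j)) ≠ 1 ∧ χ (rootOK_D4.rr (lk repD4 k)) = 1 := by
  obtain ⟨b, hb⟩ := exists_pow_ne_one_of_isCyclic (G := Kˣ) (k := 2 * (q - 1)) (by omega) (by
    rw [Nat.card_units, Nat.card_eq_fintype_card, hK, Nat.lt_sub_iff_add_lt]
    have : 2 * q ≤ q ^ 3 := by nlinarith [Nat.mul_le_mul hq hq]
    omega)
  obtain ⟨χ, h1, h2⟩ := d.tor hK (lk repD4 j) (div_ne_zero (pow_ne_zero q b.ne_zero) b.ne_zero)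
  obtain ⟨h3, -, h4⟩ := chkSep_D4.2.1 j hj
  obtain ⟨m, -, h4⟩ := h4 k hk
  refine ⟨χ, h1, fun e => hb (Units.ext ?_), ?_⟩
  · simpa [h2, h3, zpow_ofNat, pow_mul', pow_sub₀ _ b.ne_zero hq.le, div_eq_mul_inv] using e
  · simp only [h2, h4, ← mul_zpow, div_pow, d.qqq hK]
    rw [show _ * _ = (1 : K) by field_simp, one_zpow]

variable {E : Type*} [Group E] {π : E →* chevD4.group K} (C : d.X.Cen π) {W : Subgroup E}
include C

theorem po_sep {j k : ℕ} (hj : j ∈ [1, 2, 3]) (hk : k ∈ [0, 4, 5]) : d.lev.PO π W j k ∧ d.lev.PO π W k j := by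
  have := d.lev.lay (k := j) (by revert j; decide)
  have := d.lev.lay (k := k) (by clear this; revert k; decide)
  obtain ⟨χ, h1, h2⟩ := d.sep hK hq hj hk
  exact ⟨C.pair_sep ‹_› ‹_› h1 (Or.inr h2), C.pair_sep ‹_› ‹_› h1 (Or.inl h2.symm)⟩

omit d C [Field K] in
theorem card_gt : 7 < Nat.card K := by
  rw [Nat.card_eq_fintype_card, hK]; exact lt_of_lt_of_le (by norm_num) (Nat.pow_le_pow_left hq 3)

theorem po_two {k : ℕ} (hk : k ∈ [1, 2, 3]) : d.lev.PO π W k k := by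
  have := d.lev.lay (k := k) (by revert k; decide)
  refine C.pair_two this this (card_gt hK hq) fun v hv => ?_
  obtain ⟨m, hm⟩ := Nat.even_mul_succ_self q
  obtain ⟨χ, h1, h2⟩ := d.tor hK (lk repD4 k) (pow_ne_zero (m + 1) hv)
  obtain ⟨ψ, h3, h4⟩ := d.tor hK (lk sepD4 (7 * k)) hv
  refine ⟨_, h1.mul h3, and_self_iff.2 ?_⟩
  simp only [h2, h4, (chkSep_D4.2.1 k hk).1, (chkSep_D4.2.1 k hk).2.1, zpow_neg_one, pow_zero, mul_one, zpow_ofNat, ← mul_inv, ← pow_mul]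
  rw [mul_inv_eq_iff_eq_mul₀ (by simp [hv]), show (m + 1) * 2 = 1 + (1 + (q + q * q)) by nlinarith]
  simp only [pow_add, pow_one]

theorem big (h2 : 2 < q) : ∀ z ∈ ⁅d.lev.A π 0, d.lev.A π 0⁆, z ∈ π.ker → z = 1 := by
  have L := d.lev
  obtain ⟨a, ha⟩ := exists_pow_ne_one_of_isCyclic (G := Kˣ) (k := 1 + (q + q * q)) (by simp) (by
    rw [Nat.card_units, Nat.card_eq_fintype_card, hK, Nat.lt_sub_iff_add_lt]; nlinarith)
  have h1 : ∀ p ∈ [((1, 1, 1) : ℤ × ℤ × ℤ), (-1, -1, -1)], (a : K) ^ p.1 * (((a : K) ^ q) ^ p.2.1 * (((a : K) ^ q) ^ q) ^ p.2.2) ≠ 1 := by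
    simpa [← mul_inv, -mul_inv_rev, pow_add, pow_mul, Units.ext_iff] using ha
  refine C.of_pairs L le_rfl (by simp) (C.fil L).lf_bot (fun k hk j hj => ?_) fun k hk _ => ?_
  · obtain rfl | hj := hj.eq_or_lt
    · exact (chkSep_D4.2.2 j hk).2.1.elim (d.po_two hK hq C) fun e =>
        d.pair_long C (L.lay hk) (L.lay hk) (a := rootOK_D4.rr _) (b := rootOK_D4.rr _) e
    obtain ⟨χ, h2, h3⟩ := d.tor hK (lk sepD4 (6 * k + j)) a.ne_zero
    rcases (chkSep_D4.2.2 k hk).2.2 j hj with e | e | e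
    exacts [(d.po_sep hK hq C e.1 e.2).1, (d.po_sep hK hq C e.2 e.1).2, C.pair_sep (L.lay (by omega)) (L.lay hk) h2
      (e.imp (fun e => ⟨by simp [h3, e], h3 _ ▸ h1 _ e.2⟩) fun e => ⟨h3 _ ▸ h1 _ e.1, by simp [h3, e]⟩)]
  · obtain ⟨χ, h2, h3⟩ := d.tor hK (lk 0x10000000100 k) a.ne_zero
    exact ⟨χ, h2, h3 _ ▸ h1 _ (by simp [(chkSep_D4.2.2 k hk).1])⟩

set_option maxHeartbeats 800000 in
theorem small (h2 : q = 2) : ∀ z ∈ ⁅d.lev.A π 0, d.lev.A π 0⁆, z ∈ π.ker → z = 1 := by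
  subst h2
  have := charP_of_card_eq_prime_pow hK
  have c2 := CharP.cast_eq_zero K 2
  have hc := rootOK_D4.compat
  have hE : (sD4 K).Exact _ := hc.gexact matOK_D4
  have L := d.lev
  have F := C.fil L
  have h2 : ∀ r t, d.X.φ r t = t → t = 0 ∨ t = 1 := fun r t e => eq_zero_or_one_of_sq_eq_self (d.φ_eq r t ▸ e)
  have hε : ∀ {e : K}, e * e = 1 → e = 1 := fun e => by simpa [CharTwo.neg_eq] using mul_self_eq_one_iff.1 e
  have fx : ∀ k ∈ [0, 4, 5], d.T.ρ (rootOK_D4.rr (lk repD4 k)) = rootOK_D4.rr (lk repD4 k) ∧ d.X.ε (rootOK_D4.rr (lk repD4 k)) = 1 :=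
    fun k hk => d.fixed (by revert k; decide +kernel)
  have cm := fun {r s} h t u => x_comm_of rootOK_D4 matOK_D4 (K := K) (p := 2) (r := rootOK_D4.rr r) (s := rootOK_D4.rr s) h u t
  have tr : ∀ a ∈ [12, 17], d.X.Tri (d.X.φ (rootOK_D4.rr 0)) (rootOK_D4.rr a) (rootOK_D4.rr (lk rhoD4 a)) (rootOK_D4.rr (lk rhoD4 (lk rhoD4 a))) :=
    fun a ha => ⟨Fin.ext ((d.ρ_val _).trans (by revert a; decide +kernel)), Fin.ext ((d.ρ_val _).trans (by revert a; decide +kernel)),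
      Fin.ext ((d.ρ_val _).trans (by revert a; decide +kernel)), by revert a; decide +kernel, fun s => hε (d.X.ε_sq s), fun s => d.φ_const _ _, d.φφ hK _ _ _,
      cm (by revert a; decide +kernel), cm (by revert a; decide +kernel), cm (by revert a; decide +kernel)⟩
  have t1 := tr 12 (by simp)
  have t3 := tr 17 (by simp)
  have lf := fun k hk => C.lift (d.X.x_fix (fx k hk).1 (fx k hk).2 (map_one _))
  obtain ⟨b, hb⟩ := lf 0 (by simp)
  obtain ⟨c, hc'⟩ := lf 4 (by simp)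
  obtain ⟨g, hg⟩ := C.lift (cw_fix d.ρ_val d.X hE (l := [15, 19, 16]) (by decide +kernel) 0)
  obtain ⟨g', hg'⟩ := C.lift (cw_fix d.ρ_val d.X hE (l := [17, 20, 21]) (by decide +kernel) 0)
  have ev : ∀ r < 24, (sD4 K).x (rootOK_D4.rr r) 1 = (sD4 K).evW 0 (cw [r]) := fun r hr => by
    simp [evW_cw, xN, RootOK.rr, show r < chevD4.nroots from hr, Nat.mod_eq_of_lt]
  have e0 : ∀ {a b l l' r}, π a = (sD4 K).evW 0 (cw l) → π b = (sD4 K).evW 0 (cw l') → colW chevD4 2 (cw l ++ cw l' ++ invW 2 (cw l) ++ invW 2 (cw l')) =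
      colW chevD4 2 (cw r) → π ⁅a, b⁆ = (sD4 K).evW 0 (cw r) := fun h h' e => by
    simpa [evW_invW _ c2, commutatorElement_def, h, h', mul_assoc] using evW_eq 0 c2 hc hE e
  have e1 := (e0 hg hg' (r := [23]) (by decide +kernel)).trans (ev 23 (by simp)).symm
  replace hb := hb.trans (ev _ (by decide))
  replace hc' := hc'.trans (ev _ (by decide))
  have e2 := (e0 hb hc' (r := [23]) (by decide +kernel)).trans (ev 23 (by simp)).symm
  have e3 : ∀ {a l}, π a = (sD4 K).evW 0 (cw l) → (∀ l' ∈ [[15, 19, 16], [17, 20, 21]],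
      colW chevD4 2 (cw l ++ cw l' ++ invW 2 (cw l) ++ invW 2 (cw l')) = colW chevD4 2 (cw [])) → ⁅a, ⁅g, g'⁆⁆ ∈ (⊥ : Subgroup E) := fun h e =>
    C.comm_comm (commutatorElement_eq_one_iff_commute.1 ((map_commutatorElement _ _ _).symm.trans (e0 h hg (e _ (by simp)))))
      (commutatorElement_eq_one_iff_commute.1 ((map_commutatorElement _ _ _).symm.trans (e0 h hg' (e _ (by simp)))))
  have e4 := e3 hb (by decide +kernel)
  have e5 := e3 hc' (by decide +kernel)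
  replace hb := hb.trans (ev _ (by decide)).symm
  replace hc' := hc'.trans (ev _ (by decide)).symm
  have po := fun {j k W a b} hj hk => C.pair_one h2 L (j := j) (k := k) (by revert j; decide) (by revert k; decide) (fx k hk) (W := W) (fx j hj)
    (a := a) (b := b)
  have ps := fun {j k W} hj hk => d.po_sep hK hq C (W := W) (j := j) (k := k) hj hk
  have G5 := F.good (k := 5) (by simp) F.lf_bot fun j hj => by
    interval_cases j
    exacts [po (by simp) (by simp) hb e1 e4, (ps (by simp) (by simp)).1, (ps (by simp) (by simp)).1, (ps (by simp) (by simp)).1,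
      po (by simp) (by simp) hc' e1 e5, po (by simp) (by simp) e1 e1 (by simp)]
  have m0 : b ∈ L.A π 0 := mem_comap.2 (hb ▸ (sD4 K).x_mem_U (L.lay (by simp)).mem.1 _)
  have w1 : ⁅b, c⁆ * ⁅b, c⁆ = 1 := by
    have h3 := G5 b m0 ⁅b, c⁆ (mem_comap.2 (e2 ▸ (sD4 K).x_mem_U (L.lay (by simp)).mem.1 _))
    have h4 := C.comm_congr (a := b * b) (a' := 1) (b := c) (by rw [map_mul, hb, ← x_add, CharTwo.add_self_eq_zero, x_zero, map_one]) rfl
    rw [show ⁅b * b, c⁆ = ⁅b, ⁅b, c⁆⁆ * (⁅b, c⁆ * ⁅b, c⁆) by group, mem_bot.1 h3] at h4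
    simpa using h4
  have w2 : ∀ h ∈ (sD4 K).H.comap π, h * ⁅b, c⁆ * h⁻¹ = ⁅b, c⁆ := fun h hh => (conjugate_commutatorElement _ _ _).trans
    (C.comm_congr (C.H_fix h2 (fx 0 (by simp)).1 hh hb) (C.H_fix h2 (fx 4 (by simp)).1 hh hc'))
  obtain ⟨W5, -, m5, L5⟩ := C.lift_one h2 L (k := 5) (by simp) (fx _ (by simp)) F.lf_bot G5 e2 w1 w2
  have a5 := (m5 ⁅b, c⁆).2 (Or.inr (mem_bot.2 (inv_mul_cancel _)))
  have G4 := F.good (k := 4) (by simp) L5 fun j hj => by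
    interval_cases j
    exacts [po (by simp) (by simp) hb hc' a5, (ps (by simp) (by simp)).1, (ps (by simp) (by simp)).1, (ps (by simp) (by simp)).1,
      po (by simp) (by simp) hc' hc' (by simp)]
  generalize ⁅b, c⁆ = w at e2 w1 w2 m5 a5
  obtain ⟨n, hn⟩ := C.lift (g := (sD4 K).n (rootOK_D4.R.simple (n4 1)) 1) (by
    rw [d.X.mem_Fix, d.X.σ_n, d.T.ρ_simple, d.p1, hε (d.X.ε_sq _), map_one, one_mul])
  have n1 : ∀ r s t, chevD4.reflectRoot 1 (r % 24) = s % 24 → π n * (sD4 K).x (rootOK_D4.rr r) t * (π n)⁻¹ = (sD4 K).x (rootOK_D4.rr s) t :=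
    fun r s t e => by
      obtain ⟨ε, h3, -, -, h4⟩ := d.X.st (rootOK_D4.R.simple (n4 1))
      rw [hn, h4 _ _ _ one_ne_zero, hε (h3 _), one_zpow, one_mul, one_mul]
      exact congrArg (fun r => (sD4 K).x r t) (Fin.ext ((hc.refl_eq _ _).trans e))
  have n2 : ∀ x, n * (n * x * n⁻¹) * n⁻¹ = x := fun x => by
    rw [← mul_assoc, ← mul_assoc, C.cen (n * n) (by rw [map_mul, hn, mul_eq_one_iff_eq_inv, ← n_neg, CharTwo.neg_eq])]; group
  obtain ⟨W4, le, m4, L4⟩ := C.lift_one h2 L (k := 4) (by simp) (fx _ (by simp)) L5 G4 (w := n * w * n⁻¹)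
    (by rw [map_mul, map_mul, e2, map_inv]; exact n1 _ _ _ (by decide +kernel)) (by rw [conj_mul, w1]; simp) fun h hh => by
      have := w2 (n⁻¹ * h * n⁻¹⁻¹) (by simpa using d.X.st.conj_mem_H (inv_mem (hn ▸ (sD4 K).n_mem_N _ one_ne_zero)) hh)
      conv_rhs => rw [← this]
      group
  have n3 : ∀ x ∈ W5, n * x * n⁻¹ ∈ W4 := fun x hx => by
    rcases (m5 x).1 hx with e | e
    · simp [mem_bot.1 e]
    · exact (m4 _).2 (Or.inr (by simp [← inv_mul_eq_one.1 (mem_bot.1 e), mul_assoc]))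
  have n4 : ∀ x ∈ W4, n * x * n⁻¹ ∈ W4 := fun x hx => ((m4 x).1 hx).elim (n3 x) fun e => by
    simpa [mul_assoc] using mul_mem (show n * (n * w * n⁻¹) * n⁻¹ ∈ W4 from (n2 w).symm ▸ le a5) (n3 _ e)
  have P23 : L.PO π W4 2 3 := Or.inr (Or.inr fun u hu a ha => by
    obtain ⟨x, hx⟩ := C.lift (t1.fix (L.c π 2 u))
    obtain ⟨y, hy⟩ := C.lift (t3.fix (L.c π 3 a))
    obtain ⟨χ, ⟨k, k1, k2⟩, k3, k4⟩ := d.sep hK hq (j := 3) (k := 0) (by simp) (by simp)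
    have h3 := commutatorElement_eq_one_iff_mul_comm.1 (C.comm_scale t3.add t3.fix (b := b) (fun t => hb ▸ ((cm (by decide +kernel) _ _).mul_left
      ((cm (by decide +kernel) _ _).mul_left (cm (by decide +kernel) _ _)))) k1.2 k3 (t3.conj k1.2 k2) (by rw [hb, k2, k4, one_mul]) hy)
    have h4 := t3.lay (L.lay (k := 3) (by simp)) (L.c π 3 a)
    have h5 := F.comm 3 x (F.le (Nat.zero_le 1) (by simp) (mem_comap.2 (hx ▸ (t1.lay (L.lay (k := 1) (by simp)) _).1))) y (mem_comap.2 (hy ▸ h4.1))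
    have h6 := co_evW rootOK_D4 d.X.sep hE c2 L (k := 2) (by simp) (w := invW 2 (cw [14]) ++ genW [12, 18, 13] 0 ++ cw [14] ++
      invW 2 (genW [12, 18, 13] 0)) (Q := varP 0) (by decide +kernel) fun i => (d.X.φ (rootOK_D4.rr 0))^[i] (L.c π 2 u)
    rw [show (sD4 K).evW _ _ = π ⁅b⁻¹, x⁆ by
      simp only [evW_append, evW_invW _ c2, commutatorElement_def, map_mul, map_inv, inv_inv, hb, hx]; simp [evW_cw, genW, tri]; rfl] at h6
    have M := F.lv 3 (by simp)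
    refine ⟨_, h6.1, ⁅x, y⁆ * y, mul_mem (M.le h5) (mem_comap.2 (hy ▸ h4.1)), (evP_varP _ 0).symm.trans h6.2.symm, ?_, le ?_⟩
    · exact ((M.add _ (M.le h5) _ (mem_comap.2 (hy ▸ h4.1))).trans (by rw [(M.ker _ (M.le h5)).2 h5, zero_add, hy]; exact h4.2)).symm
    · convert G4 _ (inv_mem m0) _ h5 using 1
      rw [show ⁅⁅b⁻¹, x⁆, ⁅x, y⁆ * y⁆ = b⁻¹ * x * (b * y) * b⁻¹ * x⁻¹ * b * x * y⁻¹ * x⁻¹ by group,
        show ⁅b⁻¹, ⁅x, y⁆⁆ = b⁻¹ * x * y * x⁻¹ * y⁻¹ * (b * y) * x * y⁻¹ * x⁻¹ by group, ← h3]; group)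
  have G3 := F.good' (k := 3) (by simp) L4 (B := fun j => L.A π (j + 2)) (m := 2) (fun j _ => F.lv _ (by omega))
    (fun j _ => F.le (Nat.zero_le _) (by omega)) le_rfl fun j hj => by
      interval_cases j
      exacts [P23, d.po_two hK hq C (by simp)]
  have P13 : L.PO π W4 1 3 := Or.inr (Or.inr fun u hu a ha => by
    obtain ⟨x, hx⟩ := C.lift (t1.fix (L.c π 1 u))
    obtain ⟨y, hy⟩ := C.lift (t3.fix (L.c π 3 a))
    have h3 := t1.lay (L.lay (k := 1) (by simp)) (L.c π 1 u)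
    have h4 := t3.lay (L.lay (k := 3) (by simp)) (L.c π 3 a)
    have h5 : ∀ k r, 24 ≤ 2 * (r % 24) ∧ k ≤ lk lvD4 (r % 24) → rootOK_D4.rr r ∈ lv rootOK_D4.R (fun r => lk lvD4 r) k := fun k r e =>
      ⟨(rootOK_D4.pos_iff_half _).2 e.1, e.2⟩
    refine ⟨x, mem_comap.2 (hx ▸ h3.1), y, mem_comap.2 (hy ▸ h4.1), (hx ▸ h3.2).symm, (hy ▸ h4.2).symm, n2 ⁅x, y⁆ ▸ n4 _ ?_⟩
    rw [conjugate_commutatorElement]
    refine G3 _ (mem_comap.2 ?_) _ (mem_comap.2 ?_) <;> rw [map_mul, map_mul, map_inv]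
    · rw [hx, tri, ← conj_mul, ← conj_mul, n1 _ 15 _ (by decide +kernel), n1 _ 19 _ (by decide +kernel), n1 _ 16 _ (by decide +kernel)]
      exact TwSys.Tri.mem (h5 _ _ (by decide)) (h5 _ _ (by decide)) (h5 _ _ (by decide)) _
    · rw [hy, tri, ← conj_mul, ← conj_mul, n1 _ 17 _ (by decide +kernel), n1 _ 20 _ (by decide +kernel), n1 _ 21 _ (by decide +kernel)]
      exact h4.1)
  have P12 : L.PO π W4 1 2 := C.pair_two (L.lay (by simp)) (L.lay (by simp)) (card_gt hK hq) fun v hv => by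
    obtain ⟨χ, h3, h4⟩ := d.tor hK 12 (pow_ne_zero 2 (pow_ne_zero 2 hv))
    refine ⟨χ, h3, ?_, ?_⟩
    · simpa [h4, show pr3 12 (lk repD4 1) = (2, 0, 0) by decide +kernel, zpow_ofNat] using d.qqq hK v
    · simp only [h4, show pr3 12 (lk repD4 2) = (1, -1, -1) by decide +kernel, d.qqq hK]
      field_simp
  refine C.of_pairs L (m := 4) (by simp) (by simp) L4 (fun k hk j hj => ?_) fun k hk h => (d.sep hK hq (k := 0) (by
    interval_cases k <;> simp) (by simp)).imp fun _ e => ⟨e.1, e.2.1⟩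
  interval_cases k <;> interval_cases j
  exacts [po (by simp) (by simp) hb hb (by simp), (ps (by simp) (by simp)).2, d.po_two hK hq C (by simp), (ps (by simp) (by simp)).2, P12,
    d.po_two hK hq C (by simp), (ps (by simp) (by simp)).2, P13, P23, d.po_two hK hq C (by simp)]

omit C in
include d in
theorem mult : HasCyclicSchurMultiplier (twistedD4 K q) 1 := by
  refine Mult.mult_congr_left (Mult.mult_one_iff.2 fun E _ _ σ h => ?_)
    ((MulEquiv.subgroupCongr (d.eq_Fix hK).symm).trans (subgroupOfEquivOfLe (d.gen hK).1))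
  obtain ⟨C, e⟩ := TwSys.cen_of_stem h
  obtain ⟨p, hp⟩ := CharP.exists K
  have := Fact.mk (CharP.char_is_prime K p)
  have C := C.cov (p := p) (d.grp hK).fix (d.eq_Fix hK ▸ (d.gen hK).2) (e ▸ h.2.2)
    ((Nat.lt_or_eq_of_le hq).elim (d.big hK hq C) fun e => d.small hK hq C e.symm)
  have h3 := C.card_dvd (s := {n4 0, n4 1}) (n := fun j => if j = n4 0 then q ^ 3 - 1 else q - 1) (fun i => (n4_cases i).elim
    (fun e => ⟨i, by simp [e], d.T.mem_orb i⟩) fun h => ⟨n4 0, by simp, (d.orb3 (by simp) i).2 h⟩) fun j hj => by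
    simp only [Finset.mem_insert, Finset.mem_singleton] at hj
    rcases hj with rfl | rfl
    exacts [by simpa [hK] using C.card₃ d.o3 d.p0 d.p2 d.p3 (d.orb3 (by simp)) (d.φφ hK _ _ _),
      (C.card₁ d.o1 d.orb1).trans (dvd_of_eq (congrArg (· - 1) (show _ = q by simpa [d.φ_eq] using (card_fixed hq hK).2)))]
  have h4 := (congrArg (· * _) d.card_ker).symm.trans ((d.X.card_H_Fix (List.nodup_finRange _) List.mem_finRange (gZ _ _) (d.hz hK)).trans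
    (d.card_Tf hK hq))
  rw [e, show ∏ j ∈ _, _ = (q - 1) * (q ^ 3 - 1) by rw [Finset.prod_pair (by decide), mul_comm]; rfl, ← h4] at h3
  exact card_eq_one.1 (Nat.dvd_one.1 (Nat.dvd_of_mul_dvd_mul_right Nat.card_pos h3))

end D4Data

end Cfsg.Lib.Twist
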