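/-
Squares of semisimple conjugacy classes in `G₂(q)`, `B₂(q)` and `³D₄(q)`.
-/
import Cfsg.Agent.Lib.Twist.CCD
import Cfsg.Agent.Lib.Twist.MuD4
import Cfsg.Agent.Lib.Twist.TwG2
import Cfsg.Agent.Lib.Twist.RootB2
import Cfsg.Agent.Lib.Chev.InvolD
import Cfsg.Agent.Lib.Chev.FieldFix

set_option autoImplicit false
set_option synthInstance.maxSize 4096
set_option synthInstance.maxHeartbeats 200000

namespace Cfsg.Lib.Twist

open Cfsg.Lib.Chev PreSys RootSys Cfsg.Lie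

universe u

theorem TwSys.cov_transfer {I Φ : Type*} [Fintype I] [DecidableEq I] {R : RootSys I Φ} {K : Type*} [Field K] {G : Type*}
    [Group G] {S : PreSys R K G} {T : Tw R} {X : TwSys S T} {Γ : Type*} [Group Γ] (e : X.Fix ≃* Γ) {P : ℕ → Prop}
    (h : ∃ x ∈ X.Fix, P (orderOf x) ∧ ∀ g ∈ X.Fix, g ≠ 1 → X.CCov x g) :
    ∃ x : Γ, P (orderOf x) ∧ ∀ g : Γ, g ≠ 1 → ∃ u v : Γ, g = (u * x * u⁻¹) * (v * x * v⁻¹) := by
  obtain ⟨x, hx, h1, h2⟩ := h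
  refine ⟨e ⟨x, hx⟩, by rwa [e.orderOf_eq, Subgroup.orderOf_mk], fun g hg => ?_⟩
  obtain ⟨g, rfl⟩ := e.surjective g
  obtain ⟨a, ha, b, hb, h3⟩ := h2 g g.2 fun h => hg (by rw [show g = 1 from Subtype.ext h, map_one])
  refine ⟨e ⟨a, ha⟩, e ⟨b, hb⟩, ?_⟩
  simp only [← map_inv, ← map_mul]
  exact congrArg e (Subtype.ext h3)

theorem zpow_neg_one_odd {K : Type*} [Field K] {n : ℤ} (h : n % 2 = 1) : (-1 : K) ^ n = -1 :=
  Odd.neg_one_zpow (Int.odd_iff.2 h)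

theorem zpow_ne_one {K : Type*} [Field K] (h2 : (2 : K) = 0) {t : K} (h1 : t ≠ 1) {n : ℤ} (h : n = 2 ∨ n = -2) :
    t ^ n ≠ 1 := by
  rcases h with rfl | rfl
  · exact fun e => h1 (eq_one_of_sq h2 (by rwa [← zpow_two]))
  · exact fun e => h1 (eq_one_of_sq h2 (by rwa [zpow_neg, inv_eq_one, zpow_two] at e))

variable {D : ChevalleyDatum} {t : RTab} (h : RootOK D t) {η : ℕ → ℕ → ℤ} (hm : MatOK D η) {K : Type u} [Field K] [Finite K]
  {T : Tw h.R} {X : TwSys (h.compat.gsys hm K) T}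

/-- The decidable conditions for characteristic two. -/
def CC2 (D : ChevalleyDatum) (t : RTab) (ρ : ℕ → ℕ) (j : Fin D.rank) (L₁ L₂ : List (Fin D.nroots)) : Prop :=
  ((∀ r < D.nroots, lk t.L r = 1) ∨ ∀ r < D.nroots, ∀ s < D.nroots, prN D r s = 0 →
    colW D 2 [(r, varP 0), (s, varP 1)] = colW D 2 [(s, varP 1), (r, varP 0)]) ∧
  (∀ L ∈ [L₁, L₂], (L.Pairwise fun r s : Fin D.nroots => prN D r s = 0) ∧
    ((L.map fun r : Fin D.nroots => ρ r).Perm (L.map Fin.val)) ∧ L ≠ [] ∧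
    ∀ r ∈ L, D.nroots ≤ 2 * (r : ℕ) ∧ ∃ i : Fin D.rank, i ≠ j ∧ rtN D t r i ≠ 0) ∧
  (∀ r ∈ L₁, prN D r (D.simple j) = 0) ∧
  ∀ i : Fin D.rank, (L₂.map fun r : Fin D.nroots => prN D r (D.simple j) * rtN D t r i).sum = 2 * rtN D t (D.simple j) i

theorem cc_main (hΓ : X.Grp X.Fix) {i j : Fin D.rank} {l : List (Fin D.rank)} (hall : ∀ k, k ∈ l ∨ k = j) (ho : X.Orth l)
    (hl : ∀ k, k ∈ T.orb i ↔ k ∈ l) (hj : j ∉ l) (ho' : X.Orth [j]) (hl' : ∀ k, k ∈ T.orb j ↔ k ∈ [j])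
    (hz : ∀ z ∈ cartanKer h.R.A Kˣ, ∀ c, X.τ c = z * c → ∃ y ∈ cartanKer h.R.A Kˣ, X.τ y * z = y)
    (hw0 : ∃ w ∈ T.W1 Set.univ, ∀ r, w r = h.R.neg r) (hs : IsSimpleGroup X.Fix)
    (hφ : ∀ t, X.φ (h.R.simple j) (X.φ (h.R.simple j) (X.φ (h.R.simple j) t)) = t) (p : ℕ) [Fact p.Prime] [CharP K p]
    (hp : ∀ r < D.nroots, |prN D (D.simple j) r| ≤ 2) {χ : Fin D.nroots → K} (h1 : X.Tor χ) (h2 : χ (h.R.simple j) = -1)
    (h2' : χ (h.R.neg (h.R.simple j)) = -1) (h3 : ∀ r : Fin D.nroots, prN D (D.simple j) r = 0 → χ r ≠ 1)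
    {ρ : ℕ → ℕ} (hρ : ∀ r, (T.ρ r : ℕ) = ρ r) {L₁ L₂ : List (Fin D.nroots)}
    (h4 : ((2 : K) ≠ 0 ∧ ∀ r, χ r * χ r = 1) ∨ (2 : K) = 0 ∧ CC2 D t ρ j L₁ L₂) :
    ∃ x ∈ X.Fix, ¬ p ∣ orderOf x ∧ ∀ g ∈ X.Fix, g ≠ 1 → X.CCov x g := by
  obtain ⟨a, ha, h1⟩ := h1
  have h0 : ∀ r, χ r ≠ 0 := fun r e => one_ne_zero (X.sep.x_eq_one (r := r) (by
    have := h1 r 1
    rwa [e, zero_mul, x_zero, conj_eq_one_iff] at this))
  have hinv : (∀ r, χ r * χ r = 1) → a⁻¹ = a := fun a2 =>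
    inv_eq_of_mul_eq_one_left (gZ _ hm _ (mul_mem ha.1 ha.1) fun s u => by
      have e := h1 s (χ s * u)
      rw [← h1 s u, ← mul_assoc (χ s), a2 s, one_mul] at e
      exact Eq.trans (by simp only [mul_assoc, mul_inv_rev]) e)
  obtain ⟨ψ, hψ⟩ := exists_isSL X.st X.mult (h.R.simple j) ((X.φ (h.R.simple j)).eqLocusField (RingHom.id K)).subtype
  have hS : X.SLv j _ ψ := ⟨hψ, fun t => ⟨fun e => ⟨⟨t, e⟩, rfl⟩, fun ⟨s, e⟩ => e ▸ s.2⟩, ho', hl'⟩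
  have : Finite ((h.compat.adFam hm).G K) := inferInstanceAs (Finite (D.group K))
  refine TwSys.SLv.main (F := h.compat.adFam hm) hS (hS.levi hΓ hall ho hl hj (gZ _ hm) hz) hw0 hs hφ p
    (fun r => h.compat.pair_eq _ r ▸ hp r r.2) ha (χ := fun r => Units.mk0 _ (h0 r)) h1 (Units.ext h2) (Units.ext h2')
    (fun r e e' => h3 r ((h.compat.pair_eq _ r).symm.trans e) (congrArg Units.val e')) (h4.imp (fun hh => ⟨hh.1, hinv hh.2⟩) fun hh => ?_)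
  · obtain ⟨a1, a2, a3, a4, a5⟩ := hh
    have : CharP K 2 := (CharP.charP_iff_prime_eq_zero Nat.prime_two).2 (by exact_mod_cast a1)
    have key : ∀ L ∈ [L₁, L₂], (L.Pairwise fun r s => h.R.pair r s = 0) ∧ (L.map T.ρ).Perm L ∧ L ≠ [] ∧
        ∀ r ∈ L, h.R.Pos r ∧ ¬ h.R.InSub (T.orb j) r := fun L hL => by
      obtain ⟨b1, b2, b3, b4⟩ := a3 L hL
      refine ⟨by simpa only [h.compat.pair_eq] using b1, (List.map_perm_map_iff Fin.val_injective).1 (by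
        rwa [List.map_map, show Fin.val ∘ T.ρ = fun r : Fin D.nroots => ρ r from funext hρ]), b3, fun r hr =>
        ⟨(h.pos_iff_half r).2 (b4 r hr).1, fun e => ?_⟩⟩
      obtain ⟨k, c1, c2⟩ := (b4 r hr).2
      exact c2 (e k fun e' => c1 (List.mem_singleton.1 ((hl' k).1 e')))
    obtain ⟨b1, b2, b3, b4⟩ := key L₁ (by simp)
    obtain ⟨c1, c2, c3, c4⟩ := key L₂ (by simp)
    exact ⟨a1, commute_of_dec h (h.compat.gexact hm) a2, L₁, L₂, b1, b2, b3, b4,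
      fun r hr => (h.compat.pair_eq _ _).trans (a4 r hr), c1, c2, c3, c4, fun k => by
        simp only [h.compat.pair_eq]; exact a5 k⟩

include h hm in
theorem cc_rank_two (hD : D ∈ [chevG2, chevB2, chevD4, chevF4, chevE6, chevE7, chevE8]) (K : Type u) [Field K] [Fintype K]
    (hK : 3 ≤ Fintype.card K) (p : ℕ) [Fact p.Prime] [CharP K p] {i j : Fin D.rank} {γ : Fin D.nroots}
    {L₂ : List (Fin D.nroots)} {w : List (Fin D.rank)} (hd : (∀ k, k ∈ [i] ∨ k = j) ∧ j ∉ [i] ∧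
      (∀ r < D.nroots, (w.map Fin.val).foldr D.reflectRoot r = D.neg r) ∧ (∀ r < D.nroots, |prN D (D.simple j) r| ≤ 2) ∧
      prN D (D.simple i) (D.simple j) % 2 = 1 ∧ prN D γ (D.simple j) = 0 ∧
      (∀ r < D.nroots, prN D (D.simple j) r = 0 → prN D (D.simple i) r % 2 = 1 ∧ (prN D γ r = 2 ∨ prN D γ r = -2)) ∧
      CC2 D t id j [γ] L₂) :
    ∃ x : D.group K, ¬ p ∣ orderOf x ∧ ∀ g : D.group K, g ≠ 1 → ∃ u v : D.group K, g = (u * x * u⁻¹) * (v * x * v⁻¹) := by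
  obtain ⟨d1, d2, d3, d4, d5, d6, d7, d8⟩ := hd
  let X := h.compat.ftw hm (RingHom.id K)
  have hX : X.Fix = ⊤ := eq_top_iff.2 fun g _ => (h.compat.adFam hm).map_id g
  obtain ⟨c, c0, c1⟩ := exists_ne_zero_one (K := K) (by rw [Nat.card_eq_fintype_card]; omega)
  have e : X.Fix ≃* D.group K := (MulEquiv.subgroupCongr hX).trans Subgroup.topEquiv
  have := (h.compat.isSimpleGroup hm hD fun _ => ⟨c, c0, c1⟩).1
  have tor : ∀ (r : Fin D.nroots) (a : K), a ≠ 0 → X.Tor fun s => a ^ h.R.pair r s := fun r a ha =>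
    ⟨_, ⟨h_mem_H _ r ha, hX ▸ Subgroup.mem_top _⟩, X.st.h_conj r ha⟩
  have key := fun χ => cc_main h hm (X := X) (grp_refl X (fun _ => rfl) le_rfl fun _ _ _ => hX ▸ Subgroup.mem_top _) d1
    (orth_refl X (fun _ => rfl) i) (fun _ => mem_orb_refl) d2 (orth_refl X (fun _ => rfl) j) (fun _ => mem_orb_refl)
    (fun z _ c e => ⟨1, one_mem _, by
      have : X.τ c = c := funext fun k => Units.ext (X.τ_apply c k)
      rw [this, eq_comm, mul_eq_right] at e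
      rw [e, map_one, mul_one]⟩) (exists_neg_mem h.compat d3 _) e.isSimpleGroup (fun _ => rfl) p d4 (χ := χ)
  refine TwSys.cov_transfer e (P := fun n => ¬ p ∣ n) ?_
  by_cases h2 : (2 : K) = 0
  · have h3 : (1 : K) = -1 := by linear_combination h2
    refine key _ (tor γ c c0) ?_ ?_ (fun r hr => ?_) (ρ := id) (fun _ => rfl) (Or.inr ⟨h2, d8⟩)
    · rw [h.compat.pair_eq, show prN D γ (h.R.simple j) = 0 from d6, zpow_zero, ← h3]
    · rw [h.R.pair_neg_right, h.compat.pair_eq, show prN D γ (h.R.simple j) = 0 from d6, neg_zero, zpow_zero, ← h3]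
    · rw [h.compat.pair_eq]; exact zpow_ne_one h2 c1 (d7 r r.2 hr).2
  · refine key _ (tor (h.R.simple i) (-1) (by simp)) ?_ ?_ (fun r hr => ?_) (ρ := id) (fun _ => rfl) (L₁ := []) (L₂ := [])
      (Or.inl ⟨h2, fun r => by rw [← mul_zpow]; simp⟩)
    · rw [h.compat.pair_eq]; exact zpow_neg_one_odd d5
    · rw [h.R.pair_neg_right, h.compat.pair_eq, zpow_neg, zpow_neg_one_odd (n := prN D (h.R.simple i) (h.R.simple j)) d5, inv_neg, inv_one]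
    · rw [h.compat.pair_eq, zpow_neg_one_odd (n := prN D (h.R.simple i) r) (d7 r r.2 hr).1]
      exact fun e => h2 (by linear_combination -e)

theorem cc_G2 (K : Type u) [Field K] [Fintype K] (hK : 3 ≤ Fintype.card K) (p : ℕ) [Fact p.Prime] [CharP K p] :
    ∃ x : chevG2.group K, ¬ p ∣ orderOf x ∧ ∀ g : chevG2.group K, g ≠ 1 →
      ∃ u v : chevG2.group K, g = (u * x * u⁻¹) * (v * x * v⁻¹) :=
  cc_rank_two rootOK_G2 matOK_G2 (by simp) K hK p (i := nG 0) (j := nG 1) (γ := rG 9) (L₂ := [rG 7, rG 11])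
    (w := [nG 0, nG 1, nG 0, nG 1, nG 0, nG 1]) (by
      unfold CC2; refine ⟨?_, ?_, ?_, ?_, ?_, ?_, ?_, ?_, ?_, ?_, ?_⟩ <;> decide +kernel)

def nB (k : Fin 2) : Fin chevB2.rank := k
def rB (k : Fin 8) : Fin chevB2.nroots := k

theorem cc_B2 (K : Type u) [Field K] [Fintype K] (hK : 3 ≤ Fintype.card K) (p : ℕ) [Fact p.Prime] [CharP K p] :
    ∃ x : chevB2.group K, ¬ p ∣ orderOf x ∧ ∀ g : chevB2.group K, g ≠ 1 →
      ∃ u v : chevB2.group K, g = (u * x * u⁻¹) * (v * x * v⁻¹) :=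
  cc_rank_two rootOK_B2 matOK_B2 (by simp) K hK p (i := nB 1) (j := nB 0) (γ := rB 6)
    (L₂ := [rB 4, rB 7]) (w := [nB 0, nB 1, nB 0, nB 1]) (by
      unfold CC2; refine ⟨?_, ?_, ?_, ?_, ?_, ?_, ?_, ?_, ?_, ?_, ?_⟩ <;> decide +kernel)

def r4 (k : Fin 24) : Fin chevD4.nroots := k

theorem chk_D4 : (∀ k, k ∈ [n4 0, n4 2, n4 3] ∨ k = n4 1) ∧ (∀ r < chevD4.nroots, ([n4 0, n4 2, n4 3, n4 1, n4 0, n4 2, n4 3,
    n4 1, n4 0, n4 2, n4 3, n4 1].map Fin.val).foldr chevD4.reflectRoot r = chevD4.neg r) ∧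
    (∀ r < chevD4.nroots, |prN chevD4 (chevD4.simple (n4 1)) r| ≤ 2) ∧
    (∀ r < 24, prN chevD4 14 r = 0 ∨ r = 14 ∨ r = 9 →
      ((pr3 18 r).1 % 2 = 1 ∧ (pr3 18 r).2.1 % 2 = 1 ∧ (pr3 18 r).2.2 % 2 = 1)) ∧
    pr3 21 14 = (0, 0, 0) ∧ pr3 21 9 = (0, 0, 0) ∧ (∀ r < 24, prN chevD4 14 r = 0 → ∃ n, (n = 2 ∨ n = -2) ∧
      pr3 21 r ∈ [(n, 0, 0), (0, n, 0), (0, 0, n)]) ∧
    CC2 chevD4 tabD4 (lk rhoD4) (n4 1) [r4 21, r4 17, r4 20] [r4 18, r4 13, r4 12, r4 23] := by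
  simp only [exists_eq_or_imp, exists_eq_left]
  unfold CC2; refine ⟨?_, ?_, ?_, ?_, ?_, ?_, ?_, ?_, ?_, ?_, ?_⟩ <;> decide +kernel

theorem cc_D4 {K : Type u} [Field K] [Fintype K] (p : ℕ) [Fact p.Prime] [CharP K p] (q : ℕ) (hq : IsPrimePow q)
    (hK : Fintype.card K = q ^ 3) : ∃ x : twistedD4 K q, ¬ p ∣ orderOf x ∧ ∀ g : twistedD4 K q, g ≠ 1 →
      ∃ u v : twistedD4 K q, g = (u * x * u⁻¹) * (v * x * v⁻¹) := by
  obtain ⟨d⟩ := exists_D4Data hq hK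
  obtain ⟨d1, d2, d3, d4, d5, d6, d7, d8⟩ := chk_D4
  have e : d.X.Fix ≃* twistedD4 K q :=
    (MulEquiv.subgroupCongr (d.eq_Fix hK).symm).trans (Subgroup.subgroupOfEquivOfLe (d.gen hK).1)
  have := (d.simple hK hq.one_lt).1
  have key := fun χ => cc_main rootOK_D4 matOK_D4 (X := d.X) (d.grp hK).fix d1 d.o3 (d.orb3 (i := n4 0) (by simp)) (by decide)
    d.o1 d.orb1 (d.hz hK) (exists_neg_mem rootOK_D4.compat d2 _) e.isSimpleGroup (d.φφ hK _ _ _) p d3 (χ := χ)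
  have hr : ∀ r : Fin chevD4.nroots, rootOK_D4.rr r = r := fun r => Fin.ext (Nat.mod_eq_of_lt r.2)
  refine TwSys.cov_transfer e (P := fun n => ¬ p ∣ n) ?_
  by_cases h2 : (2 : K) = 0
  · have h3 : (1 : K) = -1 := by linear_combination h2
    obtain ⟨c, c0, c1⟩ := exists_ne_zero_one (K := K) (by have := D4Data.card_gt hK hq.one_lt; omega)
    obtain ⟨χ, h4, h5⟩ := d.tor hK 21 c0
    refine key χ h4 ((h5 14).trans (by simp [d5, ← h3])) ((h5 9).trans (by simp [d6, ← h3])) (fun r h6 => ?_) d.ρ_val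
      (Or.inr ⟨h2, d8⟩)
    obtain ⟨n, h7, h8⟩ := d7 r r.2 h6
    have c2 : ∀ c : K, c ≠ 1 → c ^ q ≠ 1 := fun c h e => h (by rw [← d.qqq hK c, e, one_pow, one_pow])
    rw [← hr r, h5]
    simp only [List.mem_cons, List.not_mem_nil, or_false] at h8
    rcases h8 with h8 | h8 | h8 <;> simp only [h8, zpow_zero, mul_one, one_mul]
    · exact zpow_ne_one h2 c1 h7
    · exact zpow_ne_one h2 (c2 _ c1) h7
    · exact zpow_ne_one h2 (c2 _ (c2 _ c1)) h7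
  · obtain ⟨χ, h4, h5⟩ := d.tor hK 18 (a := -1) (by simp)
    have h3 : (-1 : K) ^ q = -1 := by rw [← d.φ_eq (r4 0), map_neg, map_one]
    simp only [h3] at h5
    have h6 : ∀ r < 24, prN chevD4 14 r = 0 ∨ r = 14 ∨ r = 9 → χ (rootOK_D4.rr r) = -1 := fun r a b => by
      obtain ⟨b1, b2, b3⟩ := d4 r a b
      rw [h5, zpow_neg_one_odd b1, zpow_neg_one_odd b2, zpow_neg_one_odd b3]; ring
    refine key χ h4 (h6 14 (by decide) (by simp)) (h6 9 (by decide) (by simp)) (fun r h7 => ?_) d.ρ_val (L₁ := []) (L₂ := [])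
      (Or.inl ⟨h2, fun r => ?_⟩)
    · rw [← hr r, h6 r r.2 (Or.inl h7)]
      exact fun e => h2 (by linear_combination -e)
    · have h7 : ∀ n : ℤ, (-1 : K) ^ n * (-1) ^ n = 1 := fun n => by rw [← mul_zpow]; simp
      rw [← hr r, h5, mul_mul_mul_comm, h7, mul_mul_mul_comm, h7, h7]; simp

end Cfsg.Lib.Twist
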