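/-
The Suzuki group inside ²F₄(q).
-/
import Cfsg.Agent.Lib.Twist.MuF
import Cfsg.Agent.Lib.Twist.TwF4
import Cfsg.Agent.Lib.Chev.Rep

set_option autoImplicit false

namespace Cfsg.Lib.Twist

open Subgroup Cfsg.Lib.Chev PreSys RootSys Cfsg.Lie BN
open scoped commutatorElement

universe u

/-- The natural module of `Sp₄` in characteristic two. -/
def colB4 : ℕ → ℕ → List (ℕ × ℤ × ℕ) := tab2 [[[(3, 1, 1)]], [[(2, 1, 1)], [(3, 1, 1)]], [[(1, 1, 1)], [], [(3, 1, 1)]], [[], [(2, 1, 1)]],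
  [[], [], [(1, 1, 1)]], [[], [(0, 1, 1)], [], [(2, 1, 1)]], [[], [], [(0, 1, 1)], [(1, 1, 1)]], [[], [], [], [(0, 1, 1)]]]

theorem chkRep_B4 : chkRep chevB2 tabB2 2 4 colB4 (tab [[2, 1], [1, 1], [1, 0], [0, 0]])
    (tab2 [[[1, 0], [0, 1], [1, 0], [0, 1]], [[0, 0], [1, 0], [0, 1], [0, 0]]]) = true := by decide +kernel

set_option maxHeartbeats 1000000 in
theorem rM_B4 {K : Type*} [Field K] (x y z w : K) : MRep.rM 4 colB4 5 x * (MRep.rM 4 colB4 4 y * (MRep.rM 4 colB4 6 z * MRep.rM 4 colB4 7 w)) =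
    !![1, x, x * y + z, x * z + w; 0, 1, y, z; 0, 0, 1, x; 0, 0, 0, 1] ∧ MRep.rM 4 colB4 2 (0 : K) * (MRep.rM 4 colB4 3 0 *
      (MRep.rM 4 colB4 1 1 * MRep.rM 4 colB4 0 1)) = !![1, 0, 0, 0; 0, 1, 0, 0; 1, 0, 1, 0; 1, 1, 0, 1] := by
  have h : ∀ t : K, MRep.rM 4 colB4 5 t = !![1, t, 0, 0; 0, 1, 0, 0; 0, 0, 1, t; 0, 0, 0, 1] ∧ MRep.rM 4 colB4 4 t = !![1, 0, 0, 0; 0, 1, t, 0; 0, 0, 1, 0; 0, 0, 0, 1] ∧
      MRep.rM 4 colB4 6 t = !![1, 0, t, 0; 0, 1, 0, t; 0, 0, 1, 0; 0, 0, 0, 1] ∧ MRep.rM 4 colB4 7 t = !![1, 0, 0, t; 0, 1, 0, 0; 0, 0, 1, 0; 0, 0, 0, 1] ∧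
      MRep.rM 4 colB4 2 t = !![1, 0, 0, 0; t, 1, 0, 0; 0, 0, 1, 0; 0, 0, t, 1] ∧ MRep.rM 4 colB4 3 t = !![1, 0, 0, 0; 0, 1, 0, 0; 0, t, 1, 0; 0, 0, 0, 1] ∧
      MRep.rM 4 colB4 1 t = !![1, 0, 0, 0; 0, 1, 0, 0; t, 0, 1, 0; 0, t, 0, 1] ∧ MRep.rM 4 colB4 0 t = !![1, 0, 0, 0; 0, 1, 0, 0; 0, 0, 1, 0; t, 0, 0, 1] :=
    fun t => by refine ⟨?_, ?_, ?_, ?_, ?_, ?_, ?_, ?_⟩ <;> ext i j <;> fin_cases i <;> fin_cases j <;> simp [MRep.rM, colB4, tab2]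
  simp [h, add_comm]

/-- The roots of `B₂` inside `F₄`. -/
def eB (r : Fin chevB2.nroots) : Fin chevF4.nroots := rootOK_F4.rr (lk 0x1e1c1b1916141311 r)

theorem exists_sz_hom (K : Type u) [Field K] (m : ℕ) [Sz.SzField K m] : ∃ θ : Cfsg.Sz K m →* chevF4.group K,
    (∀ a b, θ (Sz.U m a b) = x4 (rF 27) (rF 25) (rF 28) (rF 30) a (Sz.σ m a) b (a ^ 2 * Sz.σ m a + Sz.σ m b)) ∧
    θ (Sz.w K m * Sz.U m 0 1 * (Sz.w K m)⁻¹) = x4 (rF 20) (rF 22) (rF 19) (rF 17) 0 0 1 1 := by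
  have := Sz.charP (F := K) m
  have := Sz.SzField.finite (F := K) (m := m)
  have hc := rootOK_B2.compat
  have hD : chevB2 ∈ [chevG2, chevB2, chevD4, chevF4, chevE6, chevE7, chevE8] := by simp
  have hC : (hc.gsys matOK_B2 K).SC := (hc.gst matOK_B2).sc_of_embed (hc.gsep matOK_B2) (card_eq_one.1 (by
    rw [card_cartanKer_B2 hc, Sz.SzField.card_eq (m := m)]; exact (Nat.coprime_two_left.2 (Sz.odd_q_sub_one m)).gcd_eq_one)) Function.injective_id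
    fun _ _ => rfl
  obtain ⟨φ, h1, h2, -⟩ := exists_rep_hom rootOK_B2 matOK_B2 hD chkRep_B4 K (CharP.cast_eq_zero K 2) hC
  have hE : ∀ r s, s ≠ r → s ≠ rootOK_B2.R.neg r → ∀ t u, (sF4 K).x (eB s) u * (sF4 K).x (eB r) t = (sF4 K).x (eB r) t * (sF4 K).x (eB s) u *
      ((termsF chevB2 r s).map fun c => (sF4 K).x (eB c.1) ((c.2.1 : K) * (-t) ^ c.2.2.1 * u ^ c.2.2.2)).prod := fun r s a b t u => by
    rw [x_rel rootOK_F4 matOK_F4 (l := (termsF chevB2 r s).map fun c => (eB c.1, c.2)) (by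
      rw [ne_eq, Fin.ext_iff, hc.neg_eq] at b; revert r s; decide +kernel), List.map_map]; rfl
  have h3 : (ofExact hc.terms _ (fun r => (sF4 K).x_add _) hE).Exact _ := hE
  obtain ⟨ψ, h4⟩ := h3.exists_hom hc.terms (hc.st_of_exact matOK_B2 hD h3).mult_of_finite (hc.gexact matOK_B2)
    (pair_st _ _ _ (hc.gst matOK_B2) (hc.gsep matOK_B2) (hc.nb hD)) (hc.gmult matOK_B2) (hc.gsep matOK_B2) (hc.gopp matOK_B2) hC (hc.ggen matOK_B2)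
  let ι : Cfsg.Sz K m →* GL (Fin 4) K := Matrix.SpecialLinearGroup.toGL.comp (Subgroup.subtype _)
  let y : ℕ → ℕ → ℕ → ℕ → K → K → K → K → chevB2.group K := fun a b c k x y z w => (hc.gsys matOK_B2 K).x (rootOK_B2.rr a) x *
    ((hc.gsys matOK_B2 K).x (rootOK_B2.rr b) y * ((hc.gsys matOK_B2 K).x (rootOK_B2.rr c) z * (hc.gsys matOK_B2 K).x (rootOK_B2.rr k) w))
  have e1 : ∀ a b, φ (y 5 4 6 7 a (Sz.σ m a) b (a ^ 2 * Sz.σ m a + Sz.σ m b)) = ι (Sz.U m a b) := fun a b => Units.ext (by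
    simp only [y, map_mul, Units.val_mul, h2]
    exact (rM_B4 _ _ _ _).1.trans (by rw [add_comm (a * _), ← add_assoc]; rfl))
  have e2 : φ (y 2 3 1 0 0 0 1 1) = ι (Sz.w K m * Sz.U m 0 1 * (Sz.w K m)⁻¹) := Units.ext (by
    simp only [y, map_mul, Units.val_mul, h2, Sz.w_inv]
    refine (rM_B4 0 0 0 0).2.trans ?_
    change _ = suzukiForm K * Sz.Umat m 0 1 * suzukiForm K
    simp [Sz.Umat, Sz.f_def, suzukiForm])
  have h5 := Sz.eq_top_of_Q_le m (K := φ.range.comap ι) (by rintro _ ⟨a, b, rfl⟩; exact ⟨_, e1 a b⟩) ⟨_, e2⟩ (Sz.w_conj_U_not_mem m)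
  have h6 : ∀ g x, φ x = ι g → ψ ((MonoidHom.ofInjective h1).symm (ι.codRestrict φ.range (fun g => h5.ge (mem_top g)) g)) = ψ x := fun g x e =>
    congrArg ψ ((MulEquiv.symm_apply_eq _).2 (Subtype.ext e.symm))
  exact ⟨ψ.comp ((MonoidHom.ofInjective h1).symm.toMonoidHom.comp (ι.codRestrict φ.range fun g => h5.ge (mem_top g))),
    fun a b => (h6 _ _ (e1 a b)).trans (by simp only [y, map_mul, h4]; rfl), (h6 _ _ e2).trans (by simp only [y, map_mul, h4]; rfl)⟩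

theorem F4Data.card_tor12 {K : Type u} [Field K] {m : ℕ} [Sz.SzField K m] (d : F4Data K (2 ^ m)) [Finite K] [CharP K 2] {E : Type*} [Group E] [Finite E]
    {π : E →* chevF4.group K} (C : d.X.Cov π 2) : Nat.card (TwSys.Lh (sF4 K) d.T π 2 (nF 1) ⊓ (sF4 K).H.comap π : Subgroup E) ∣ Nat.card K - 1 := by
  obtain ⟨θ, h1, h2⟩ := exists_sz_hom K m
  have h3 : ∀ t u, θ (Sz.U m (t ^ 2 ^ m) (t ^ (2 ^ m + 1) + u)) = b2 (2 ^ m) (rF 27) (rF 25) (rF 28) (rF 30) t u := fun t u => by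
    have : Sz.σ m (t ^ 2 ^ m) = t := Sz.σ_ρ m t
    rw [h1, b2, pow_succ t, map_add, map_mul, this, Sz.σ_eq_ρ_sq m t, Sz.ρ_def, ← add_assoc, mul_comm t, CharTwo.add_self_eq_zero, zero_add,
      Sz.σ_def, pow_succ' 2]
  have h4 : θ _ = b2 (2 ^ m) (rF 20) (rF 22) (rF 19) (rF 17) 0 1 := h2.trans (by simp [b2])
  have h5 : θ _ ≠ 1 := fun e => one_ne_zero (x4_inj nil_neg (fun r hr => ((d.neg12 (i := nF 1) (by simp) r).2 hr).1) (by decide)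
    (x' := 0) (y' := 0) (z' := 0) (w' := 0) ((h2.symm.trans e).trans (by simp [x4, x_zero]))).2.2.1
  have h6 : θ _ ∈ _ := h2.symm ▸ x4_mem (fun r => (d.neg12 (i := nF 1) (by simp) r).2) 0 0 1 1
  have h7 : ∀ g ∈ Sz.Q K m, ∃ t u, θ g = b2 (2 ^ m) (rF 27) (rF 25) (rF 28) (rF 30) t u := by
    rintro _ ⟨a, b, rfl⟩
    exact ⟨Sz.σ m a, _, by rw [← h3, ← Sz.ρ_def, Sz.ρ_σ, add_sub_cancel]⟩
  refine (C.card_hom (Sz.commutator_eq_top m) (fun r _ h P => Sz.isCyclic_of_odd_pgroup h) θ (fun g => (Sz.eq_top_of_Q_le m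
    (K := d.X.Fix.comap θ) (fun g hg => let ⟨_, _, e⟩ := h7 g hg; mem_comap.2 (e ▸ d.b2_fix b2Cl_pos _ _)) (mem_comap.2 (h4 ▸ d.b2_fix b2Cl_neg _ _))
    (Sz.w_conj_U_not_mem m)).ge (mem_top g)) (fun a ha => ?_) (k := 1) (by rw [pow_one, conj_pow, pow_two, Sz.U_sq]; simp [Sz.U_zero]) h6 h5).trans ?_
  · obtain ⟨p, rfl⟩ := (d.mem12 (by simp)).1 ha
    obtain ⟨k, e⟩ := Sz.isPGroup_Q m ⟨_, Sz.U_mem_Q m (p.1 ^ 2 ^ m) (p.1 ^ (2 ^ m + 1) + p.2)⟩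
    exact ⟨_, k, congrArg Subtype.val e, h3 _ _⟩
  have h8 : (sF4 K).H.comap θ ≤ Sz.B K m := fun g hg => by_contra fun e => h5 (mem_bot.1 (d.X.opp ▸ mem_inf.2 ⟨(Sz.eq_top_of_Q_le m
    (K := (sF4 K).B.comap θ) (fun g hg => let ⟨_, _, e⟩ := h7 g hg; mem_comap.2 (e ▸ (sF4 K).U_le_B (x4_mem
      (fun r hr => ((d.pos12 (i := nF 1) (by simp) r).2 hr).1) _ _ _ _))) ((sF4 K).H_le_B hg) e).ge (mem_top _), (sF4 K).U_mono (fun _ h => h.1) h6⟩))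
  have h9 := Sz.isSimpleGroup (F := K) m
  have h10 := (θ.normal_ker.eq_bot_or_eq_top).resolve_right fun e => h5 (e.ge (mem_top _))
  rw [Sz.SzField.card_eq (F := K) (m := m)]
  refine Nat.Coprime.dvd_of_dvd_mul_left (Nat.Coprime.pow_right _ (Nat.Coprime.pow_right _ (Nat.coprime_two_right.2 (Nat.not_even_iff_odd.1
    fun e => ?_)))) (Sz.card_B (F := K) m ▸ card_dvd_of_le h8)
  obtain ⟨z, hz, e1, e2⟩ := exists_prime_mem Nat.prime_two e.two_dvd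
  exact (Sz.odd_q_sub_one m).not_two_dvd_nat (e2.symm.dvd.trans (orderOf_dvd_of_pow_eq_one (mem_bot.1 (h10.le (by
    simpa [Sz.SzField.card_eq (F := K) (m := m)] using H_pow d.X.st d.X.mult hz)))))

end Cfsg.Lib.Twist
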