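/-
The Schur multiplier of ²F₄(q).
-/
import Cfsg.Agent.Lib.Twist.MuSz

set_option autoImplicit false

namespace Cfsg.Lib.Twist

open Subgroup Cfsg.Lib.Chev PreSys RootSys Cfsg.Lie BN
open scoped commutatorElement

universe u

theorem comm_trick {E : Type*} [Group E] {b y w : E} (h1 : ⁅w, b⁆ = 1) (h2 : ⁅w, y⁻¹ * b⁻¹ * y * b⁆ = 1) : ⁅b, ⁅y, w⁆⁆ = 1 := by
  rw [commutatorElement_eq_one_iff_mul_comm] at h1 h2 ⊢
  refine (Commute.mul_right (Commute.inv_left_iff.1 ?_) (Commute.inv_right h1.symm)).eq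
  rw [Commute, SemiconjBy, show y * w * y⁻¹ * b⁻¹ = y * (w * (y⁻¹ * b⁻¹ * y * b)) * b⁻¹ * y⁻¹ by group, h2, mul_assoc _ b, ← h1]; group

/-- Levels of the roots of `F₄`. -/
def lvF4 : ℕ := 0xb0a090b0807050a09080607040200060403050301020100000000000000000000000000000000000000000000000000

/-- Representatives of the levels. -/
def repF4 : ℕ := 0x2c2827262420291f1c1a1918

/-- Certificates for pairs of levels. -/
def sepF4 : ℕ := 0x5110f01040005000100020000050501040500000100020000000f01041105000100020000000001040f0500010002000000000001010100000001000000000000040400010002000000000000000500010002000000000000000000010002000000000000000001000000000000000000000000000001000000000000000000000100000000000000000000000000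

/-- The exponents of a character. -/
noncomputable def pF (c s : ℕ) : ℤ × ℤ := (prN chevF4 c s, prN chevF4 (lk rhoF4 c) s)

/-- The character of `s` is bijective on the torus attached to `c`. -/
def gF (c s : ℕ) : Prop := lk tabF4.L (lk rhoF4 c) = 1 ∧ ∃ i < 4, 2 * (pF c s).1 ^ 2 - (pF c s).2 ^ 2 = 2 ^ i ∨ 2 * (pF c s).1 ^ 2 - (pF c s).2 ^ 2 = -2 ^ i

noncomputable instance (c s : ℕ) : Decidable (gF c s) := by unfold gF; infer_instance

/-- Commuting root subgroups. -/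
def cmF (r s : ℕ) : Prop := s ≠ chevF4.neg r ∧ ∀ c ∈ chevF4.commTerms r s, ((2 : ℕ) : ℤ) ∣ c.2.1

instance (r s : ℕ) : Decidable (cmF r s) := by unfold cmF; infer_instance

/-- The lifts of the class of `w` commute with the lifts of the root subgroups in `A`. -/
def okW (w : ℕ) (A : List ℕ) (c : ℕ) : Prop := gF c w ∧ cmF (lk rhoF4 w) w ∧ ∀ s ∈ A, pF c s = (0, 0) ∧ cmF s w ∧ cmF s (lk rhoF4 w)

noncomputable instance (w : ℕ) (A : List ℕ) (c : ℕ) : Decidable (okW w A c) := by unfold okW; infer_instance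

/-- Data for the two layers of a class of type `B₂`. -/
def okSz (i j a b c k y w : ℕ) (A : List ℕ) (c₁ c₂ : ℕ) : Prop :=
  (i < 12 ∧ j < 12 ∧ lk repF4 i % 48 = b ∧ (∀ r ∈ [a, c, k], 48 ≤ 2 * r ∧ i ≤ lk lvF4 r ∧ r ≠ b) ∧ cmF (lk rhoF4 y) y ∧ okW w [a, b, c, k] c₁ ∧ okW w A c₂) ∧
  (∀ x ∈ colW chevF4 2 (invW 2 (genW [y, lk rhoF4 y] 0) ++ invW 2 (genW [a, b, c, k] 2) ++ genW [y, lk rhoF4 y] 0 ++ genW [a, b, c, k] 2), x.1 ∈ A) ∧
  (colW chevF4 2 (genW [y, lk rhoF4 y] 0 ++ cw [w, lk rhoF4 w] ++ invW 2 (genW [y, lk rhoF4 y] 0) ++ invW 2 (cw [w, lk rhoF4 w]))).head? =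
    some (lk repF4 j % chevF4.nroots, varP 0) ∧
  ∀ x ∈ (colW chevF4 2 (genW [y, lk rhoF4 y] 0 ++ cw [w, lk rhoF4 w] ++ invW 2 (genW [y, lk rhoF4 y] 0) ++ invW 2 (cw [w, lk rhoF4 w]))).tail,
    chevF4.nroots ≤ 2 * x.1 ∧ j ≤ lk lvF4 x.1 ∧ x.1 ≠ lk repF4 j % chevF4.nroots

noncomputable instance (i j a b c k y w : ℕ) (A : List ℕ) (c₁ c₂ : ℕ) : Decidable (okSz i j a b c k y w A c₁ c₂) := by unfold okSz; infer_instance

theorem chkLev_F4 : chkLev chevF4 tabF4 2 rhoF4 lvF4 repF4 12 = true := by decide +kernel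

theorem chkSep_F4 : ∀ k < 12, gF (lk sepF4 (13 * k) % 48) (lk repF4 k % 48) ∧ ∀ j < k, (j, k) ∈ [(1, 3), (2, 7), (4, 10), (5, 11)] ∨
    (pF (lk sepF4 (12 * k + j) % 48) (lk repF4 j % 48) = (0, 0) ∧ gF (lk sepF4 (12 * k + j) % 48) (lk repF4 k % 48) ∨
    gF (lk sepF4 (12 * k + j) % 48) (lk repF4 j % 48) ∧ pF (lk sepF4 (12 * k + j) % 48) (lk repF4 k % 48) = (0, 0)) := by decide +kernel

namespace F4Data

variable {K : Type u} [Field K] {e : ℕ} (d : F4Data K e)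

theorem lev : Lev (sF4 K) d.T (fun r => lk lvF4 r) (fun k => rootOK_F4.rr (lk repF4 k)) 12 :=
  have := d.char; lev_of_chk rootOK_F4 (rootOK_F4.compat.gexact matOK_F4) (CharP.cast_eq_zero K 2) d.ρ_val chkLev_F4

theorem φφ (r : Fin chevF4.nroots) (t : K) : d.X.φ (d.T.ρ r) (d.X.φ r t) = t := by
  have := d.len_ρ r
  rw [rootOK_F4.R_len, rootOK_F4.R_len, d.ρ_val] at this
  rw [d.φ_eq, d.φ_eq, ← d.ρ_val (d.T.ρ r), d.ρ_ρ, pow_right_comm _ _ e, ← pow_mul _ (lk _ _), this, d.pow_eq]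

theorem tor {c s : Fin chevF4.nroots} (h : gF c s) {v : K} (hv : v ≠ 0) :
    ∃ χ, d.X.Tor χ ∧ χ s = v ∧ ∀ r : Fin chevF4.nroots, pF c r = (0, 0) → χ r = 1 := by
  obtain ⟨h1, i, -, h2⟩ := h
  have h3 : ∀ i, ∀ v : K, v ≠ 0 → ∃ b : K, b ≠ 0 ∧ b ^ (2 : ℤ) ^ i = v := fun i => by
    induction i with
    | zero => exact fun v hv => ⟨v, hv, by simp⟩
    | succ i ih => exact fun v hv => let ⟨b, h, e'⟩ := ih _ (pow_ne_zero e (pow_ne_zero e hv)); ⟨b, h, by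
        rw [pow_succ, zpow_mul, e', zpow_ofNat, d.pow_eq]⟩
  obtain ⟨b, h4, rfl⟩ : ∃ b : K, b ≠ 0 ∧ b ^ (2 * (pF c s).1 ^ 2 - (pF c s).2 ^ 2) = v := h2.elim (fun e => e ▸ h3 i v hv) fun e =>
    let ⟨b, h, e'⟩ := h3 i _ (inv_ne_zero hv); ⟨b, h, by rw [e, zpow_neg, e', inv_inv]⟩
  have h5 := (map_ne_zero (d.X.φ c)).2 h4
  refine ⟨_, d.X.tor₂ (d.ρ_ρ c) (mul_ne_zero (zpow_ne_zero (2 * (pF c s).1) h4) (zpow_ne_zero (2 * -(pF c s).2) h5)) (d.φφ c _), ?_, fun r e => ?_⟩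
  · have : d.X.φ c (d.X.φ c b) ^ (2 : ℤ) = b := by simp only [d.φ_eq, h1, pow_one, zpow_ofNat, d.pow_eq]
    rw [map_mul, map_zpow₀, map_zpow₀, zpow_mul (d.X.φ c (d.X.φ c b)), this, rootOK_F4.compat.pair_eq, rootOK_F4.compat.pair_eq, d.ρ_val]
    simp only [pF, mul_zpow, ← zpow_mul]
    rw [mul_assoc, ← mul_assoc (d.X.φ c b ^ _), ← zpow_add₀ h5, show _ + _ = (0 : ℤ) by ring, zpow_zero, one_mul, ← zpow_add₀ h4]
    congr 1; ring
  · simp only [pF, Prod.mk.injEq] at e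
    simp only [rootOK_F4.compat.pair_eq, d.ρ_val, e, zpow_zero, mul_one]

include d in
theorem cm {r s : Fin chevF4.nroots} (h : cmF r s) (t u : K) : Commute ((sF4 K).x s t) ((sF4 K).x r u) :=
  have := d.char; x_comm_of rootOK_F4 matOK_F4 (Or.inr h) u t

/-- The elements of a class of type `A₁ × A₁`. -/
noncomputable def pw (r : Fin chevF4.nroots) (t : K) : chevF4.group K := (sF4 K).x r t * (sF4 K).x (d.T.ρ r) (d.X.φ r t)

theorem pw_fix {r : Fin chevF4.nroots} (h : cmF (lk rhoF4 r) r) (t : K) : d.pw r t ∈ d.X.Fix := d.X.mem_Fix.2 (by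
  rw [pw, map_mul, d.X.σ_x, d.X.σ_x, d.ρ_ρ, d.ε_eq, d.ε_eq, one_mul, one_mul, d.φφ, (d.cm (r := d.T.ρ r) (d.ρ_val r ▸ h) _ _).eq])

variable [Finite K] (hK : 7 < Nat.card K) {E : Type*} [Group E] {π : E →* chevF4.group K} (C : d.X.Cen π)
include hK C

omit [Finite K] in
theorem comm_w {w c : Fin chevF4.nroots} {A : List ℕ} (h : okW w A c) {a b : E} {t : K} (ha : π a = d.pw w t)
    (hb : π b ∈ (sF4 K).U {r | (r : ℕ) ∈ A}) : ⁅a, b⁆ = 1 := by
  obtain ⟨v, h1, h2⟩ := exists_ne_zero_one (K := K) (by omega)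
  obtain ⟨χ, ⟨k, k1, k2⟩, rfl, h3⟩ := d.tor h.1 h1
  have h4 := d.cm (d.ρ_val w ▸ h.2.1)
  refine C.comm_scale (fun t u => ?_) (d.pw_fix h.2.1) (fun t => (sF4 K).U_le_iff.2 (fun r hr u => mem_centralizer_singleton_iff.2
    ((d.cm (h.2.2 r hr).2.1 _ _).mul_left (d.cm (d.ρ_val w ▸ (h.2.2 r hr).2.2) _ _)).symm) hb _ rfl) k1.2 h2 (fun t => ?_)
    (mul_inv_eq_iff_eq_mul.2 ((sF4 K).U_le_iff.2 (fun r hr u => mem_centralizer_singleton_iff.2 (by
      rw [eq_comm, ← mul_inv_eq_iff_eq_mul, k2, h3 r (h.2.2 r hr).1, one_mul])) hb _ rfl)) ha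
  · rw [pw, pw, pw, map_add, x_add, x_add, (h4 _ _).mul_mul_mul_comm]
  · rw [pw, pw, ← conj_mul, k2, k2, d.X.char_ρ k1.2 k2, map_mul]

omit [Finite K] in
theorem po_sz {i j : ℕ} {a b c k y w c₁ c₂ : Fin chevF4.nroots} {A : List ℕ} {m m' : ℤ} (h0 : B2Cl a b c k m m') (h : okSz i j a b c k y w A c₁ c₂)
    {W : Subgroup E} : d.lev.PO π W i j := Or.inr (Or.inr fun u hu x hx => by
  obtain ⟨⟨hi, hj, h1, h2, h3, h4, h5⟩, h6, h7⟩ := h
  have := d.char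
  have c2 := CharP.cast_eq_zero K 2
  have hE : (sF4 K).Exact _ := rootOK_F4.compat.gexact matOK_F4
  obtain rfl : rootOK_F4.rr (lk repF4 i) = b := Fin.ext h1
  have M := d.lev.lay hi
  obtain ⟨g, hg⟩ := C.lift (d.b2_fix h0 (d.lev.c π i u) 0)
  obtain ⟨p, hp⟩ := C.lift (d.pw_fix h3 (d.lev.c π j x))
  obtain ⟨n, hn⟩ := C.lift (d.pw_fix h4.2.1 1)
  have h8 := fun (r : Fin chevF4.nroots) hr t => (sF4 K).x_mem_U (T := lv rootOK_F4.R (fun r => lk lvF4 r) i \ {rootOK_F4.rr (lk repF4 i)}) (r := r)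
    ⟨⟨(rootOK_F4.pos_iff_half _).2 (h2 r hr).1, (h2 r hr).2.1⟩, fun e => (h2 r hr).2.2 (congrArg Fin.val e)⟩ t
  have h9 := fun r hr t => (sF4 K).U_mono Set.sdiff_subset (h8 r hr t)
  obtain ⟨v, v1, v2, v3⟩ : ∃ v : ℕ → K, v 0 = d.lev.c π j x ∧ π p = (sF4 K).evW v (genW [y, lk rhoF4 y] 0) ∧
      π g = (sF4 K).evW v (genW [a, rootOK_F4.rr (lk repF4 i), c, k] 2) :=
    ⟨([d.lev.c π j x, _, _, _, _, _].getD · 0), rfl, by simp [hp, pw, genW, ← d.ρ_val, xN_coe]; rfl, by simp [hg, b2, x4, genW, xN_coe]; rfl⟩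
  have e' := co_evW rootOK_F4 d.X.sep hE c2 d.lev hj h7 v
  rw [show (sF4 K).evW v _ = π ⁅p, n⁆ by simp [evW_invW _ c2, commutatorElement_def, v2, hn, pw, evW_cw, ← d.ρ_val, xN_coe, mul_assoc]] at e'
  refine ⟨g, mem_comap.2 (hg ▸ mul_mem (h9 _ (by simp) _) (mul_mem ((sF4 K).x_mem_U M.mem.1 _) (mul_mem (h9 _ (by simp) _) (h9 _ (by simp) _)))),
    _, e'.1, ?_, (e'.2.trans ((evP_varP _ _).trans v1)).symm, comm_trick (d.comm_w hK C h4 hn (by rw [hg]; exact x4_mem (by simp) _ _ _ _))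
      (d.comm_w hK C h5 hn ?_) ▸ one_mem W⟩
  · have := mul_mem (h8 c (by simp) (d.lev.c π i u ^ (e + 1) + 0)) (h8 k (by simp) (0 ^ (2 * e)))
    have N := M.ext _ M.mem
    have h10 := (sF4 K).U_mono Set.sdiff_subset this
    rw [show d.lev.c π i g = (sF4 K).co _ _ (π g) from rfl, hg, b2, x4, co_mul N d.X.sep (h9 _ (by simp) _) (mul_mem ((sF4 K).x_mem_U M.mem.1 _) h10),
      co_mul N d.X.sep ((sF4 K).x_mem_U M.mem.1 _) h10, co_of_mem N d.X.sep this, co_of_mem N d.X.sep (h8 _ (by simp) _), co_x N d.X.sep, zero_add, add_zero]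
  · simp only [map_mul, map_inv, v2, v3, ← evW_invW _ c2, ← evW_append]
    rw [← evW_colW v c2 rootOK_F4.compat hE]
    exact evW_mem _ _ fun x hx r hr => show _ ∈ A from hr ▸ h6 x hx)

theorem key : ∀ z ∈ ⁅d.lev.A π 0, d.lev.A π 0⁆, z ∈ π.ker → z = 1 := by
  have L := d.lev
  obtain ⟨v, h1, h2⟩ := exists_ne_zero_one (K := K) (by omega)
  refine C.of_pairs L le_rfl (by simp) (C.fil L).lf_bot (fun k hk j hj => ?_) fun k hk _ =>
    let ⟨χ, a, b, _⟩ := d.tor (c := rootOK_F4.rr (lk sepF4 (13 * k))) (s := rootOK_F4.rr (lk repF4 k)) (chkSep_F4 k hk).1 h1; ⟨χ, a, b ▸ h2⟩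
  obtain rfl | hj := hj.eq_or_lt
  · exact C.pair_two (L.lay hk) (L.lay hk) hK fun v hv =>
      let ⟨χ, a, b, _⟩ := d.tor (c := rootOK_F4.rr (lk sepF4 (13 * j))) (s := rootOK_F4.rr (lk repF4 j)) (chkSep_F4 j hk).1 hv; ⟨χ, a, b, b⟩
  rcases (chkSep_F4 k hk).2 j hj with e | e | e
  · simp only [List.mem_cons, List.not_mem_nil, or_false, Prod.mk.injEq] at e
    rcases e with ⟨rfl, rfl⟩ | ⟨rfl, rfl⟩ | ⟨rfl, rfl⟩ | ⟨rfl, rfl⟩
    exacts [d.po_sz hK C b2Cl_pos (y := rF 9) (w := rF 40) (A := [5, 11]) (c₁ := rF 0) (c₂ := rF 1) (by decide +kernel),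
      d.po_sz hK C (show B2Cl (rF 34) (rF 26) (rF 36) (rF 42) (-1) 1 by unfold B2Cl; decide +kernel) (y := rF 10) (w := rF 44) (A := [17, 19])
        (c₁ := rF 1) (c₂ := rF 0) (by decide +kernel),
      d.po_sz hK C (show B2Cl (rF 35) (rF 31) (rF 40) (rF 46) 1 1 by unfold B2Cl; decide +kernel) (y := rF 14) (w := rF 44) (A := [28, 30])
        (c₁ := rF 5) (c₂ := rF 0) (by decide +kernel),
      d.po_sz hK C (show B2Cl (rF 29) (rF 41) (rF 44) (rF 47) 1 1 by unfold B2Cl; decide +kernel) (y := rF 33) (w := rF 40) (A := [36, 42])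
        (c₁ := rF 17) (c₂ := rF 1) (by decide +kernel)]
  · obtain ⟨χ, a, b, c⟩ := d.tor (c := rootOK_F4.rr (lk sepF4 (12 * k + j))) (s := rootOK_F4.rr (lk repF4 k)) e.2 h1
    exact C.pair_sep (L.lay (by omega)) (L.lay hk) a (Or.inl ⟨c _ e.1, b ▸ h2⟩)
  · obtain ⟨χ, a, b, c⟩ := d.tor (c := rootOK_F4.rr (lk sepF4 (12 * k + j))) (s := rootOK_F4.rr (lk repF4 j)) e.1 h1
    exact C.pair_sep (L.lay (by omega)) (L.lay hk) a (Or.inr ⟨b ▸ h2, c _ e.2⟩)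

end F4Data

theorem F4Data.mult {K : Type u} [Field K] [Fintype K] {m : ℕ} (d : F4Data K (2 ^ m)) (hm : 1 ≤ m) (hK : Fintype.card K = 2 ^ (2 * m + 1)) :
    HasCyclicSchurMultiplier (twistedF4 K (2 ^ m)) 1 := by
  have := Sz.szField_of_card hm hK
  have := d.char
  refine Mult.mult_congr_left (Mult.mult_one_iff.2 fun E _ _ σ h => ?_) ((MulEquiv.subgroupCongr d.eq_Fix.symm).trans (subgroupOfEquivOfLe d.gen.1))
  obtain ⟨C, e⟩ := TwSys.cen_of_stem h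
  have C := C.cov (p := 2) d.grp.fix (d.eq_Fix ▸ d.gen.2) (e ▸ h.2.2) (d.key (by
    rw [Nat.card_eq_fintype_card, hK]; exact lt_of_lt_of_le (by norm_num) (Nat.pow_le_pow_right two_pos (show 3 ≤ _ by omega))) C)
  have h3 := C.card_dvd (s := {nF 0, nF 1}) (n := fun _ => Nat.card K - 1) (fun i => (nF_cases i).elim
    (fun h => ⟨nF 0, by simp, (d.orb03 (by simp) i).2 h⟩) fun h => ⟨nF 1, by simp, (d.orb12 (by simp) i).2 h⟩) fun j hj => by
    simp only [Finset.mem_insert, Finset.mem_singleton] at hj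
    rcases hj with rfl | rfl
    exacts [C.card₂ d.o03 d.p0 d.p3 (d.orb03 (by simp)) d.f30, d.card_tor12 C]
  have h4 := card_cartanKer_F4 (F := K) rootOK_F4.compat
  have h5 := (d.X.card_H_Fix (List.nodup_finRange _) List.mem_finRange (gZ _ _) (d.X.hz_one h4)).trans d.card_Tf
  rw [card_eq_one.1 h4, bot_inf_eq, card_bot] at h5
  rw [e, Finset.prod_pair (by decide), ← pow_two, ← h5] at h3
  exact card_eq_one.1 (Nat.dvd_one.1 (Nat.dvd_of_mul_dvd_mul_right Nat.card_pos h3))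

end Cfsg.Lib.Twist
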