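/-
Squares of semisimple conjugacy classes in `²F₄(q)`, `q ≥ 8`.
-/
import Cfsg.Agent.Lib.Twist.CCE
import Cfsg.Agent.Lib.Twist.MuF4
import Cfsg.Agent.Lib.BN.SzChar4

set_option autoImplicit false
set_option synthInstance.maxSize 4096

namespace Cfsg.Lib.Twist

open Cfsg.Lib.Chev PreSys RootSys Cfsg.Lie BN

universe u

section
variable {I Φ : Type*} [Fintype I] [DecidableEq I] {R : RootSys I Φ} {K : Type*} [Field K] {G : Type*} [Group G]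
  {S : PreSys R K G} {T : Tw R} {X : TwSys S T} [Finite Φ]

theorem TwSys.Levi.exists_gauss' {i j : I} {l : List I} {Y : Subgroup G} (h : X.Levi i j l Y) (hs : IsSimpleGroup X.Fix)
    {b : G} (hb : b ∈ S.H ⊓ X.Fix) {g : G} (hg : g ∈ X.Fix) (h1 : g ≠ 1) : ∃ a ∈ X.Fix,
    ∃ v ∈ X.Vm (T.orb j), ∃ y ∈ Y, ∃ v' ∈ X.Vp (T.orb j), a * g * a⁻¹ = v * (b * y) * v' := by
  obtain ⟨a, ha, w, hw, hw', m, hm, h2, u, hu, e⟩ := h.exists_conj hs hg h1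
  obtain ⟨u₁, hu₁, v, hv, y, hy, v', hv', e'⟩ := (h.gauss_aux hw m hm h2).2 hw' b hb
  obtain ⟨y', h3, v'', h4, e''⟩ := h.Up_mul (mul_mem (mul_mem hv' hu) (inv_mem hu₁)) (one_mem _)
  refine ⟨u₁ * a, mul_mem hu₁.2 ha, v, hv, _, mul_mem hy h3, v'', h4, ?_⟩
  calc _ = u₁ * (a * g * a⁻¹) * u₁⁻¹ := by group
    _ = u₁ * m * u * u₁⁻¹ := by rw [e]; group
    _ = v * (b * y) * (v' * u * u₁⁻¹ * 1) := by rw [e']; group
    _ = _ := by rw [e'']; group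

theorem TwSys.fp_of_pow {J : Set I} {x : G} (h1 : x ∈ Levi0 S J) (h2 : x ∈ X.Fix) {n : ℕ} {χ : Φ → K}
    (h3 : ∀ s t, x ^ n * S.x s t * (x ^ n)⁻¹ = S.x s (χ s * t)) (h4 : ∀ r, ¬ R.InSub J r → χ r ≠ 1) : X.FP J x := by
  have key : ∀ (A : Set Φ) (g : (I → ℤ) →+ ℤ), R.Nil A g → (∀ r ∈ A, ¬ R.InSub J r) →
      ∀ v ∈ S.U A, x * v = v * x → v = 1 := fun A g hA h5 v hv e => by
    have := mem_U_of_conj_eq X.sep hA h3 hv (mul_inv_eq_iff_eq_mul.2 (Commute.pow_left e n))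
    rwa [show {r | r ∈ A ∧ χ r = 1} = ∅ from Set.eq_empty_of_forall_notMem fun r hr => h4 r (h5 r hr.1) hr.2, U_empty,
      Subgroup.mem_bot] at this
  refine ⟨h1, h2, key _ _ (nil_pos.mono (fun _ h => h.1) fun r hr s hs => (cone_subset_radical (Or.inl hr.1) hs).2)
    fun _ h => h.2, key _ _ (nil_neg.mono (fun _ h => h.1) fun r hr s hs k hk =>
      ⟨not_pos_of_mem_cone hk hr.1 hs.1, fun h' => ?_⟩) fun _ h => h.2⟩
  exact ((cone_subset_radical (J := J) (Or.inl ((R.pos_neg_iff r).2 hr.1))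
    ⟨(R.pos_neg_iff s).2 hs.1, fun h => hs.2 (inSub_neg.1 h)⟩).2 (neg_mem_cone hk)).2 (inSub_neg.2 h')

end

theorem sz_five {K : Type*} [Field K] (m : ℕ) [Sz.SzField K m] : (Sz.U m (0 : K) 1 * Sz.w K m) ^ 5 = 1 := by
  have := Sz.charP (F := K) m
  have h : (Sz.U m (0 : K) 1 * Sz.w K m).1.1 = !![1, 1, 0, 1; 1, 0, 1, 0; 0, 1, 0, 0; 1, 0, 0, 0] := by
    change Sz.Umat m 0 1 * suzukiForm K = _
    simp [Sz.Umat, Sz.f_def, suzukiForm]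
  generalize Sz.U m (0 : K) 1 * Sz.w K m = y at h
  refine Sz.ext_mat m ?_
  change (y ^ 5).1.1 = 1
  rw [SubmonoidClass.coe_pow, Matrix.SpecialLinearGroup.coe_pow, h]
  simp only [pow_succ, pow_zero, one_mul]
  simp [CharTwo.add_self_eq_zero]
  ext i j; fin_cases i <;> fin_cases j <;> rfl

theorem chk_CF4 : (∀ r : Fin chevF4.nroots, (∀ i : Fin chevF4.rank, i ∉ [nF 1, nF 2] → rtN chevF4 tabF4 r i = 0) ∨ gF 47 r) ∧
    (∀ r ∈ [rF 27, rF 25, rF 28, rF 30, rF 20, rF 22, rF 19, rF 17], pF 47 r = (0, 0)) ∧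
    (∀ i ∈ [nF 1, nF 2, nF 1, nF 2], chevF4.IsNegRoot (([nF 1, nF 2, nF 1, nF 2].map Fin.val).foldr chevF4.reflectRoot
      (chevF4.simple i.val))) ∧ ∀ i ∈ [nF 1, nF 2],
      ([nF 1, nF 2, nF 1, nF 2].map Fin.val).foldr chevF4.reflectRoot (chevF4.simple i.val) = chevF4.neg (chevF4.simple i.val) := by
  refine ⟨?_, ?_, ?_, ?_⟩ <;> decide +kernel

theorem cc_F4 {K : Type u} [Field K] [Fintype K] {m : ℕ} (hm : 1 ≤ m) (hK : Fintype.card K = 2 ^ (2 * m + 1)) :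
    ∃ x : twistedF4 K (2 ^ m), Odd (orderOf x) ∧ ∀ g : twistedF4 K (2 ^ m), g ≠ 1 →
      ∃ u v : twistedF4 K (2 ^ m), g = (u * x * u⁻¹) * (v * x * v⁻¹) := by
  obtain ⟨d⟩ := exists_F4Data hK
  have := Sz.szField_of_card hm hK
  have := d.char
  have hK8 : 8 ≤ Fintype.card K := by rw [hK]; exact Nat.pow_le_pow_right two_pos (show 3 ≤ _ by omega)
  obtain ⟨d1, d2, d3, d4⟩ := chk_CF4
  obtain ⟨θ, h1, h2⟩ := exists_sz_hom K m
  have h3 : ∀ t u, θ (Sz.U m (t ^ 2 ^ m) (t ^ (2 ^ m + 1) + u)) = b2 (2 ^ m) (rF 27) (rF 25) (rF 28) (rF 30) t u := fun t u => by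
    have : Sz.σ m (t ^ 2 ^ m) = t := Sz.σ_ρ m t
    rw [h1, b2, pow_succ t, map_add, map_mul, this, Sz.σ_eq_ρ_sq m t, Sz.ρ_def, ← add_assoc, mul_comm t,
      CharTwo.add_self_eq_zero, zero_add, Sz.σ_def, pow_succ' 2]
  have h4 : θ _ = b2 (2 ^ m) (rF 20) (rF 22) (rF 19) (rF 17) 0 1 := h2.trans (by simp [b2])
  have h5 : θ _ ≠ 1 := fun e => one_ne_zero (x4_inj nil_neg (fun r hr => ((d.neg12 (i := nF 1) (by simp) r).2 hr).1) (by decide)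
    (x' := 0) (y' := 0) (z' := 0) (w' := 0) ((h2.symm.trans e).trans (by simp [x4, x_zero]))).2.2.1
  have h6 : θ _ ∈ _ := h2.symm ▸ x4_mem (fun r => (d.neg12 (i := nF 1) (by simp) r).2) 0 0 1 1
  have h6' : θ _ ∈ d.X.Fix := h4 ▸ d.b2_fix b2Cl_neg _ _
  have h7 : ∀ g ∈ Sz.Q K m, θ g ∈ (sF4 K).U {r | rootOK_F4.R.Pos r ∧ rootOK_F4.R.InSub (d.T.orb (nF 1)) r} ⊓ d.X.Fix := by
    rintro _ ⟨a, b, rfl⟩
    exact (d.mem12 (by simp)).2 ⟨(Sz.σ m a, b - Sz.σ m a ^ (2 ^ m + 1)), by rw [← h3, ← Sz.ρ_def, Sz.ρ_σ, add_sub_cancel]⟩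
  have key : ∀ Y : Subgroup (chevF4.group K), (sF4 K).U {r | rootOK_F4.R.Pos r ∧ rootOK_F4.R.InSub (d.T.orb (nF 1)) r} ⊓ d.X.Fix ≤ Y →
      θ (Sz.w K m * Sz.U m 0 1 * (Sz.w K m)⁻¹) ∈ Y → θ.range ≤ Y := fun Y a b => by
    rintro _ ⟨g, rfl⟩
    exact (Sz.eq_top_of_Q_le m (K := Y.comap θ) (fun g hg => a (h7 g hg)) b (Sz.w_conj_U_not_mem m)).ge (Subgroup.mem_top g)
  have fx : θ.range ≤ d.X.Fix := key _ inf_le_right h6'
  have ps : (sF4 K).U {r | rootOK_F4.R.Pos r ∧ rootOK_F4.R.InSub (d.T.orb (nF 1)) r} ⊓ d.X.Fix ≤ θ.range := fun g hg => by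
    obtain ⟨p, rfl⟩ := (d.mem12 (by simp)).1 hg
    exact ⟨_, h3 _ _⟩
  obtain ⟨n, hn, hn'⟩ := TwSys.exists_lng' fx ps ⟨_, ⟨_, rfl⟩, h6, h5⟩
  have nm : ∀ a ∈ (sF4 K).H ⊓ d.X.Fix, ∀ y ∈ θ.range, a * y * a⁻¹ ∈ θ.range := fun a ha =>
    key (θ.range.comap (MulAut.conj a).toMonoidHom) (fun y hy => ps ⟨d.X.st.H_conj_mem_U ha.1 hy.1, conj_mem_of ha.2 hy.2⟩) (by
      have := conj_mem_of' hn.2 (ps ⟨hn'.conj_mem (fun r hr => by
        exact ⟨(pos_lng_iff hr.2).2 hr.1, (WJ_inSub (lng_mem _)).2 hr.2⟩)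
        (d.X.st.H_conj_mem_U ha.1 h6), conj_mem_of (fx hn.2) (conj_mem_of ha.2 h6')⟩)
      simpa [mul_assoc] using this)
  have hL : d.X.Levi (nF 0) (nF 1) [nF 0, nF 3] θ.range := by
    refine ⟨d.grp.fix, fun k => (nF_cases k).imp (d.orb03 (by simp) k).2 (d.orb12 (by simp) k).2, d.o03, d.orb03 (by simp),
      fun k hk hk' => ?_, key _ (inf_le_left.trans (((sF4 K).U_mono fun _ h => h.2).trans le_sup_right))
        (Subgroup.mem_sup_right ((sF4 K).U_mono (fun _ h => h.2) h6)), fx, ps, ⟨_, ⟨_, rfl⟩, h6, h5⟩, nm, fun a ha => ?_⟩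
    · rw [d.orb12 (by simp)] at hk'; revert k; decide
    have ha' := ha
    rw [d.X.H_inf_Fix (l := [nF 0, nF 3] ++ [nF 1, nF 2]) (by decide) (by decide) (gZ _ _)
      (d.X.hz_one (card_cartanKer_F4 rootOK_F4.compat))] at ha'
    obtain ⟨c, hc, e⟩ := ha'
    refine ⟨c, fun k _ => d.X.mem_Tf.1 hc k, ?_⟩
    have b1 := mul_mem (inv_mem (d.o03.hprod_fix d.grp.fix fun k _ => d.X.mem_Tf.1 hc k)) ha
    have b2 : ((sF4 K).hprod [nF 0, nF 3] c)⁻¹ * a = (sF4 K).hprod [nF 1, nF 2] c := by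
      rw [← e]; show _ * (sF4 K).hprod (_ ++ _) c = _; rw [hprod_append, inv_mul_cancel_left]
    rw [b2] at b1 ⊢
    have b3 : ∀ k ∈ [nF 1, nF 2], n * (sF4 K).h (rootOK_F4.R.simple k) (c k) * n⁻¹ = ((sF4 K).h (rootOK_F4.R.simple k) (c k))⁻¹ := fun k hk => by
      rw [d.X.st.conj_h d.X.mult (lng_mem_W _) hn' _ (c k).ne_zero, ← h_neg_root d.X.st d.X.mult _ (c k).ne_zero,
        ← wprod_eq_lng rootOK_F4.compat (l := [nF 1, nF 2, nF 1, nF 2]) (fun i => by rw [d.orb12 (by simp)]; simp; tauto) d3]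
      exact congrArg₂ _ (Fin.ext ((wprod_val rootOK_F4.compat _ _).trans (d4 k hk))) rfl
    have b4 : n * (sF4 K).hprod [nF 1, nF 2] c * n⁻¹ = ((sF4 K).hprod [nF 1, nF 2] c)⁻¹ := by
      simp only [hprod, List.map_cons, List.map_nil, List.prod_cons, List.prod_nil, mul_one]
      rw [← conj_mul, b3 _ (by simp), b3 _ (by simp), ← mul_inv_rev, d.X.st.h_comm d.X.mult _ _ (c _).ne_zero (c _).ne_zero]
    have b5 := pow_mem (mul_mem (nm _ b1 n hn.2) (inv_mem hn.2)) (2 ^ (2 * m))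
    rwa [mul_assoc, mul_assoc, ← mul_assoc n, ← conj_inv, b4, inv_inv, ← pow_two, ← pow_mul, ← pow_succ', ← hK,
      ← Nat.sub_add_cancel Fintype.card_pos, pow_succ, ← Nat.card_eq_fintype_card, H_pow d.X.st d.X.mult b1.1, one_mul] at b5
  obtain ⟨a, ha⟩ := exists_pow_ne_one_of_isCyclic (G := Kˣ) (k := 5) (by decide) (by
    rw [Nat.card_units, Nat.card_eq_fintype_card]; omega)
  obtain ⟨t, ht, c1⟩ := d.X.tor₂ (d.ρ_ρ (rF 47)) a.ne_zero (d.φφ _ _)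
  have hφ : ∀ b : K, d.X.φ (rF 47) b = b ^ 2 ^ m := fun b => (d.φ_eq _ b).trans (pow_one _)
  simp only [rootOK_F4.compat.pair_eq, d.ρ_val, hφ] at c1
  replace c1 : ∀ (s : Fin chevF4.nroots) u, t * (sF4 K).x s u * t⁻¹ =
    (sF4 K).x s ((a : K) ^ (pF 47 s).1 * ((a : K) ^ 2 ^ m) ^ (pF 47 s).2 * u) := c1
  have c2 : ∀ y, Commute t (θ y) := fun y => by
    have : ∀ a b c k x y z w, (∀ r ∈ [a, b, c, k], r ∈ [rF 27, rF 25, rF 28, rF 30, rF 20, rF 22, rF 19, rF 17]) →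
        x4 a b c k x y z w ∈ Subgroup.centralizer {t} := fun a b c k x y z w h =>
      ((sF4 K).U_le_iff.2 fun r hr u => Subgroup.mem_centralizer_singleton_iff.2 (by
        rw [mul_inv_eq_iff_eq_mul.1 (c1 r u), d2 r hr]; simp))
        (x4_mem (A := {r | r ∈ [rF 27, rF 25, rF 28, rF 30, rF 20, rF 22, rF 19, rF 17]}) h x y z w)
    refine (Subgroup.mem_centralizer_singleton_iff.1 (key _ (fun g hg => ?_) (h2 ▸ this _ _ _ _ _ _ _ _ (by simp)) ⟨y, rfl⟩)).symm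
    obtain ⟨p, rfl⟩ := (d.mem12 (by simp)).1 hg
    exact this _ _ _ _ _ _ _ _ (by simp)
  set y := Sz.U m (0 : K) 1 * Sz.w K m with hy
  have c3 : (t * θ y) ^ 5 = t ^ 5 := by rw [(c2 y).mul_pow, ← map_pow, sz_five, map_one, mul_one]
  have c4 : ∀ (k : ℕ) (s : Fin chevF4.nroots) u, t ^ k * (sF4 K).x s u * (t ^ k)⁻¹ =
      (sF4 K).x s (((a : K) ^ (pF 47 s).1 * ((a : K) ^ 2 ^ m) ^ (pF 47 s).2) ^ k * u) := fun k s u => by
    induction k with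
    | zero => simp
    | succ k ih => rw [pow_succ' t, pow_succ' _ k, mul_assoc _ _ u, ← c1, ← ih]; group
  have c5 : d.X.FP (d.T.orb (nF 1)) (t * θ y) := by
    refine TwSys.fp_of_pow (mul_mem (Subgroup.mem_sup_left ht.1) (hL.le ⟨y, rfl⟩)) (mul_mem ht.2 (fx ⟨y, rfl⟩)) (n := 5)
      (fun s u => by rw [c3, c4]) fun r hr e => ?_
    obtain ⟨-, i, -, c6⟩ := (d1 r).resolve_left fun h => hr fun i hi => h i fun h' => hi ((d.orb12 (by simp) i).2 h')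
    obtain ⟨b, hb⟩ : ∃ b : Kˣ, b = a ^ 5 := ⟨_, rfl⟩
    let f : Kˣ →* Kˣ := powMonoidHom (2 ^ m)
    have e1 : b ^ (pF 47 r).1 * f b ^ (pF 47 r).2 = 1 := Units.ext (by
      have e0 : ∀ (c : K) (n : ℤ), (c ^ 5) ^ n = (c ^ n) ^ 5 := fun c n => by
        rw [← zpow_natCast, ← zpow_natCast, zpow_comm]
      rw [Units.val_one, ← e, hb, mul_pow, ← e0, ← e0, ← pow_mul _ _ 5, mul_comm _ 5, pow_mul]
      simp [f])
    have e2 : f (f b) ^ (2 : ℤ) = b := Units.ext (by simpa [f, zpow_ofNat] using d.pow_eq b)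
    have e3 : b ^ (2 * (pF 47 r).1 ^ 2 - (pF 47 r).2 ^ 2) = 1 := by
      have e4 := congrArg (fun z => f z ^ (2 * (pF 47 r).2)) e1
      have e5 := congrArg (· ^ (2 * (pF 47 r).1)) e1
      simp only [map_mul, map_zpow, mul_zpow, ← zpow_mul, map_one, one_zpow] at e4 e5
      rw [show (pF 47 r).2 * (2 * (pF 47 r).2) = 2 * (pF 47 r).2 ^ 2 by ring, zpow_mul (f (f b)), e2] at e4
      rw [zpow_sub, eq_inv_of_mul_eq_one_right e4, show 2 * (pF 47 r).1 ^ 2 = (pF 47 r).1 * (2 * (pF 47 r).1) by ring,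
        eq_inv_of_mul_eq_one_left e5, inv_inv, show (pF 47 r).2 * (2 * (pF 47 r).1) = (pF 47 r).1 * (2 * (pF 47 r).2) by ring,
        inv_mul_cancel]
    have e6 : b ^ (2 ^ i : ℕ) = 1 := by
      rcases c6 with c6 | c6 <;> rw [c6] at e3
      · exact_mod_cast e3
      · rw [zpow_neg, inv_eq_one] at e3; exact_mod_cast e3
    have e7 : (b : K) = 1 := iterateFrobenius_inj K 2 i (by
      rw [iterateFrobenius_def, map_one, ← Units.val_pow_eq_pow_val, e6, Units.val_one])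
    exact ha (hb ▸ Units.ext e7)
  have e : d.X.Fix ≃* twistedF4 K (2 ^ m) :=
    (MulEquiv.subgroupCongr d.eq_Fix.symm).trans (Subgroup.subgroupOfEquivOfLe d.gen.1)
  have := (d.simple (by omega)).1
  refine TwSys.cov_transfer e (P := Odd) ⟨_, c5.fix, ?_, fun g hg hg' => ?_⟩
  · refine Odd.of_dvd_nat (n := 5 * (Nat.card K - 1)) (Odd.mul (by decide) ?_) (orderOf_dvd_of_pow_eq_one ?_)
    · rw [Sz.SzField.card_eq (F := K) (m := m)]; exact Sz.odd_q_sub_one m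
    · rw [pow_mul, c3, H_pow d.X.st d.X.mult (pow_mem ht.1 5)]
  obtain ⟨b, hb, v, hv, _, ⟨z, rfl⟩, v', hv', e'⟩ := hL.exists_gauss' e.isSimpleGroup (mul_mem ht ht) hg hg'
  obtain ⟨p, q, rfl⟩ : ∃ p q, z = p * y * p⁻¹ * (q * y * q⁻¹) := by
    by_cases hz : z = 1
    · refine ⟨1, Sz.w K m, ?_⟩
      rw [hz, hy, mul_assoc (Sz.w K m), mul_inv_cancel_right, one_mul, inv_one, mul_one, mul_assoc, ← mul_assoc (Sz.w K m),
        Sz.w_mul_w, one_mul, Sz.U_mul]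
      simp [CharTwo.add_self_eq_zero, Sz.U_zero]
    have h := Sz.card_conj_pairs_ge (x := y) (g := z) (fun e => ?_) hz
    · have h0 : 0 < Nat.card (Cfsg.Sz K m) := Nat.card_pos
      obtain ⟨⟨⟨u, v⟩, e⟩⟩ := (Nat.card_pos_iff.1 (show 0 < _ by omega : 0 < Nat.card
        {p : Cfsg.Sz K m × Cfsg.Sz K m // p.1 * y * p.1⁻¹ * (p.2 * y * p.2⁻¹) = z})).1
      exact ⟨u, v, e.symm⟩
    · have e1 : y = 1 := by
        have := sz_five (K := K) m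
        rwa [← hy, show y ^ 5 = y * y * (y * y) * y by simp only [pow_succ, pow_zero, one_mul, mul_assoc], e, one_mul,
          one_mul] at this
      refine Sz.w_conj_U_not_mem (F := K) m ?_
      rw [eq_inv_of_mul_eq_one_right e1, inv_mul_cancel, one_mul, inv_inv]
      exact Sz.Q_le_B m (Sz.U_mem_Q m _ _)
  refine TwSys.CCov.of_conj hb (e' ▸ TwSys.Good.cov ⟨θ p, fx ⟨p, rfl⟩, θ q, fx ⟨q, rfl⟩, c5.conj (hL.le ⟨p, rfl⟩) (fx ⟨p, rfl⟩),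
    c5.conj (hL.le ⟨q, rfl⟩) (fx ⟨q, rfl⟩), ?_⟩ hv hv')
  have c6 : ∀ p, θ p * (t * θ y) * (θ p)⁻¹ = t * θ (p * y * p⁻¹) := fun p => by
    rw [← mul_assoc, ← (c2 p).eq, map_mul θ (p * y), map_mul θ p, map_inv]; simp only [mul_assoc]
  rw [c6, c6, map_mul θ (p * y * p⁻¹), mul_assoc t (θ _), ← mul_assoc (θ _) t, ← (c2 _).eq]
  simp only [mul_assoc]

end Cfsg.Lib.Twist
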