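import Cfsg.Agent.Lib.Comp.Exact

/-! Enumerating a permutation group along an exact chain, with conjugation certificates. -/

namespace Cfsg.Lib.Twist.En

open Cfsg.Lib.Comp

/-- `k (I.map f)` with evaluated entries. -/
noncomputable def mapK (f : ℕ → ℕ) (I : List ℕ) : (List ℕ → Bool) → Bool :=
  List.rec (motive := fun _ => (List ℕ → Bool) → Bool) (fun k => k [])
    (fun x _ ih k => force (f x) fun y => ih fun l => k (y :: l)) I

theorem mapK_eq (f : ℕ → ℕ) (I : List ℕ) (k : List ℕ → Bool) : mapK f I k = k (I.map f) := by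
  induction I generalizing k with
  | nil => rfl
  | cons x t ih => exact ih fun l => k (f x :: l)

/-- Run `f` on the images of `I` under all products of transversal words. -/
noncomputable def en (tb : ℕ → ℕ → ℕ) (f : ℕ → List ℕ → Bool) (TW : List (List (List ℕ) × ℕ)) :
    ℕ → List ℕ → Bool :=
  List.rec (motive := fun _ => ℕ → List ℕ → Bool) f (fun l _ ih T I =>
    List.rec (motive := fun _ => ℕ → Bool) (fun _ => true) (fun u _ r T =>
      cnd (force (Nat.land T (ones l.2)) fun T' => mapK (wap tb u) I (ih T'))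
        (force (Nat.shiftRight T l.2) r) false) l.1 T) TW

theorem en_cons {tb : ℕ → ℕ → ℕ} {f : ℕ → List ℕ → Bool} {W : List (List ℕ)} {d : ℕ}
    {TW : List (List (List ℕ) × ℕ)} {T : ℕ} {I : List ℕ} (h : en tb f ((W, d) :: TW) T I = true) :
    ∀ u ∈ W, ∃ T', en tb f TW T' (I.map (wap tb u)) = true := by
  induction W generalizing T with
  | nil => simp
  | cons v t ih =>
    replace h : cnd (mapK (wap tb v) I (en tb f TW (Nat.land T (ones d))))
      (en tb f ((t, d) :: TW) (Nat.shiftRight T d) I) false = true := h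
    rw [cnd_tt, mapK_eq] at h
    exact List.forall_mem_cons.2 ⟨⟨_, h.1⟩, ih h.2⟩

/-- The words are transversals for the chain. -/
noncomputable def twK (tb : ℕ → ℕ → ℕ) (C : List Lev) : List ℕ → List (List (List ℕ) × ℕ) → Bool :=
  List.rec (motive := fun _ => List ℕ → List (List (List ℕ) × ℕ) → Bool)
    (fun _ TW => List.rec true (fun _ _ _ => false) TW) (fun v _ ih L TW =>
      List.rec false (fun l t _ => cnd (allL l.1 fun u => subB u L) (cnd (allN v.2.2.2.2 fun i =>
        cnd (allL l.1 fun u => cnd (Nat.beq (wap tb u (Nat.add v.2.2.2.1 i)) v.2.2.1) false true) false true)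
          (ih v.1 t) false) false) TW) C

theorem en_sound {N : ℕ} {nets : List Net} (hN : NetsOK N nets) {tb : ℕ → ℕ → ℕ} (ht : TbA nets tb)
    {f : ℕ → List ℕ → Bool} {C : List Lev} {L : List ℕ} (hC : Exact nets C L) {TW : List (List (List ℕ) × ℕ)}
    (hW : twK tb C L TW = true) {T : ℕ} {I : List ℕ} (h : en tb f TW T I = true) {s : Equiv.Perm ℕ}
    (hs : s ∈ cl (gp nets) L) : ∃ T', f T' (I.map (s⁻¹ : Equiv.Perm ℕ)) = true := by
  induction C generalizing L TW T I s with
  | nil =>
    obtain _ | ⟨l, t⟩ := TW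
    · rw [hC.nil hN s hs, inv_one, Equiv.Perm.coe_one, List.map_id]; exact ⟨T, h⟩
    · exact absurd hW Bool.false_ne_true
  | cons v C ih =>
    obtain ⟨L', ops, b, a, n⟩ := v
    obtain ⟨h1, -, h2, h3, -⟩ := hC.cons hN
    obtain _ | ⟨⟨W, d⟩, t⟩ := TW
    · exact absurd hW Bool.false_ne_true
    replace hW : cnd (allL W fun u => subB u L) (cnd (allN n fun i =>
        cnd (allL W fun u => cnd (Nat.beq (wap tb u (a + i)) b) false true) false true)
          (twK tb C L' t) false) false = true := hW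
    rw [cnd_tt, cnd_tt, allL_iff, allN_iff] at hW
    have h4 := hW.2.1 (s b - a) (by have := h3 s hs; omega)
    rw [show a + (s b - a) = s b by have := h3 s hs; omega] at h4
    obtain ⟨u, hu, e⟩ : ∃ u ∈ W, wap tb u (s b) = b := by
      by_contra hc
      rw [allL_iff.2 fun u hu => by
        rw [show Nat.beq (wap tb u (s b)) b = false from Bool.eq_false_iff.2 fun e => hc ⟨u, hu, beq_tt.1 e⟩]; rfl] at h4
      exact Bool.false_ne_true h4
    obtain ⟨T', h5⟩ := en_cons h u hu
    have h6 : ev (gp nets) u ∈ cl (gp nets) L := ev_mem fun x hx => mem_cl (sub_of_subB (hW.1 u hu) x hx)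
    obtain ⟨T2, h7⟩ := ih h1 hW.2.2 h5 ((h2 _ (mul_mem (inv_mem h6) hs)).1 (by rw [wap_eq ht] at e; exact e))
    refine ⟨T2, ?_⟩
    rw [← h7, List.map_map]
    congr 2
    ext p
    simp [wap_eq ht]

/-- Decode a word with 4-bit letters. -/
noncomputable def decK (fuel : ℕ) : ℕ → (List ℕ → Bool) → Bool :=
  Nat.rec (motive := fun _ => ℕ → (List ℕ → Bool) → Bool) (fun _ k => k []) (fun _ ih c k =>
    cnd (Nat.beq c 0) (k []) (force (Nat.land c 15) fun x => force (Nat.shiftRight c 4) fun c' =>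
      ih c' fun l => k (x :: l))) fuel

theorem decK_sound {fuel c : ℕ} {k : List ℕ → Bool} (h : decK fuel c k = true) : ∃ l, k l = true := by
  induction fuel generalizing c k with
  | zero => exact ⟨_, h⟩
  | succ n ih =>
    replace h : cnd (Nat.beq c 0) (k []) (decK n (Nat.shiftRight c 4) fun l => k (Nat.land c 15 :: l)) = true := h
    rw [cnd_eq] at h
    split_ifs at h
    · exact ⟨_, h⟩
    · obtain ⟨l, hl⟩ := ih h
      exact ⟨_, hl⟩

/-- The element with inverse images `I` of `B` is `c r c⁻¹`. -/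
noncomputable def chk (tb : ℕ → ℕ → ℕ) (c r B : List ℕ) : List ℕ → Bool :=
  List.rec (motive := fun _ => List ℕ → Bool) (fun _ => true) (fun b _ ih I =>
    cnd (Nat.beq (wap tb c (List.headD I 0)) (force (wap tb c b) (wap tb r))) (ih (List.tail I)) false) B

theorem chk_sound {tb : ℕ → ℕ → ℕ} {c r B : List ℕ} {σ : ℕ → ℕ} (h : chk tb c r B (B.map σ) = true) :
    ∀ b ∈ B, wap tb c (σ b) = wap tb r (wap tb c b) := by
  induction B with
  | nil => simp
  | cons b t ih =>
    replace h : cnd (Nat.beq (wap tb c (σ b)) (wap tb r (wap tb c b))) (chk tb c r t (t.map σ)) false = true := h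
    rw [cnd_tt, beq_tt] at h
    exact List.forall_mem_cons.2 ⟨h.1, ih h.2⟩

/-- The leaf test: conjugate to a listed representative. -/
noncomputable def leaf (tb : ℕ → ℕ → ℕ) (L B : List ℕ) (RW : List (List ℕ)) (T : ℕ) (I : List ℕ) : Bool :=
  force (Nat.land T 255) fun r => force (Nat.shiftRight T 8) fun T' => decK 16 T' fun c =>
    cnd (subB c L) (chk tb c (nth [] RW r) B I) false

theorem leaf_sound {N : ℕ} {nets : List Net} (hN : NetsOK N nets) {tb : ℕ → ℕ → ℕ} (ht : TbA nets tb)
    {C : List Lev} {L : List ℕ} (hC : Exact nets C L) {RW : List (List ℕ)} (hR : ∀ r ∈ RW, subB r L = true)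
    {T : ℕ} {g : Equiv.Perm ℕ} (hg : g ∈ cl (gp nets) L)
    (h : leaf tb L (bases C) RW T ((bases C).map (g⁻¹ : Equiv.Perm ℕ)) = true) :
    g = 1 ∨ ∃ r ∈ RW, ∃ c ∈ cl (gp nets) L, g = c * ev (gp nets) r * c⁻¹ := by
  obtain ⟨c, hc⟩ := decK_sound (fuel := 16) (c := Nat.shiftRight T 8) (k := fun c => cnd (subB c L)
    (chk tb c (nth [] RW (Nat.land T 255)) (bases C) ((bases C).map (g⁻¹ : Equiv.Perm ℕ))) false) h
  rw [cnd_tt] at hc
  have h1 : ev (gp nets) c ∈ cl (gp nets) L := ev_mem fun x hx => mem_cl (sub_of_subB hc.1 x hx)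
  have key : ∀ r, subB r L = true → chk tb c r (bases C) ((bases C).map (g⁻¹ : Equiv.Perm ℕ)) = true →
      g = ev (gp nets) c * ev (gp nets) r * (ev (gp nets) c)⁻¹ := fun r h2 h3 => by
    have h4 : ev (gp nets) r ∈ cl (gp nets) L := ev_mem fun x hx => mem_cl (sub_of_subB h2 x hx)
    rw [eq_comm, ← mul_inv_eq_one]
    refine hC.base hN (mul_mem (mul_mem (mul_mem h1 h4) (inv_mem h1)) (inv_mem hg)) fun b hb => ?_
    have := chk_sound h3 b hb
    rw [wap_eq ht, wap_eq ht, wap_eq ht] at this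
    simp only [Equiv.Perm.mul_apply, this, app_inv]
  rcases nth_mem [] RW (Nat.land T 255) with e | e
  · left
    rw [key [] rfl (e ▸ hc.2), ev_nil]; simp
  · exact Or.inr ⟨_, e, _, h1, key _ (hR _ e) hc.2⟩

end Cfsg.Lib.Twist.En
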