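import Cfsg.Agent.Lib.Twist.CCH
import Cfsg.Agent.Lib.Comp.Titsx.Two

/-! Every non-identity element of the Tits group is a product of two elements of order `5`. -/

set_option maxRecDepth 100000
set_option Elab.async false

namespace Cfsg.Lib.Twist.En

open Cfsg.Lib.Comp Cfsg.Lib.Comp.Titsx Cfsg.Lib.MatB Subgroup

theorem sylc {G : Type*} [Group G] [Finite G] {p e k : ℕ} [hp : Fact p.Prime] {A : Subgroup G}
    (h : p ^ e ∣ Nat.card A) (hG : ¬ p ^ (e + 1) ∣ Nat.card G) {x : G} (hx : x ^ p ^ k = 1) :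
    ∃ g : G, g * x * g⁻¹ ∈ A := by
  have hA : ¬ p ∣ A.index := fun h' => hG (by
    rw [← A.card_mul_index, pow_succ]; exact Nat.mul_dvd_mul h h')
  have hX : IsPGroup p (zpowers x) := by
    rintro ⟨_, j, rfl⟩
    refine ⟨k, Subtype.ext ?_⟩
    change (x ^ j) ^ p ^ k = 1
    rw [← zpow_natCast, ← zpow_mul, mul_comm, zpow_mul, zpow_natCast, hx, one_zpow]
  obtain ⟨q, hq⟩ := hX.nonempty_fixed_point_of_prime_not_dvd_card (G ⧸ A) hA
  obtain ⟨g, rfl⟩ := QuotientGroup.mk_surjective q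
  refine ⟨g⁻¹, ?_⟩
  have h1 : ((x⁻¹ * g : G) : G ⧸ A) = g :=
    (MulAction.mem_fixedPoints.1 hq) ⟨x⁻¹, inv_mem (mem_zpowers x)⟩
  rw [QuotientGroup.eq] at h1
  simpa [mul_assoc] using h1

/-- The permutation model of the Tits group. -/
noncomputable abbrev TG := cl (gp nets) L

instance finTG : Finite TG := nets_ok.finite L

theorem wx_ne : wv nets L wx ≠ 1 := wv_ne nets_ok (by decide +kernel) (A := Nat.shiftLeft 1 0) (by decide +kernel)
theorem wy_ne : wv nets L wy ≠ 1 := wv_ne nets_ok (by decide +kernel) (A := Nat.shiftLeft 1 0) (by decide +kernel)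

theorem cl3 {x : TG} {k : ℕ} (hx : x ^ 3 ^ k = 1) (h1 : x ≠ 1) : IsConj (wv nets L wx) x := by
  have hk : 2048 ≤ 2 ^ 11 := by norm_num
  obtain ⟨φ, hφ⟩ := exists_he nets_ok hk he3
  have h3 : ∀ u ≠ 1, IsConj (φ u) (wv nets L wx) := fun u hu => hφ u ▸ isConj_wv nets_ok hk (cj3 u hu)
  have hi : Function.Injective φ := (injective_iff_map_eq_one φ).2 fun u hu => by_contra fun h =>
    wx_ne (isConj_one_right.1 (hu ▸ h3 u h))
  have : Fact (Nat.Prime 3) := ⟨by norm_num⟩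
  obtain ⟨g, u, hu⟩ := sylc (A := φ.range) (e := 3) (by
    rw [← Nat.card_congr (MonoidHom.ofInjective hi).toEquiv, Nat.card_eq_fintype_card, He.card])
    (by rw [card]; norm_num) hx
  refine (h3 u fun h => h1 ?_).symm.trans (isConj_iff.2 ⟨g, hu.symm⟩).symm
  rw [h, map_one, eq_comm, conj_eq_one_iff] at hu; exact hu

theorem cl5 {x : TG} {k : ℕ} (hx : x ^ 5 ^ k = 1) (h1 : x ≠ 1) : IsConj (wv nets L wy) x := by
  have hk : 2048 ≤ 2 ^ 11 := by norm_num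
  obtain ⟨ψ, hψ⟩ := exists_he nets_ok hk he5
  have e : ∀ u : He 5, ψ u = wv nets L (hw wy wc [] (⟨u.i, u.j, 0⟩ : He 5)) := fun u => by
    simp only [hψ, wv, hw, ev_apd, ev_rp, ev_nil, one_pow]
  have h5 : ∀ u : He 5, ¬ (u.i = 0 ∧ u.j = 0) → IsConj (ψ u) (wv nets L wy) := fun u hu =>
    e u ▸ isConj_wv nets_ok hk (cj5 _ _ hu)
  have : Fact (Nat.Prime 5) := ⟨by norm_num⟩
  have c1 : 25 ≤ Nat.card ψ.range := by
    have := Nat.card_le_card_of_injective (fun a : ZMod 5 × ZMod 5 => (⟨ψ ⟨a.1, a.2, 0⟩, _, rfl⟩ : ψ.range))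
      fun a b h => by
        have h2 : ψ (⟨a.1, a.2, 0⟩ * ⟨b.1, b.2, 0⟩⁻¹) = 1 := by
          rw [map_mul, map_inv, mul_inv_eq_one]; exact congrArg Subtype.val h
        by_contra h3
        refine wy_ne (isConj_one_right.1 (h2 ▸ h5 _ fun h4 => h3 ?_))
        simp only [He.mul_def, He.inv_def, add_neg_eq_zero] at h4
        exact Prod.ext h4.1 h4.2
    simpa using this
  have c2 : Nat.card ψ.range ∣ 5 ^ 3 := by
    rw [← He.card, ← Nat.card_eq_fintype_card]; exact card_range_dvd ψ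
  obtain ⟨j, -, c3⟩ := (Nat.dvd_prime_pow (by norm_num)).1 c2
  obtain ⟨g, u, hu⟩ := sylc (A := ψ.range) (e := 2) (by
    rw [c3] at c1 ⊢
    refine pow_dvd_pow 5 (by_contra fun h => ?_)
    obtain rfl | rfl : j = 0 ∨ j = 1 := by omega
    all_goals omega) (by rw [card]; norm_num) hx
  refine (h5 u fun h => h1 ?_).symm.trans (isConj_iff.2 ⟨g, hu.symm⟩).symm
  rw [e, h.1, h.2, eq_comm] at hu
  exact conj_eq_one_iff.1 hu

def wz : List ℕ := [3, 13, 12]

theorem cl13 {x : TG} {k : ℕ} (hx : x ^ 13 ^ k = 1) : ∃ j < 13, IsConj (wv nets L wz ^ j) x := by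
  have : Fact (Nat.Prime 13) := ⟨by norm_num⟩
  have ho : orderOf (wv nets L wz) = 13 := orderOf_eq_prime
    ((ev_rp _ _ 13).symm.trans (wv_eq nets_ok (k := 11) (by norm_num) (w := []) (by decide +kernel)))
    (wv_ne nets_ok (by decide +kernel) (A := Nat.shiftLeft 1 0) (by decide +kernel))
  obtain ⟨g, hg⟩ := sylc (A := zpowers (wv nets L wz)) (e := 1) (by rw [Nat.card_zpowers, ho, pow_one])
    (by rw [card]; norm_num) hx
  classical
  obtain ⟨j, hj, e⟩ := Finset.mem_image.1 (mem_zpowers_iff_mem_range_orderOf.1 hg)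
  rw [Finset.mem_range, ho] at hj
  exact ⟨j, hj, (isConj_iff.2 ⟨g, e.symm⟩).symm⟩

/-- The points moved by at most one step. -/
def DD (h : TG) : Set ℕ := {p | ∃ a : TG, a.1 0 = p ∧ a.1⁻¹ (h.1⁻¹ p) < 11}

theorem DD_conj (c h : TG) {p : ℕ} (hp : p ∈ DD h) : c.1 p ∈ DD (c * h * c⁻¹) := by
  obtain ⟨a, h1, h2⟩ := hp
  exact ⟨c * a, by simp [h1], by simpa using h2⟩

theorem DD_lt {h : TG} {p : ℕ} (hp : p ∈ DD h) : p < 1755 := by
  obtain ⟨a, rfl, -⟩ := hp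
  simpa using ((exact.cons nets_ok).2.2.2.1 a.1 a.2).2

theorem DD_fin (h : TG) : (DD h).Finite := (Set.finite_lt_nat 1755).subset fun _ => DD_lt

theorem DD_card {h k : TG} (e : IsConj h k) : (DD h).ncard = (DD k).ncard := by
  have key : ∀ {h k : TG}, IsConj h k → (DD h).ncard ≤ (DD k).ncard := fun {h k} e => by
    obtain ⟨c, rfl⟩ := isConj_iff.1 e
    exact Set.ncard_le_ncard_of_injOn c.1 (fun p => DD_conj c h) c.1.injective.injOn (DD_fin _)
  exact le_antisymm (key e) (key e.symm)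

theorem DD_fix {h z : TG} (hc : Commute z h) {r k : ℕ} (hr : r.Prime) (hz : z ^ r ^ k = 1)
    (hd : ¬ r ∣ (DD h).ncard) : ∃ p ∈ DD h, z.1 p = p := by
  have : Fact r.Prime := ⟨hr⟩
  have := (DD_fin h).fintype
  have k1 : ∀ {z : TG}, Commute z h → ∀ p ∈ DD h, z.1 p ∈ DD h := fun {z} hc p hp => by
    have := DD_conj z h hp
    rwa [hc.eq, mul_inv_cancel_right] at this
  obtain ⟨⟨p, hp⟩, e⟩ := Equiv.Perm.exists_fixed_point_of_prime (p := r) (n := k) (α := DD h)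
    (by rwa [← Nat.card_eq_fintype_card]) (σ := z.1.subtypePerm fun p =>
      ⟨fun hp => by simpa using k1 hc.inv_left _ hp, k1 hc p⟩) (by
      rw [Equiv.Perm.subtypePerm_pow]
      ext p
      simp [← Subgroup.coe_pow, hz])
  exact ⟨p, hp, congrArg Subtype.val e⟩

theorem exP : Exact nets CP LP := (exact.cons nets_ok).1

theorem stabP {g : TG} (h : g.1 0 = 0) : g.1 ∈ cl (gp nets) LP := ((exact.cons nets_ok).2.2.1 g.1 g.2).1 h

theorem nofix {z : TG} {r k : ℕ} (hr : Nat.Coprime r 10) (hz : z ^ r ^ k = 1) {h : TG}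
    (hp : ∃ p ∈ DD h, z.1 p = p) : z = 1 := by
  obtain ⟨p, ⟨a, rfl, -⟩, e⟩ := hp
  have h1 := stabP (g := a⁻¹ * z * a) (by simp [e])
  have h2 : Nat.card (cl (gp nets) LP) = 10240 := by
    have := (exact.cons nets_ok).2.2.2.2.2
    rw [card] at this; omega
  have h3 := orderOf_dvd_natCard (⟨_, h1⟩ : cl (gp nets) LP)
  rw [h2, ← Subgroup.orderOf_coe, Subgroup.orderOf_coe (a⁻¹ * z * a),
    ← SemiconjBy.orderOf_eq a⁻¹ (show SemiconjBy a⁻¹ z (a⁻¹ * z * a) by simp [SemiconjBy])] at h3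
  exact orderOf_eq_one_iff.1 (Nat.eq_one_of_dvd_coprimes
    ((hr.pow k 11).coprime_dvd_right (by norm_num : 10240 ∣ 10 ^ 11)) (orderOf_dvd_of_pow_eq_one hz) h3)

theorem lt11 {s : Equiv.Perm ℕ} (hs : s ∈ cl (gp nets) LP) {q : ℕ} (hq : q < 11) : s q < 11 := by
  obtain ⟨-, -, -, h3, h4, -⟩ := exP.cons nets_ok
  rcases Nat.eq_zero_or_pos q with rfl | h
  · rw [((exact.cons nets_ok).2.2.1 s (cl_mono (exact.cons nets_ok).2.1 hs)).2 hs]; norm_num
  · obtain ⟨g, hg, rfl⟩ := h4 q h hq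
    exact (h3 _ (mul_mem hs hg)).2

/-- Computation of `DD`. -/
noncomputable def dB (w : List ℕ) (e : ℕ) (F : List ℕ) : Bool :=
  cnd (subB w L) (cnd (decide F.Nodup) (cnd (allL F fun p => Nat.ble p 1754) (force (msk F) fun M =>
    allR 0 27 65 fun p => force (witer tb w e p) fun q => walk tb (look2 par 4 64) (msk L) 0 (fun ws =>
      Nat.beq (cnd (Nat.ble 11 (wapR tb ws q)) 0 1) (Nat.land (Nat.shiftRight M p) 1)) 100 p []) false) false) false

theorem dB_card {w : List ℕ} {e : ℕ} {F : List ℕ} (h : dB w e F = true) :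
    (DD (wv nets L w ^ e)).ncard = F.length := by
  simp only [dB, cnd_tt, force_eq, allL_iff, decide_eq_true_eq, ble_tt] at h
  obtain ⟨h1, h2, h3, h4⟩ := h
  rw [← List.toFinset_card_of_nodup h2, ← Set.ncard_coe_finset]
  congr 1
  ext p
  rw [List.coe_toFinset, Set.mem_ofPred_eq]
  by_cases hp : p < 1755
  swap
  · exact ⟨fun h => (hp (DD_lt h)).elim, fun h => (hp (Nat.lt_succ_of_le (h3 p h))).elim⟩
  obtain ⟨v, v1, v2, v3⟩ := walk_sound tb_ok (allR_sound h4 (Nat.zero_le p) (by omega))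
  rw [List.append_nil, wapR_eq tb_ok, List.reverse_reverse, witer_eq tb_ok, ← coe_wv h1, ← Subgroup.coe_pow,
    beq_tt] at v3
  have v4 : ev (gp nets) v ∈ cl (gp nets) L := ev_mem fun x hx => mem_cl (v1 x hx)
  rw [← testBit_msk, ← beq_bit, beq_tt, ← v3, cnd_eq]
  simp only [ble_tt]
  constructor
  · rintro ⟨a, a1, a2⟩
    have := lt11 (stabP (g := (⟨_, v4⟩ : TG)⁻¹ * a) (by simpa [a1] using v2)) a2
    rw [if_neg]
    simpa using this
  · intro h
    refine ⟨⟨_, v4⟩, by rw [← v2]; exact app_inv _ _, ?_⟩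
    by_contra h'
    rw [if_pos (not_lt.1 h')] at h
    exact zero_ne_one h

theorem db3 : dB wx 1 F3 = true := by decide +kernel
theorem db5 : dB wy 1 F5 = true := by decide +kernel
theorem db13 : allN 12 (fun j => cnd (dB wz (Nat.succ j) (nth [] F13 (Nat.succ j)))
    (Nat.beq (nth [] F13 (Nat.succ j)).length 13) false) = true := by decide +kernel

theorem DD_one : (DD 1).ncard = 1755 := by
  rw [show DD 1 = Set.Iio 1755 from Set.ext fun p => ⟨DD_lt, fun h => ?_⟩]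
  · rw [← Finset.coe_range, Set.ncard_coe_finset, Finset.card_range]
  · obtain ⟨a, ha, rfl⟩ := (exact.cons nets_ok).2.2.2.2.1 p (Nat.zero_le p) (by simpa using h)
    exact ⟨⟨a, ha⟩, rfl, by simp⟩

theorem near_aux {t x y z : TG} (h2 : t ^ 2 ^ 11 = 1) (h3 : x ^ 3 ^ 3 = 1) (h5 : y ^ 5 ^ 2 = 1) (h13 : z ^ 13 ^ 1 = 1)
    (c3 : Commute t x) (c5 : Commute t y) (c13 : Commute t z) (d1 : Commute z x) (d2 : Commute z y) (d3 : Commute x y) :
    ∃ p, p ∈ DD (t * (x * y * z)) := by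
  have fin : ∀ a, Commute t a → ¬ 2 ∣ (DD a).ncard → ∃ p, p ∈ DD (t * a) := fun a e hd => by
    obtain ⟨p, ⟨c, c1, c2⟩, h⟩ := DD_fix e Nat.prime_two h2 hd
    refine ⟨p, c, c1, ?_⟩
    rw [Subgroup.coe_mul, mul_inv_rev, Equiv.Perm.mul_apply, Equiv.Perm.inv_eq_iff_eq.2 h.symm]
    exact c2
  by_cases e5 : y = 1
  · by_cases e3 : x = 1
    · obtain ⟨j, hj, e⟩ := cl13 h13
      rw [e3, e5, one_mul, one_mul]
      refine fin _ c13 ?_
      rw [← DD_card e]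
      obtain _ | j := j
      · rw [pow_zero, DD_one]; norm_num
      · have := allN_iff.1 db13 j (by omega)
        rw [cnd_tt, beq_tt] at this
        rw [dB_card this.1, this.2]; norm_num
    · have e : (DD x).ncard = 27 := by rw [← DD_card (cl3 h3 e3), ← pow_one (wv nets L wx), dB_card db3]; rfl
      rw [nofix (by norm_num) h13 (DD_fix d1 (by norm_num) h13 (by rw [e]; norm_num)), e5, mul_one, mul_one]
      exact fin _ c3 (by rw [e]; norm_num)
  · have e : (DD y).ncard = 5 := by rw [← DD_card (cl5 h5 e5), ← pow_one (wv nets L wy), dB_card db5]; rfl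
    rw [nofix (by norm_num) h13 (DD_fix d2 (by norm_num) h13 (by rw [e]; norm_num)),
      nofix (by norm_num) h3 (DD_fix d3 (by norm_num) h3 (by rw [e]; norm_num)), mul_one, one_mul]
    exact fin _ c5 (by rw [e]; norm_num)

theorem near (g : TG) : ∃ p, p ∈ DD g := by
  obtain ⟨a, b, c, d, n, h1, h2, h3, h4, h5⟩ : ∃ a b c d n : ℕ, 17971200 ∣ a * 2 ^ 11 ∧ 17971200 ∣ b * 3 ^ 3 ∧
      17971200 ∣ c * 5 ^ 2 ∧ 17971200 ∣ d * 13 ^ 1 ∧ a + (b + c + d) = 17971200 * n + 1 :=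
    ⟨16769025, 13312000, 8626176, 15206400, 3, by norm_num⟩
  rw [← card] at h1 h2 h3 h4 h5
  have hp : ∀ {a b : ℕ}, Nat.card TG ∣ a * b → (g ^ a) ^ b = 1 := fun ⟨c, hc⟩ => by
    rw [← pow_mul, hc, pow_mul, pow_card_eq_one', one_pow]
  have cm := Commute.pow_pow_self g
  have := near_aux (hp h1) (hp h2) (hp h3) (hp h4) (cm _ _) (cm _ _) (cm _ _) (cm _ _) (cm _ _) (cm _ _)
  rwa [← pow_add, ← pow_add, ← pow_add, h5, pow_succ, pow_mul, pow_card_eq_one', one_pow, one_mul] at this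

/-- A product of two elements of order `5`. -/
def P5 (g : TG) : Prop := ∃ a b : TG, a ^ 5 = 1 ∧ a ≠ 1 ∧ b ^ 5 = 1 ∧ b ≠ 1 ∧ g = a * b

theorem P5.conj {g : TG} (h : P5 g) (c : TG) : P5 (c * g * c⁻¹) := by
  obtain ⟨a, b, h1, h2, h3, h4, rfl⟩ := h
  exact ⟨c * a * c⁻¹, c * b * c⁻¹, by rw [conj_pow, h1]; simp, fun h => h2 (conj_eq_one_iff.1 h),
    by rw [conj_pow, h3]; simp, fun h => h4 (conj_eq_one_iff.1 h), by group⟩

/-- The word has order `5`. -/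
noncomputable def o5 (w : List ℕ) : Bool :=
  cnd (eqP tb (bases CT) L w 5 []) (cnd (allL (bases CT) fun b => Nat.beq (wap tb w b) b) false true) false

theorem o5_sound {w : List ℕ} (h : o5 w = true) : subB w L = true ∧ wv nets L w ^ 5 = 1 ∧ wv nets L w ≠ 1 := by
  rw [o5, cnd_tt] at h
  have h1 := exact.eq nets_ok tb_ok h.1
  have h2 : subB w L = true := (cnd_tt.1 h.1).1
  refine ⟨h2, Subtype.ext (by rw [Subgroup.coe_pow, coe_wv h2, h1]; rfl), fun e => ?_⟩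
  have h3 := h.2
  rw [allL_iff.2 fun b _ => by rw [wap_eq tb_ok, ← coe_wv h2, e, beq_tt]; rfl] at h3
  exact Bool.false_ne_true h3

theorem ry_ok : allL RY (fun r => cnd (subB r.1 L) (cnd (o5 r.2) (o5 (apd r.1 r.2)) false) false) = true := by
  decide +kernel

theorem rw_ok {r : List ℕ} (hr : r ∈ RW) : subB r L = true ∧ P5 (wv nets L r) := by
  rw [show RW = RY.map Prod.fst by decide +kernel] at hr
  obtain ⟨⟨r, y⟩, h, rfl⟩ := List.mem_map.1 hr
  have h1 := allL_iff.1 ry_ok _ h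
  rw [cnd_tt, cnd_tt] at h1
  obtain ⟨-, a1, a2⟩ := o5_sound h1.2.1
  obtain ⟨-, b1, b2⟩ := o5_sound h1.2.2
  exact ⟨h1.1, _, _, b1, b2, by rw [inv_pow, a1, inv_one], inv_ne_one.2 a2, by simp only [wv, ev_apd]; group⟩

theorem p5_of_leaf {g : TG} {T : ℕ} (h : leaf tb L (bases CT) RW T ((bases CT).map (g.1⁻¹ : Equiv.Perm ℕ)) = true)
    (h1 : g ≠ 1) : P5 g := by
  obtain e | ⟨r, hr, c, hc, e⟩ := leaf_sound nets_ok tb_ok exact (fun r hr => (rw_ok hr).1) g.2 h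
  · exact (h1 (Subtype.ext e)).elim
  · have := (rw_ok hr).2.conj ⟨c, hc⟩
    rwa [show (⟨c, hc⟩ : TG) * wv nets L r * (⟨c, hc⟩ : TG)⁻¹ = g from Subtype.ext (by
      rw [e, ← coe_wv (rw_ok hr).1]; rfl)] at this

theorem bases_CT : bases CT = [0, 1, 2, 3, 6, 11, 27, 91] := rfl

theorem p5_zero {g : TG} (h : g.1 0 = 0) (h3 : g ≠ 1) : P5 g := by
  obtain ⟨T, e⟩ := en_sound nets_ok tb_ok exP tw_ok en0 (stabP h)
  rw [← bases_CT] at e
  exact p5_of_leaf e h3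

theorem p5_aux {g u : TG} {f : ℕ → ℕ} {T : ℕ} (hf : f = (u.1⁻¹ : Equiv.Perm ℕ)) (h4 : u.1⁻¹ 1 = 0)
    (h6 : en tb (leaf tb L (bases CT) RW) TW T ([0, 1, 2, 3, 6, 11, 27, 91].map f) = true)
    (h : g.1 0 = 1) (h3 : g ≠ 1) : P5 g := by
  subst hf
  obtain ⟨T, e⟩ := en_sound nets_ok tb_ok exP tw_ok h6 (stabP (g := u⁻¹ * g) (by simpa [h] using h4))
  rw [List.map_map, show ((((u⁻¹ * g : TG) : Equiv.Perm ℕ)⁻¹ : Equiv.Perm ℕ) ∘ (u.1⁻¹ : Equiv.Perm ℕ)) =
    (g.1⁻¹ : Equiv.Perm ℕ) from funext fun p => by simp, ← bases_CT] at e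
  exact p5_of_leaf e h3

theorem p5_one {g : TG} (h : g.1 0 = 1) (h3 : g ≠ 1) : P5 g := by
  have h5 := coe_wv (nets := nets) (show subB [13, 5, 4, 13] L = true by decide +kernel)
  exact p5_aux (u := wv nets L [13, 5, 4, 13]) (funext fun p => by rw [wap_eq tb_ok, h5])
    (by rw [h5, ← wap_eq tb_ok]; decide +kernel) ((mapK_eq _ _ _).symm.trans en1) h h3

theorem p5 {g : TG} (h1 : g ≠ 1) : P5 g := by
  obtain ⟨p, a, rfl, h2⟩ := near g⁻¹
  have key : ∀ c : TG, (c⁻¹ * g * c).1 0 ≤ 1 → P5 g := fun c h => by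
    have h3 : c⁻¹ * g * c ≠ 1 := fun e => h1 (conj_eq_one_iff.1 (by rwa [inv_inv] : c⁻¹ * g * c⁻¹⁻¹ = 1))
    suffices P5 (c⁻¹ * g * c) by simpa [mul_assoc] using this.conj c
    exact (Nat.le_one_iff_eq_zero_or_eq_one.1 h).elim (p5_zero · h3) (p5_one · h3)
  replace h2 : (a⁻¹ * g * a).1 0 < 11 := by simpa using h2
  rcases Nat.eq_zero_or_pos ((a⁻¹ * g * a).1 0) with h | h
  · exact key a (by omega)
  · obtain ⟨s, hs, e⟩ := (exP.cons nets_ok).2.2.2.2.1 _ h h2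
    have hs' := cl_mono (exact.cons nets_ok).2.1 hs
    refine key (a * ⟨s, hs'⟩) (le_of_eq ?_)
    have e0 : s 0 = 0 := ((exact.cons nets_ok).2.2.1 s hs').2 hs
    have : (a⁻¹ * g * a).1 (s 0) = s 1 := by rw [e0, e]
    simpa using congrArg (s⁻¹ : Equiv.Perm ℕ) this

theorem cc_Tits : ∃ x : TG, Odd (orderOf x) ∧ ∀ g ≠ 1, ∃ u v, g = (u * x * u⁻¹) * (v * x * v⁻¹) := by
  have : Fact (Nat.Prime 5) := ⟨by norm_num⟩
  refine ⟨wv nets L wy, ?_, fun g hg => ?_⟩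
  · rw [orderOf_eq_prime (p := 5) (o5_sound (by decide +kernel)).2.1 wy_ne]; decide
  · obtain ⟨a, b, h1, h2, h3, h4, rfl⟩ := p5 hg
    obtain ⟨u, rfl⟩ := isConj_iff.1 (cl5 (k := 1) h1 h2)
    obtain ⟨v, rfl⟩ := isConj_iff.1 (cl5 (k := 1) h3 h4)
    exact ⟨u, v, rfl⟩

end Cfsg.Lib.Twist.En
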