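/-
Lower bound for the degrees of complex representations of ³D₄(q): the abstract part.
-/
import Cfsg.Agent.Lib.Twist.ReeDeg

set_option autoImplicit false

namespace Cfsg.Lib.Twist

open Subgroup Module LinearMap

theorem idem_avg' {A V : Type*} [Fintype A] [Nonempty A] [AddCommGroup V] [Module ℂ V] {T : A → End ℂ V}
    (hT : ∀ x, ∃ e : A → A, Function.Injective e ∧ ∀ y, T (e y) = T x * T y) :
    IsIdempotentElem ((Fintype.card A : ℂ)⁻¹ • ∑ x, T x) := by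
  have h : ∀ x, T x * ∑ y, T y = ∑ y, T y := fun x => by
    obtain ⟨e, h1, h2⟩ := hT x
    rw [Finset.mul_sum]
    exact Fintype.sum_bijective e (Finite.injective_iff_bijective.1 h1) _ _ fun y => (h2 y).symm
  rw [IsIdempotentElem, smul_mul_smul_comm, Finset.sum_mul]
  simp [h, ← Nat.cast_smul_eq_nsmul ℂ, smul_smul]

theorem sum_ite_zero {F : Type*} [Fintype F] [Zero F] [DecidableEq F] (f : F → ℂ) (h : f 0 = 1) (A B : ℂ) :
    ∑ s, f s * (if s = 0 then B else A) = B - A + A * ∑ s, f s := by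
  rw [Finset.mul_sum, ← Finset.add_sum_erase _ _ (Finset.mem_univ 0), ← Finset.add_sum_erase _ _ (Finset.mem_univ (0 : F)),
    Finset.sum_congr rfl fun s hs => by rw [if_neg (Finset.ne_of_mem_erase hs), mul_comm]]
  simp [h]; ring

/-- The relations in a Sylow subgroup of `³D₄(q)` which are used. -/
structure TD (F K G : Type*) [Field F] [AddCommGroup K] [Group G] where
  x0 : F → G
  x3 : F → G
  z : F → G
  y1 : K → G
  y2 : K → G
  x0_add : ∀ s t, x0 (s + t) = x0 s * x0 t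
  x3_add : ∀ s t, x3 (s + t) = x3 s * x3 t
  z_add : ∀ s t, z (s + t) = z s * z t
  y1_add : ∀ s t, y1 (s + t) = y1 s * y1 t
  y2_add : ∀ s t, y2 (s + t) = y2 s * y2 t
  z0 : ∀ w s, Commute (z w) (x0 s)
  z3 : ∀ w s, Commute (z w) (x3 s)
  z1 : ∀ w s, Commute (z w) (y1 s)
  z2 : ∀ w s, Commute (z w) (y2 s)
  c23 : ∀ u v, Commute (y2 u) (x3 v)
  c20 : ∀ u v, Commute (y2 u) (x0 v)
  c13 : ∀ u v, Commute (y1 u) (x3 v)
  c03 : ∀ s v, x0 s * x3 v = x3 v * x0 s * z (s * v)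
  c12 : ∀ t u, ∃ w, y1 t * y2 u = y2 u * y1 t * z w
  c12' : ∀ u ≠ 0, ∀ w, ∃ t, y1 t * y2 u = y2 u * y1 t * z w
  k0 : ∀ w ≠ 0, IsConj (z 1) (x0 w)
  k3 : ∀ w ≠ 0, IsConj (z 1) (x3 w)
  kz : ∀ w ≠ 0, IsConj (z 1) (z w)
  k03 : ∀ s ≠ 0, ∀ v ≠ 0, IsConj (x0 1 * x3 1) (x0 s * x3 v)

namespace TD

variable {F K G : Type*} [Field F] [AddCommGroup K] [Group G] (R : TD F K G)

theorem x0_zero : R.x0 0 = 1 := by simpa using R.x0_add 0 0
theorem x3_zero : R.x3 0 = 1 := by simpa using R.x3_add 0 0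
theorem z_zero : R.z 0 = 1 := by simpa using R.z_add 0 0
theorem y1_zero : R.y1 0 = 1 := by simpa using R.y1_add 0 0
theorem y2_zero : R.y2 0 = 1 := by simpa using R.y2_add 0 0

theorem c30 (s v : F) : R.x3 v * R.x0 s = R.x0 s * R.x3 v * R.z (-(s * v)) := by
  rw [R.c03, mul_assoc, ← R.z_add, add_neg_cancel, R.z_zero, mul_one]

theorem conj23 {u : K} {v : F} (h : u ≠ 0 ∨ v ≠ 0) (w : F) : IsConj (R.y2 u * R.x3 v) (R.y2 u * R.x3 v * R.z w) := by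
  rcases h with h | h
  · obtain ⟨t, ht⟩ := R.c12' u h w
    refine isConj_iff.2 ⟨R.y1 t, mul_inv_eq_of_eq_mul ?_⟩
    rw [← mul_assoc, ht, mul_assoc, (R.z3 _ _).eq, ← mul_assoc, mul_assoc _ (R.y1 t), (R.c13 _ _).eq, mul_assoc _ (R.z w),
      (R.z1 _ _).eq]
    simp only [mul_assoc]
  · refine isConj_iff.2 ⟨R.x0 (w / v), mul_inv_eq_of_eq_mul ?_⟩
    rw [← mul_assoc, ← (R.c20 _ _).eq, mul_assoc, R.c03, div_mul_cancel₀ _ h, mul_assoc _ (R.z w), (R.z0 _ _).eq]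
    simp only [mul_assoc]

theorem conj03 {s v : F} (h : s ≠ 0 ∨ v ≠ 0) (w : F) : IsConj (R.x0 s * R.x3 v) (R.x0 s * R.x3 v * R.z w) := by
  rcases h with h | h
  · refine isConj_iff.2 ⟨R.x3 (-w / s), mul_inv_eq_of_eq_mul ?_⟩
    rw [← mul_assoc, R.c30, mul_div_cancel₀ _ h, neg_neg, mul_assoc, (R.z3 _ _).eq, mul_assoc _ (R.z w), (R.z3 _ _).eq,
      mul_assoc, mul_assoc, ← mul_assoc (R.x3 _), ← mul_assoc (R.x3 v), ← R.x3_add, ← R.x3_add, add_comm]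
  · refine isConj_iff.2 ⟨R.x0 (w / v), mul_inv_eq_of_eq_mul ?_⟩
    rw [← mul_assoc, ← R.x0_add, add_comm, R.x0_add, mul_assoc, R.c03 (w / v), div_mul_cancel₀ _ h, mul_assoc _ (R.z w),
      (R.z0 _ _).eq]
    simp only [mul_assoc]

variable [Fintype F] [Fintype K] {V : Type*} [AddCommGroup V] [Module ℂ V] [FiniteDimensional ℂ V] (ρ : G →* End ℂ V)

local notation "𝔮" => Fintype.card F
local notation "τ" g:max => trace ℂ V (ρ g)

omit [FiniteDimensional ℂ V] in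
theorem tr_conj {a b : G} (h : IsConj a b) : τ a = τ b := by
  obtain ⟨c, rfl⟩ := isConj_iff.1 h
  rw [map_mul, trace_mul_comm, ← map_mul, inv_mul_cancel_left]

omit [Fintype F] [Fintype K] in
theorem tr_z {ζ : ℂ} (hζ : τ (R.z 1) = ζ) [DecidableEq F] (w : F) : τ (R.z w) = if w = 0 then (finrank ℂ V : ℂ) else ζ := by
  split_ifs with h
  · simp [h, R.z_zero]
  · exact (tr_conj ρ (R.kz w h)).symm.trans hζ

omit [Fintype K] in
theorem sum_z {ζ : ℂ} (hζ : τ (R.z 1) = ζ) : ∑ w, τ (R.z w) = finrank ℂ V + (𝔮 - 1) * ζ := by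
  classical
  have := sum_ite_zero (fun _ : F => (1 : ℂ)) rfl ζ (finrank ℂ V)
  simp only [one_mul, R.tr_z ρ hζ] at this ⊢
  rw [this]; simp; ring

theorem mult (hK : Fintype.card K = 𝔮 ^ 3) {ζ : ℂ} (hζ : τ (R.z 1) = ζ) : ∃ a g n0 n1 : ℕ, finrank ℂ V - ζ = 𝔮 ^ 5 * a ∧
    (n1 + (𝔮 - 1) * g : ℂ) = 𝔮 ^ 3 * a ∧ finrank ℂ V + (𝔮 ^ 2 - 1) * ζ = 𝔮 ^ 2 * (n0 + (𝔮 - 1 : ℂ) * n1) := by
  classical
  have hψ := AddChar.FiniteField.primitiveChar_to_Complex_isPrimitive F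
  generalize AddChar.FiniteField.primitiveChar_to_Complex F = ψ at hψ
  have hq : (𝔮 : ℂ) ≠ 0 := by simp
  have s1 : ∑ w, ψ w = 0 := by simpa using AddChar.sum_mulShift (1 : F) hψ
  obtain ⟨a, ha⟩ := exists_nat_trace (idem_avg (T := fun x : K × F × F => ψ x.2.2 • ρ (R.y2 x.1 * R.x3 x.2.1 * R.z x.2.2))
    fun x y => by
      simp only [smul_mul_smul_comm, ← map_mul, ← AddChar.map_add_eq_mul, Prod.fst_add, Prod.snd_add, R.y2_add, R.x3_add, R.z_add]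
      rw [(((R.z2 _ _).mul_right (R.z3 _ _)).mul_mul_mul_comm _ _), (R.c23 _ _).symm.mul_mul_mul_comm])
  have ha' : finrank ℂ V - ζ = 𝔮 ^ 5 * a := by
    have h1 : ∀ u v, ∑ w, ψ w * τ (R.y2 u * R.x3 v * R.z w) = if u = 0 then if v = 0 then finrank ℂ V - ζ else 0 else 0 :=
      fun u v => by
        by_cases h : u ≠ 0 ∨ v ≠ 0
        · rw [Finset.sum_congr rfl fun w _ => by rw [← tr_conj ρ (R.conj23 h w)], ← Finset.sum_mul, s1, zero_mul]
          split_ifs with h1 h2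
          · simp [h1, h2] at h
          all_goals rfl
        · obtain ⟨rfl, rfl⟩ : u = 0 ∧ v = 0 := by tauto
          simp only [R.y2_zero, R.x3_zero, one_mul, if_true, R.tr_z ρ hζ]
          rw [sum_ite_zero _ ψ.map_zero_eq_one, s1]; ring
    simp only [map_smul, map_sum, smul_eq_mul, Fintype.sum_prod_type, h1] at ha
    rw [← ha]
    simp [hK]; field_simp
  have hn : ∀ c e : F, ∃ n : ℕ, trace ℂ V ((Fintype.card (F × F × F) : ℂ)⁻¹ • ∑ x : F × F × F,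
      (ψ (c * x.1) * ψ (e * x.2.1)) • ρ (R.x0 x.1 * R.x3 x.2.1 * R.z x.2.2)) = n := fun c e =>
    exists_nat_trace (idem_avg' fun x => ⟨fun y => (x.1 + y.1, x.2.1 + y.2.1, -(y.1 * x.2.1) + (x.2.2 + y.2.2)),
      fun y y' h => by
        simp only [Prod.mk.injEq, add_right_inj] at h
        exact Prod.ext h.1 (Prod.ext h.2.1 (by simpa [h.1] using h.2.2)), fun y => by
      simp only [smul_mul_smul_comm, ← map_mul, mul_add, AddChar.map_add_eq_mul, R.x0_add, R.x3_add, R.z_add]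
      congr 1
      · ring
      · rw [(((R.z0 _ _).mul_right (R.z3 _ _)).mul_mul_mul_comm _ _), mul_assoc (R.x0 _) (R.x3 _), ← mul_assoc (R.x3 _), R.c30,
          mul_assoc _ (R.z _) (R.x3 _), (R.z3 _ _).eq]
        simp only [mul_assoc]⟩)
  generalize hη : τ (R.x0 1 * R.x3 1) = η
  have hF : ∀ s v, ∑ w, τ (R.x0 s * R.x3 v * R.z w) = if v = 0 then (if s = 0 then finrank ℂ V + (𝔮 - 1) * ζ
      else 𝔮 * ζ) else if s = 0 then 𝔮 * ζ else 𝔮 * η := fun s v => by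
    by_cases h : s ≠ 0 ∨ v ≠ 0
    · rw [Finset.sum_congr rfl fun w _ => (tr_conj ρ (R.conj03 h w)).symm, Finset.sum_const, Finset.card_univ, nsmul_eq_mul]
      split_ifs with h1 h2 h2
      · simp [h1, h2] at h
      · rw [h1, R.x3_zero, mul_one, ← tr_conj ρ (R.k0 s h2), hζ]
      · rw [h2, R.x0_zero, one_mul, ← tr_conj ρ (R.k3 v h1), hζ]
      · rw [← tr_conj ρ (R.k03 s h2 v h1), hη]
    · obtain ⟨rfl, rfl⟩ : s = 0 ∧ v = 0 := by tauto
      simp only [R.x0_zero, R.x3_zero, one_mul, if_true, R.sum_z ρ hζ]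
  have hn' : ∀ c e : F, ∃ n : ℕ, (𝔮 : ℂ) ^ 3 * n = finrank ℂ V + (𝔮 - 1) * ζ - 2 * 𝔮 * ζ + 𝔮 * η +
      𝔮 * (ζ - η) * (∑ s, ψ (c * s) + ∑ s, ψ (e * s)) + 𝔮 * η * (∑ s, ψ (c * s)) * ∑ s, ψ (e * s) := fun c e => by
    obtain ⟨n, hn⟩ := hn c e
    refine ⟨n, ?_⟩
    simp only [map_smul, map_sum, smul_eq_mul, Fintype.sum_prod_type, ← Finset.mul_sum, hF] at hn
    have h1 : ∀ s, ∑ v, ψ (c * s) * ψ (e * v) * (if v = 0 then (if s = 0 then finrank ℂ V + (𝔮 - 1) * ζ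
        else 𝔮 * ζ) else if s = 0 then 𝔮 * ζ else 𝔮 * η) = ψ (c * s) * if s = 0 then finrank ℂ V + (𝔮 - 1) * ζ - 𝔮 * ζ +
          𝔮 * ζ * ∑ v, ψ (e * v) else 𝔮 * ζ - 𝔮 * η + 𝔮 * η * ∑ v, ψ (e * v) := fun s => by
      simp only [mul_assoc, ← Finset.mul_sum]
      rw [sum_ite_zero _ (by simp)]
      split_ifs <;> ring
    simp only [h1] at hn
    rw [sum_ite_zero _ (by simp)] at hn
    rw [← hn]
    simp only [Fintype.card_prod, Nat.cast_mul]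
    field_simp
    ring
  obtain ⟨n0, h0⟩ := hn' 0 0
  obtain ⟨n1, h1⟩ := hn' 0 1
  obtain ⟨g, h2⟩ := hn' 1 1
  simp only [zero_mul, one_mul, AddChar.map_zero_eq_one, Finset.sum_const, Finset.card_univ, nsmul_eq_mul, mul_one, s1] at h0 h1 h2
  refine ⟨a, g, n0, n1, ha', mul_left_cancel₀ (pow_ne_zero 3 hq) ?_, mul_left_cancel₀ hq ?_⟩
  · linear_combination h1 + (𝔮 - 1 : ℂ) * h2 + 𝔮 * ha'
  · linear_combination -h0 - (𝔮 - 1 : ℂ) * h1

theorem two (h2 : 𝔮 = 2) (hK : Fintype.card K = 8) {f : K → K} (h0 : f 0 = 0) (s1 : ∑ t : K, t = 0) (s2 : ∑ t, f t = 0)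
    (hf : ∀ t ≠ 0, ∃ g w, Commute g (R.z 1) ∧ g * R.x0 1 = R.x0 1 * (R.y1 t * R.y2 (f t)) * (R.x3 1 * R.z w) * g)
    (h : finrank ℂ V + 3 * τ (R.z 1) = 0) : finrank ℂ V + τ (R.z 1) = 0 := by
  classical
  have h01 : ∀ w : F, w = 0 ∨ w = 1 := fun w => by
    have := FiniteField.pow_card w
    rw [h2] at this
    exact eq_zero_or_one_of_sq_eq_self this
  have h11 : (1 : F) + 1 = 0 := (h01 _).resolve_right (by simp)
  have zz : R.z 1 * R.z 1 = 1 := by rw [← R.z_add, h11, R.z_zero]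
  have hP : ∀ w, ρ (R.z w) * (1 + ρ (R.z 1)) = 1 + ρ (R.z 1) := fun w => by
    rcases h01 w with rfl | rfl
    · simp [R.z_zero]
    · rw [mul_add, mul_one, ← map_mul, zz, map_one, add_comm]
  have cP : ∀ {g}, Commute g (R.z 1) → Commute (ρ g) (1 + ρ (R.z 1)) := fun h => (Commute.one_right _).add_right (h.map ρ)
  have hi : ∀ x, x * x = 1 → IsIdempotentElem ((2 : ℂ)⁻¹ • (1 + ρ x)) := fun x hx => by
    rw [IsIdempotentElem, smul_mul_smul_comm, add_mul, mul_add, mul_add, ← map_mul, hx]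
    simp only [map_one, mul_one, one_mul]
    module
  have key : ∀ x, x * x = 1 → Commute x (R.z 1) → IsConj (R.z 1) x → IsConj x (x * R.z 1) →
      ρ x * (1 + ρ (R.z 1)) = -(1 + ρ (R.z 1)) := fun x a b c d => by
    have := LinearMap.IsIdempotentElem.eq_zero_of_trace_eq_zero (IsIdempotentElem.mul_of_commute
      (((Commute.one_left _).add_left (cP b)).smul_left _ |>.smul_right _) (hi _ a) (hi _ zz)) (by
        simp only [smul_mul_smul_comm, add_mul, mul_add, one_mul, mul_one, map_smul, map_add, ← map_mul, ← tr_conj ρ d,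
          ← tr_conj ρ c, trace_one, smul_eq_mul]
        linear_combination 2⁻¹ * 2⁻¹ * h)
    rw [smul_mul_smul_comm, smul_eq_zero, add_mul, one_mul] at this
    exact eq_neg_of_add_eq_zero_right (this.resolve_left (by norm_num))
  have xx : R.x0 1 * R.x0 1 = 1 := by rw [← R.x0_add, h11, R.x0_zero]
  have k0 := key _ xx (R.z0 _ _).symm (R.k0 _ one_ne_zero) (by simpa [R.x3_zero] using R.conj03 (v := 0) (Or.inl one_ne_zero) 1)
  have k3 := key _ (by rw [← R.x3_add, h11, R.x3_zero]) (R.z3 _ _).symm (R.k3 _ one_ne_zero)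
    (by simpa [R.x0_zero] using R.conj03 (s := 0) (Or.inr one_ne_zero) 1)
  suffices 1 + ρ (R.z 1) = 0 by simpa using congrArg (trace ℂ V) this
  generalize 1 + ρ (R.z 1) = P at hP k0 k3 cP
  have k1 : ∀ t ≠ 0, ρ (R.y1 t * R.y2 (f t)) * P = -P := fun t ht => by
    obtain ⟨g, w, a, b⟩ := hf t ht
    have e := congrArg (fun x => ρ (R.x0 1 * x * g⁻¹) * P) b
    simp only [← mul_assoc, xx, one_mul, mul_inv_cancel_right] at e
    rw [mul_assoc (R.y1 t * _), map_mul _ (R.y1 t * _), map_mul _ (R.x3 1), mul_assoc (ρ _), mul_assoc (ρ (R.x3 1)), hP, k3,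
      map_mul, map_mul, map_mul, mul_assoc, mul_assoc, (cP a.inv_left).eq, ← mul_assoc _ P, k0, neg_mul, mul_neg, mul_neg,
      neg_inj, mul_assoc, ← mul_assoc _ P, (cP a).eq, mul_assoc P, ← map_mul, mul_inv_cancel, map_one, mul_one, k0] at e
    exact e.symm
  have k2 : ∀ S : Finset K, 0 ∉ S → ρ (R.y1 (∑ t ∈ S, t) * R.y2 (∑ t ∈ S, f t)) * P = (-1 : ℂ) ^ S.card • P := fun S => by
    induction S using Finset.induction_on with
    | empty => simp [R.y1_zero, R.y2_zero]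
    | insert t S ht ih =>
      intro hS
      obtain ⟨w, hw⟩ := R.c12 (∑ t ∈ S, t) (f t)
      rw [Finset.sum_insert ht, Finset.sum_insert ht, R.y1_add, R.y2_add, mul_assoc, ← mul_assoc (R.y1 (∑ t ∈ S, t)), hw,
        mul_assoc _ (R.z w), (R.z2 _ _).eq, Finset.card_insert_of_notMem ht,
        show ∀ a b c d e : G, a * (b * c * (d * e)) = a * b * (c * d * e) from fun _ _ _ _ _ => by simp only [mul_assoc],
        map_mul, map_mul _ (_ * _), mul_assoc, mul_assoc (ρ _), hP, ih fun h => hS (Finset.mem_insert_of_mem h), mul_smul_comm,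
        k1 t fun h => hS (h ▸ Finset.mem_insert_self t S), pow_succ, mul_smul]
      simp
  have k4 := k2 (Finset.univ.erase 0) (by simp)
  rw [Finset.sum_erase (f := fun t : K => t) _ rfl, Finset.sum_erase _ h0, s1, s2, Finset.card_erase_of_mem (Finset.mem_univ _), Finset.card_univ, hK,
    R.y1_zero, R.y2_zero, mul_one, map_one, one_mul] at k4
  have : (2 : ℂ) • P = 0 := by rw [two_smul]; nth_rewrite 1 [k4]; norm_num
  simpa using this

theorem deg_le (hK : Fintype.card K = 𝔮 ^ 3) (hρ : ρ (R.z 1) ≠ 1)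
    (h2 : 𝔮 = 2 → finrank ℂ V + 3 * τ (R.z 1) = 0 → finrank ℂ V + τ (R.z 1) = 0) :
    𝔮 * (𝔮 ^ 4 - 𝔮 ^ 2 + 1) ≤ finrank ℂ V ∨ finrank ℂ V = (𝔮 - 1) * (𝔮 ^ 4 + 𝔮 ^ 3 + 1) := by
  obtain ⟨a, g, n0, n1, h1, h3, h4⟩ := R.mult ρ hK rfl
  have hq : (𝔮 : ℂ) ≠ 0 := by simp
  have ha : a ≠ 0 := fun h => hρ (by
    have h5 : IsIdempotentElem ((𝔮 : ℂ)⁻¹ • ∑ v, ρ (R.z v)) := idem_avg fun x y => by simp [← map_mul, R.z_add]
    have h8 := LinearMap.IsIdempotentElem.eq_zero_of_trace_eq_zero h5.one_sub (by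
      rw [h, Nat.cast_zero, mul_zero, sub_eq_zero] at h1
      simp only [map_sub, map_smul, map_sum, R.sum_z ρ rfl, ← h1, trace_one, smul_eq_mul]
      field_simp; ring)
    rw [← mul_one (ρ _), sub_eq_zero.1 h8, mul_smul_comm, Finset.mul_sum]
    exact congrArg _ (Fintype.sum_equiv (Equiv.addLeft 1) _ _ fun y => by simp [← map_mul, R.z_add]))
  obtain ⟨n, hn⟩ : ∃ n, 𝔮 = n + 2 := ⟨𝔮 - 2, by have := Fintype.one_lt_card (α := F); omega⟩
  have e1 : n1 + (n + 1) * g = (n + 2) ^ 3 * a := Nat.cast_injective (R := ℂ) (by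
    rw [hn] at h3; push_cast at h3 ⊢; linear_combination h3)
  have e2 : finrank ℂ V = (n + 1) * (n + 3) * (n + 2) ^ 3 * a + (n0 + (n + 1) * n1) := Nat.cast_injective (R := ℂ) (by
    refine mul_left_cancel₀ (pow_ne_zero 2 hq) ?_
    rw [hn] at h1 h4 ⊢; push_cast at h1 h4 ⊢; linear_combination h4 + (((n : ℂ) + 2) ^ 2 - 1) * h1)
  have e3 : 𝔮 * (𝔮 ^ 4 - 𝔮 ^ 2 + 1) = (n + 1) * (n + 3) * (n + 2) ^ 3 + (n + 2) := by
    rw [hn, show (n + 2) ^ 4 = (n + 1) * (n + 3) * (n + 2) ^ 2 + (n + 2) ^ 2 by ring, Nat.add_sub_cancel]; ring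
  rw [e3, or_iff_not_imp_left, not_le]
  intro h5
  obtain rfl : a = 1 := by
    by_contra h
    have : (n + 1) * (n + 3) * (n + 2) ^ 3 * 2 ≤ (n + 1) * (n + 3) * (n + 2) ^ 3 * a := Nat.mul_le_mul_left _ (by omega)
    have : n + 2 ≤ (n + 1) * (n + 3) * (n + 2) ^ 3 := Nat.le_of_dvd (by positivity) (Dvd.intro_left ((n + 1) * (n + 3) * (n + 2) ^ 2) (by ring))
    omega
  have h6 : n0 + (n + 1) * n1 = n + 1 := by
    obtain _ | _ | n1 := n1
    · have h7 : n + 1 ∣ 1 := (Nat.dvd_add_right (Dvd.intro (n ^ 2 + 5 * n + 7) rfl)).1 ⟨g, by rw [← zero_add (_ * g), e1]; ring⟩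
      obtain rfl : n = 0 := by simpa using h7
      by_contra h
      obtain rfl : n0 = 0 := by omega
      have h8 := h2 hn (by rw [hn] at h4; push_cast at h4; linear_combination h4)
      rw [e2, hn] at h1
      rw [e2] at h8
      have : (16 : ℂ) = 0 := by push_cast at h1 h8; linear_combination h8 + h1
      norm_num at this
    · omega
    · nlinarith
  rw [e2, h6, hn, show n + 2 - 1 = n + 1 from rfl]; ring

theorem not_dvd {q : ℕ} (hq : 1 < q) :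
    ¬ (q - 1) * (q ^ 4 + q ^ 3 + 1) ∣ q ^ 12 * (q ^ 2 - 1) * (q ^ 6 - 1) * (q ^ 8 + q ^ 4 + 1) := fun h => by
  have h1 := Int.natCast_dvd_natCast.2 h
  push_cast [Nat.cast_sub hq.le, Nat.cast_sub (Nat.one_le_pow _ _ (zero_lt_one.trans hq))] at h1
  have h0 : (2 : ℤ) ≤ q := by omega
  generalize (q : ℤ) = x at h0 h1
  rw [show x ^ 12 * (x ^ 2 - 1) * (x ^ 6 - 1) * (x ^ 8 + x ^ 4 + 1) = (x - 1) * (x ^ 12 * ((x + 1) ^ 2 * ((x ^ 2 - x + 1) ^ 2 *
    ((x ^ 4 - x ^ 2 + 1) * ((x - 1) * (x ^ 2 + x + 1) ^ 2))))) by ring, mul_dvd_mul_iff_left (by omega)] at h1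
  have c1 : IsCoprime (x ^ 4 + x ^ 3 + 1) x := ⟨1, -(x ^ 3 + x ^ 2), by ring⟩
  have c2 : IsCoprime (x ^ 4 + x ^ 3 + 1) (x + 1) := ⟨1, -x ^ 3, by ring⟩
  have c3 : IsCoprime (x ^ 4 + x ^ 3 + 1) (x ^ 2 - x + 1) := ⟨x - 1, 1 - (x - 1) * (x + 1) ^ 2, by ring⟩
  have c4 : IsCoprime (x ^ 4 + x ^ 3 + 1) (x ^ 4 - x ^ 2 + 1) := by
    obtain ⟨a, b, e⟩ := (c1.mul_right c1).mul_right c2
    exact ⟨a + b, -b, by linear_combination e⟩
  obtain ⟨c, hc⟩ := c4.dvd_of_dvd_mul_left (c3.pow_right.dvd_of_dvd_mul_left (c2.pow_right.dvd_of_dvd_mul_left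
    (c1.pow_right.dvd_of_dvd_mul_left h1)))
  have h2 : x ^ 4 + x ^ 3 + 1 ∣ 27 := by
    have a1 : (3 : ℤ) ≡ (x ^ 2 + x + 1) * (1 + (x - 1) * (x ^ 2 - 1)) [ZMOD x ^ 4 + x ^ 3 + 1] :=
      Int.modEq_iff_dvd.2 ⟨x - 1, by ring⟩
    have a2 : (3 : ℤ) ≡ -(x - 1) * (x ^ 3 + 2 * x ^ 2 + 2 * x + 2) [ZMOD x ^ 4 + x ^ 3 + 1] := Int.modEq_iff_dvd.2 ⟨-1, by ring⟩
    refine ((a1.mul a1).mul a2).dvd_iff.2 ⟨-c * (1 + (x - 1) * (x ^ 2 - 1)) ^ 2 * (x ^ 3 + 2 * x ^ 2 + 2 * x + 2), ?_⟩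
    linear_combination -(1 + (x - 1) * (x ^ 2 - 1)) ^ 2 * (x ^ 3 + 2 * x ^ 2 + 2 * x + 2) * hc
  obtain rfl | h3 := h0.eq_or_lt
  · norm_num at h2
  · have := Int.le_of_dvd (by norm_num) h2
    have := pow_le_pow_left₀ (by norm_num) (show (3 : ℤ) ≤ x by omega) 4
    have := pow_pos (show (0 : ℤ) < x by omega) 3
    omega

end TD

end Cfsg.Lib.Twist
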