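/-
Lower bound for the degrees of complex representations of ³D₄(q).
-/
import Cfsg.Agent.Lib.Twist.D4Deg
import Cfsg.Agent.Lib.Twist.MuD4
import Cfsg.Agent.Lib.Twist.TwOut
import Cfsg.Agent.Lib.Char.Integral

set_option autoImplicit false

namespace Cfsg.Lib.Twist

open Cfsg.Lib.Chev PreSys RootSys Cfsg.Lie Cfsg.Lib.Char

universe u

theorem exists_tr3 {K : Type*} [Field K] [Fintype K] {q : ℕ} (hq : 1 < q) (hK : Fintype.card K = q ^ 3) :
    ∃ c : K, c + c ^ q + (c ^ q) ^ q ≠ 0 := by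
  by_contra! h
  have h1 : q < q * q := by nlinarith
  have := Polynomial.eq_zero_of_natDegree_lt_card_of_eval_eq_zero (Polynomial.X + Polynomial.X ^ q + Polynomial.X ^ (q * q))
    Function.injective_id (fun c => by simpa [pow_mul] using h c) (lt_of_le_of_lt (b := q * q) (by
      compute_degree; omega) (by rw [hK]; nlinarith))
  simpa [Polynomial.coeff_X, hq.ne, (hq.trans h1).ne] using congrArg (Polynomial.coeff · 1) this

theorem evD4 {K : Type u} [Field K] (l : List K) {w w' : PW} (h : colW chevD4 0 w = colW chevD4 0 w') :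
    (sD4 K).evW (fun i => l.getD i 0) w = (sD4 K).evW (fun i => l.getD i 0) w' :=
  evW_eq _ Nat.cast_zero rootOK_D4.compat (rootOK_D4.compat.gexact matOK_D4) h

/-- Products of three root elements. -/
noncomputable def y3 {K : Type u} [Field K] (a b c : ℕ) (t u v : K) : chevD4.group K :=
  (sD4 K).xN a t * ((sD4 K).xN b u * (sD4 K).xN c v)

theorem y3_comm {K : Type u} [Field K] {a b c r : ℕ} (h : colW chevD4 0 [(r, varP 3), (a, varP 0), (b, varP 1), (c, varP 2)] =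
    colW chevD4 0 [(a, varP 0), (b, varP 1), (c, varP 2), (r, varP 3)]) (t u v s : K) :
    Commute ((sD4 K).xN r s) (y3 a b c t u v) := by simpa [y3, commute_iff_eq, mul_assoc] using evD4 [t, u, v, s] h

theorem y3_add {K : Type u} [Field K] {a b c : ℕ} (h : colW chevD4 0 [(a, varP 0), (a, varP 3), (b, varP 1), (b, varP 4),
    (c, varP 2), (c, varP 5)] = colW chevD4 0 [(a, varP 0), (b, varP 1), (c, varP 2), (a, varP 3), (b, varP 4), (c, varP 5)])
    (t u v t' u' v' : K) : y3 a b c (t + t') (u + u') (v + v') = y3 a b c t u v * y3 a b c t' u' v' := by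
  simpa [y3, xN_add, mul_assoc] using evD4 [t, u, v, t', u', v'] h

theorem y3_rot {K : Type u} [Field K] {a b c : ℕ} (h : colW chevD4 0 [(b, varP 1), (c, varP 2), (a, varP 0)] =
    colW chevD4 0 [(a, varP 0), (b, varP 1), (c, varP 2)]) (t u v : K) : y3 b c a u v t = y3 a b c t u v := by
  simpa [y3, mul_assoc] using evD4 [t, u, v] h

theorem xN_comm {K : Type u} [Field K] {a r : ℕ} (h : colW chevD4 0 [(r, varP 1), (a, varP 0)] =
    colW chevD4 0 [(a, varP 0), (r, varP 1)]) (s t : K) : Commute ((sD4 K).xN r s) ((sD4 K).xN a t) := by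
  simpa [commute_iff_eq] using evD4 [t, s] h

namespace D4Data

variable {K : Type u} [Field K] {q : ℕ} (d : D4Data K q)

/-- The field automorphism. -/
def fq : K →+* K := d.X.φ (rootOK_D4.rr 0)

theorem fq_eq (t : K) : d.fq t = t ^ q := d.φ_eq _ t

theorem σ_xN {r : ℕ} (hr : r < 24) (t : K) : d.X.σ ((sD4 K).xN r t) = (sD4 K).xN (lk rhoD4 r) (sgn (bt epsD4 r) * d.fq t) := by
  lift r to Fin chevD4.nroots using hr
  rw [xN_coe, d.X.σ_x, ← d.ρ_val, xN_coe, d.ε_eq, d.φ_eq, d.fq_eq]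

/-- The fixed field. -/
def Fq : Subfield K := d.fq.eqLocusField (RingHom.id K)

theorem fq_coe (s : d.Fq) : d.fq s = s := s.2

/-- Fixed roots. -/
def Lg (r : ℕ) : Prop := r < 24 ∧ lk rhoD4 r = r ∧ bt epsD4 r = false

theorem lg14 : Lg 14 := by unfold Lg; decide +kernel
theorem lg22 : Lg 22 := by unfold Lg; decide +kernel
theorem lg23 : Lg 23 := by unfold Lg; decide +kernel

/-- Long root elements. -/
noncomputable def xl {r : ℕ} (h : Lg r) (s : d.Fq) : d.X.Fix :=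
  ⟨(sD4 K).xN r s, d.X.mem_Fix.2 (by rw [d.σ_xN h.1, h.2.1, h.2.2, d.fq_coe]; simp [sgn])⟩

theorem coe_xl {r : ℕ} (h : Lg r) (s : d.Fq) : (d.xl h s).1 = (sD4 K).xN r s := rfl

theorem xl_add {r : ℕ} (h : Lg r) (s t : d.Fq) : d.xl h (s + t) = d.xl h s * d.xl h t := Subtype.ext (xN_add (sD4 K) r s t)

theorem weyl_xl {r s k : ℕ} (hr : Lg r) (hs : Lg s) (hk : Lg k)
    (e : ∀ i < 4, rtN chevD4 tabD4 k i = rtN chevD4 tabD4 s i - prN chevD4 r s * rtN chevD4 tabD4 r i) :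
    ∃ e : d.Fq, e ≠ 0 ∧ IsConj (d.xl hs 1) (d.xl hk e) := by
  lift r to Fin chevD4.nroots using hr.1
  lift s to Fin chevD4.nroots using hs.1
  lift k to Fin chevD4.nroots using hk.1
  obtain ⟨ε, a, -, -, b⟩ := d.X.st r
  have h1 : rootOK_D4.R.refl r s = k := rootOK_D4.R.rt_inj (funext fun i => by
    rw [rootOK_D4.R.rt_refl, rootOK_D4.compat.pair_eq]; exact (e i i.2).symm)
  have h2 := b s 1 1 one_ne_zero
  rw [h1, one_zpow, mul_one, mul_one] at h2
  obtain ⟨f1, f2⟩ := d.fixed (r := r) hr.2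
  refine ⟨⟨ε s, ?_⟩, fun h => left_ne_zero_of_mul_eq_one (a s) (congrArg Subtype.val h),
    isConj_iff.2 ⟨⟨(sD4 K).n r 1, d.X.mem_Fix.2 (by rw [d.X.σ_n, f1, f2]; simp)⟩, Subtype.ext ?_⟩⟩
  · rcases mul_self_eq_one_iff.1 (a s) with h | h <;> simp [h]
  · simpa [coe_xl, xN_coe] using h2

/-- Orbits of length three. -/
def Sh (a b c : ℕ) (e f : Bool) : Prop := (a < 24 ∧ b < 24 ∧ c < 24) ∧ (lk rhoD4 a = b ∧ lk rhoD4 b = c ∧ lk rhoD4 c = a) ∧
  (bt epsD4 a = e ∧ sgn (bt epsD4 b) * sgn e = sgn f ∧ bt epsD4 c = f) ∧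
  colW chevD4 0 [(b, varP 1), (c, varP 2), (a, varP 0)] = colW chevD4 0 [(a, varP 0), (b, varP 1), (c, varP 2)]

theorem sh0 : Sh 12 18 13 false false := by unfold Sh; decide +kernel
theorem sh1 : Sh 15 19 16 true false := by unfold Sh; decide +kernel
theorem sh2 : Sh 17 20 21 true true := by unfold Sh; decide +kernel

variable [Fintype K] (hK : Fintype.card K = q ^ 3) (hq : 1 < q)
include hK

theorem fq3 (t : K) : d.fq (d.fq (d.fq t)) = t := d.φφ hK _ _ _ t

theorem ys_mem {a b c : ℕ} {e f : Bool} (h : Sh a b c e f) (t : K) :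
    y3 a b c t (sgn e * d.fq t) (sgn f * d.fq (d.fq t)) ∈ d.X.Fix := by
  obtain ⟨⟨a1, a2, a3⟩, ⟨b1, b2, b3⟩, ⟨c1, c2, c3⟩, h⟩ := h
  rw [d.X.mem_Fix]
  conv_rhs => rw [← y3_rot h]
  unfold y3
  rw [map_mul, map_mul, d.σ_xN a1, d.σ_xN a2, d.σ_xN a3, b1, b2, b3, c1, c3, map_mul, map_mul, map_intCast,
    map_intCast, d.fq3 hK, ← mul_assoc (_ : K), ← mul_assoc (_ : K), ← Int.cast_mul, ← Int.cast_mul, c2, sgn_sq, Int.cast_one, one_mul]

/-- Short root elements. -/
noncomputable def ys {a b c : ℕ} {e f : Bool} (h : Sh a b c e f) (t : K) : d.X.Fix := ⟨_, d.ys_mem hK h t⟩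

theorem coe_ys {a b c : ℕ} {e f : Bool} (h : Sh a b c e f) (t : K) :
    (d.ys hK h t).1 = y3 a b c t (sgn e * d.fq t) (sgn f * d.fq (d.fq t)) := rfl

/-- The trace. -/
def tr3 (c : K) : d.Fq := ⟨c + d.fq c + d.fq (d.fq c), by
  change d.fq _ = _
  rw [map_add, map_add, d.fq3 hK]; simp only [RingHom.id_apply]; ring⟩

theorem c12 (t u : K) : d.ys hK sh1 t * d.ys hK sh2 u = d.ys hK sh2 u * d.ys hK sh1 t * d.xl lg23 (d.tr3 hK (d.fq t * u)) := by
  have := evD4 [t, -d.fq t, d.fq (d.fq t), u, -d.fq u, -d.fq (d.fq u)]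
    (w := [(15, varP 0), (19, varP 1), (16, varP 2), (17, varP 3), (20, varP 4), (21, varP 5)])
    (w' := [(17, varP 3), (20, varP 4), (21, varP 5), (15, varP 0), (19, varP 1), (16, varP 2),
      (23, [(-1, [0, 1, 0, 1])]), (23, [(-1, [0, 0, 1, 0, 1])]), (23, [(-1, [1, 0, 0, 0, 0, 1])])]) (by decide +kernel)
  refine Subtype.ext ?_
  simpa [coe_ys, coe_xl, y3, tr3, sgn, evP, evM, varP, mul_assoc, d.fq3 hK, xN_add] using this

theorem conj0 (t : K) {n : d.Fq} (hn : (n : K) = -(t * d.fq t * d.fq (d.fq t))) : d.ys hK sh0 t * d.xl lg14 1 =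
    d.xl lg14 1 * (d.ys hK sh1 t * d.ys hK sh2 (t * d.fq (d.fq t))) * (d.xl lg22 n * d.xl lg23 n) * d.ys hK sh0 t := by
  have := evD4 [t, d.fq t, d.fq (d.fq t)]
    (w := [(12, varP 0), (18, varP 1), (13, varP 2), (14, cstP 1)])
    (w' := [(14, cstP 1), (15, varP 0), (19, [(-1, [0, 1])]), (16, varP 2), (17, [(1, [1, 0, 1])]), (20, [(-1, [1, 1])]),
      (21, [(-1, [0, 1, 1])]), (22, [(-1, [1, 1, 1])]), (23, [(-1, [1, 1, 1])]), (12, varP 0), (18, varP 1), (13, varP 2)])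
    (by decide +kernel)
  refine Subtype.ext ?_
  simpa [coe_ys, coe_xl, hn, y3, sgn, evP, evM, varP, cstP, mul_assoc, d.fq3 hK, mul_comm (d.fq t) t, mul_comm (d.fq (d.fq t))] using this

include hq

theorem tor_xl (c : ℕ) {s : d.Fq} (hs : s ≠ 0) : ∃ g : d.X.Fix, ∀ {r} (hr : Lg r) (m : ℕ), pr3 c r = ((m : ℤ), (m : ℤ), (m : ℤ)) →
    ∀ t, g * d.xl hr t * g⁻¹ = d.xl hr (s ^ m * t) := by
  obtain ⟨a, ha⟩ := exists_norm hq hK (a := s) (by simpa using hs) ((d.fq_eq _).symm.trans s.2)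
  obtain ⟨χ, ⟨g, hg, h1⟩, h2⟩ := d.tor hK c a.ne_zero
  refine ⟨⟨g, hg.2⟩, fun {r} hr m e t => Subtype.ext ?_⟩
  have h3 := h1 (rootOK_D4.rr r) t
  rw [h2, e, ← xN_coe, ← xN_coe, show (rootOK_D4.rr r : ℕ) = r from Nat.mod_eq_of_lt hr.1] at h3
  simp only [Finset.sum_range_succ, Finset.range_zero, Finset.sum_empty, zero_add, pow_zero, pow_one, pow_add, sq, pow_mul] at ha
  simpa [coe_xl, ← ha, mul_pow, mul_assoc] using h3

theorem conj_xl (c : ℕ) {r : ℕ} (hr : Lg r) (h : pr3 c r = (1, 1, 1)) {s t : d.Fq} (hs : s ≠ 0) (ht : t ≠ 0) :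
    IsConj (d.xl hr s) (d.xl hr t) := by
  obtain ⟨g, hg⟩ := d.tor_xl hK hq c (div_ne_zero ht hs)
  exact isConj_iff.2 ⟨g, by rw [hg hr 1 h, pow_one, div_mul_cancel₀ _ hs]⟩

/-- The relations. -/
noncomputable def td : TD d.Fq K d.X.Fix where
  x0 := d.xl lg14
  x3 := d.xl lg22
  z := d.xl lg23
  y1 := d.ys hK sh1
  y2 := d.ys hK sh2
  x0_add := d.xl_add _
  x3_add := d.xl_add _
  z_add := d.xl_add _
  y1_add s t := Subtype.ext (by
    simp only [Subgroup.coe_mul, coe_ys, map_add, mul_add]; exact y3_add (by decide +kernel) _ _ _ _ _ _)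
  y2_add s t := Subtype.ext (by
    simp only [Subgroup.coe_mul, coe_ys, map_add, mul_add]; exact y3_add (by decide +kernel) _ _ _ _ _ _)
  z0 s t := Subtype.ext (xN_comm (r := 23) (a := 14) (by decide +kernel) (s : K) t)
  z3 s t := Subtype.ext (xN_comm (r := 23) (a := 22) (by decide +kernel) (s : K) t)
  z1 s t := Subtype.ext (by simp only [Subgroup.coe_mul, coe_ys, coe_xl]; exact y3_comm (by decide +kernel) _ _ _ _)
  z2 s t := Subtype.ext (by simp only [Subgroup.coe_mul, coe_ys, coe_xl]; exact y3_comm (by decide +kernel) _ _ _ _)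
  c23 s t := Subtype.ext (by simp only [Subgroup.coe_mul, coe_ys, coe_xl]; exact (y3_comm (by decide +kernel) _ _ _ _).symm)
  c20 s t := Subtype.ext (by simp only [Subgroup.coe_mul, coe_ys, coe_xl]; exact (y3_comm (by decide +kernel) _ _ _ _).symm)
  c13 s t := Subtype.ext (by simp only [Subgroup.coe_mul, coe_ys, coe_xl]; exact (y3_comm (by decide +kernel) _ _ _ _).symm)
  c03 s v := Subtype.ext (by
    simpa [coe_xl, evP, evM, varP, mul_assoc] using evD4 [(s : K), v] (w := [(14, varP 0), (22, varP 1)])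
      (w' := [(22, varP 1), (14, varP 0), (23, [(1, [1, 1])])]) (by decide +kernel))
  c12 t u := ⟨_, d.c12 hK t u⟩
  c12' u hu w := by
    obtain ⟨c, hc⟩ := exists_tr3 hq hK
    rw [← d.fq_eq, ← d.fq_eq] at hc
    refine ⟨d.fq (d.fq (c * (w / d.tr3 hK c : d.Fq) / u)), ?_⟩
    rw [d.c12 hK, d.fq3 hK, div_mul_cancel₀ _ hu]
    congr 2
    ext
    generalize hT : (w / d.tr3 hK c : d.Fq) = T
    simp only [tr3, map_mul, d.fq_coe]
    rw [← add_mul, ← add_mul, ← hT]
    exact mul_div_cancel₀ _ hc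
  k0 w hw := by
    obtain ⟨e, h1, h2⟩ := d.weyl_xl lg22 lg14 lg23 (by decide +kernel)
    exact ((d.conj_xl hK hq 15 lg23 (by decide +kernel) one_ne_zero h1).trans h2.symm).trans
      (d.conj_xl hK hq 15 lg14 (by decide +kernel) one_ne_zero hw)
  k3 w hw := by
    obtain ⟨e, h1, h2⟩ := d.weyl_xl lg14 lg22 lg23 (by decide +kernel)
    exact ((d.conj_xl hK hq 15 lg23 (by decide +kernel) one_ne_zero h1).trans h2.symm).trans
      (d.conj_xl hK hq 17 lg22 (by decide +kernel) one_ne_zero hw)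
  kz w hw := d.conj_xl hK hq 15 lg23 (by decide +kernel) one_ne_zero hw
  k03 s hs v hv := by
    obtain ⟨g, hg⟩ := d.tor_xl hK hq 15 hs
    obtain ⟨k, hk⟩ := d.tor_xl hK hq 17 hv
    refine isConj_iff.2 ⟨k * g, ?_⟩
    rw [← MulAut.conj_apply, map_mul, map_mul, MulAut.mul_apply, MulAut.mul_apply]
    simp only [MulAut.conj_apply]
    rw [hg lg14 1 (by decide +kernel), hg lg22 0 (by decide +kernel), hk lg14 0 (by decide +kernel), hk lg22 1 (by decide +kernel)]
    simp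

theorem card_Fq : Nat.card d.Fq = q :=
  (Nat.card_congr (Equiv.subtypeEquivRight fun t => by rw [← d.fq_eq]; rfl)).trans (card_fixed hq hK).2

include d in
theorem deg_irr {k : ℕ} {ρ : Representation ℂ (twistedD4 K q) (Fin k → ℂ)} (h : ρ.IsIrreducible) (hk : 2 ≤ k) :
    q * (q ^ 4 - q ^ 2 + 1) ≤ k := by
  classical
  have e : d.X.Fix ≃* twistedD4 K q :=
    (MulEquiv.subgroupCongr (d.eq_Fix hK).symm).trans (Subgroup.subgroupOfEquivOfLe (d.gen hK).1)
  have := (d.simple hK hq).1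
  have hF : Fintype.card d.Fq = q := Nat.card_eq_fintype_card.symm.trans (d.card_Fq hK hq)
  have h1 := (d.td hK hq).deg_le (MonoidHom.comp ρ e.toMonoidHom) (by rw [hF, hK]) (fun h1 => (two_le_of_irr h fun g =>
    ((MonoidHom.normal_ker ρ).eq_bot_or_eq_top.resolve_left fun h2 => one_ne_zero (d.X.sep.x_eq_one (r := rootOK_D4.rr 23) (t := 1)
      (congrArg Subtype.val (e.map_eq_one_iff.1 (Subgroup.mem_bot.1 (h2.le h1)))))).ge (Subgroup.mem_top g)).not_ge hk) fun h2 => by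
    obtain rfl : q = 2 := hF.symm.trans h2
    have h7 : ∀ t : K, t ≠ 0 → t ^ 7 = 1 := fun t ht => by simpa [hK] using FiniteField.pow_card_sub_one_eq_one t ht
    have := charP_of_card_eq_prime_pow hK
    refine (d.td hK hq).two _ h2 hK (f := fun t => t * d.fq (d.fq t)) (by simp) ?_ ?_ fun t ht => ⟨d.ys hK sh0 t, 1,
      Subtype.ext (by
        change (d.ys hK sh0 t).1 * (d.xl lg23 1).1 = (d.xl lg23 1).1 * (d.ys hK sh0 t).1
        exact (y3_comm (a := 12) (b := 18) (c := 13) (r := 23) (by decide +kernel) _ _ _ _).symm), d.conj0 hK t ?_⟩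
    · simpa using FiniteField.sum_pow_lt_card_sub_one K 1 (by rw [hK]; norm_num)
    · rw [← FiniteField.sum_pow_lt_card_sub_one K 5 (by rw [hK]; norm_num)]
      exact Finset.sum_congr rfl fun t _ => by simp only [d.fq_eq]; ring
    · simp only [d.fq_eq, CharTwo.neg_eq, OneMemClass.coe_one, ← h7 t ht]
      ring
  rw [hF, Module.finrank_fin_fun] at h1
  refine h1.resolve_right fun h2 => TD.not_dvd hq ?_
  rw [← h2, ← d.card_G hK hq]
  exact Cfsg.Lib.Char.Cfsg.IsIrrCharacter.degree_dvd_card ⟨k, ρ, h, rfl⟩ (by simp)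

end D4Data

end Cfsg.Lib.Twist
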