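/-
Involution classes of the twisted group of type E₆ in characteristic two.
-/
import Cfsg.Agent.Lib.Twist.InvTw

set_option autoImplicit false

namespace Cfsg.Lib.Twist

open Cfsg.Lib.Chev PreSys RootSys Cfsg.Lie
open scoped commutatorElement

universe u

section
variable {I Φ : Type*} [Fintype I] [DecidableEq I] {R : RootSys I Φ} {K : Type*} [Field K] {G : Type*} [Group G]

theorem conj_mem_sup {S : PreSys R K G} (hS : S.St) {A B : Set Φ} (h : ∀ a ∈ S.U B, ∀ g ∈ S.U A, a * g * a⁻¹ ∈ S.U A) {a g : G}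
    (ha : a ∈ S.H ⊔ S.U B) (hg : g ∈ S.U A) : a * g * a⁻¹ ∈ S.U A := by
  obtain ⟨b, hb, u, hu, rfl⟩ := hS.mem_U_sup_H'.1 (sup_comm S.H _ ▸ ha)
  simpa [mul_assoc] using hS.H_conj_mem_U hb (h u hu g hg)

namespace TwSys

variable {S : PreSys R K G} {T : Tw R} {X : TwSys S T} [Finite Φ]

variable (X) in
/-- Involutions with a nontrivial component at the class of `i` are conjugate to ones with a nontrivial component at `j`. -/
def Red (M : Set I) (i j : I) : Prop := ∀ y ∈ S.U {r | R.Pos r ∧ R.InSub M r} ⊓ X.Fix, y ^ 2 = 1 →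
  y ∉ S.U ({r | R.Pos r ∧ R.InSub M r} \ {r | R.InSub (T.orb i) r}) → ∃ y' ∈ S.U {r | R.Pos r ∧ R.InSub M r}, Cj (X.Lv M) y y' ∧
    y' ∉ S.U ({r | R.Pos r ∧ R.InSub M r} \ {r | R.InSub (T.orb j) r})

omit [Finite Φ] in
theorem Red.of_orb {M : Set I} {i j : I} (h : j ∈ T.orb i) : X.Red M i j := fun y hy _ h1 => ⟨y, hy.1, Cj.refl _ _, T.orb_eq h ▸ h1⟩

omit [Finite Φ] in
theorem Red.trans {M : Set I} {i j k : I} (h : X.Red M i j) (h' : X.Red M j k) : X.Red M i k := fun y hy h1 h2 =>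
  let ⟨y', a, b, c⟩ := h y hy h1 h2
  let ⟨y'', a', b', c'⟩ := h' y' ⟨a, (b.mono inf_le_right).mem hy.2⟩ (b.sq h1) c
  ⟨y'', a', b.trans b', c'⟩

theorem Red.mono {M₀ M : Set I} {i j : I} (h : X.Red M₀ i j) (hM₀ : T.Stable M₀) (hM : T.Stable M) (hJ : M₀ ⊆ M) (hj : j ∈ M₀)
    (hi : i ∈ M₀) : X.Red M i j := fun t ht h2 h1 => by
  have s0 : ∀ {A B : Set I}, A ⊆ B → ∀ r, R.InSub A r → R.InSub B r := fun h r hr k hk => hr k fun h' => hk (h h')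
  obtain ⟨y, hy, u, hu, rfl⟩ := S.exists_mul (R.nil_posSub M) {r | R.InSub M₀ r} ht.1
  replace hy : y ∈ S.U {r | R.Pos r ∧ R.InSub M₀ r} := S.U_mono (fun _ h => And.intro h.1.1 h.2) hy
  obtain ⟨y1, -⟩ := fix_mul (R.nil_posSub _) (nil_rad M M₀) (Set.disjoint_left.2 fun _ h h' => h'.2 h.2)
    (fun r hr => ⟨(T.pos_ρ r).2 hr.1, (T.inSub_ρ hM₀ r).2 hr.2⟩)
    (fun r hr => ⟨⟨(T.pos_ρ r).2 hr.1.1, (T.inSub_ρ hM r).2 hr.1.2⟩, (T.inSub_ρ hM₀ r).not.2 hr.2⟩) hy hu ht.2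
  have y2 := S.U_mono (T' := {r | R.InSub M₀ r}) (fun _ h => h.2) hy
  have k : ∀ k ∈ M₀, S.U ({r | R.Pos r ∧ R.InSub M r} \ {r | R.InSub M₀ r}) ≤
      S.U ({r | R.Pos r ∧ R.InSub M r} \ {r | R.InSub (T.orb k) r}) := fun k hk =>
    S.U_mono fun r hr => ⟨hr.1, fun h => hr.2 (s0 (hM₀.orb_subset hk) r h)⟩
  obtain ⟨y', hy', ⟨g, hg, e⟩, h3⟩ := h y ⟨hy, y1⟩ (by
    rw [← Subgroup.mem_bot, ← X.st.radical_inf_levi X.sep X.opp M₀]
    refine ⟨S.U_mono (T := {r | R.Pos r ∧ R.InSub M r} \ {r | R.InSub M₀ r}) (fun _ h => And.intro h.1.1 h.2) ?_,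
      Subgroup.mem_sup_right (pow_mem y2 _)⟩
    rw [show y ^ 2 = (y * u) ^ 2 * u⁻¹ * (y⁻¹ * u * y⁻¹⁻¹)⁻¹ by simp [pow_two, mul_assoc], h2, one_mul]
    exact mul_mem (inv_mem hu) (inv_mem (conj_mem_rad hJ (inv_mem y2) hu)))
    fun h => h1 (mul_mem (S.U_mono (fun r hr => And.intro ⟨hr.1.1, s0 hJ r hr.1.2⟩ hr.2) h) (k i hi hu))
  have h4 := conj_mem_sup X.st (fun _ ha _ => conj_mem_rad hJ ha) hg.1 hu
  refine ⟨y' * (g * u * g⁻¹), mul_mem (S.U_mono (fun r hr => And.intro hr.1 (s0 hJ r hr.2)) hy') (S.U_mono Set.sdiff_subset h4),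
    ⟨g, Lv_mono hJ hg, by rw [← e, conj_mul]⟩, fun h => h3 ?_⟩
  have := (X.st.U_inf_nil X.sep X.opp (R.nil_posSub M₀) (nil_rad M (T.orb j))).le ⟨hy', (mul_mem_cancel_right (k j hj h4)).1 h⟩
  exact S.U_mono (fun r hr => And.intro hr.1 hr.2.2) this

namespace Grp

variable (h : X.Grp X.Fix)
include h

theorem red_of_W {M : Set I} (hM : T.Stable M) {i j : I} (hi : i ∈ M) (hj : j ∈ M) {f : (I → ℤ) →+ ℤ}
    (hf : ∀ r, f (R.rt (lng R (T.orb i) r)) = -f (R.rt r)) (hf' : ∀ r, 0 < f (R.rt (T.ρ r)) ↔ 0 < f (R.rt r))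
    (hc : ∀ s, R.InSub M s → ¬ R.InSub (T.orb i) s → f (R.rt s) ≠ 0) {w : Equiv.Perm Φ} (hw : w ∈ T.W1 M)
    (hw' : ∀ r, R.Pos r → R.InSub (T.orb i) r → R.Pos (w r) ∧ R.InSub (T.orb j) (w r)) : X.Red M i j := fun t ht h2 h1 => by
  obtain ⟨y, hy, y1, -, z, hz, -, e⟩ := h.invol_step hM hi hf hf' (fun _ _ s a b c => (hc s a b c).elim) ht h2 h1
  obtain rfl : z = 1 := S.U_empty.le (S.U_mono (fun s hs => hc s hs.1.1.2 hs.1.2 hs.2) hz.1)
  obtain ⟨m, hm, h3⟩ := h.exists_rep_Lv hw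
  have h4 := h3.conj_mem (T' := {r | R.Pos r ∧ R.InSub (T.orb j) r}) (fun r hr => hw' r hr.1 hr.2) hy.1
  refine ⟨_, S.U_mono (fun r hr => And.intro hr.1 fun k hk => hr.2 k fun h => hk (hM.orb_subset hj h)) h4,
    e.trans ⟨m, hm, by rw [mul_one]⟩, fun h5 => y1 (conj_eq_one_iff.1 (S.U_empty.le (S.U_mono (fun r hr => hr.2.2 hr.1.2)
      ((X.st.U_inf_nil X.sep X.opp (R.nil_posSub _) (nil_rad M (T.orb j))).le ⟨h4, h5⟩))))⟩

omit h in
variable (X) in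
/-- The involutions of a Levi subgroup are conjugate to the listed products. -/
def _root_.Cfsg.Lib.Twist.TwSys.Cls (M : Set I) (C : List Φ → Prop) : Prop :=
  ∀ z ∈ S.U {r | R.InSub M r} ⊓ X.Fix, z ^ 2 = 1 → ∃ l, C l ∧ Cj (X.Lv M) z (S.prod l 1)

theorem cls_step [Finite K] [Finite G] [CharP K 2] (hZ : ∀ g ∈ S.H, (∀ s u, g * S.x s u * g⁻¹ = S.x s u) → g = 1) {M M' : Set I}
    (hM : T.Stable M) (hM' : M' ⊆ M) {i : I} (hi : i ∈ M) (hR : ∀ j ∈ M, X.Red M j i) {e : List I} (o : X.Orth e)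
    (he : ∀ j, j ∈ T.orb i ↔ j ∈ e) {f : (I → ℤ) →+ ℤ}
    (hf : ∀ r, f (R.rt (lng R (T.orb i) r)) = -f (R.rt r)) (hf' : ∀ r, 0 < f (R.rt (T.ρ r)) ↔ 0 < f (R.rt r))
    (hc : ∀ r, R.InSub (T.orb i) r → ∀ s, ¬ R.InSub (T.orb i) s → f (R.rt s) = 0 → ∀ t u, Commute (S.x r t) (S.x s u))
    {w : Equiv.Perm Φ} (hw : w ∈ T.W1 M)
    (hw' : ∀ r, R.InSub M' r ↔ R.InSub M (w r) ∧ ¬ R.InSub (T.orb i) (w r) ∧ f (R.rt (w r)) = 0) {C C' : List Φ → Prop}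
    (hC : X.Cls M' C') (h0 : C []) (h1 : ∀ l, C' l → C (e.map R.simple ++ l.map w)) : X.Cls M C := fun t ht h2 => by
  obtain rfl | h3 := eq_or_ne t 1
  · exact ⟨[], h0, Cj.refl _ _⟩
  obtain ⟨u, hu, c1⟩ := h.exists_conj_U 2 hM (mem_Lv ht.1 ht.2 fun _ h => h) (n := 1) h2
  obtain ⟨u', hu', c2, j, hj, h4⟩ := h.exists_conj_simple hM hu (c1.ne_one h3)
  have c3 := c1.trans c2
  obtain ⟨v, hv, c4, h5⟩ := hR j hj u' ⟨hu', (c3.mono inf_le_right).mem ht.2⟩ (c3.sq h2) h4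
  have c5 := c3.trans c4
  obtain ⟨y, hy, y1, -, z, hz, z2, c6⟩ := h.invol_step hM hi hf hf' (fun r hr s _ => hc r hr s)
    ⟨hv, (c5.mono inf_le_right).mem ht.2⟩ (c5.sq h2) h5
  obtain ⟨m, hm, h6⟩ := X.exists_exact hZ hw
  have h7 : S.Act m w := ⟨1, by simp, by simp, by simpa using h6⟩
  have h8 := h7.inv (T.W1_le_W _ hw)
  have z3 : m⁻¹ * z * m⁻¹⁻¹ ∈ S.U {r | R.InSub M' r} := h8.conj_mem (fun r hr => (hw' _).2 (by simpa using ⟨hr.1.1.2, hr.1.2, hr.2⟩)) hz.1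
  obtain ⟨l, hl, g, hg, e1⟩ := hC _ ⟨z3, conj_inv_mem hm.2 hz.2⟩ (by rw [conj_pow, z2]; group)
  have k := fun {a b} ha hb => commute_U (A := {r | R.InSub (T.orb i) r}) (B := {r | ¬ R.InSub (T.orb i) r ∧ f (R.rt r) = 0})
    (fun r hr s hs => hc r hr s hs.1 hs.2) (a := a) (b := b) ha hb
  have k' := fun {b} hb => h7.conj_mem (T := {r | R.InSub M' r}) (T' := {r | ¬ R.InSub (T.orb i) r ∧ f (R.rt r) = 0})
    (fun r hr => ((hw' r).1 hr).2) (a := b) hb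
  have m1 := mem_Lv hm.1 hm.2 fun _ h => h
  have g1 := mul_mem (mul_mem m1 (Lv_mono hM' hg)) (inv_mem m1)
  have y2 : m * g * m⁻¹ * y * (m * g * m⁻¹)⁻¹ ∈ S.U {r | R.Pos r ∧ R.InSub (T.orb i) r} := by
    obtain ⟨b, hb, a, ha, rfl⟩ := X.st.mem_U_sup_H'.1 (sup_comm S.H _ ▸ hg.1)
    rw [← conj_mul, mul_assoc _ _ y, ← (k (S.U_mono (fun _ h => h.2) hy.1) (k' ha)).eq]
    simpa [mul_assoc] using X.st.H_conj_mem_U (h7.conj_mem_H (T.W1_le_W _ hw) hb) hy.1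
  obtain ⟨a, ha, e2⟩ := o.exists_norm he ⟨y2, X.Fix.mul_mem (X.Fix.mul_mem g1.2 hy.2) (X.Fix.inv_mem g1.2)⟩ (mt conj_eq_one_iff.1 y1)
  refine ⟨_, h1 l hl, (c5.trans c6).trans ⟨a * (m * g * m⁻¹), mul_mem (mem_Lv ha.1 ha.2 fun r hr k hk => hr k fun h =>
    hk (hM.orb_subset hi h)) g1, ?_⟩⟩
  have := (k ha.1 (k' (conj_mem_sup X.st (fun _ ha _ hb => mul_mem (mul_mem ha hb) (inv_mem ha)) hg.1 z3))).inv_left.eq
  rw [prod_append, ← conj_prod h6, ← e2, ← e1, mul_assoc _ a⁻¹, this]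
  group

end Grp

omit [Finite Φ] in
theorem cls_empty : X.Cls ∅ (· = []) := fun z hz _ => ⟨[], rfl, by
  rw [show z = 1 from S.U_empty.le (S.U_mono (T := {r | R.InSub ∅ r}) (fun r hr => R.rt_ne_zero r (funext fun i => hr i id)) hz.1)]; exact Cj.refl _ _⟩

end TwSys

end

theorem lng_val {D : ChevalleyDatum} {t : RTab} (h : RootOK D t) {J : Set (Fin D.rank)} {O lw : List ℕ} (hO : ∀ j, j ∈ J ↔ (j : ℕ) ∈ O)
    (d : (∀ k ∈ lw, k < D.rank) ∧ ∀ k < D.rank, (k ∈ O ↔ k ∈ lw) ∧ (k ∈ O → D.IsNegRoot (wN D lw (D.simple k)))) (r : Fin D.nroots) :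
    (lng h.R J r : ℕ) = wN D lw r := by
  obtain ⟨l, rfl⟩ := exists_fin_list d.1
  have : ∀ k : Fin D.rank, (k : ℕ) ∈ l.map Fin.val ↔ k ∈ l := fun k => by simp [Fin.val_inj]
  rw [← wprod_eq_lng h.compat (l := l) (fun k => by rw [hO, (d.2 k k.2).1, this])
    fun k hk => (d.2 k k.2).2 ((d.2 k k.2).1.2 ((this k).2 hk)), wprod_val h.compat, wN]

set_option synthInstance.maxSize 4000
set_option synthInstance.maxHeartbeats 400000

namespace E6Data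

variable {K : Type u} [Field K] {q : ℕ} (d : E6Data K q)

/-- Classes of fundamental roots. -/
def ob (i : ℕ) : List ℕ := if i ∈ [0, 5] then [0, 5] else if i ∈ [2, 4] then [2, 4] else [i]

/-- A set of fundamental roots. -/
def ls (M : List ℕ) : Set (Fin chevE6.rank) := {i | (i : ℕ) ∈ M}

theorem orb_iff (i j : Fin chevE6.rank) : j ∈ d.T.orb i ↔ (j : ℕ) ∈ ob i := by rw [d.mem_orb]; revert i j; decide

theorem stable {M : List ℕ} (h : ∀ i < 6, lk 8640528645 i ∈ M ↔ i ∈ M) : d.T.Stable (ls M) := fun i => by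
  simpa [ls, d.π_val] using h i i.2

theorem exists_f (i : Fin chevE6.rank) : ∃ f : (Fin chevE6.rank → ℤ) →+ ℤ,
    (∀ r, f (rootOK_E6.R.rt (lng rootOK_E6.R (d.T.orb i) r)) = -f (rootOK_E6.R.rt r)) ∧
    (∀ r, 0 < f (rootOK_E6.R.rt (d.T.ρ r)) ↔ 0 < f (rootOK_E6.R.rt r)) ∧
    ∀ r, f (rootOK_E6.R.rt r) = fN chevE6 tabE6 ((List.range 6).map fun k => if k ∈ ob i then 1 else 0) r := by
  obtain ⟨f, hf⟩ := exists_fN rootOK_E6 ((List.range 6).map fun k => if k ∈ ob i then 1 else 0)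
  refine ⟨f, fun r => ?_, fun r => ?_, hf⟩
  · rw [hf, hf, lng_val rootOK_E6 (d.orb_iff i) (lw := ob i) (by clear hf; revert i; decide +kernel)]
    clear hf; revert i r; decide +kernel
  · rw [hf, hf, d.ρ_val]; clear hf; revert i r; decide +kernel

variable [CharP K 2]

theorem σ_xN {r : ℕ} (hr : r < 72) (t : K) : d.X.σ ((sE6 K).xN r t) = (sE6 K).xN (lk rhoE6 r) (t ^ q) := by
  have := d.X.σ_x ⟨r, hr⟩ t
  rwa [show d.X.ε _ = 1 by simpa [CharTwo.neg_eq] using mul_self_eq_one_iff.1 (d.X.ε_sq _), one_mul, d.φ_eq, ← xN_coe, ← xN_coe,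
    d.ρ_val] at this

variable [Fintype K] (hK : Fintype.card K = q ^ 2)
include hK

omit [CharP K 2] in
theorem red_dec (M w : List ℕ) (i j : Fin chevE6.rank) (h : (∀ i < 6, lk 8640528645 i ∈ M ↔ i ∈ M) ∧ (i : ℕ) ∈ M ∧ (j : ℕ) ∈ M ∧
    okF chevE6 rhoE6 (true, w) = true ∧ (∀ k ∈ w, k ∈ M) ∧ ∀ r < chevE6.nroots, (subN chevE6 tabE6 M r → subN chevE6 tabE6 (ob i) r ∨
      fN chevE6 tabE6 ((List.range 6).map fun k => if k ∈ ob i then 1 else 0) r ≠ 0) ∧ (chevE6.nroots ≤ 2 * r →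
      subN chevE6 tabE6 (ob i) r → chevE6.nroots ≤ 2 * wN chevE6 w r ∧ subN chevE6 tabE6 (ob j) (wN chevE6 w r))) : d.X.Red (ls M) i j := by
  obtain ⟨f, h1, h2, h3⟩ := d.exists_f i
  obtain ⟨u, hu, h4⟩ := exists_W1 d.ρ_val h.2.2.2.1 (M := ls M) fun k hk => h.2.2.2.2.1 _ hk
  have s := fun i => subN_iff rootOK_E6 (d.orb_iff i)
  refine (d.grp hK).fix.red_of_W (d.stable h.1) h.2.1 h.2.2.1 h1 h2 (fun r a b => ?_) hu fun r => ?_
  · rw [h3]; exact ((h.2.2.2.2.2 r r.2).1 ((subN_iff rootOK_E6 (fun _ => Iff.rfl) r).1 a)).resolve_left ((s i r).not.1 b)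
  · simpa only [s, rootOK_E6.pos_iff_half, h4] using (h.2.2.2.2.2 r r.2).2

omit [CharP K 2] d in
theorem exists_ne : ∃ ω : K, ω ^ q ≠ ω := by_contra fun h => by
  have hq : 1 < q := by_contra fun h => by have := Fintype.one_lt_card (α := K); nlinarith
  have := (card_fixed hq hK).2
  rw [Nat.card_congr (Equiv.subtypeUnivEquiv fun t => by_contra fun e => h ⟨t, e⟩), Nat.card_eq_fintype_card, hK] at this
  nlinarith

theorem red23 : d.X.Red (ls [2, 3, 4]) (n6 2) (n6 3) := fun y hy h2 h1 => by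
  have hE := rootOK_E6.compat.gexact matOK_E6 (F := K)
  have c2 := CharP.cast_eq_zero K 2
  by_cases h3 : y ∈ (sE6 K).U ({r | rootOK_E6.R.Pos r ∧ rootOK_E6.R.InSub (ls [2, 3, 4]) r} \ {r | rootOK_E6.R.InSub (d.T.orb (n6 3)) r})
  swap; · exact ⟨y, hy.1, Cj.refl _ _, h3⟩
  have s0 := subN_iff rootOK_E6 (J := ls [2, 3, 4]) fun _ => Iff.rfl
  have s := fun i => subN_iff rootOK_E6 (d.orb_iff i)
  have p : ∀ i {r}, r ∈ [40, 43, 44] → ∀ t, (sE6 K).xN r t ∈ (sE6 K).U ({r | rootOK_E6.R.Pos r ∧ rootOK_E6.R.InSub (ls [2, 3, 4]) r} \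
      {r | rootOK_E6.R.InSub (d.T.orb i) r}) := fun i r h t => by
    obtain ⟨r, rfl⟩ : ∃ k : Fin chevE6.nroots, k = r := ⟨⟨r, by revert r; decide⟩, rfl⟩
    refine xN_coe (sE6 K) r t ▸ x_mem_U _ ?_ _
    simp only [Set.mem_sdiff, Set.mem_ofPred_eq, s0, s, rootOK_E6.pos_iff_half]; revert i r; decide +kernel
  have p2 : rootOK_E6.R.simple (n6 3) ∈ {r | rootOK_E6.R.Pos r ∧ rootOK_E6.R.InSub (ls [2, 3, 4]) r} :=
    ⟨pos_simple _ _, inSub_simple.2 (show 3 ∈ [2, 3, 4] by decide)⟩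
  have p3 : ∀ t, (sE6 K).xN 39 t ∈ _ := (sE6 K).x_mem_U p2
  obtain ⟨v, -, b, hb, rfl⟩ := exists_genW (nil_rad _ _) (l := [42, 37, 43, 40, 44]) (by decide) h3 0 0
  obtain rfl : b = 1 := (sE6 K).U_empty.le (U_mono _ (fun r => by
    simp only [Set.mem_sdiff, Set.mem_ofPred_eq, s0, s, rootOK_E6.pos_iff_half, Set.mem_empty_iff_false]; revert r; decide +kernel) hb)
  rw [mul_one] at *
  have k := fun v {w w'} (h : colW chevE6 2 w = w') h1 (h2 : ∀ a ∈ w', ∃ r : Fin chevE6.nroots, chevE6.nroots ≤ 2 * (r : ℕ) ∧ r = a.1) e =>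
    coef_eq_zero v d.X.sep nil_pos h1 (by simpa only [Set.mem_ofPred_eq, rootOK_E6.pos_iff_half] using h2)
      (h ▸ (evW_colW v c2 rootOK_E6.compat hE w).trans e)
  have e1 := k (fun i => if i < 5 then v i else v (i - 5) ^ q) (w := genW [42, 37, 43, 40, 44] 0 ++ invW 2 (genW [37, 42, 40, 43, 44] 5))
    (w' := [(37, addP 2 (varP 5) (varP 1)), (40, addP 2 (varP 7) (varP 3)), (42, addP 2 (varP 6) (varP 0)), (43, addP 2 (varP 8) (varP 2)),
      (44, [(1, [0, 0, 0, 0, 0, 0, 0, 0, 0, 1]), (1, [0, 0, 0, 0, 0, 1, 0, 0, 1]), (1, [0, 0, 0, 0, 1]), (1, [0, 0, 1, 0, 0, 1]),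
        (1, [1, 0, 0, 0, 0, 0, 0, 1]), (1, [1, 0, 0, 1])])]) (by decide +kernel) (by decide) (by decide +kernel) (by
      rw [evW_append, evW_invW _ c2, mul_inv_eq_one]
      have := hy.2.symm
      simp [genW, d.σ_xN] at this ⊢
      exact this)
  have e2 := k v (w := genW [42, 37, 43, 40, 44] 0 ++ genW [42, 37, 43, 40, 44] 0)
    (w' := [(44, addP 2 (mulP 2 (varP 1) (varP 2)) (mulP 2 (varP 0) (varP 3)))]) (by decide +kernel) (by decide) (by decide +kernel)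
    (by rw [evW_append, ← pow_two, h2])
  simp [evP_addP _ c2, evP_mulP _ c2, CharTwo.add_eq_zero] at e1 e2
  have h4 : v 0 ≠ 0 := fun e => h1 (by
    have hq : q ≠ 0 := by rintro rfl; simpa [hK] using Fintype.one_lt_card (α := K)
    simpa [genW, ← e1.1, e, hq, xN_zero] using mul_mem (p _ (r := 43) (by simp) _) (mul_mem (p _ (r := 40) (by simp) _) (p _ (by simp) _)))
  have h5 : v 1 ≠ 0 := e1.1 ▸ pow_ne_zero _ h4
  have φ2 : ∀ t : K, (t ^ q) ^ q = t := fun t => by simpa only [d.φ_eq] using d.φφ hK (rootOK_E6.R.simple (n6 3)) (rootOK_E6.R.simple (n6 3)) t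
  obtain ⟨c, hc⟩ : ∃ c : K, v 4 + (v 1 * c + (v 0 * c ^ q + v 0 * v 1 * (v 2 / v 0))) ≠ 0 := by_contra fun h => by
    obtain ⟨ω, hω⟩ := exists_ne hK
    have hq : q ≠ 0 := by rintro rfl; simpa [hK] using Fintype.one_lt_card (α := K)
    have a := not_not.1 (not_exists.1 h 0)
    have b := not_not.1 (not_exists.1 h (ω * v 0))
    rw [mul_pow, e1.1] at b
    rw [zero_pow hq] at a
    exact hω (mul_left_cancel₀ (mul_ne_zero h4 h5) (by linear_combination b - a - v 0 * v 1 * ω * CharTwo.two_eq_zero (R := K)))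
  obtain ⟨w, hw, h6⟩ := exists_W1 d.ρ_val (l := [2, 4, 3]) (by decide +kernel) (M := ls [2, 3, 4]) fun i => by
    show _ → (i : ℕ) ∈ [2, 3, 4]; revert i; decide
  obtain ⟨m, hm, h7⟩ := d.X.exists_exact (gZ _ _) hw
  let u : ℕ → K := fun i => [v 0, v 1, v 2 / v 0, v 4, c, c ^ q].getD i 0
  have h8 := evW_eq (S := sE6 K) u c2 rootOK_E6.compat hE (w := genW [43, 40] 4 ++ [(39, varP 2)] ++ [(42, varP 0), (37, varP 1),
    (43, mulP 2 (varP 2) (varP 0)), (40, mulP 2 (varP 2) (varP 1)), (44, varP 3)] ++ invW 2 (genW [43, 40] 4 ++ [(39, varP 2)]))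
    (w' := [(37, varP 1), (42, varP 0), (44, addP 2 (varP 3) (addP 2 (mulP 2 (varP 1) (varP 4)) (addP 2 (mulP 2 (varP 0) (varP 5))
      (mulP 2 (mulP 2 (varP 0) (varP 1)) (varP 2)))))]) (by decide +kernel)
  rw [evW_append, evW_append, evW_invW _ c2, show (sE6 K).evW u (_ :: _ :: _) = (sE6 K).evW v (genW [42, 37, 43, 40, 44] 0) by
    simp [genW, evP_mulP _ c2, u, h4, show v 2 / v 0 * v 1 = v 3 by field_simp; linear_combination e2]] at h8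
  have h9 : (sE6 K).evW u (genW [43, 40] 4 ++ [(39, varP 2)]) ∈ d.X.Lv (ls [2, 3, 4]) := by
    refine TwSys.mem_Lv (A := {r | rootOK_E6.R.Pos r ∧ rootOK_E6.R.InSub (ls [2, 3, 4]) r}) (by
      simpa [genW] using mul_mem (U_mono _ Set.sdiff_subset (p (n6 3) (r := 43) (by simp) _))
        (mul_mem (U_mono _ Set.sdiff_subset (p (n6 3) (r := 40) (by simp) _)) (p3 _))) (d.X.mem_Fix.2 ?_) fun _ h => h.2
    refine Eq.trans ?_ (evW_eq u c2 rootOK_E6.compat hE (w := [(40, varP 5), (43, varP 4), (39, varP 2)]) (by decide +kernel))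
    simp [genW, d.σ_xN, u, φ2, div_pow, e1.1, e1.2.1, show v 3 / v 1 = v 2 / v 0 by field_simp; linear_combination -e2]
    rfl
  have h10 := conj_evW h7 h6 u [(37, varP 1), (42, varP 0), (44, addP 2 (varP 3) (addP 2 (mulP 2 (varP 1) (varP 4))
    (addP 2 (mulP 2 (varP 0) (varP 5)) (mulP 2 (mulP 2 (varP 0) (varP 1)) (varP 2)))))]
  rw [show stepF _ _ _ = [(43, varP 1), (40, varP 0), (39, addP 2 (varP 3) (addP 2 (mulP 2 (varP 1) (varP 4)) (addP 2 (mulP 2 (varP 0)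
    (varP 5)) (mulP 2 (mulP 2 (varP 0) (varP 1)) (varP 2)))))] by decide +kernel, evW_cons (a := (43, _)), evW_cons (a := (40, _)),
    evW_cons (a := (39, _)), evW_nil, mul_one, ← mul_assoc] at h10
  simp only [evP_addP _ c2, evP_mulP _ c2, evP_varP] at h10
  have h11 := fun i t t' => mul_mem (p i (r := 43) (by simp) t) (p i (r := 40) (by simp) t')
  refine ⟨_, mul_mem (U_mono _ Set.sdiff_subset (h11 (n6 3) _ _)) (p3 _), Cj.trans ⟨_, h9, h8⟩ ⟨m, TwSys.mem_Lv hm.1 hm.2 fun _ h => h,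
    h10⟩, fun h => ?_⟩
  exact ((x_mem_U_iff _ d.X.sep (nil_posSub _) Set.sdiff_subset (nil_rad _ _).closed p2).1 ((mul_mem_cancel_left (h11 _ _ _)).1 h)).elim hc
    fun h => h.2 (inSub_simple.2 (d.T.mem_orb _))

theorem step {M M' : List ℕ} (w : List ℕ) {C' : List (List ℕ)} (C : List (List ℕ)) (hC : d.X.Cls (ls M') fun l => l.map Fin.val ∈ C')
    (h : (∀ i < 6, lk 8640528645 i ∈ M ↔ i ∈ M) ∧ M' ⊆ M ∧ 3 ∈ M ∧ (∀ j ∈ M, 3 ∈ ob j ∨ (1 ∈ ob j ∧ [1, 3] ⊆ M) ∨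
      ([2, 3, 4] ⊆ M ∧ (2 ∈ ob j ∨ (0 ∈ ob j ∧ [0, 2, 4, 5] ⊆ M)))) ∧ okF chevE6 rhoE6 (true, w) = true ∧ w ⊆ M ∧ [] ∈ C ∧
      (∀ l ∈ C', 39 :: l.map (wN chevE6 w) ∈ C) ∧ ∀ r < chevE6.nroots,
      subN chevE6 tabE6 M' r ↔ subN chevE6 tabE6 M (wN chevE6 w r) ∧ ¬ subN chevE6 tabE6 [3] (wN chevE6 w r) ∧
        fN chevE6 tabE6 [0, 0, 0, 1, 0, 0] (wN chevE6 w r) = 0) : d.X.Cls (ls M) fun l => l.map Fin.val ∈ C := by
  obtain ⟨a1, a2, a3, a4, a6, a7, a8, a9, a10⟩ := h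
  obtain ⟨f, h1, h2, h3⟩ := d.exists_f (n6 3)
  obtain ⟨u, hu, h4⟩ := exists_W1 d.ρ_val a6 (M := ls M) fun k hk => a7 hk
  have s := subN_iff rootOK_E6 (d.orb_iff (n6 3))
  have s0 := fun M => subN_iff rootOK_E6 (J := ls M) fun _ => Iff.rfl
  have k : ∀ {L i j}, d.X.Red (ls L) i j → L ⊆ M → (∀ i < 6, lk 8640528645 i ∈ L ↔ i ∈ L) ∧ (i : ℕ) ∈ L ∧ (j : ℕ) ∈ L →
    d.X.Red (ls M) i j := fun h b c => h.mono (d.stable c.1) (d.stable a1) (fun _ h => b h) c.2.2 c.2.1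
  refine (d.grp hK).fix.cls_step (gZ _ _) (M' := ls M') (d.stable a1) (fun k h => a2 h) a3 (fun j hj => ?_) d.o3 (d.orb1 (Or.inr rfl)).2
    h1 h2 (fun r hr k h5 h6 => commute_of_dec _ (rootOK_E6.compat.gexact matOK_E6) (Or.inl (by decide +kernel)) _ _ ?_) hu
    (fun r => by simp only [s, s0, h3, h4]; exact a10 r r.2) hC a8 fun l hl => by
      simp only [List.map_append, List.map_map, Function.comp_def, h4]; exact (List.map_map ▸ a9 _ hl :)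
  · have o := fun i h => TwSys.Red.of_orb (X := d.X) (M := ls M) ((d.orb_iff j (n6 i)).2 h)
    rcases a4 j hj with h | ⟨h, b⟩ | ⟨b, h | ⟨h, b'⟩⟩
    · exact o 3 h
    · exact (o 1 h).trans (k (d.red_dec hK [1, 3] [1, 3] _ _ (by decide +kernel)) b (by decide))
    · exact (o 2 h).trans (k (d.red23 hK) b (by decide))
    · exact (o 0 h).trans ((k (d.red_dec hK [0, 2, 4, 5] [0, 2, 5, 4] _ _ (by decide +kernel)) b' (by decide)).trans
        (k (d.red23 hK) b (by decide)))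
  · rw [s] at hr h5
    rw [h3] at h6
    rw [rootOK_E6.compat.pair_eq]
    revert r k; decide +kernel

include d in
theorem invol : (ConjClasses.mk '' {g : twistedE6 K q | orderOf g = 2}).ncard = 3 := by
  have hE := rootOK_E6.compat.gexact matOK_E6 (F := K)
  have c2 := CharP.cast_eq_zero K 2
  have h0 : ls [] = ∅ := by simp [ls]
  have h1 := d.step hK (M := [0, 1, 2, 3, 4, 5]) [2, 4, 1, 3, 0, 5, 2, 4, 3, 1] [[], [39], [39, 44], [39, 44, 60], [39, 44, 60, 71]]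
    (d.step hK (M := [0, 2, 3, 4, 5]) [2, 4, 0, 5] [[], [39], [39, 44], [39, 44, 60]] (d.step hK (M := [2, 3, 4]) [2, 4]
      [[], [39], [39, 44]] (d.step hK (M := [3]) (M' := []) (C' := [[]]) [] [[], [39]] (by simpa [h0] using TwSys.cls_empty)
      (by decide +kernel)) (by decide +kernel)) (by decide +kernel)) (by decide +kernel)
  have h2 := invol_classes rootOK_E6 hE d.X.st d.X.sep d.X.opp d.X.gen (commute_of_dec rootOK_E6 hE (Or.inl (by decide +kernel)))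
    (reps := [[71], [68, 66], [55, 65, 67]]) (A := upN chevE6 tabE6)
    (fun l hl => brep_up rootOK_E6 (by generalize l.map Fin.val = l' at hl ⊢; revert l'; decide +kernel))
    (cert := [([71], []), ([60, 71], [1, 3, 2]), ([44, 60, 71], [1, 3, 4, 5, 4]),
      ([39, 44, 60, 71], [30, 57, 14, 75, 2, 1, 3, 4, 5, 3, 4])]) (by decide +kernel) (by decide +kernel) (by decide +kernel)
  simp only [← evW_cw _ 0] at h2
  have h3 : ∀ l ∈ [[71], [68, 66], [55, 65, 67]], IsConj ((sE6 K).evW 0 (cw (if l = [68, 66] then [39, 44] else l)))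
      ((sE6 K).evW 0 (cw l)) := fun l hl => by
    split_ifs with e
    · exact e ▸ (isConj_foldl rootOK_E6 hE d.X.st 0 [0, 1, 2, 0, 3, 4, 5, 4, 3, 2, 0] _).trans (by
        rw [show List.foldl _ _ _ = cw [68, 66] by decide +kernel])
    · rfl
  refine ncard_sub ((MulEquiv.subgroupCongr (d.eq_Fix hK).symm).trans (Subgroup.subgroupOfEquivOfLe (d.gen hK).1))
    (reps := [[71], [68, 66], [55, 65, 67]]) (by decide) (fun l hl => ⟨cw_fix d.ρ_val d.X hE (by revert l; decide +kernel) 0,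
      (h3 l hl).elim fun c h => (h.orderOf_eq _).trans (h2.1 l hl)⟩) (fun g hg h => ?_)
    fun l hl l' hl' e => h2.2.2 l hl l' hl' (((h3 l hl).symm.trans e).trans (h3 l' hl'))
  obtain ⟨l, hl, e⟩ := h1 g ⟨U_mono _ (fun r _ => (subN_iff rootOK_E6 (fun _ => Iff.rfl) r).2 (by revert r; decide +kernel))
    (d.X.mem_univ g), hg⟩ (h ▸ pow_orderOf_eq_one g)
  rw [← prod_xN, ← evW_cw _ 0] at e
  generalize l.map Fin.val = l at hl e
  obtain rfl | ⟨c, hc, l', hl', h4⟩ : l = [] ∨ ∃ c ∈ [[(true, [1, 3, 2, 4, 3, 1, 0, 5, 2, 4])], [], [(false, [36, 56]), (false, [37, 42]),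
      (true, [2, 4, 0, 5]), (false, [37, 42]), (true, [3, 2, 4, 3, 0, 5, 2, 4, 3, 1])], [(false, [24]), (false, [51]), (false, [8]),
      (false, [69]), (false, [38, 57]), (true, [2, 4, 3, 1, 0, 5, 2, 4]), (false, [37, 42]), (false, [36, 56])]],
      ∃ l' ∈ [[71], [68, 66], [55, 65, 67]], (∀ s ∈ c, okF chevE6 rhoE6 s = true) ∧
      colW chevE6 2 (c.foldl (stepF chevE6) (cw l)) = colW chevE6 2 (cw (if l' = [68, 66] then [39, 44] else l')) := by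
    clear e; revert l; decide +kernel
  · exact (e.ne_one (fun e => by simp [e] at h) rfl).elim
  exact ⟨l', hl', (e.mono inf_le_right).trans (evW_eq (S := sE6 K) 0 c2 rootOK_E6.compat hE h4.2 ▸ cj_foldl d.ρ_val d.X hE (gZ _ _) 0 h4.1 _)⟩

end E6Data

end Cfsg.Lib.Twist
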