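/-
Small Ree groups: every automorphism is the product of an inner and a field automorphism.
-/
import Cfsg.Agent.Lib.Twist.ReeCount
import Cfsg.Agent.Lib.Chev.AutD
import Cfsg.Prelude.Def_KGroupFacts

set_option autoImplicit false

namespace Cfsg.Lib.Twist

open Subgroup Cfsg.Lib.Known Cfsg.Lib.Transfer

namespace Ree

variable {K : Type*} [Field K] {G : Type*} [Group G] (R : Ree K G)

local notation "𝔞" => R.D (-1)
local notation "𝔮" => Nat.card K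

theorem hom_ext {G' : Type*} [Group G'] {F : Type*} [FunLike F G G'] [MonoidHomClass F G G'] {α β : F}
    (h1 : ∀ t u v, α (R.U t u v) = β (R.U t u v)) (h2 : ∀ k, α (R.D k) = β (R.D k)) (h3 : α R.w = β R.w) : α = β :=
  DFunLike.ext _ _ fun g => by
    rcases R.bruhat' g with ⟨t, u, v, k, rfl⟩ | ⟨t, u, v, k, t', u', v', rfl⟩ <;> simp only [map_mul, h1, h2, h3]

theorem mem_H_of {g : G} (h1 : g ∈ R.B) (h2 : R.w * g * R.w⁻¹ ∈ R.B) : g ∈ R.H := by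
  obtain ⟨x, hx, k, rfl⟩ := h1
  rw [R.opp hx ((mul_mem_cancel_right (R.D_mem_B k⁻¹)).1 (by rwa [← R.w_D, conj_mul])), one_mul]
  exact R.D_mem k

theorem mul_σ_ne (t : K) : t * R.σ t ≠ -1 := fun h => by
  have h1 := congrArg R.σ h
  rw [map_mul, R.σσ, map_neg, map_one] at h1
  rcases sq_eq_one_iff.1 (show t ^ 2 = 1 by linear_combination t ^ 2 * h - h1) with rfl | rfl <;>
    exact R.two_ne (by simp only [map_neg, map_one] at h; linear_combination h)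

theorem exists_conj_Dw {t : G} (h : t ∉ R.B) (h2 : t * t = 1) : ∃ b ∈ R.Q, ∃ k, b⁻¹ * t * b = R.D k * R.w := by
  obtain ⟨x, hx, k, y, hy, rfl⟩ := (R.bruhat t).resolve_left h
  have h3 : y * x * R.D k * R.w * 1 = R.D k * R.w * (y * x)⁻¹ := by
    rw [eq_mul_inv_iff_mul_eq, ← mul_inv_eq_one, mul_inv_rev, R.w_inv, ← map_inv, ← R.D_w, ← conj_eq_one_iff (a := y⁻¹)]
    simpa [mul_assoc] using h2
  have h4 : y * x = 1 := mul_eq_right.1 (R.bruhat_inj (mul_mem (R.Q_le_B (mul_mem hy hx)) (R.D_mem_B k)) (R.D_mem_B k)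
    (one_mem _) (inv_mem (mul_mem hy hx)) h3).1
  exact ⟨x, hx, k, by simp [mul_assoc, h4]⟩

variable [Finite K]

theorem map_σ (φ : K ≃+* K) (t : K) : φ (R.σ t) = R.σ (φ t) :=
  have := Chev.isCyclic_ringAut (F := K)
  DFunLike.congr_fun (IsCyclic.isMulCommutative.is_comm.comm φ
    (RingEquiv.ofBijective R.σ (Finite.injective_iff_bijective.1 R.σ.injective))) t

theorem mem_range_ψ {g : G} (h1 : Commute 𝔞 g) (h3 : g ^ 3 = 1) : g ∈ R.ψ.range := by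
  obtain ⟨s, rfl | rfl⟩ := R.mem_cent_a.1 (mem_centralizer_singleton_iff.2 h1.symm)
  · exact ⟨s, rfl⟩
  · rw [(R.a_ψ s).mul_pow, pow_three', R.a_sq, one_mul, ← map_pow] at h3
    exact (R.ψ_ne' 1 _ (by rw [h3, map_one])).elim

theorem sq_eq_one_of_rel {b : Kˣ} (h : R.U 0 b 0 * R.w * R.U 0 b 0 * R.w * R.U 0 b 0 = R.w) : b ^ 2 = 1 := by
  have h1 : R.w * R.U 0 ((b : K)⁻¹ + -b) 0 * R.w⁻¹ = (R.U 0 b 0)⁻¹ * R.D (R.δ b) * R.U 0 b 0 := by
    rw [← mul_inv_cancel_right (R.D _) R.w, ← R.rel', R.Y_mul, ← R.Y_inv]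
    nth_rw 5 [← h]
    group
  have := (R.U_eq_one.1 (R.opp (R.U_mem ..) (h1 ▸ mul_mem (mul_mem (R.Q_le_B (inv_mem (R.U_mem ..))) (R.D_mem_B _))
    (R.Q_le_B (R.U_mem ..))))).2.1
  exact (units_eq_inv_iff b).1 (add_neg_eq_zero.1 this).symm

theorem eq_conj_of_fix (hq : 3 < 𝔮) {α : G ≃* G} (hD : ∀ k, α (R.D k) = R.D k) (hw : α R.w = R.w) {b : K} (hb : b ^ 2 = 1)
    (hY : ∀ u, α (R.U 0 u 0) = R.U 0 (b * u) 0) (hX : α (R.U 1 0 0) ∈ R.Q) : ∃ g, α = MulAut.conj g := by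
  obtain ⟨c, hc⟩ := R.exists_σ_ne hq
  obtain ⟨t₀, u₀, v₀, hX⟩ := hX
  have h1 : ∀ t, α (R.U t 0 0) = R.U (t * t₀) (t * R.σ t * u₀) (t ^ 2 * R.σ t * v₀) := fun t => by
    rcases eq_or_ne t 0 with rfl | h
    · simp [R.U_zero]
    · have := congrArg α (R.D_U (Units.mk0 t h) 1 0 0)
      rw [map_mul, map_mul, map_inv, hD, ← hX, R.D_U] at this
      simpa using this.symm
  have h2 : ∀ v, α (R.U 0 0 v) = R.U 0 0 (t₀ ^ 2 * R.σ t₀ * v) := fun v => by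
    obtain ⟨t, e⟩ := R.exists_sq_σ (-v)
    have := map_pow α (R.U t 0 0) 3
    rw [h1, R.U_cube, R.U_cube, e, neg_neg, map_mul] at this
    exact this.trans (R.U_congr rfl rfl (by linear_combination -t₀ ^ 2 * R.σ t₀ * e))
  have h3 : ∀ t u v, α (R.U t u v) = R.U (t * t₀) (t * R.σ t * u₀ + b * u) (t ^ 2 * R.σ t * v₀ + t₀ ^ 2 * R.σ t₀ * v) :=
    fun t u v => by
      rw [show R.U t u v = R.U t 0 0 * R.U 0 u 0 * R.U 0 0 v by simp [R.U_mul], map_mul, map_mul, h1, h2, hY]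
      simp [R.U_mul]
  have h4 := fun t t' => (R.U_inj (by simpa only [h3, R.U_mul] using map_mul α (R.U t 0 0) (R.U t' 0 0))).2
  have h5 := h4 1 1
  have h6 := h4 1 c
  have h7 := h4 1 (-c)
  simp only [map_add, map_neg, map_one, map_mul] at h5 h6 h7
  have h9 := sub_ne_zero.2 hc
  obtain rfl : u₀ = 0 := (mul_eq_zero.1 (show u₀ * (R.σ c - c) = 0 by
    linear_combination R.σ c * h5.1 - h6.1)).resolve_right h9
  obtain rfl : b = t₀ * R.σ t₀ := by linear_combination -h5.1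
  have h10 := (sq_eq_one_iff.1 hb).resolve_right (R.mul_σ_ne _)
  obtain rfl : v₀ = 0 := (mul_eq_zero.1 (show v₀ * (R.σ c - c) = 0 by
    linear_combination -h6.2 + h7.2 + (R.σ c * v₀ + c * v₀) * R.three)).resolve_right h9
  have h11 := R.eq_one_of_mul_σ h10
  refine ⟨R.D (Units.mk0 t₀ (by rintro rfl; simp at h11)), R.hom_ext (fun t u v => by simp [h3, R.D_U, mul_comm])
    (fun k => by rw [hD, MulAut.conj_apply, R.D_comm, mul_inv_cancel_right]) ?_⟩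
  rw [hw, MulAut.conj_apply, ← map_inv, mul_assoc, ← R.D_w, ← mul_assoc, ← map_mul, ← pow_two,
    show (_ : Kˣ) ^ 2 = 1 from Units.ext h11, map_one, one_mul]

theorem exists_field (hq : 3 < 𝔮) {α : G ≃* G} (hQ : ∀ x ∈ R.Q, α x ∈ R.Q) (hw : α R.w = R.w) :
    ∃ (g : G) (φ : K ≃+* K), α = MulAut.conj g * (R.aut φ).choose := by
  have hB : ∀ g ∈ R.B, α g ∈ R.B := fun g hg => R.mem_B_of_conj (hQ _ (R.U_mem 1 0 0)) (by simp [R.U_eq_one])
    (by simpa using R.Q_le_B (hQ _ (R.B_conj_Q hg (R.U_mem 1 0 0))))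
  choose τ hτ using fun k => R.mem_H_of (hB _ (R.D_mem_B k)) (by
    rw [← hw, ← map_inv, ← map_mul, ← map_mul, R.w_D]; exact hB _ (R.D_mem_B _))
  have h1 : ∀ k l, τ (k * l) = τ k * τ l := fun k l => R.D_inj (by simp [hτ])
  have ha : τ (-1) = -1 := (sq_eq_one_iff'.1 (R.D_inj (by rw [map_pow, hτ, ← map_pow, ← map_pow]; simp))).resolve_left
    fun e => R.a_ne (α.injective (by rw [← hτ, e]; simp))
  choose β hβ using fun u => R.comm_a (hQ _ (R.U_mem 0 u 0)) (by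
    rw [← ha, hτ, ← map_inv, ← map_mul, ← map_mul, R.a_U, neg_zero])
  have h0 : ∀ u, β u = 0 ↔ u = 0 := fun u => by simpa [← hβ, R.U_eq_one] using α.map_eq_one_iff (x := R.U 0 u 0)
  have hb : β 1 ^ 2 = 1 := congrArg Units.val (R.sq_eq_one_of_rel (b := Units.mk0 _ (mt (h0 1).1 one_ne_zero)) (by
    simpa [hβ, hw] using congrArg α R.rel))
  have hadd : ∀ u v, β (u + v) = β u + β v := fun u v => (R.U_inj (by rw [hβ, R.Y_mul, map_mul, ← hβ, ← hβ, R.Y_mul])).2.1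
  have hneg : ∀ u, β (-u) = -β u := fun u => eq_neg_of_add_eq_zero_left (by rw [← hadd, h0, neg_add_cancel])
  have h2 : ∀ (k : Kˣ) u, β (k * R.σ k * u) = τ k * R.σ (τ k) * β u := fun k u => by
    have := congrArg α (R.D_U k 0 u 0)
    rw [map_mul, map_mul, map_inv, mul_zero, mul_zero, ← hτ, ← hβ, ← hβ, R.D_U] at this
    exact (R.U_inj this).2.1.symm
  have h3 : ∀ (k : Kˣ), β 1 * β (k * R.σ k) = τ k * R.σ (τ k) := fun k => by
    have := h2 k 1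
    rw [mul_one] at this
    linear_combination β 1 * this + τ k * R.σ (τ k) * hb
  have hmul : ∀ x y, β 1 * β (x * y) = β 1 * β x * (β 1 * β y) := fun x y => by
    rcases eq_or_ne x 0 with rfl | hx
    · simp [(h0 0).2 rfl]
    obtain ⟨c, h⟩ := R.sq_or (Units.mk0 x hx)
    have h4 : β 1 * β (c ^ 2 * y) = β 1 * β (c ^ 2) * (β 1 * β y) := by rw [← R.δ_σ, h3, h2]; ring
    rcases h with h | h <;> obtain rfl : x = _ := congrArg Units.val h
    exacts [h4, by simpa [hneg] using h4]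
  let φ₀ : K →+* K := ⟨⟨⟨fun x => β 1 * β x, (pow_two _).symm.trans hb⟩, hmul⟩, by simp [(h0 0).2 rfl],
    fun x y => by simp [hadd, mul_add]⟩
  let φ : K ≃+* K := RingEquiv.ofBijective φ₀ (Finite.injective_iff_bijective.1 φ₀.injective)
  have h4 : ∀ k, τ k ^ 2 = Units.map (φ : K →* K) k ^ 2 := fun k => Units.ext (by
    have : (φ k : K) ≠ 0 := by simp
    have : R.σ (φ k) ≠ 0 := by simp
    refine (div_eq_one_iff_eq (by simp)).1 ((div_pow ..).symm.trans (R.eq_one_of_mul_σ ?_))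
    rw [map_div₀, div_mul_div_comm, ← h3]
    exact (div_eq_one_iff_eq (by simp)).2 ((map_mul φ ..).trans (congrArg _ (R.map_σ φ k))))
  have h5 : ∀ k, τ k = Units.map (φ : K →* K) k := fun k => by
    obtain ⟨c, rfl | rfl⟩ := R.sq_or k
    · rw [map_pow, ← h4, pow_two, h1, pow_two]
    · rw [← neg_one_mul, h1, ha, map_mul, map_pow, ← h4, pow_two, h1, pow_two]; congr 1; ext; simp
  obtain ⟨h6, h7, h8⟩ := (R.aut φ).choose_spec
  generalize hγ : (R.aut φ).choose = γ at h6 h7 h8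
  obtain ⟨g, hg⟩ := R.eq_conj_of_fix hq (α := γ.symm.trans α) (fun k => by
      obtain ⟨k, rfl⟩ := (Units.mapEquiv φ.toMulEquiv).surjective k
      exact (congrArg α (γ.symm_apply_eq.2 (h7 k).symm)).trans (by rw [← hτ, h5]; rfl))
    ((congrArg α (γ.symm_apply_eq.2 h8.symm)).trans hw) hb (fun u => by
      obtain ⟨u, rfl⟩ := φ.surjective u
      refine (congrArg α ((γ.symm_apply_eq (y := R.U 0 u 0)).2 (by simp [h6]))).trans ((hβ u).symm.trans (R.U_congr rfl ?_ rfl))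
      exact (show _ = β 1 * (β 1 * β u) by rw [← mul_assoc, ← pow_two, hb, one_mul]))
    (hQ _ (((γ.symm_apply_eq (x := R.U 1 0 0) (y := R.U 1 0 0)).2 (by simp [h6])).symm ▸ R.U_mem 1 0 0))
  exact ⟨g, φ, by rw [← hg, hγ]; ext; simp⟩

variable [Finite G]

theorem exists_inner_field (hq : 3 < 𝔮) (α : G ≃* G) : ∃ (g : G) (φ : K ≃+* K), α = MulAut.conj g * (R.aut φ).choose := by
  obtain ⟨x, -, hx⟩ := R.sylowIn_Q.exists_cj_le (R.isPGroup_Q.map α.toMonoidHom) le_top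
  have h1 : ∀ y ∈ R.Q, x * α y * x⁻¹ ∈ R.Q := fun y hy => cj_le_iff.1 hx _ ⟨y, hy, rfl⟩
  have h2 : x * α R.w * x⁻¹ ∉ R.B := fun h => by
    obtain ⟨y, hy⟩ := Finite.surjective_of_injective (f := fun y : R.Q => (⟨_, h1 y y.2⟩ : R.Q))
      (fun y z e => by simpa using e) ⟨_, R.B_conj_Q h (h1 _ (R.U_mem 1 0 0))⟩
    have : (y : G) = R.w * R.U 1 0 0 * R.w⁻¹ := α.injective ((MulAut.conj x).injective (by simpa [mul_assoc] using hy))
    exact one_ne_zero (R.U_eq_one.1 (R.opp (R.U_mem ..) (this ▸ R.Q_le_B y.2))).1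
  obtain ⟨y, hy, k, h3⟩ := R.exists_conj_Dw h2 (by rw [conj_mul, ← map_mul, R.w_w]; simp)
  obtain ⟨c, hc⟩ := R.sq_or k
  let γ : G ≃* G := α.trans (MulAut.conj ((R.D c)⁻¹ * y⁻¹ * x))
  have h4 : ∀ z ∈ R.Q, γ z ∈ R.Q := fun z hz => by
    simpa [γ, mul_assoc] using R.conj_Q' c (mul_mem (mul_mem (inv_mem hy) (h1 z hz)) hy)
  have h5 : γ R.w = R.D (k / c ^ 2) * R.w := by
    have : γ R.w = (R.D c)⁻¹ * (R.D k * R.w) * R.D c := by rw [← h3]; simp [γ, mul_assoc]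
    rw [this, mul_assoc, mul_assoc, R.w_D', ← map_inv, ← mul_assoc, ← mul_assoc, ← map_mul, ← map_mul]
    congr 2; rw [pow_two, div_eq_mul_inv, mul_inv, mul_comm c⁻¹ k, mul_assoc]
  suffices γ R.w = R.w by
    obtain ⟨g, φ, h⟩ := R.exists_field hq h4 this
    exact ⟨((R.D c)⁻¹ * y⁻¹ * x)⁻¹ * g, φ, by rw [map_mul, mul_assoc, ← h]; ext; simp [γ, mul_assoc]⟩
  rcases hc with rfl | rfl
  · simpa using h5
  rw [neg_div, div_self'] at h5
  have hB : ∀ g ∈ R.B, γ g ∈ R.B := fun g hg => R.mem_B_of_conj (h4 _ (R.U_mem 1 0 0)) (by simp [R.U_eq_one])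
    (by simpa using R.Q_le_B (h4 _ (R.B_conj_Q hg (R.U_mem 1 0 0))))
  generalize γ = γ at h4 h5 hB
  have h6 : Commute (𝔞 * R.w) (γ 𝔞) := h5 ▸ Commute.map (R.a_w.symm : Commute R.w 𝔞) γ
  obtain ⟨l, hl⟩ := R.mem_H_of (hB _ (R.D_mem_B (-1))) (by
    rw [show R.w * γ 𝔞 * R.w⁻¹ = 𝔞⁻¹ * γ 𝔞 * 𝔞 from
      mul_inv_eq_iff_eq_mul.2 (by rw [mul_assoc, mul_assoc, ← h6.eq, mul_assoc, inv_mul_cancel_left])]
    exact mul_mem (mul_mem (inv_mem (R.D_mem_B _)) (hB _ (R.D_mem_B _))) (R.D_mem_B _))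
  have ha : γ 𝔞 = 𝔞 := by
    rw [← hl, (sq_eq_one_iff'.1 (R.D_inj (by rw [map_pow, hl, ← map_pow, ← map_pow]; simp))).resolve_left
      fun e : l = 1 => R.a_ne (γ.injective (by rw [← hl, e]; simp))]
  have h7 : ∀ g, Commute 𝔞 g → g ^ 3 = 1 → γ g ∈ R.ψ.range := fun g h h' =>
    R.mem_range_ψ (ha ▸ h.map γ) (by rw [← map_pow, h', map_one])
  have h8 : Commute 𝔞 (R.U 0 1 0) := R.ψ_x 1 ▸ R.a_ψ _
  obtain ⟨s, hs⟩ := mul_mem (mul_mem (h7 _ h8 (R.U_cube_eq_one.2 rfl)) (h7 (R.w * R.U 0 1 0 * R.w⁻¹)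
    (((show Commute 𝔞 R.w from R.a_w).mul_right h8).mul_right (show Commute 𝔞 R.w from R.a_w).inv_right)
    (by rw [conj_pow, R.U_cube_eq_one.2 rfl]; simp))) (h7 _ h8 (R.U_cube_eq_one.2 rfl))
  rw [← map_mul, ← map_mul, R.w_inv, ← mul_assoc, ← mul_assoc, R.rel, h5, ← R.ψ_w] at hs
  exact (R.ψ_ne' _ _ hs).elim

include R in
theorem card_Out (hq : 3 < 𝔮) : Nat.card (Cfsg.Out G) = Nat.card (K ≃+* K) := by
  refine (Nat.card_congr (Equiv.ofBijective (fun φ => QuotientGroup.mk (R.aut φ).choose) ⟨fun φ φ' h => ?_, fun α => ?_⟩)).symm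
  · obtain ⟨x, hx⟩ := QuotientGroup.eq.1 h
    obtain ⟨h1, -, h2⟩ := (R.aut φ).choose_spec
    obtain ⟨h3, -, h4⟩ := (R.aut φ').choose_spec
    generalize (R.aut φ).choose = α at *
    generalize (R.aut φ').choose = β at *
    have h5 : ∀ g, α (x * g * x⁻¹) = β g := fun g => by simpa using congrArg α (DFunLike.congr_fun hx g)
    have h6 : x * R.U 1 0 0 * x⁻¹ = R.U 1 0 0 := α.injective (by simp only [h5, h1, h3, map_one, map_zero])
    have h7 : x * R.w * x⁻¹ = R.w := α.injective (by rw [h5, h2, h4])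
    have h8 : x ∈ R.B := R.mem_B_of_conj (R.U_mem 1 0 0) (by simp [R.U_eq_one]) (h6.symm ▸ R.Q_le_B (R.U_mem ..))
    obtain ⟨k, rfl⟩ := R.mem_H_of h8 (by rwa [← mul_inv_eq_iff_eq_mul.1 h7, mul_inv_cancel_right])
    obtain rfl : k = 1 := Units.ext (by simpa using (R.U_comm_D.1 h6).1)
    exact RingEquiv.ext fun t => (R.U_inj (by simpa [h1, h3] using h5 (R.U t 0 0))).1
  · induction α using QuotientGroup.induction_on with
    | H α =>
    obtain ⟨x, φ, rfl⟩ := R.exists_inner_field hq α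
    exact ⟨φ, by rw [QuotientGroup.mk_mul, (QuotientGroup.eq_one_iff (N := Cfsg.Inn G) (MulAut.conj x)).2 ⟨x, rfl⟩, one_mul]⟩

end Ree

end Cfsg.Lib.Twist
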