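/-
Squares of real conjugacy classes: general character-theoretic estimates.
-/
import Cfsg.Agent.Lib.BN.SzChar4

set_option autoImplicit false

namespace Cfsg.Lib.Twist.Sq

open Cfsg Cfsg.Lib.Char Cfsg.Lib.Known Cfsg.Lib.BN Subgroup
open scoped ComplexConjugate IsMulCommutative commutatorElement

variable {G : Type*} [Group G]

/-- real part of the character ratio -/
noncomputable def rat (χ : IrrCharacter G) (g : G) : ℝ := (χ.1 g).re / (χ.1 1).re

theorem deg_pos (χ : IrrCharacter G) : 0 < (χ.1 1).re := by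
  obtain ⟨n, h, e⟩ := χ.2.exists_pos_degree
  rw [e, Complex.natCast_re]; exact_mod_cast h

theorem deg_eq (χ : IrrCharacter G) : χ.1 1 = ((χ.1 1).re : ℂ) := by
  obtain ⟨n, -, e⟩ := χ.2.exists_pos_degree
  rw [e, Complex.natCast_re, Complex.ofReal_natCast]

theorem rat_conj (χ : IrrCharacter G) {g h : G} (e : IsConj g h) : rat χ g = rat χ h := by
  rw [rat, rat, χ.2.isClassFunction.eq_of_isConj e]

theorem le_rat {χ : IrrCharacter G} {g : G} {c : ℝ} : c ≤ rat χ g ↔ c * (χ.1 1).re ≤ (χ.1 g).re :=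
  le_div_iff₀ (deg_pos χ)

variable [Finite G]

theorem re_inv (χ : IrrCharacter G) (g : G) : (χ.1 g⁻¹).re = (χ.1 g).re := by
  rw [χ.2.isCharacter.apply_inv, Complex.conj_re]

theorem abs_re_le (χ : IrrCharacter G) {g : G} {b : ℝ} (hb : 0 ≤ b)
    (h : (Nat.card (centralizer ({g} : Set G)) : ℝ) ≤ b ^ 2) : |(χ.1 g).re| ≤ b :=
  (Complex.abs_re_le_norm _).trans (pow_le_pow_left₀ (norm_nonneg _) le_rfl 2 |>.trans
    ((χ.2.norm_sq_le_card_centralizer g).trans h) |> (pow_le_pow_iff_left₀ (norm_nonneg _) hb two_ne_zero).1)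

omit [Finite G] in
theorem sum_re_nonneg {A : Type*} [Group A] [Fintype A] (f : A →* G) (χ : IrrCharacter G) :
    0 ≤ ∑ a, (χ.1 (f a)).re := by
  obtain ⟨n, hn⟩ := (χ.2.isCharacter.comp f).classInner_nat isCharacter_one
  have := congrArg Complex.re (card_mul_classInner (fun a => χ.1 (f a)) fun _ => 1)
  rw [hn, ← Nat.cast_mul, Complex.natCast_re, Complex.re_sum] at this
  simp only [map_one, mul_one] at this
  exact this ▸ Nat.cast_nonneg _

open scoped Classical in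
/-- the non-principal part of the class multiplication coefficient -/
noncomputable def Phi (x g : G) : ℝ := ∑ χ ∈ Finset.univ.erase (principalIrr G), ‖χ.1 x‖ ^ 2 * rat χ g

theorem exists_of_Phi {x g : G} (hx : IsConj x x⁻¹) (h : -1 < Phi x g) :
    ∃ u v : G, g = (u * x * u⁻¹) * (v * x * v⁻¹) := by
  classical
  have h1 := congrArg Complex.re (card_conj_pairs x x g)
  have h2 : ∀ χ : IrrCharacter G, (χ.1 x⁻¹ * χ.1 x⁻¹ * χ.1 g / χ.1 1).re = ‖χ.1 x‖ ^ 2 * rat χ g := fun χ => by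
    have : χ.1 x⁻¹ * χ.1 x⁻¹ = ((‖χ.1 x‖ ^ 2 : ℝ) : ℂ) := by
      nth_rewrite 1 [← χ.2.isClassFunction.eq_of_isConj hx]
      rw [χ.2.isCharacter.apply_inv, Complex.mul_conj, Complex.normSq_eq_norm_sq]
    rw [this, deg_eq χ, Complex.div_ofReal_re, Complex.re_ofReal_mul, rat, mul_div_assoc]
  rw [Complex.natCast_re, ← Complex.ofReal_natCast, Complex.re_ofReal_mul, Complex.re_sum, Finset.sum_congr rfl fun χ _ => h2 χ,
    ← Finset.add_sum_erase _ _ (Finset.mem_univ (principalIrr G))] at h1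
  have h3 : ‖(principalIrr G).1 x‖ ^ 2 * rat (principalIrr G) g = 1 := by simp [rat, principalIrr]
  have h0 : (0 : ℝ) < Nat.card G := by exact_mod_cast Nat.card_pos
  have h4 : (0 : ℝ) < Nat.card {p : G × G // p.1 * x * p.1⁻¹ * (p.2 * x * p.2⁻¹) = g} := by
    rw [h1, h3]; exact mul_pos h0 (by rw [Phi] at h; linarith)
  obtain ⟨⟨⟨u, v⟩, e⟩⟩ := (Nat.card_pos_iff.1 (by exact_mod_cast h4)).1
  exact ⟨u, v, e.symm⟩

open scoped Classical in
theorem sum_w (x : G) : ∑ χ ∈ Finset.univ.erase (principalIrr G), ‖χ.1 x‖ ^ 2 =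
    (Nat.card (centralizer ({x} : Set G)) : ℝ) - 1 := by
  rw [← sum_norm_sq_eq_card_centralizer, ← Finset.add_sum_erase _ _ (Finset.mem_univ (principalIrr G))]
  simp [principalIrr]

open scoped Classical in
/-- weight of the non-exceptional characters -/
noncomputable def Wt (x : G) (P : IrrCharacter G → Prop) : ℝ :=
  ∑ χ ∈ (Finset.univ.erase (principalIrr G)).filter (¬ P ·), ‖χ.1 x‖ ^ 2

theorem Wt_conj (x y : G) (P : IrrCharacter G → Prop) : Wt (y⁻¹ * x * y) P = Wt x P :=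
  Finset.sum_congr rfl fun χ _ => by rw [χ.2.isClassFunction.conj_eq']

open scoped Classical in
theorem Wt_le {x : G} {P : IrrCharacter G → Prop} {f : IrrCharacter G → ℝ} (h0 : ∀ χ, 0 ≤ f χ)
    (h : ∀ χ, ¬ P χ → ‖χ.1 x‖ ^ 2 = f χ) : Wt x P ≤ ∑ χ, f χ - f (principalIrr G) := by
  rw [Wt, Finset.sum_congr rfl fun χ hχ => h χ (Finset.mem_filter.1 hχ).2, ← Finset.sum_erase_eq_sub (Finset.mem_univ _)]
  exact Finset.sum_le_sum_of_subset_of_nonneg (Finset.filter_subset _ _) fun _ _ _ => h0 _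

open scoped Classical in
theorem Phi_ge {x g : G} (P : IrrCharacter G → Prop) {c₁ c₂ W₁ W₂ : ℝ} (h1 : 0 ≤ c₁) (h2 : 0 ≤ c₂)
    (hc₁ : ∀ χ, χ ≠ principalIrr G → P χ → -c₁ ≤ rat χ g) (hc₂ : ∀ χ, χ ≠ principalIrr G → ¬ P χ → -c₂ ≤ rat χ g)
    (hW₁ : (Nat.card (centralizer ({x} : Set G)) : ℝ) - 1 ≤ W₁)
    (hW₂ : Wt x P ≤ W₂) :
    -(c₁ * W₁ + c₂ * W₂) ≤ Phi x g := by
  have h3 : ∑ χ ∈ (Finset.univ.erase (principalIrr G)).filter P, ‖χ.1 x‖ ^ 2 ≤ W₁ :=
    (Finset.sum_le_sum_of_subset_of_nonneg (Finset.filter_subset _ _) fun _ _ _ => by positivity).trans ((sum_w x).le.trans hW₁)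
  rw [Wt] at hW₂
  rw [Phi, ← Finset.sum_filter_add_sum_filter_not _ P, neg_add]
  refine add_le_add ((neg_le_neg (mul_le_mul_of_nonneg_left h3 h1)).trans ?_)
    ((neg_le_neg (mul_le_mul_of_nonneg_left hW₂ h2)).trans ?_) <;> rw [← neg_mul, Finset.mul_sum] <;>
    refine Finset.sum_le_sum fun χ hχ => ?_ <;> simp only [Finset.mem_filter, Finset.mem_erase] at hχ <;> rw [mul_comm]
  exacts [mul_le_mul_of_nonneg_left (hc₁ χ hχ.1.1 hχ.2) (by positivity),
    mul_le_mul_of_nonneg_left (hc₂ χ hχ.1.1 hχ.2) (by positivity)]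

theorem Phi_gt {x g : G} {c W : ℝ} (h1 : 0 ≤ c) (hc : ∀ χ, χ ≠ principalIrr G → -c ≤ rat χ g)
    (hW : (Nat.card (centralizer ({x} : Set G)) : ℝ) - 1 ≤ W) (h : c * W < 1) : -1 < Phi x g := by
  have := Phi_ge (x := x) (g := g) (fun _ => True) (W₂ := 0) h1 le_rfl (fun χ h _ => hc χ h) (by simp) hW (by simp [Wt])
  linarith

/-- the borderline case, using a Steinberg character -/
theorem Phi_gt_st {x g : G} {q : ℝ} (hq : 1 < q) (S : IrrCharacter G) (hS : S.1 x = -1) (hS' : S.1 g = 0)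
    (hS1 : (S.1 1).re ≠ q) (hx : x ≠ 1) (hxg : ¬ IsConj x g) (hg : IsConj g g⁻¹)
    (hc : ∀ χ : IrrCharacter G, 0 ≤ (χ.1 1).re + (q - 1) * (χ.1 g).re)
    (hW : (Nat.card (centralizer ({x} : Set G)) : ℝ) ≤ q + 1) : -1 < Phi x g := by
  classical
  have hS0 : S ≠ principalIrr G := fun e => by simp [e, principalIrr] at hS'
  have h1 : ∀ χ : IrrCharacter G, (q - 1) * rat χ g = ((χ.1 1).re + (q - 1) * (χ.1 g).re) / (χ.1 1).re - 1 := fun χ => by
    have := (deg_pos χ).ne'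
    rw [rat]; field_simp; ring
  have h2 : (q - 1) * Phi x g = ∑ χ ∈ (Finset.univ.erase (principalIrr G)).erase S,
      ‖χ.1 x‖ ^ 2 * (((χ.1 1).re + (q - 1) * (χ.1 g).re) / (χ.1 1).re) + 1 -
      ((Nat.card (centralizer ({x} : Set G)) : ℝ) - 1) := by
    rw [← sum_w, Phi, Finset.mul_sum, Finset.sum_congr rfl fun χ _ => by rw [mul_left_comm, h1, mul_sub, mul_one],
      Finset.sum_sub_distrib, ← Finset.sum_erase_add _ _ (Finset.mem_erase.2 ⟨hS0, Finset.mem_univ S⟩)]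
    simp [hS, hS', (deg_pos S).ne']
  have h3 : ∀ χ ∈ (Finset.univ.erase (principalIrr G)).erase S,
      0 ≤ ‖χ.1 x‖ ^ 2 * (((χ.1 1).re + (q - 1) * (χ.1 g).re) / (χ.1 1).re) := fun χ _ =>
    mul_nonneg (by positivity) (div_nonneg (hc χ) (deg_pos χ).le)
  have h4 := (Finset.sum_nonneg h3).lt_of_ne' fun e => hS1 (by
    rw [Finset.sum_eq_zero_iff_of_nonneg h3] at e
    have hr : ∀ χ : IrrCharacter G, conj (χ.1 g) = ((χ.1 g).re : ℂ) := fun χ => by
      have : conj (χ.1 g) = χ.1 g := by rw [← χ.2.isCharacter.apply_inv, ← χ.2.isClassFunction.eq_of_isConj hg]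
      rw [this, Complex.conj_eq_iff_re.1 this]
    have e1 := column_orthogonality_of_not_isConj hxg
    have e2 := sum_degree_mul_apply x
    rw [regChar_of_ne hx] at e2
    have e3 : ∑ χ : IrrCharacter G, χ.1 x * (((χ.1 1).re + (q - 1) * (χ.1 g).re : ℝ) : ℂ) = 0 := by
      rw [show (0 : ℂ) = ∑ χ : IrrCharacter G, χ.1 1 * χ.1 x + (q - 1) * ∑ χ : IrrCharacter G, χ.1 x * conj (χ.1 g) by
        rw [e1, e2]; simp, Finset.mul_sum, ← Finset.sum_add_distrib]
      refine Finset.sum_congr rfl fun χ _ => ?_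
      rw [hr]
      nth_rewrite 2 [deg_eq χ]
      push_cast; ring
    rw [← Finset.add_sum_erase _ _ (Finset.mem_univ (principalIrr G)),
      ← Finset.add_sum_erase _ _ (Finset.mem_erase.2 ⟨hS0, Finset.mem_univ S⟩), Finset.sum_eq_zero fun χ hχ => by
        rcases mul_eq_zero.1 (e χ hχ) with h | h
        · simp [norm_eq_zero.1 (pow_eq_zero_iff two_ne_zero |>.1 h)]
        · rw [(div_eq_zero_iff.1 h).resolve_right (deg_pos χ).ne']; simp] at e3
    have e4 := congrArg Complex.re e3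
    simp [principalIrr, hS, hS'] at e4
    linarith)
  nlinarith

/-- positivity on a dihedral-type subgroup -/
theorem dih_nonneg {T : Subgroup G} [Fintype T] {j : G} (hj : j * j = 1) (hT : ∀ t ∈ T, j * t * j = t⁻¹) (hjT : j ∉ T)
    (χ : IrrCharacter G) : 0 ≤ ∑ t : T, (χ.1 t).re + ∑ t : T, (χ.1 (t * j)).re := by
  classical
  have hi : j⁻¹ = j := inv_eq_of_mul_eq_one_right hj
  have h1 : ∀ t ∈ T, j * t * j ∈ T := fun t ht => hT t ht ▸ inv_mem ht
  let D : Subgroup G :=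
    { carrier := {g | g ∈ T ∨ g * j ∈ T}
      one_mem' := Or.inl (one_mem _)
      mul_mem' := by
        rintro a b (ha | ha) (hb | hb)
        · exact Or.inl (mul_mem ha hb)
        · exact Or.inr (mul_assoc a b j ▸ mul_mem ha hb)
        · exact Or.inr (by simpa [mul_assoc, ← mul_assoc j j, hj] using mul_mem ha (h1 b hb))
        · exact Or.inl (by simpa [mul_assoc, ← mul_assoc j j, hj] using mul_mem ha (h1 _ hb))
      inv_mem' := by
        rintro a (ha | ha)
        · exact Or.inl (inv_mem ha)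
        · exact Or.inr (by simpa [mul_assoc, ← mul_assoc j j, hj, hi] using h1 _ (inv_mem ha)) }
  have := Fintype.ofFinite D
  have h2 := sum_re_nonneg D.subtype χ
  rwa [← Fintype.sum_bijective (fun p : T ⊕ T => (p.elim (fun t : T => ⟨t, Or.inl t.2⟩)
    (fun t : T => ⟨t * j, Or.inr (by simp [mul_assoc, hj])⟩) : D)) ⟨?_, ?_⟩
    (fun p : T ⊕ T => p.elim (fun t : T => (χ.1 t).re) fun t : T => (χ.1 (t * j)).re) _ (by rintro (t | t) <;> rfl),
    Fintype.sum_sum_type] at h2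
  · rintro (a | a) (b | b) e <;> simp only [Sum.elim_inl, Sum.elim_inr, Subtype.mk.injEq] at e
    · rw [Subtype.ext e]
    · exact absurd ((mul_mem_cancel_left b.2).1 (e ▸ a.2)) hjT
    · exact absurd ((mul_mem_cancel_left a.2).1 (e ▸ b.2)) hjT
    · rw [Subtype.ext (mul_right_cancel e)]
  · rintro ⟨a, ha | ha⟩
    · exact ⟨Sum.inl ⟨a, ha⟩, rfl⟩
    · exact ⟨Sum.inr ⟨_, ha⟩, Subtype.ext (by simp [mul_assoc, hj])⟩

/-- a character concentrated on `R`, lying over a linear character of `Z` -/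
theorem exists_ramified {Z R : Subgroup G} [Z.Normal] (hZR : Z ≤ R) (ν : G → ℂ) (h0 : ν 1 = 1)
    (hν : ∀ a ∈ Z, ∀ b ∈ Z, ν (a * b) = ν a * ν b) (hc : ∀ a ∈ Z, ∀ y, ν (y * a * y⁻¹) = ν a)
    (h2 : ∀ g ∈ R, ∀ h, ⁅g, h⁆ ∈ Z ∧ ν ⁅g, h⁆ = 1) (h3 : ∀ g, g ∉ R → ∃ h, ⁅g, h⁆ ∈ Z ∧ ν ⁅g, h⁆ ≠ 1) :
    ∃ (χ : G → ℂ) (n : ℕ), IsCharacter G χ ∧ n ^ 2 = R.index ∧ (∀ z ∈ Z, χ z = n * ν z) ∧ ∀ g, g ∉ R → χ g = 0 := by
  classical
  have := Fintype.ofFinite G
  let f : Z →* ℂ := ⟨⟨fun z => ν z, h0⟩, fun a b => hν a a.2 b b.2⟩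
  have hf := Sz.isIrr_hom f
  obtain ⟨χ, hχ, h4⟩ := hf.exists_lying_over
  have h5 : R ≤ charCenter χ := fun g hg => hχ.mem_charCenter_iff_commutator.2 fun y =>
    hf.isCharacter.indFun.charKer_le_of_classInner_ne_zero hχ (by
      rwa [classInner_indFun_left _ hχ.isClassFunction, Ne, classInner_eq_zero_comm])
      (hf.isCharacter.indFun.mem_charKer.2 (by
        rw [indFun_of_normal f ⟨_, (h2 g hg y).1⟩, show indFun Z f 1 = _ from indFun_of_normal f 1]
        refine congrArg _ (Finset.sum_congr rfl fun x _ => ?_)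
        exact (hc _ (h2 g hg y).1 x).trans ((h2 g hg y).2.trans (by simp [f, h0]))))
  obtain ⟨lam, h6⟩ := exists_linear_of_le_charCenter hχ.apply_one_ne_zero (hZR.trans h5)
  have h7 : (fun z => (lam z : ℂ)) = f := (isIrrCharacter_linear lam).eq_of_classInner_ne_zero hf fun e => h4 (by
    rw [show (fun h : Z => χ h) = χ 1 • fun z => (lam z : ℂ) from
      funext fun z => by simpa [mul_comm] using h6 z 1, classInner_smul_left, e, mul_zero])
  have h8 : ∀ z ∈ Z, ∀ y, χ (z * y) = ν z * χ y := fun z hz y =>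
    (h6 ⟨z, hz⟩ y).trans (congrArg (· * χ y) (congrFun h7 _))
  have h9 : ∀ g, g ∉ R → χ g = 0 := fun g hg => by
    obtain ⟨h, e1, e2⟩ := h3 g hg
    have := h8 _ e1 (h * g * h⁻¹)
    rw [hχ.isClassFunction.conj_eq, show ⁅g, h⁆ * (h * g * h⁻¹) = g * h * g⁻¹ * (h⁻¹ * h) * g * h⁻¹ by
      rw [commutatorElement_def]; group, show g * h * g⁻¹ * (h⁻¹ * h) * g * h⁻¹ = g by group] at this
    exact (mul_left_eq_self₀.1 this.symm).resolve_left e2
  obtain ⟨n, hn⟩ := hχ.isCharacter.exists_nat_degree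
  refine ⟨χ, n, hχ.isCharacter, ?_, fun z hz => by simpa [hn, mul_comm] using h8 z hz 1, h9⟩
  exact_mod_cast hn ▸ (hχ.degree_sq_eq_index_iff h5).2 h9

open scoped Classical in
/-- exceptional characters of a TI-torus -/
theorem exists_exc [Fintype G] {T N : Subgroup G} {e : ℕ} (h : ATI T N e) {Γ : G → ℂ} (hΓ : IsGeneralizedCharacter G Γ)
    (h0 : ∀ t ∈ T, t ≠ 1 → Γ t = 0) {d : ℕ} (hd1 : d ≠ 1) (hd : Γ 1 = T.index + d)
    (hn : Nat.card T * classInner Γ Γ = T.index + 2 * d + e) {x : G} (hx : x ∈ T) (h1 : x ≠ 1) :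
    Wt x (fun χ : IrrCharacter G => χ.1 1 = (d : ℂ) ∧ ∀ g, (∀ y, y⁻¹ * g * y ∉ T) → χ.1 g = Γ g) ≤ (e : ℝ) - 1 := by
  have := h.comm
  have hT := Cfsg.Lib.Char.card_ne_zero T
  have h2 : ∀ φ : T → ℂ, φ 1 = 1 → Nat.card T * classInner Γ (indFun T φ) = T.index + d := fun φ hφ => by
    rw [classInner_indFun_right _ hΓ.isClassFunction, card_mul_classInner, Finset.sum_eq_single 1
      (fun t _ ht => by rw [h0 t t.2 fun e => ht (Subtype.ext e), zero_mul]) (by simp), hφ, coe_one, hd]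
    simp
  have h3 : ∀ φ : T → ℂ, IsCharacter T φ → φ 1 = 1 → Nat.card T * classInner (Γ - indFun T φ) (Γ - indFun T φ) =
      e - T.index + Nat.card T * classInner (indFun T φ) (indFun T φ) := fun φ hφ h1 => by
    rw [classInner_sub_left, classInner_sub_right, classInner_sub_right,
      hφ.indFun.isGeneralizedCharacter.classInner_comm hΓ]
    linear_combination hn - 2 * h2 φ h1
  have h4 : ∀ χ : IrrCharacter G, ¬ (χ.1 1 = d ∧ ∀ g, (∀ y, y⁻¹ * g * y ∉ T) → χ.1 g = Γ g) →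
      χ.1 x = -classInner χ.1 (Γ - indFun T fun _ => 1) := fun χ hχ => by
    have h5 : ∀ ψ : IrrCharacter T, ψ ≠ principalIrr T → classInner (fun t : T => χ.1 t) ψ.1 = classInner χ.1 Γ :=
      fun ψ hψ => by
      obtain ⟨θ, hθ⟩ := ψ.2.exists_linear_of_comm mul_comm
      have h6 : IsIrrCharacter G (Γ - indFun T ψ.1) := (hΓ.sub ψ.2.isCharacter.indFun.isGeneralizedCharacter).isIrrCharacter_of_norm_one
        (mul_left_cancel₀ hT (by
          rw [h3 _ ψ.2.isCharacter (by simp [hθ]), hθ]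
          have := h.inner_ind (θ := Ch.of θ) fun e => hψ (Subtype.ext (hθ.trans (funext fun t => congrArg (· t) e)))
          rw [show (fun g => (θ g : ℂ)) = fun x => (Ch.of θ) x from rfl, this]
          field_simp; ring)) (by simp [hd, indFun_one, hθ])
      rw [← classInner_indFun_right _ χ.2.isClassFunction, eq_comm, ← sub_eq_zero, ← classInner_sub_right]
      refine χ.2.classInner_of_ne h6 fun e => hχ ⟨by simp [e, hd, indFun_one, hθ], fun g hg => ?_⟩
      simp [e, indFun_eq_zero_of_forall_notMem _ hg]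
    have h7 := sum_degree_mul_apply (⟨x, hx⟩ : T)
    rw [regChar_of_ne fun e => h1 (congrArg Subtype.val e), Finset.sum_congr rfl fun ψ _ => by
      rw [ψ.2.degree_eq_one_of_comm mul_comm, one_mul]] at h7
    have h8 := (χ.2.isClassFunction.restrict T).apply_eq_sum ⟨x, hx⟩
    rw [← Finset.add_sum_erase _ _ (Finset.mem_univ (principalIrr T))] at h7 h8
    rw [Finset.sum_congr rfl fun ψ hψ => by rw [h5 ψ (Finset.ne_of_mem_erase hψ)], ← Finset.mul_sum] at h8
    rw [classInner_sub_right, classInner_indFun_right _ χ.2.isClassFunction]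
    simp only [principalIrr] at h7 h8
    linear_combination h8 + classInner χ.1 Γ * h7
  have h9 : classInner (Γ - indFun T fun _ => 1) (Γ - indFun T fun _ => 1) = e := mul_left_cancel₀ hT (by
    rw [h3 _ isCharacter_one rfl, classInner_indFun_right _ (isClassFunction_indFun _), card_mul_classInner,
      ← Finset.add_sum_erase _ _ (Finset.mem_univ 1), Finset.sum_congr rfl fun t ht => by
        rw [h.ind_one t.2 fun e => Finset.ne_of_mem_erase ht (Subtype.ext e)]]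
    simp [indFun_one, Finset.card_erase_of_mem, Nat.cast_sub Fintype.card_pos]
    ring)
  have h10 : ∑ χ : IrrCharacter G, ‖classInner χ.1 (Γ - indFun T fun _ => 1)‖ ^ 2 = e := by
    rw [(hΓ.sub isCharacter_one.indFun.isGeneralizedCharacter).isClassFunction.classInner_eq_sum] at h9
    have := congrArg Complex.re h9
    rw [Complex.re_sum, Complex.natCast_re] at this
    rw [← this]
    refine Finset.sum_congr rfl fun χ _ => ?_
    rw [← conj_classInner χ.1, Complex.conj_mul', ← Complex.ofReal_pow, Complex.ofReal_re]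
  have h11 := h4 (principalIrr G) fun e => hd1 (by simpa [principalIrr, eq_comm] using e.1)
  refine (Wt_le (f := fun χ => ‖classInner χ.1 (Γ - indFun T fun _ => 1)‖ ^ 2) (fun _ => by positivity) fun χ hχ => by rw [h4 χ hχ, norm_neg]).trans (le_of_eq ?_)
  rw [h10, ← norm_neg, ← h11]
  simp [principalIrr]

end Cfsg.Lib.Twist.Sq
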