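/-
Small Ree groups: a character induced from the unipotent subgroup, and the Steinberg character.
-/
import Cfsg.Agent.Lib.Twist.ReeSqA
import Cfsg.Agent.Lib.Twist.ReeTori
import Cfsg.Agent.S0157

set_option autoImplicit false

namespace Cfsg.Lib.Twist

open Cfsg Cfsg.Lib.Char Cfsg.Lib.Known Cfsg.Lib.BN Subgroup Sq
open scoped ComplexConjugate commutatorElement

namespace Ree

variable {K : Type*} [Field K] {G : Type*} [Group G] (R : Ree K G)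

local notation "𝔞" => R.D (-1)
local notation "𝔮" => Nat.card K

/-- coordinates on the unipotent subgroup -/
noncomputable def co (g : G) : K × K × K := Function.invFun (fun p : K × K × K => R.U p.1 p.2.1 p.2.2) g

theorem co_U (t u v : K) : R.co (R.U t u v) = (t, u, v) := Function.leftInverse_invFun R.U_injective (t, u, v)

/-- elements of the unipotent subgroup -/
def UQ (t u v : K) : R.Q := ⟨R.U t u v, R.U_mem ..⟩

theorem UQ_cases (x : R.Q) : ∃ t u v, x = R.UQ t u v := let ⟨t, u, v, e⟩ := x.2; ⟨t, u, v, Subtype.ext e.symm⟩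

theorem co_UQ (t u v : K) : R.co (R.UQ t u v) = (t, u, v) := R.co_U ..

theorem UQ_mul (t u v t' u' v' : K) : R.UQ t u v * R.UQ t' u' v' =
    R.UQ (t + t') (u + u' - t * R.σ t') (v + v' - t' * u + t * t' * R.σ t' - t ^ 2 * R.σ t') := Subtype.ext (R.U_mul ..)

theorem UQ_inv (t u v : K) : (R.UQ t u v)⁻¹ = R.UQ (-t) (-u - t * R.σ t) (-v - t * u + t ^ 2 * R.σ t) :=
  Subtype.ext (R.U_inv ..)

theorem UQ_zero : R.UQ 0 0 0 = 1 := Subtype.ext R.U_zero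

theorem sum_UQ [Fintype K] [Fintype R.Q] (f : R.Q → ℂ) : ∑ x, f x = ∑ t, ∑ u, ∑ v, f (R.UQ t u v) := by
  simp only [← Fintype.sum_prod_type']
  refine (Fintype.sum_bijective (fun p : K × K × K => R.UQ p.1 p.2.1 p.2.2) ⟨fun p p' e => ?_, fun x => ?_⟩ _ _
    fun _ => rfl).symm
  · exact R.U_injective (congrArg Subtype.val e)
  · obtain ⟨t, u, v, rfl⟩ := R.UQ_cases x; exact ⟨(t, u, v), rfl⟩

/-- first coordinate -/
noncomputable def fstQ : R.Q →* Multiplicative K := MonoidHom.mk' (fun x => Multiplicative.ofAdd (R.co x).1) fun x y => by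
  obtain ⟨t, u, v, rfl⟩ := R.UQ_cases x
  obtain ⟨t', u', v', rfl⟩ := R.UQ_cases y
  simp [UQ_mul, co_UQ]

theorem fstQ_UQ (t u v : K) : R.fstQ (R.UQ t u v) = Multiplicative.ofAdd t := by simp [fstQ, co_UQ]

/-- centre of the unipotent subgroup -/
def ZQ : Subgroup R.Q where
  carrier := {x | ∃ v, x = R.UQ 0 0 v}
  one_mem' := ⟨0, R.UQ_zero.symm⟩
  mul_mem' := by rintro _ _ ⟨v, rfl⟩ ⟨v', rfl⟩; exact ⟨v + v', by simp [UQ_mul]⟩
  inv_mem' := by rintro _ ⟨v, rfl⟩; exact ⟨-v, by simp [UQ_inv]⟩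

theorem conj_ZQ (y : R.Q) (v : K) : y * R.UQ 0 0 v * y⁻¹ = R.UQ 0 0 v := by
  obtain ⟨t', u', v', rfl⟩ := R.UQ_cases y
  exact mul_inv_eq_iff_eq_mul.2 (by simp [UQ_mul, add_comm])

theorem comm_UQ (t u v t' u' v' : K) : ∃ w, ⁅R.UQ t u v, R.UQ t' u' v'⁆ = R.UQ 0 (t' * R.σ t - t * R.σ t') w :=
  ⟨_, by
    rw [commutatorElement_def, mul_assoc, ← mul_inv_rev, UQ_mul, UQ_mul, UQ_inv, UQ_mul]
    exact Subtype.ext (R.U_congr (by ring) (by simp only [map_neg, map_add]; ring) rfl)⟩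

theorem mem_ker_fstQ {t u v : K} : R.UQ t u v ∈ R.fstQ.ker ↔ t = 0 := by simp [MonoidHom.mem_ker, fstQ_UQ]

/-- the prime field -/
def S3 : Subgroup (Multiplicative K) where
  carrier := {t | t.toAdd ^ 3 = t.toAdd}
  one_mem' := by simp
  mul_mem' {a b} ha hb := by
    simp only [Set.mem_ofPred_eq, toAdd_mul] at ha hb ⊢
    linear_combination ha + hb + (a.toAdd ^ 2 * b.toAdd + a.toAdd * b.toAdd ^ 2) * R.three
  inv_mem' {a} ha := by
    simp only [Set.mem_ofPred_eq, toAdd_inv] at ha ⊢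
    linear_combination -ha

theorem mem_comap_S3 {t u v : K} : R.UQ t u v ∈ R.S3.comap R.fstQ ↔ t ^ 3 = t := by rw [mem_comap, fstQ_UQ]; rfl

theorem cube_eq {t : K} : t ^ 3 = t ↔ t = 0 ∨ t = 1 ∨ t = -1 := by
  rw [← sub_eq_zero, show t ^ 3 - t = t * ((t - 1) * (t + 1)) by ring]
  simp [sub_eq_zero, add_eq_zero_iff_eq_neg]

theorem card_S3 : Nat.card R.S3 = 3 := by
  have h : (1 : K) ≠ -1 := fun e => R.two_ne (by linear_combination e)
  rw [← Nat.card_eq_of_bijective (fun t : ({0, 1, -1} : Set K) => (⟨Multiplicative.ofAdd t, cube_eq.2 t.2⟩ : R.S3))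
    ⟨fun a b e => Subtype.ext (congrArg (·.1.toAdd) e), fun t => ⟨⟨t.1.toAdd, cube_eq.1 t.2⟩, rfl⟩⟩, Nat.card_coe_set_eq]
  exact Set.ncard_eq_three.2 ⟨_, _, _, by simp, by simp, h, rfl⟩

theorem exists_psi [Finite K] : ∃ ψ : AddChar K ℂ, ψ.IsPrimitive ∧ ∀ a, ψ (R.σ a) = ψ a := by
  have : CharP K 3 := ringChar.of_eq (CharP.ringChar_of_prime_eq_zero Nat.prime_three R.three)
  have : Fact (Nat.Prime 3) := ⟨Nat.prime_three⟩
  let _ := ZMod.algebra K 3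
  refine ⟨(ZMod.stdAddChar (N := 3)).compAddMonoidHom (Algebra.trace (ZMod 3) K).toAddMonoidHom,
    AddChar.IsPrimitive.of_ne_one fun e => ?_, fun a => ?_⟩
  · obtain ⟨a, ha⟩ := Algebra.trace_surjective (ZMod 3) K 1
    have := congrArg (· a) e
    simp only [AddChar.compAddMonoidHom_apply, LinearMap.toAddMonoidHom_coe, ha, AddChar.one_apply] at this
    exact one_ne_zero ((ZMod.isPrimitive_stdAddChar 3).zmod_char_eq_one_iff 3 1 |>.1 this)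
  · exact congrArg (ZMod.stdAddChar (N := 3)) (Algebra.trace_eq_of_algEquiv (AlgEquiv.ofRingEquiv (f := RingEquiv.ofBijective R.σ
      (Finite.injective_iff_bijective.1 R.σ.injective)) fun x => by
        simpa using (RingHom.congr_fun (Subsingleton.elim (R.σ.comp (algebraMap (ZMod 3) K)) _) x)) a)

variable [Finite K] [Finite G]

theorem exists_gamma {r : ℕ} (hr : r ^ 2 = 3 * 𝔮) {b : ℕ} : ∃ (ψ : AddChar K ℂ) (γ : R.Q → ℂ), ψ.IsPrimitive ∧ IsCharacter _ γ ∧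
    (∀ t u v, t ≠ 0 → γ (R.UQ t u v) = ψ t) ∧ (∀ u v, u ≠ 0 → γ (R.UQ 0 u v) = 1 + (𝔮 - r) / 2 * (ψ u + ψ (-u))) ∧
    ∀ v, γ (R.UQ 0 0 v) = 1 + (𝔮 - r) + b * 𝔮 * ψ v := by
  obtain ⟨ψ, hψ, hσ⟩ := R.exists_psi
  obtain ⟨c, hc⟩ : ∃ c, ψ c ≠ 1 := by simpa using AddChar.ne_one_iff.1 (hψ one_ne_zero)
  have hq : 0 < 𝔮 := Nat.card_pos
  have : R.ZQ.Normal := ⟨by rintro _ ⟨v, rfl⟩ y; exact ⟨v, R.conj_ZQ ..⟩⟩
  obtain ⟨μ, n, hμ, hn, μ1, μ2⟩ := exists_ramified (Z := R.ZQ) le_rfl (fun x => ψ (R.co x).2.2)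
    (by simp [← R.U_zero, co_U]) (by rintro _ ⟨v, rfl⟩ _ ⟨v', rfl⟩; simp [UQ_mul, co_UQ, AddChar.map_add_eq_mul])
    (by rintro _ ⟨v, rfl⟩ y; rw [conj_ZQ]) (by
      rintro _ ⟨v, rfl⟩ y
      rw [commutatorElement_def, mul_assoc, mul_assoc, ← mul_assoc y, UQ_inv]
      simp only [neg_zero, zero_mul, sub_zero, add_zero, ne_eq, OfNat.ofNat_ne_zero, not_false_eq_true, zero_pow, conj_ZQ]
      exact ⟨mul_mem ⟨_, rfl⟩ ⟨_, rfl⟩, by simp [UQ_mul, co_UQ]⟩) (by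
      intro g hg
      obtain ⟨t, u, v, rfl⟩ := R.UQ_cases g
      by_cases ht : t = 0
      · have hu : u ≠ 0 := fun e => hg ⟨v, by rw [ht, e]⟩
        have : ⁅R.UQ t u v, R.UQ (-(c / u)) 0 0⁆ = R.UQ 0 0 c := by
          rw [commutatorElement_def, mul_assoc, ← mul_inv_rev, mul_inv_eq_iff_eq_mul]
          simp [UQ_mul, ht, hu, add_comm]
        exact ⟨_, by rw [this]; exact ⟨⟨_, rfl⟩, by simpa [co_UQ]⟩⟩
      · have : ⁅R.UQ t u v, R.UQ 0 (c / t) 0⁆ = R.UQ 0 0 c := by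
          rw [commutatorElement_def, mul_assoc, ← mul_inv_rev, mul_inv_eq_iff_eq_mul]
          simp [UQ_mul, mul_div_cancel₀ _ ht, add_comm]
        exact ⟨_, by rw [this]; exact ⟨⟨_, rfl⟩, by simpa [co_UQ]⟩⟩)
  have hn' : n = 𝔮 := Nat.pow_left_injective two_ne_zero (Nat.eq_of_mul_eq_mul_right hq (by
    have := R.ZQ.index_mul_card
    rw [← Nat.card_eq_of_bijective (fun v => (⟨R.UQ 0 0 v, v, rfl⟩ : R.ZQ))
      ⟨fun v v' e => (R.U_inj (congrArg (·.1.1) e)).2.2, by rintro ⟨_, v, rfl⟩; exact ⟨v, rfl⟩⟩, card_Q] at this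
    simp only [hn, this]; ring))
  have h1 : ∀ t t', ψ (t' * R.σ t - t * R.σ t') = ψ (R.σ t' * (t ^ 3 - t)) := fun t t' => by
    rw [mul_sub, sub_eq_add_neg, sub_eq_add_neg (_ * _), ψ.map_add_eq_mul, ψ.map_add_eq_mul, ← hσ, map_mul, R.σσ, mul_comm t]
  obtain ⟨κ, m, hκ, hm, κ1, κ2⟩ := exists_ramified (Z := R.fstQ.ker) (R := R.S3.comap R.fstQ) (MonoidHom.ker_le_comap ..)
    (fun x => ψ (R.co x).2.1) (by simp [← R.U_zero, co_U]) (fun x hx y hy => by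
      obtain ⟨t, u, v, rfl⟩ := R.UQ_cases x
      obtain ⟨t', u', v', rfl⟩ := R.UQ_cases y
      simp [UQ_mul, co_UQ, AddChar.map_add_eq_mul, R.mem_ker_fstQ.1 hx]) (fun x hx y => by
      obtain ⟨t, u, v, rfl⟩ := R.UQ_cases x
      obtain ⟨t', u', v', rfl⟩ := R.UQ_cases y
      simp [UQ_mul, UQ_inv, co_UQ, R.mem_ker_fstQ.1 hx]
      congr 1; ring) (fun x hx y => by
      obtain ⟨t, u, v, rfl⟩ := R.UQ_cases x
      obtain ⟨t', u', v', rfl⟩ := R.UQ_cases y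
      obtain ⟨w, e⟩ := R.comm_UQ t u v t' u' v'
      simp [e, fstQ_UQ, co_UQ, h1, R.mem_comap_S3.1 hx]) (fun x hx => by
      obtain ⟨t, u, v, rfl⟩ := R.UQ_cases x
      have : t ^ 3 - t ≠ 0 := fun e => hx (R.mem_comap_S3.2 (sub_eq_zero.1 e))
      obtain ⟨t', e'⟩ := Finite.injective_iff_surjective.1 R.σ.injective (c / (t ^ 3 - t))
      obtain ⟨w, e⟩ := R.comm_UQ t u v t' 0 0
      exact ⟨_, by rw [e, mem_ker_fstQ, co_UQ, h1, e', div_mul_cancel₀ _ this]; exact ⟨rfl, hc⟩⟩)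
  have hm' : 𝔮 = 3 * m ^ 2 := by
    have := R.S3.index_mul_card
    rw [card_S3, ← index_comap_of_surjective _ (f := R.fstQ) fun t => ⟨R.UQ t.toAdd 0 0, by simp [fstQ_UQ]⟩, ← hm] at this
    exact this.symm.trans (mul_comm ..)
  obtain rfl : r = 3 * m := Nat.pow_left_injective two_ne_zero (by simp only [hr, hm']; ring)
  obtain ⟨a, ha⟩ : Odd m := by
    have := R.q_mod.1
    rw [← Nat.odd_pow_iff two_ne_zero, Nat.odd_iff]; omega
  have hl : ∀ d, IsCharacter R.Q fun x => ψ (d * (R.co x).1) := fun d =>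
    (Sz.isIrr_hom ((ψ.mulShift d).toMonoidHom.comp R.fstQ)).isCharacter
  have hκ' := hκ.mul ((isCharacter_one.add (hl c)).add (hl (-c)))
  have h2 : 1 + ψ c + ψ (-c) = 0 := by
    have e1 : ψ (-c) = ψ c * ψ c := by rw [← ψ.map_add_eq_mul]; congr 1; linear_combination -c * R.three
    have e2 : ψ c * ψ (-c) = 1 := by rw [← ψ.map_add_eq_mul]; simp
    exact (mul_eq_zero.1 (show (ψ c - 1) * (1 + ψ c + ψ (-c)) = 0 by linear_combination e2 - e1)).resolve_left (sub_ne_zero.2 hc)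
  generalize hK : (κ * ((fun _ => 1) + (fun x : R.Q => ψ (c * (R.co x).1)) + fun x : R.Q => ψ (-c * (R.co x).1))) = κ' at hκ'
  have h3 : ∀ t u v, t ≠ 0 → κ' (R.UQ t u v) = 0 := fun t u v ht => by
    rw [← hK, Pi.mul_apply, mul_eq_zero]
    by_cases h : t ^ 3 = t
    · right
      rcases (cube_eq.1 h).resolve_left ht with rfl | rfl <;> simp [co_UQ] <;> linear_combination h2
    · exact Or.inl (κ2 _ fun e => h (R.mem_comap_S3.1 e))
  have h4 : ∀ u v, κ' (R.UQ 0 u v) = 3 * m * ψ u := fun u v => by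
    rw [← hK, Pi.mul_apply, κ1 _ (R.mem_ker_fstQ.2 rfl)]; simp [co_UQ]; ring
  have h5 : ∀ t u v, t ≠ 0 ∨ u ≠ 0 → μ (R.UQ t u v) = 0 := fun t u v h => μ2 _ fun ⟨w, e⟩ => by
    have := R.U_inj (congrArg Subtype.val e); tauto
  have h6 : ((𝔮 : ℂ) - (3 * m : ℕ)) = 2 * a * (3 * m) := by rw [hm', ha]; push_cast; ring
  refine ⟨ψ, _, hψ, ((hl 1).add ((hκ'.add hκ'.conj).nsmul a)).add (hμ.nsmul b), fun t u v ht => ?_, fun u v hu => ?_, fun v => ?_⟩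
  · simp [co_UQ, h3 _ _ _ ht, h5 _ _ _ (Or.inl ht)]
  · simp only [Pi.add_apply, Pi.smul_apply, co_UQ, h4, h5 _ _ _ (Or.inr hu), h6, map_mul, AddChar.map_neg_eq_conj]
    simp [Complex.conj_ofNat]; ring
  · simp only [Pi.add_apply, Pi.smul_apply, co_UQ, h4, μ1 _ ⟨_, rfl⟩, h6, map_mul, hn']
    simp [Complex.conj_ofNat]; ring

omit [Finite K] in
theorem indQ_apply [Fintype G] [Fintype Kˣ] {φ : R.Q → ℂ} (hφ : IsClassFunction _ φ) {t u v : K} (h : R.U t u v ≠ 1) :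
    indFun R.Q φ (R.U t u v) = ∑ k : Kˣ, φ (R.UQ (k * t) (k * R.σ k * u) (k ^ 2 * R.σ k * v)) := by
  have := Fintype.ofFinite R.B
  have := Fintype.ofFinite R.Q
  rw [indFun_eq_sum_of_TI R.B φ fun x hx => by
      simpa using inv_mem (R.mem_B_of_conj (g := x⁻¹) (R.U_mem t u v) h (by simpa using R.Q_le_B hx)),
    ← Fintype.sum_bijective (fun p : R.Q × Kˣ => (⟨(p.1 * R.D p.2)⁻¹, inv_mem ⟨_, p.1.2, _, rfl⟩⟩ : R.B)) ⟨?_, ?_⟩
      (fun p => φ (R.UQ (p.2 * t) (p.2 * R.σ p.2 * u) (p.2 ^ 2 * R.σ p.2 * v))), Fintype.sum_prod_type]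
  · rw [Finset.sum_eq_card_nsmul (b := ∑ k : Kˣ, φ (R.UQ (k * t) (k * R.σ k * u) (k ^ 2 * R.σ k * v))) fun _ _ => rfl,
      Finset.card_univ, ← Nat.card_eq_fintype_card, nsmul_eq_mul, inv_mul_cancel_left₀ (Cfsg.Lib.Char.card_ne_zero _)]
  · rintro ⟨y, k⟩
    simp only [inv_inv, _root_.mul_inv_rev]
    rw [show (y : G) * R.D k * R.U t u v * ((R.D k)⁻¹ * (y : G)⁻¹) = y * (R.D k * R.U t u v * (R.D k)⁻¹) * (y : G)⁻¹ by group,
      hφ.extendByZero_conj _ y.2, D_U, extendByZero_of_mem]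
    rfl
  · rintro ⟨y, k⟩ ⟨y', k'⟩ e
    obtain ⟨e1, rfl⟩ := R.QD_inj y.2 y'.2 (inv_injective (congrArg Subtype.val e))
    rw [Subtype.ext e1]
  · intro x
    obtain ⟨y, hy, k, e⟩ := inv_mem x.2
    exact ⟨(⟨y, hy⟩, k), Subtype.ext (by simp [e])⟩

omit [Finite G] in
theorem sum_mul_σ [Fintype Kˣ] (F : K → ℂ) : ∑ k : Kˣ, (F (k * R.σ k) + F (-(k * R.σ k))) = 2 * ∑ k : Kˣ, F k := by
  let f : ℤˣ × Kˣ →* Kˣ := (Units.map (Int.castRingHom K : ℤ →* K)).coprod (MonoidHom.id _ * Units.map (R.σ : K →* K))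
  have hf : Function.Surjective f := fun k => by
    obtain ⟨c, hc⟩ := R.sq_or k
    obtain ⟨t, ht⟩ := R.exists_mul_σ c
    have h0 : t ≠ 0 := by rintro rfl; exact pow_ne_zero 2 c.ne_zero (by simpa using ht.symm)
    rcases hc with rfl | rfl
    exacts [⟨(1, Units.mk0 t h0), Units.ext (by simp [f, ht])⟩, ⟨(-1, Units.mk0 t h0), Units.ext (by simp [f, ht])⟩]
  have h1 := sum_comp_surjective f hf fun _ => 1
  have h2 := sum_comp_surjective f hf fun k => F k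
  simp only [Finset.sum_const, Finset.card_univ, Fintype.card_prod, Fintype.card_units_int, nsmul_eq_mul, mul_one,
    Nat.cast_mul] at h1
  rw [← mul_right_cancel₀ (by simp) h1, Fintype.sum_prod_type, UnitsInt.univ, Finset.sum_pair (by decide)] at h2
  simpa [f, Finset.sum_add_distrib] using h2

theorem exists_Gamma [Fintype G] {r : ℕ} (hr : r ^ 2 = 3 * 𝔮) (hq : r ≤ 𝔮) : ∃ Γ : G → ℂ, IsCharacter G Γ ∧
    (∀ g, g ∉ cov (R.Q : Set G) → Γ g = 0) ∧ Γ (R.U 0 0 1) = -(𝔮 + 1 - r) ∧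
    Γ 1 = (𝔮 ^ 3 + 1) * (𝔮 - 1) * (𝔮 + 1) * (𝔮 + 1 - r) ∧ 𝔮 ^ 3 * classInner Γ Γ =
      𝔮 ^ 2 + 𝔮 * (r - 1) ^ 2 + (𝔮 + 1 - r) ^ 2 + (𝔮 ^ 3 + 1) * (𝔮 - 1) * ((𝔮 + 1) * (𝔮 + 1 - r)) ^ 2 := by
  classical
  have := Fintype.ofFinite K
  have := Fintype.ofFinite R.Q
  obtain ⟨ψ, γ, hψ, hγ, h1, h2, h3⟩ := R.exists_gamma hr (b := 𝔮 - r + 1)
  rw [Nat.cast_add_one, Nat.cast_sub hq] at h3
  have hc : (Fintype.card K : ℂ) = 𝔮 := by simp
  have hc' : (Fintype.card Kˣ : ℂ) = 𝔮 - 1 := by rw [Fintype.card_units, Nat.cast_pred Fintype.card_pos, hc]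
  have h4 : ∀ t, t ≠ 0 → ∑ k : Kˣ, ψ (k * t) = -1 := fun t ht => by
    simp [Sz.sum_units fun k => ψ (k * t), AddChar.sum_mulShift _ hψ, ht]
  have h5 : ∀ t u v, t ≠ 0 → indFun R.Q γ (R.U t u v) = -1 := fun t u v ht => by
    rw [R.indQ_apply hγ.isClassFunction (by simp [U_eq_one, ht]), ← h4 t ht]
    exact Finset.sum_congr rfl fun k _ => h1 _ _ _ (by simp [ht])
  have h6 : ∀ u v, u ≠ 0 → indFun R.Q γ (R.U 0 u v) = r - 1 := fun u v hu => by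
    rw [R.indQ_apply hγ.isClassFunction (by simp [U_eq_one, hu]), Finset.sum_congr rfl fun k _ => by
      rw [mul_zero, h2 _ _ (by simp [hu]), ← neg_mul], Finset.sum_add_distrib, ← Finset.mul_sum,
      R.sum_mul_σ fun k => ψ (k * u), h4 u hu]
    simp [hc']
  have h7 : ∀ v, v ≠ 0 → indFun R.Q γ (R.U 0 0 v) = -(𝔮 + 1 - r) := fun v hv => by
    rw [R.indQ_apply hγ.isClassFunction (by simp [U_eq_one, hv]), Finset.sum_congr rfl fun k _ => by
      rw [mul_zero, mul_zero, h3], Finset.sum_add_distrib, ← Finset.mul_sum, Sz.sum_units fun k => ψ (k ^ 2 * R.σ k * v),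
      (Finite.surjective_iff_bijective.1 R.exists_sq_σ).sum_comp fun k => ψ (k * v)]
    simp [hc', AddChar.sum_mulShift _ hψ, hv]; ring
  have h8 : indFun R.Q γ 1 = (𝔮 ^ 3 + 1) * (𝔮 - 1) * (𝔮 + 1) * (𝔮 + 1 - r) := by
    have e : R.Q.index = (𝔮 ^ 3 + 1) * (𝔮 - 1) := index_eq_of_mul (by rw [R.card_G, card_Q]; ring)
    rw [indFun_one, ← UQ_zero, h3, e, Nat.cast_mul, Nat.cast_pred Nat.card_pos]
    simp; ring
  refine ⟨_, hγ.indFun, fun g hg => indFun_eq_zero_of_forall_notMem _ fun x hx => hg ⟨x, hx⟩, h7 1 one_ne_zero, h8, ?_⟩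
  have h9 : ∀ f : K → ℂ, ∑ a, f a = f 0 + ∑ k : Kˣ, f k := fun f => by rw [Sz.sum_units]; ring
  have h10 : ∑ k : Kˣ, ψ k = -1 := by simpa using h4 1 one_ne_zero
  have h11 : ∑ k : Kˣ, ψ (-k) = -1 := by simpa using h4 (-1) (by simp)
  have h12 := h3 0
  rw [UQ_zero] at h12
  rw [classInner_indFun_left _ hγ.indFun.isClassFunction, show (𝔮 : ℂ) ^ 3 * classInner γ _ = Nat.card R.Q * _ by
    rw [card_Q, Nat.cast_pow], card_mul_classInner, sum_UQ, h9, h9, h9, UQ_zero, h12]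
  simp only [UQ, h5 _ _ _ (Units.ne_zero _), h6 _ _ (Units.ne_zero _), h7 _ (Units.ne_zero _)]
  simp only [← UQ.eq_1, h1 _ _ _ (Units.ne_zero _), h2 _ _ (Units.ne_zero _), h3, coe_one, h8]
  simp only [← Finset.sum_mul, Finset.sum_add_distrib, ← Finset.mul_sum, h10, h11, Finset.sum_const, Finset.card_univ,
    nsmul_eq_mul, hc, hc', map_mul, map_add, map_sub, map_pow, map_neg, map_one, map_natCast, ψ.map_zero_eq_one]
  ring

theorem exists_St : ∃ S : IrrCharacter G, S.1 1 = 𝔮 ^ 3 ∧ S.1 (R.U 0 0 1) = 0 ∧ ∀ x, x ∉ cov (R.B : Set G) → S.1 x = -1 := by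
  have h0 : Nat.card (G ⧸ R.B) = 𝔮 ^ 3 + 1 := R.index_B
  have h1 : ∀ a b : G ⧸ R.B, a ≠ b → ∃ g : G, g • a = (1 : G) ∧ g • b = (R.w : G) := fun a b => by
    refine QuotientGroup.induction_on a fun a => QuotientGroup.induction_on b fun b h => ?_
    obtain ⟨x, hx, k, y, hy, e⟩ := (R.bruhat (a⁻¹ * b)).resolve_left fun e => h (QuotientGroup.eq.2 e)
    refine ⟨(x * R.D k)⁻¹ * a⁻¹, QuotientGroup.eq.2 ?_, QuotientGroup.eq.2 ?_⟩
    · simpa using mul_mem (R.Q_le_B hx) (R.D_mem_B k)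
    · simp only [smul_eq_mul, mul_assoc _ a⁻¹, ← e]
      simpa [mul_assoc] using R.Q_le_B hy
  refine ⟨⟨_, (Cfsg.Agent.S0157.result (G ⧸ R.B) (h0 ▸ Nat.succ_le_succ (pow_pos Nat.card_pos 3))).2
    (MulAction.is_two_pretransitive_iff.2 fun {a b c d} h h' => ?_)⟩, ?_, ?_, fun x hx => ?_⟩
  · obtain ⟨g, e1, e2⟩ := h1 a b h
    obtain ⟨g', e3, e4⟩ := h1 c d h'
    exact ⟨g'⁻¹ * g, by rw [mul_smul, e1, ← e3, inv_smul_smul], by rw [mul_smul, e2, ← e4, inv_smul_smul]⟩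
  · simp [h0]
  · have : MulAction.fixedBy (G ⧸ R.B) (R.U 0 0 1) = {((1 : G) : G ⧸ R.B)} := Set.eq_singleton_iff_unique_mem.2
      ⟨QuotientGroup.eq.2 (by simpa using R.Q_le_B (R.U_mem ..)), fun a => QuotientGroup.induction_on a fun a h =>
        QuotientGroup.eq.2 (by
          simpa using R.mem_B_of_conj (g := a⁻¹) (R.U_mem 0 0 1) (by simp [U_eq_one])
            (by simpa [mul_assoc] using inv_mem (QuotientGroup.eq.1 h)))⟩
    simp [this]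
  · have : MulAction.fixedBy (G ⧸ R.B) x = ∅ := Set.eq_empty_of_forall_notMem fun a => QuotientGroup.induction_on a fun a h =>
      hx ⟨a, by simpa [mul_assoc] using inv_mem (QuotientGroup.eq.1 h)⟩
    simp [this]

end Ree

end Cfsg.Lib.Twist
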