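/-
Small Ree groups: squares of semisimple classes.
-/
import Cfsg.Agent.Lib.Twist.ReeSqB
import Cfsg.Agent.Lib.Twist.ReeDeg

set_option autoImplicit false

namespace Cfsg.Lib.Twist

open Cfsg Cfsg.Lib.Char Cfsg.Lib.Known Cfsg.Lib.BN Subgroup Sq
open scoped ComplexConjugate

theorem card_le_of_range {G ι : Type*} [Group G] [Finite ι] (f : ι → G) {H : Subgroup G} (h : ∀ x ∈ H, ∃ i, f i = x) :
    Nat.card H ≤ Nat.card ι := Nat.card_le_card_of_injective (fun x : H => (h x x.2).choose) fun x y e =>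
  Subtype.ext ((h x x.2).choose_spec.symm.trans ((congrArg f e).trans (h y y.2).choose_spec))

theorem eq_one_of_pow_of_mem {G : Type*} [Group G] {T : Subgroup G} {x : G} (hx : x ∈ T) {n : ℕ} (h : x ^ n = 1)
    (hn : n.Coprime (Nat.card T)) : x = 1 :=
  orderOf_eq_one_iff.1 (Nat.eq_one_of_dvd_coprimes hn (orderOf_dvd_of_pow_eq_one h) (orderOf_dvd_natCard _ hx))

theorem HT.exists_inv {G : Type*} [Group G] [Finite G] {T : Subgroup G} (h : HT T T) (h1 : (2).Coprime (Nat.card T))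
    (h2 : 2 ∣ Nat.card (normalizer (T : Set G))) : ∃ j, j * j = 1 ∧ j ∉ T ∧ ∀ t ∈ T, j * t * j = t⁻¹ := by
  obtain ⟨j, hj, h3, h4⟩ := exists_prime_mem Nat.prime_two h2
  have h5 : j * j = 1 := by rw [← pow_two, ← h4, pow_orderOf_eq_one]
  have h6 : j ∉ T := fun e => h3 (eq_one_of_pow_of_mem e (by rwa [pow_two]) h1)
  refine ⟨j, h5, h6, fun t ht => ?_⟩
  have h7 : j * t * j ∈ T := by simpa [inv_eq_of_mul_eq_one_right h5] using h.conj_mem hj ht
  by_contra e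
  refine h6 (h.cent _ (mul_mem ht h7) (fun e' => e (eq_inv_of_mul_eq_one_right e')) (mem_centralizer_singleton_iff.2 ?_))
  rw [show t * (j * t * j) * j = t * j * t by simp only [mul_assoc, h5, mul_one], h.comm t ht _ h7]
  simp only [← mul_assoc, h5, one_mul]

theorem HT.ati {G : Type*} [Group G] [Fintype G] {T : Subgroup G} (h : HT T T) {e : ℕ}
    (he : Nat.card (normalizer (T : Set G)) = e * Nat.card T) : ATI T (normalizer (T : Set G)) e where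
  comm := ⟨⟨fun a b => Subtype.ext (h.comm _ a.2 _ b.2)⟩⟩
  nrm _ hx _ ht := h.conj_mem hx ht
  ti t ht h1 _ hx := h.mem_normalizer ht (fun e => h1 (eq_one_of_pow_of_mem ht (pow_orderOf_eq_one t) e)) hx
  cent t ht h1 _ hx := h.cent t ht h1 (mem_centralizer_singleton_iff.2 hx)
  card := he

theorem isConj_cov {G : Type*} [Group G] (x g : G) : IsConj x (g⁻¹ * x * g) := isConj_iff.2 ⟨g⁻¹, by rw [inv_inv]⟩

theorem real_of_conj {G : Type*} [Group G] {x g : G} (h : IsConj (g⁻¹ * x * g) (g⁻¹ * x * g)⁻¹) : IsConj x x⁻¹ :=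
  (isConj_cov x g).trans (h.trans (by simpa [mul_assoc] using (isConj_cov x⁻¹ g).symm))

namespace Ree

variable {K : Type*} [Field K] {G : Type*} [Group G] (R : Ree K G) [Finite K]

local notation "𝔞" => R.D (-1)
local notation "𝔮" => Nat.card K

theorem cent_X : Nat.card (centralizer {R.U 0 0 1}) ≤ 𝔮 ^ 3 := by
  refine (card_le_of_range (fun p : K × K × K => R.U p.1 p.2.1 p.2.2) fun c hc => ?_).trans (by simp [pow_three])
  have h := mul_inv_eq_iff_eq_mul.2 (mem_centralizer_singleton_iff.1 hc)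
  obtain ⟨_, ⟨t, u, v, rfl⟩, k, rfl⟩ := R.mem_B_of_conj (R.U_mem 0 0 1) (by simp [U_eq_one]) (h ▸ R.Q_le_B (R.U_mem ..))
  rw [show ∀ a b c : G, a * b * c * (a * b)⁻¹ = a * (b * c * b⁻¹) * a⁻¹ from fun _ _ _ => by group, D_U,
    mul_inv_eq_iff_eq_mul, U_mul, U_mul] at h
  obtain rfl : k = 1 := Units.ext (R.eq_one_of_sq_σ (by simpa [add_comm] using (R.U_inj h).2.2))
  exact ⟨(t, u, v), by simp⟩

theorem cent_Y {t : K} (ht : t ≠ 0) (u v : K) : Nat.card (centralizer {R.U t u v}) ≤ 3 * 𝔮 := by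
  refine (card_le_of_range (fun p : R.S3 × K => R.U (p.1.1.toAdd * t) (p.1.1.toAdd * u +
    2 * (p.1.1.toAdd - p.1.1.toAdd ^ 2) * t * R.σ t) p.2) fun c hc => ?_).trans (by simp [card_S3])
  have h := mul_inv_eq_iff_eq_mul.2 (mem_centralizer_singleton_iff.1 hc)
  obtain ⟨_, ⟨t', u', v', rfl⟩, k, rfl⟩ := R.mem_B_of_conj (R.U_mem t u v) (by simp [U_eq_one, ht])
    (h ▸ R.Q_le_B (R.U_mem ..))
  rw [show ∀ a b c : G, a * b * c * (a * b)⁻¹ = a * (b * c * b⁻¹) * a⁻¹ from fun _ _ _ => by group, D_U,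
    mul_inv_eq_iff_eq_mul, U_mul, U_mul] at h
  obtain ⟨h1, h2, h3⟩ := R.U_inj h
  obtain rfl : k = 1 := Units.ext (mul_right_cancel₀ ht (by simp; linear_combination h1))
  obtain ⟨a, rfl⟩ : ∃ a, t' = a * t := ⟨t' / t, by field_simp⟩
  simp only [Units.val_one, map_one, one_mul, map_mul, one_pow] at h2 h3
  have h4 : R.σ a = a := mul_right_cancel₀ (show t * R.σ t ≠ 0 by simp [ht]) (by linear_combination h2)
  refine ⟨(⟨.ofAdd a, show a ^ 3 = a by rw [← R.σσ, h4, h4]⟩, v'), ?_⟩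
  rw [h4] at h3
  simpa using R.U_congr rfl (mul_left_cancel₀ ht (by linear_combination h3)) rfl

theorem cent_six {u : K} (hu : u ≠ 0) : Nat.card (centralizer {R.U 0 u 0 * 𝔞}) ≤ 3 * 𝔮 := by
  refine (card_le_of_range (fun p : Bool × K => R.U 0 p.2 0 * R.D (if p.1 then 1 else -1)) fun c hc => ?_).trans (by simp)
  have hc : Commute c _ := mem_centralizer_singleton_iff.1 hc
  have h1 := hc.pow_right 3
  have h2 := hc.pow_right 4
  rw [Ya_pow, ← map_pow] at h1 h2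
  simp only [Nat.cast_ofNat, R.three, zero_mul, U_zero, one_mul, show (4 : K) = 1 by linear_combination R.three,
    show (-1 : Kˣ) ^ 4 = 1 from Even.neg_one_pow ⟨2, rfl⟩, map_one, mul_one,
    show (-1 : Kˣ) ^ 3 = -1 by simp [pow_three]] at h1 h2
  have h := mul_inv_eq_iff_eq_mul.2 h2
  obtain ⟨x, hx, k, rfl⟩ := R.mem_B_of_conj (R.U_mem 0 u 0) (by simp [U_eq_one, hu]) (h ▸ R.Q_le_B (R.U_mem ..))
  obtain ⟨u', rfl⟩ := R.comm_a hx (mul_inv_eq_iff_eq_mul.2 (by simpa using (Commute.mul_left h1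
    (Commute.inv_left (R.D_comm k (-1)))).symm.eq))
  rw [show ∀ a b c : G, a * b * c * (a * b)⁻¹ = a * (b * c * b⁻¹) * a⁻¹ from fun _ _ _ => by group, D_U,
    mul_inv_eq_iff_eq_mul, U_mul, U_mul] at h
  have h3 := R.eq_one_of_mul_σ (k := k) (mul_right_cancel₀ hu (by simp; linear_combination (R.U_inj h).2.1))
  rcases sq_eq_one_iff'.1 (Units.ext (by simpa using h3) : k ^ 2 = 1) with rfl | rfl
  exacts [⟨(true, u'), rfl⟩, ⟨(false, u'), rfl⟩]

theorem isConj_X {v : K} (hv : v ≠ 0) : IsConj (R.U 0 0 1) (R.U 0 0 v) := by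
  obtain ⟨k, rfl⟩ := R.exists_sq_σ v
  exact isConj_iff.2 ⟨R.D (Units.mk0 k (by rintro rfl; simp at hv)), by simp [D_U]⟩

variable [Finite G]

theorem re_T (χ : IrrCharacter G) {u : K} (hu : u ≠ 0) (v : K) : (χ.1 (R.U 0 u v)).re = (χ.1 (R.U 0 1 0)).re := by
  have h1 : IsConj (R.U 0 u v) (R.U 0 u 0) := isConj_iff.2 ⟨R.U (-v / u) 0 0, mul_inv_eq_iff_eq_mul.2 (by
    simp only [U_mul]; exact R.U_congr (by simp) (by simp) (by simp; field_simp))⟩
  obtain ⟨c, hc⟩ := R.sq_or (Units.mk0 u hu)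
  obtain ⟨t, ht⟩ := R.exists_mul_σ c
  have h0 : t ≠ 0 := by rintro rfl; exact pow_ne_zero 2 c.ne_zero (by simpa using ht.symm)
  have h2 : IsConj (R.U 0 1 0) (R.U 0 (c ^ 2) 0) := isConj_iff.2 ⟨R.D (Units.mk0 t h0), by simp [D_U, ht]⟩
  rw [χ.2.isClassFunction.eq_of_isConj h1, χ.2.isClassFunction.eq_of_isConj h2]
  rcases hc with hc | hc <;> rw [show u = _ from congrArg Units.val hc]
  · simp
  · rw [← re_inv, Y_inv]; simp

include R in
theorem deg_ge (hq : 3 < 𝔮) {χ : IrrCharacter G} (h : χ ≠ principalIrr G) : (𝔮 : ℝ) ^ 2 - 𝔮 + 1 ≤ (χ.1 1).re := by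
  have := R.simple hq
  obtain ⟨χ, hχ⟩ := χ
  have h1 := (hχ.charKer_normal.eq_bot_or_eq_top).resolve_right fun e => h (Subtype.ext (hχ.charKer_eq_top_iff.1 e))
  obtain ⟨n, ρ, -, rfl⟩ := hχ
  rw [charKer_character] at h1
  have h2 := R.deg_le ρ fun e => one_ne_zero (R.U_eq_one.1 (mem_bot.1 (h1.le e))).2.2
  change _ ≤ (ρ.character 1).re
  rw [Representation.char_one, Complex.natCast_re]
  exact_mod_cast (show (𝔮 : ℤ) ^ 2 - 𝔮 + 1 ≤ _ by
    have := Nat.le_self_pow two_ne_zero 𝔮; zify [this] at h2; exact h2)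

omit [Finite K] in
theorem sum_ne_zero (f : K → ℝ) [Fintype K] {c : ℝ} (h : ∀ a, a ≠ 0 → f a = c) : ∑ a, f a = f 0 + (𝔮 - 1) * c := by
  classical
  rw [← Finset.add_sum_erase _ _ (Finset.mem_univ 0), Finset.sum_congr rfl fun a ha => h a (Finset.ne_of_mem_erase ha)]
  simp [Finset.card_erase_of_mem, Nat.cast_pred Fintype.card_pos]

omit [Finite G] in
theorem X_ge (χ : IrrCharacter G) : 0 ≤ (χ.1 1).re + (𝔮 - 1) * (χ.1 (R.U 0 0 1)).re := by
  have := Fintype.ofFinite K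
  have h := sum_re_nonneg (MonoidHom.mk' (fun v : Multiplicative K => R.U 0 0 v.toAdd) fun a b => by simp [U_mul]) χ
  rw [← Multiplicative.ofAdd.sum_comp] at h
  change 0 ≤ ∑ v : K, (χ.1 (R.U 0 0 v)).re at h
  rwa [sum_ne_zero _ fun a ha => by
    rw [← χ.2.isClassFunction.eq_of_isConj (R.isConj_X ha)], U_zero] at h

theorem T_ge (χ : IrrCharacter G) :
    0 ≤ (χ.1 1).re + (𝔮 - 1) * (χ.1 (R.U 0 0 1)).re + (𝔮 - 1) * (𝔮 * (χ.1 (R.U 0 1 0)).re) := by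
  have := Fintype.ofFinite K
  have h := sum_re_nonneg (MonoidHom.mk' (fun v : Multiplicative (K × K) => R.U 0 v.toAdd.1 v.toAdd.2)
    fun a b => by simp [U_mul]) χ
  rw [← Multiplicative.ofAdd.sum_comp] at h
  change 0 ≤ ∑ v : K × K, (χ.1 (R.U 0 v.1 v.2)).re at h
  rwa [Fintype.sum_prod_type,
    sum_ne_zero _ (c := 𝔮 * (χ.1 (R.U 0 1 0)).re) fun a ha => by simp [R.re_T χ ha], sum_ne_zero _ fun a ha => by
    rw [← χ.2.isClassFunction.eq_of_isConj (R.isConj_X ha)], U_zero] at h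

theorem classify (hq : 3 < 𝔮) {r : ℕ} (hr : r ^ 2 = 3 * 𝔮) {T₁ T₂ : Subgroup G} (h₁ : HT T₁ T₁) (h₂ : HT T₂ T₂)
    (c₁ : Nat.card T₁ = 𝔮 - r + 1) (c₂ : Nat.card T₂ = 𝔮 + r + 1) (n₁ : Nat.card (normalizer (T₁ : Set G)) = 6 * (𝔮 - r + 1))
    (n₂ : Nat.card (normalizer (T₂ : Set G)) = 6 * (𝔮 + r + 1)) {x : G} (h2 : 2 < orderOf x) (h3 : ¬ 3 ∣ orderOf x) :
    IsConj x x⁻¹ ∧ (Nat.card (centralizer {x}) + 1 ≤ 𝔮 ∨ (Nat.card (centralizer {x}) ≤ 𝔮 + 1 ∧ x ∉ cov (R.B : Set G)) ∨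
      (Nat.card (centralizer {x}) = 𝔮 + r + 1 ∧ x ∈ cov (T₂ : Set G))) := by
  obtain ⟨h8, h3', -, h27⟩ := R.q_mod
  replace h27 := h27 hq
  have hs : ∀ g, (g⁻¹ * x * g) ^ 2 ≠ 1 := fun g e => by
    have := Nat.le_of_dvd two_pos (orderOf_dvd_of_pow_eq_one e)
    rw [orderOf_conj'] at this; omega
  have h1 : ∀ g, g⁻¹ * x * g ≠ 1 := fun g e => hs g (by simp [e])
  have hm := ree_mul hq hr
  have ho : (2).Coprime (𝔮 ^ 2 - 𝔮 + 1) := ((ree_cop h8 h3').2.2.1.symm.coprime_dvd_left (by omega))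
  have key : ∀ {T : Subgroup G} {n}, HT T T → Nat.card T = n → Nat.card (normalizer (T : Set G)) = 6 * n → n ∣ 𝔮 ^ 2 - 𝔮 + 1 →
      ¬ (orderOf x).Coprime n → IsConj x x⁻¹ ∧ Nat.card (centralizer {x}) = n ∧ x ∈ cov (T : Set G) := fun h c n d e => by
    obtain ⟨g, hg⟩ := h.mem_cov (c ▸ e)
    obtain ⟨j, e1, -, e2⟩ := h.exists_inv (c ▸ ho.coprime_dvd_right d) (by omega)
    exact ⟨real_of_conj (g := g) (isConj_iff.2 ⟨j, by rw [inv_eq_of_mul_eq_one_right e1, e2 _ hg]⟩),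
      by rw [Char.card_centralizer_eq_of_isConj (isConj_cov x g), h.cent_eq hg (h1 g), c], g, hg⟩
  rcases R.order_cases x with h | h | h | h | h
  · obtain ⟨k, hk, e⟩ := (Nat.dvd_prime_pow Nat.prime_three (m := 2)).1 h
    interval_cases k <;> simp [e] at h2 h3
  · have := Nat.le_of_dvd (by norm_num) h
    generalize orderOf x = n at *
    interval_cases n <;> simp at h h3
  · obtain ⟨g, k, hk⟩ := (R.ht_H₀ hq).mem_cov (R.card_H₀ ▸ h)
    have hk2 : k ^ 2 ≠ 1 := fun e => hs g (by rw [← hk, ← map_pow, e, map_one])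
    exact ⟨real_of_conj (g := g) (hk ▸ isConj_iff.2 ⟨R.w, by rw [R.w_D, map_inv]⟩), Or.inl (by
      rw [Char.card_centralizer_eq_of_isConj (isConj_cov x g), ← hk, R.centralizer_D hk2, card_H]; omega)⟩
  · obtain ⟨g, hg⟩ := (R.ht_T₀ hq).mem_cov (R.card_T₀ ▸ h)
    have h4 : ((g⁻¹ * x * g) ^ 2) ^ ((𝔮 + 1) / 4) = 1 := by
      rw [← pow_mul, show 2 * ((𝔮 + 1) / 4) = (𝔮 + 1) / 2 by omega, R.pow_of_mem hg]
    refine ⟨real_of_conj (g := g) (isConj_iff.2 ⟨R.s, by rw [R.s_inv hg, mul_inv_cancel_right]⟩), Or.inr (Or.inl ⟨?_, ?_⟩)⟩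
    · rw [Char.card_centralizer_eq_of_isConj (isConj_cov x g), ← R.card_M]
      exact card_le_of_le fun y hy => R.centralizer_le_M (pow_mem hg 2) (hs g) h4 (mem_centralizer_singleton_iff.2
        (Commute.pow_right (mem_centralizer_singleton_iff.1 hy) 2))
    · rintro ⟨y, hy⟩
      obtain ⟨-, e1, -, e2, -⟩ := ree_cop h8 h3'
      refine hs g (R.eq_one_of_cov_B ⟨g⁻¹ * y, ?_⟩ e1 e2 (orderOf_dvd_of_pow_eq_one h4))
      simpa [pow_two, mul_assoc] using pow_mem hy 2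
  · rw [hm, Nat.coprime_mul_iff_right, not_and_or] at h
    rcases h with h | h
    · obtain ⟨e1, e2, -⟩ := key h₁ c₁ n₁ (hm ▸ dvd_mul_right ..) h
      have : 2 ≤ r := by nlinarith
      exact ⟨e1, Or.inl (by omega)⟩
    · obtain ⟨e1, e2⟩ := key h₂ c₂ n₂ (hm ▸ dvd_mul_left ..) h
      exact ⟨e1, Or.inr (Or.inr e2)⟩

include R in
set_option maxHeartbeats 1000000 in
theorem sq_cover (hq : 3 < 𝔮) {r : ℕ} (hr : r ^ 2 = 3 * 𝔮) {x : G} (h2 : 2 < orderOf x) (h3 : ¬ 3 ∣ orderOf x)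
    {g : G} (hg : g ≠ 1) : ∃ u v : G, g = (u * x * u⁻¹) * (v * x * v⁻¹) := by
  classical
  have := Fintype.ofFinite G
  obtain ⟨T₁, T, h₁, h₂, c₁, c₂, n₁, n₂⟩ := R.exists_tori hq hr
  obtain ⟨hx, hcl⟩ := R.classify hq hr h₁ h₂ c₁ c₂ n₁ n₂ h2 h3
  refine exists_of_Phi hx ?_
  obtain ⟨h8, h3', -, h27⟩ := R.q_mod
  replace h27 := h27 hq
  have h9 : 9 ≤ r := by nlinarith
  have hrq : r ≤ 𝔮 := by nlinarith
  have hm := ree_mul hq hr
  obtain ⟨-, -, ho, -⟩ := ree_cop h8 h3'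
  replace ho := ho.coprime_dvd_left (hm ▸ c₂ ▸ dvd_mul_left .. : Nat.card T ∣ _)
  have ho2 : (2).Coprime (Nat.card T) := ho.symm.coprime_dvd_left (by omega)
  have ho3 : (3).Coprime (Nat.card T) := ho.symm.coprime_dvd_left
    (((Nat.dvd_of_mod_eq_zero h3').trans (dvd_pow_self _ three_ne_zero)).mul_left _)
  have hq' : (𝔮 : ℝ) = r ^ 2 / 3 := by have := congrArg (Nat.cast (R := ℝ)) hr; push_cast at this; linarith
  have h9' : (9 : ℝ) ≤ r := by exact_mod_cast h9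
  have h27' : (27 : ℝ) ≤ 𝔮 := by exact_mod_cast h27
  have hD : 0 < (𝔮 : ℝ) ^ 2 - 𝔮 + 1 := by nlinarith
  have hW : (Nat.card (centralizer {x}) : ℝ) - 1 ≤ 𝔮 + r := by
    have : Nat.card (centralizer {x}) ≤ 𝔮 + r + 1 := by omega
    exact sub_le_iff_le_add.2 (by exact_mod_cast this)
  have small : ∀ {y : G} {b : ℝ}, 0 ≤ b → (Nat.card (centralizer {y}) : ℝ) ≤ b ^ 2 → ∀ χ, χ ≠ principalIrr G →
      |(χ.1 y).re| ≤ b / (𝔮 ^ 2 - 𝔮 + 1) * (χ.1 1).re := fun h0 h χ hχ => (abs_re_le χ h0 h).trans (by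
    rw [div_mul_eq_mul_div, le_div_iff₀ hD]; exact mul_le_mul_of_nonneg_left (R.deg_ge hq hχ) h0)
  have case1 : Nat.card (centralizer {g}) ≤ 3 * 𝔮 → -1 < Phi x g := fun h =>
    Phi_gt (c := r / (𝔮 ^ 2 - 𝔮 + 1)) (by positivity) (fun χ hχ => le_rat.2 (by
      rw [neg_mul]; exact neg_le_of_abs_le (small (by positivity) (by exact_mod_cast hr ▸ h) χ hχ))) hW (by
      rw [div_mul_eq_mul_div, div_lt_one hD, hq']; nlinarith [mul_self_nonneg (r : ℝ)])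
  have hP : ∀ {g'}, IsConj g g' → Phi x g = Phi x g' := fun h => Finset.sum_congr rfl fun χ _ => by rw [rat_conj χ h]
  have exc : x ∈ cov (T : Set G) → ∃ P : IrrCharacter G → Prop, (∀ χ, P χ → rat χ 𝔞 = 0 ∧
      rat χ (R.U 0 0 1) = -(1 / (𝔮 ^ 2 - 1))) ∧ Wt x P ≤ 5 := fun ⟨y, hy⟩ => by
    obtain ⟨Γ, e1, e2, e3, e4, e5⟩ := R.exists_Gamma hr hrq
    have hqc : (𝔮 : ℂ) = r ^ 2 / 3 := by have := congrArg (Nat.cast (R := ℂ)) hr; push_cast at this; linear_combination -this / 3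
    have e0 : 1 ≤ 𝔮 ^ 2 := Nat.one_le_pow _ _ (by omega)
    have e6 : (((𝔮 ^ 2 - 1) * (𝔮 - r + 1) : ℕ) : ℂ) = (𝔮 ^ 2 - 1) * (𝔮 + 1 - r) := by push_cast [e0, hrq]; ring
    have e7 : (T.index : ℂ) = 𝔮 ^ 3 * ((𝔮 ^ 2 - 1) * (𝔮 + 1 - r)) := by
      rw [← e6, index_eq_of_mul (k := 𝔮 ^ 3 * ((𝔮 ^ 2 - 1) * (𝔮 - r + 1))) (by
        rw [R.card_G, q_cube, hm, c₂, show 𝔮 ^ 2 - 1 = (𝔮 + 1) * (𝔮 - 1) by simpa using Nat.sq_sub_sq 𝔮 1]; ring)]
      push_cast; rfl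
    have e8 := exists_exc (h₂.ati (c₂ ▸ n₂)) e1.isGeneralizedCharacter (fun t ht h1 => e2 t fun ⟨z, hz⟩ => h1
      (eq_one_of_pow_of_mem ht (n := 3 ^ 2) (conj_eq_one'.1 (conj_pow' z t _ ▸ R.pow_nine hz)) (ho3.pow_left 2)))
      (d := (𝔮 ^ 2 - 1) * (𝔮 - r + 1)) (fun e => by
        have := Nat.eq_one_of_mul_eq_one_right e
        have : 𝔮 ≤ 𝔮 ^ 2 := Nat.le_self_pow two_ne_zero _
        omega) (by rw [e4, e6, e7]; ring) (by
        refine mul_left_cancel₀ (pow_ne_zero 3 (Nat.cast_ne_zero.2 (show 𝔮 ≠ 0 by omega))) ?_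
        rw [mul_left_comm, e5, e6, e7, c₂]
        push_cast
        rw [hqc]; ring) hy (fun e => by simp [conj_eq_one'.1 e] at h2)
    rw [Wt_conj] at e8
    refine ⟨_, fun χ hχ => ⟨?_, ?_⟩, e8.trans (by norm_num)⟩
    · rw [rat, hχ.2 _ fun z hz => R.a_ne (conj_eq_one'.1 (eq_one_of_pow_of_mem hz (by
        rw [conj_pow', pow_two, R.a_sq]; simp) ho2)), e2 _ fun ⟨z, hz⟩ => by
          have := orderOf_dvd_of_pow_eq_one (R.pow_nine hz)
          rw [orderOf_conj', orderOf_a] at this; omega]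
      simp
    · rw [rat, hχ.2 _ fun z hz => one_ne_zero (R.U_eq_one.1 (conj_eq_one'.1 (eq_one_of_pow_of_mem hz (by
        rw [conj_pow', R.U_cube_eq_one.2 rfl]; simp) ho3))).2.2, e3, hχ.1, e6]
      have : (r : ℝ) ≤ 𝔮 := by exact_mod_cast hrq
      have : (𝔮 : ℝ) + 1 - r ≠ 0 := by linarith
      have : (𝔮 : ℝ) ^ 2 - 1 ≠ 0 := by nlinarith
      norm_cast
      push_cast
      field_simp
  have hX : ∀ χ : IrrCharacter G, -(1 / ((𝔮 : ℝ) - 1)) ≤ rat χ (R.U 0 0 1) := fun χ => le_rat.2 (by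
    have := R.X_ge χ
    rw [neg_mul, one_div, inv_mul_eq_div, neg_le, le_div_iff₀ (by linarith)]; linarith)
  have hq1 : 0 < (𝔮 : ℝ) - 1 := by linarith
  by_cases o2 : orderOf g = 2
  · obtain ⟨z, hz⟩ := R.mem_cov_a o2
    rw [hP (isConj_cov g z), hz]
    have low : Nat.card (centralizer {x}) ≤ 𝔮 + 1 → -1 < Phi x 𝔞 := fun h => by
      obtain ⟨j, e1, e2, e3⟩ := h₂.exists_inv ho2 (by omega)
      have := Fintype.ofFinite T
      refine Phi_gt (c := (1 + (𝔮 + r) * (7 / 9 * r / (𝔮 ^ 2 - 𝔮 + 1))) / (𝔮 + r + 1)) (W := 𝔮) (by positivity)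
        (fun χ hχ => le_rat.2 ?_) (sub_le_iff_le_add.2 (by exact_mod_cast h)) ?_
      · have e4 := dih_nonneg e1 e3 e2 χ
        have e5 : ∀ t : T, (χ.1 (t * j)).re = (χ.1 𝔞).re := fun t => by
          rw [χ.2.isClassFunction.eq_of_isConj (R.isConj_a (t := t * j)
            (fun e => e2 (eq_inv_of_mul_eq_one_right e ▸ inv_mem t.2))
            (by rw [mul_assoc, ← mul_assoc j, e3 t t.2, mul_inv_cancel]))]
        have e6 := Finset.sum_le_card_nsmul (Finset.univ.erase (1 : T)) (fun t => (χ.1 t).re) _ fun t ht =>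
          le_of_abs_le (small (b := 7 / 9 * r) (by positivity) (by
            rw [h₂.cent_eq t.2 fun e => Finset.ne_of_mem_erase ht (Subtype.ext e), c₂]
            push_cast; rw [hq']; nlinarith) χ hχ)
        rw [← Finset.add_sum_erase _ _ (Finset.mem_univ 1)] at e4
        simp only [e5, Finset.sum_const, Finset.card_univ, nsmul_eq_mul, Finset.card_erase_of_mem (Finset.mem_univ _),
          ← Nat.card_eq_fintype_card, c₂, Nat.add_sub_cancel, coe_one] at e4 e6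
        push_cast at e4 e6
        rw [neg_mul, neg_le, div_mul_eq_mul_div, le_div_iff₀ (by positivity)]
        linarith
      · rw [div_mul_eq_mul_div, div_lt_one (by positivity), ← mul_div_assoc, one_add_div hD.ne', div_mul_eq_mul_div,
          div_lt_iff₀ hD, hq']
        obtain ⟨s, hs, e⟩ : ∃ s : ℝ, 0 ≤ s ∧ r = s + 9 := ⟨r - 9, by linarith, by ring⟩
        rw [e, ← sub_pos]; ring_nf; positivity
    rcases hcl with h | h | h
    · exact low (by omega)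
    · exact low h.1
    obtain ⟨P, e1, e2⟩ := exc h.2
    have e3 : (Nat.card (centralizer {𝔞}) : ℝ) = 𝔮 * (𝔮 - 1) * (𝔮 + 1) := by
      rw [card_cent_a]; push_cast [Nat.cast_pred (Nat.card_pos (α := K))]; rfl
    refine lt_of_lt_of_le ?_ (Phi_ge P (c₁ := 0) (c₂ := √(𝔮 * (𝔮 - 1) * (𝔮 + 1)) / (𝔮 ^ 2 - 𝔮 + 1)) le_rfl (by positivity)
      (fun χ _ h => by simp [(e1 χ h).1]) (fun χ hχ _ => le_rat.2 (by
        rw [neg_mul]; exact neg_le_of_abs_le (small (by positivity) (by rw [Real.sq_sqrt (by positivity), e3]) χ hχ))) hW e2)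
    rw [zero_mul, zero_add, neg_lt_neg_iff, ← lt_div_iff₀ (by norm_num), div_lt_iff₀ hD, Real.sqrt_lt' (by positivity)]
    obtain ⟨s, hs, e⟩ : ∃ s : ℝ, 0 ≤ s ∧ 𝔮 = s + 27 := ⟨𝔮 - 27, by linarith, by ring⟩
    rw [e, ← sub_pos]; ring_nf; positivity
  by_cases o3 : 3 ∣ orderOf g
  swap
  · have : orderOf g ≠ 1 := mt orderOf_eq_one_iff.1 hg
    have := orderOf_pos g
    have := (R.classify hq hr h₁ h₂ c₁ c₂ n₁ n₂ (by omega) o3).2
    exact case1 (by omega)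
  rcases R.three_cases o3 with ⟨z, t, u, v, hz⟩ | ⟨u, hu, z, hz⟩
  swap
  · exact case1 (by rw [Char.card_centralizer_eq_of_isConj (isConj_cov g z), hz]; exact R.cent_six hu)
  by_cases ht : t = 0
  swap
  · exact case1 (by rw [Char.card_centralizer_eq_of_isConj (isConj_cov g z), ← hz]; exact R.cent_Y ht ..)
  rw [hP (isConj_cov g z), ← hz, ht]
  by_cases hu : u = 0
  swap
  · refine Phi_gt (c := (𝔮 + 1) / (2 * 𝔮 * (𝔮 - 1))) (by positivity) (fun χ hχ => le_rat.2 ?_) hW ?_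
    · have e1 := R.T_ge χ
      have e2 := le_of_abs_le (abs_re_le χ (g := R.U 0 0 1) (b := (𝔮 ^ 2 - 𝔮 + 1) / 2) (by positivity) (by
        refine (show _ ≤ (𝔮 : ℝ) ^ 3 by exact_mod_cast R.cent_X).trans ?_
        obtain ⟨s, hs, e⟩ : ∃ s : ℝ, 0 ≤ s ∧ 𝔮 = s + 27 := ⟨𝔮 - 27, by linarith, by ring⟩
        rw [e, ← sub_nonneg]; ring_nf; positivity))
      have e3 := R.deg_ge hq hχ
      rw [R.re_T χ hu, neg_mul, neg_le, div_mul_eq_mul_div, le_div_iff₀ (by positivity)]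
      nlinarith
    · rw [div_mul_eq_mul_div, div_lt_one (by positivity), hq']
      obtain ⟨s, hs, e⟩ : ∃ s : ℝ, 0 ≤ s ∧ r = s + 9 := ⟨r - 9, by linarith, by ring⟩
      rw [e, ← sub_pos]; ring_nf; positivity
  have hv : v ≠ 0 := fun e => hg (conj_eq_one'.1 (hz ▸ R.U_eq_one.2 ⟨ht, hu, e⟩))
  rw [hu, show Phi x (R.U 0 0 v) = Phi x (R.U 0 0 1) from Finset.sum_congr rfl fun χ _ => by rw [rat_conj χ (R.isConj_X hv)]]
  rcases hcl with h | h | h
  · refine Phi_gt (W := 𝔮 - 2) (by positivity) (fun χ _ => hX χ) ?_ (by rw [div_mul_eq_mul_div, div_lt_one hq1]; linarith)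
    have : (Nat.card (centralizer {x}) : ℝ) + 1 ≤ 𝔮 := by exact_mod_cast h
    linarith
  · obtain ⟨S, e1, e2, e3⟩ := R.exists_St
    refine Phi_gt_st (q := 𝔮) (by linarith) S (e3 x h.2) e2 ?_ (by rintro rfl; simp at h2)
      (fun e => h.2 (mem_cov_of_isConj e.symm (R.Q_le_B (R.U_mem ..)))) (by simpa [U_inv] using R.isConj_X (v := -1) (by simp))
      R.X_ge (by exact_mod_cast h.1)
    rw [e1]; norm_cast
    nlinarith [Nat.lt_pow_self (n := 3) (show 1 < 𝔮 by omega), Nat.pow_lt_pow_right (show 1 < 𝔮 by omega) (show 1 < 3 by omega)]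
  · obtain ⟨P, e1, e2⟩ := exc h.2
    have e0 : 0 < (𝔮 : ℝ) ^ 2 - 1 := by nlinarith
    refine lt_of_lt_of_le ?_ (Phi_ge P (by positivity) (by positivity) (fun χ _ h => (e1 χ h).2.ge) (fun χ _ _ => hX χ) hW e2)
    have e3 : (r : ℝ) ≤ 𝔮 := by exact_mod_cast hrq
    have e4 : 1 / ((𝔮 : ℝ) ^ 2 - 1) * (𝔮 + r) < 1 / 2 := by rw [div_mul_eq_mul_div, div_lt_iff₀ e0]; nlinarith
    have e5 : 1 / ((𝔮 : ℝ) - 1) * 5 < 1 / 2 := by rw [div_mul_eq_mul_div, div_lt_iff₀ hq1]; linarith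
    linarith

end Ree

end Cfsg.Lib.Twist
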