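/-
The seven tabulated data are compatible with root systems.
-/
import Cfsg.Agent.Lib.Twist.RootG2
import Cfsg.Agent.Lib.Twist.RootB2
import Cfsg.Agent.Lib.Twist.RootD4
import Cfsg.Agent.Lib.Twist.RootF4
import Cfsg.Agent.Lib.Twist.RootE6
import Cfsg.Agent.Lib.Twist.RootE7
import Cfsg.Agent.Lib.Twist.RootE8

set_option autoImplicit false

namespace Cfsg.Lib.Twist

open Cfsg.Lib.Chev Cfsg.Lie

/-- Each of the seven tabulated data is compatible with a root system. -/
theorem exists_compat {D : ChevalleyDatum} (hD : D ∈ [chevG2, chevB2, chevD4, chevF4, chevE6, chevE7, chevE8]) :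
    ∃ R, Compat D R := by
  simp only [List.mem_cons, List.not_mem_nil, or_false] at hD
  rcases hD with rfl | rfl | rfl | rfl | rfl | rfl | rfl
  · exact ⟨_, compat_G2⟩
  · exact ⟨_, compat_B2⟩
  · exact ⟨_, compat_D4⟩
  · exact ⟨_, compat_F4⟩
  · exact ⟨_, compat_E6⟩
  · exact ⟨_, compat_E7⟩
  · exact ⟨_, compat_E8⟩

end Cfsg.Lib.Twist
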