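/-
Overgroups of subfield subgroups in (twisted) Chevalley groups: the general lemmas.
-/
import Cfsg.Agent.Lib.Twist.InvE6
import Cfsg.Agent.Lib.Twist.FixAut
import Cfsg.Agent.Lib.Chev.FieldFix

set_option autoImplicit false

namespace Cfsg.Lib.Twist

open Cfsg.Lib.Chev PreSys RootSys Cfsg.Lie
open scoped commutatorElement

variable {I Φ : Type*} [Fintype I] [DecidableEq I] {R : RootSys I Φ} {K : Type*} [Field K] {G : Type*} [Group G]

theorem comm_mul_left' (a b c : G) : ⁅a * b, c⁆ = a * ⁅b, c⁆ * a⁻¹ * ⁅a, c⁆ := by simp only [commutatorElement_def]; group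

theorem comm_mul_right' (a b c : G) : ⁅a, b * c⁆ = ⁅a, b⁆ * (b * ⁅a, c⁆ * b⁻¹) := by simp only [commutatorElement_def]; group

section bil
variable {S : PreSys R K G} {T : Set Φ} {f : (I → ℤ) →+ ℤ} (hT : R.Nil T f) {m n : ℤ}
include hT

theorem cone_lev_add {a b : Φ} (ha : a ∈ R.lev T f m) (hb : b ∈ R.lev T f n) : R.cone a b ⊆ R.lev T f (m + n) := fun _ hk =>
  ⟨hT.closed a ha.1 b hb.1 hk, (add_le_add ha.2 hb.2).trans (le_of_mem_cone hk (hT.pos a ha.1).le (hT.pos b hb.1).le)⟩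

theorem comm_lev_add {a g : G} (ha : a ∈ S.U (R.lev T f m)) (hg : g ∈ S.U (R.lev T f n)) : ⁅a, g⁆ ∈ S.U (R.lev T f (m + n)) := by
  induction ha using S.U_induction_left with
  | h1 => simp
  | h2 r hr t a ha ih =>
    rw [comm_mul_left']
    refine mul_mem (S.conj_mem_lev hT _ (S.x_mem_U hr.1 t) ih) ?_
    clear ih
    induction hg using S.U_induction_left with
    | h1 => simp
    | h2 s hs u g hg ih =>
      rw [comm_mul_right']
      exact mul_mem (S.comm_mem_U (hT.ne_neg hs.1 hr.1) (cone_lev_add hT hr hs) t u) (S.conj_mem_lev hT _ (S.x_mem_U hs.1 u) ih)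

variable [Finite Φ] (hF : S.Sep) {k : Φ} (hk : k ∈ T) (e : f (R.rt k) = m + n)
include hF hk e

theorem co_comm_left {a b g : G} (ha : a ∈ S.U (R.lev T f m)) (hb : b ∈ S.U (R.lev T f m)) (hg : g ∈ S.U (R.lev T f n)) :
    S.co (R.lev T f (m + n)) k ⁅a * b, g⁆ = S.co (R.lev T f (m + n)) k ⁅a, g⁆ + S.co (R.lev T f (m + n)) k ⁅b, g⁆ := by
  have hE := e ▸ hT.ext_lev hk
  have h1 : a ∈ S.U T := S.U_mono (fun _ h => h.1) ha
  rw [comm_mul_left', co_mul hE hF (S.conj_mem_lev hT _ h1 (comm_lev_add hT hb hg)) (comm_lev_add hT ha hg),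
    co_conj hE hF h1 (comm_lev_add hT hb hg), add_comm]

theorem co_comm_right {a b g : G} (hg : g ∈ S.U (R.lev T f m)) (ha : a ∈ S.U (R.lev T f n)) (hb : b ∈ S.U (R.lev T f n)) :
    S.co (R.lev T f (m + n)) k ⁅g, a * b⁆ = S.co (R.lev T f (m + n)) k ⁅g, a⁆ + S.co (R.lev T f (m + n)) k ⁅g, b⁆ := by
  have hE := e ▸ hT.ext_lev hk
  have h1 : a ∈ S.U T := S.U_mono (fun _ h => h.1) ha
  rw [comm_mul_right', co_mul hE hF (comm_lev_add hT hg ha) (S.conj_mem_lev hT _ h1 (comm_lev_add hT hg hb)),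
    co_conj hE hF h1 (comm_lev_add hT hg hb)]

theorem co_comm_x_zero {a b : Φ} (ha : a ∈ R.lev T f m) (hb : b ∈ R.lev T f n) (h : R.rt k ≠ R.rt a + R.rt b) (t u : K) :
    S.co (R.lev T f (m + n)) k ⁅S.x a t, S.x b u⁆ = 0 := by
  refine co_of_mem (e ▸ hT.ext_lev hk) hF (S.comm_mem_U (hT.ne_neg hb.1 ha.1) (fun c hc => And.intro (cone_lev_add hT ha hb hc) ?_) t u)
  rintro rfl
  obtain ⟨i, j, hi, hj, h1⟩ := hc
  have h2 := congrArg f h1
  rw [map_add, map_zsmul, map_zsmul, smul_eq_mul, smul_eq_mul, e] at h2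
  have := hT.pos a ha.1
  have := hT.pos b hb.1
  have := ha.2
  have := hb.2
  have h3 : (i : ℤ) = 1 := by nlinarith
  have h4 : (j : ℤ) = 1 := by nlinarith
  exact h (by rw [h1, h3, h4, one_smul, one_smul])

/-- The leading coefficient of a commutator with a root element. -/
theorem co_comm_x {a b : Φ} (ha : a ∈ T) (ha' : f (R.rt a) = m) (hb : b ∈ R.lev T f n) {u N : K}
    (h : ∀ c ∈ T, R.rt k = R.rt c + R.rt b → c = a) (hN : ∀ t, S.co (R.lev T f (m + n)) k ⁅S.x a t, S.x b u⁆ = N * t) {d : G}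
    (hd : d ∈ S.U (R.lev T f m)) : S.co (R.lev T f (m + n)) k ⁅d, S.x b u⁆ = N * S.co (R.lev T f m) a d := by
  have hE := ha' ▸ hT.ext_lev ha
  induction hd using S.U_induction_left with
  | h1 => rw [commutatorElement_one_left, co_one (e ▸ hT.ext_lev hk) hF, co_one hE hF, mul_zero]
  | h2 r hr t g hg ih =>
    rw [co_comm_left hT hF hk e (S.x_mem_U hr t) hg (S.x_mem_U hb u), ih, co_mul hE hF (S.x_mem_U hr t) hg, mul_add]
    congr 1
    by_cases h1 : r = a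
    · rw [h1, hN, co_x hE hF]
    · rw [co_x_ne hE hF hr h1, mul_zero, co_comm_x_zero hT hF hk e hr hb fun h2 => h1 (h r hr.1 h2)]

theorem co_comm_zero {b : Φ} (hb : b ∈ R.lev T f n) (h : ∀ c ∈ R.lev T f m, R.rt k ≠ R.rt c + R.rt b) (u : K) {d : G}
    (hd : d ∈ S.U (R.lev T f m)) : S.co (R.lev T f (m + n)) k ⁅d, S.x b u⁆ = 0 := by
  induction hd using S.U_induction_left with
  | h1 => rw [commutatorElement_one_left, co_one (e ▸ hT.ext_lev hk) hF]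
  | h2 r hr t g hg ih =>
    rw [co_comm_left hT hF hk e (S.x_mem_U hr t) hg (S.x_mem_U hb u), ih, co_comm_x_zero hT hF hk e hr hb (h r hr), add_zero]

theorem co_comm_succ {d g : G} (hd : d ∈ S.U (R.lev T f m)) (hg : g ∈ S.U (R.lev T f (n + 1))) :
    S.co (R.lev T f (m + n)) k ⁅d, g⁆ = 0 :=
  co_of_mem (e ▸ hT.ext_lev hk) hF (S.U_mono (T := R.lev T f (m + (n + 1))) (fun c hc => And.intro (And.intro hc.1 (by linarith [hc.2])) fun h => by
    have := hc.2; rw [show c = k from h] at this; omega) (comm_lev_add hT hd hg))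

end bil

theorem ext_ht {r : Φ} (hr : R.Pos r) {m : ℤ} (e : R.ht r = m) : R.Ext {r | R.Pos r} (R.lev {r | R.Pos r} htL m) r :=
  e ▸ nil_pos.ext_lev (T := {r | R.Pos r}) hr

theorem conj_fix {F : G →* G} {m g : G} (hm : F m = m) (e : F (m * g * m⁻¹) = m * g * m⁻¹) : F g = g := by
  rw [map_mul, map_mul, map_inv, hm] at e
  exact mul_left_cancel (mul_right_cancel e)

theorem lev_one : R.lev {r | R.Pos r} htL 1 = {r | R.Pos r} := Set.ext fun _ => and_iff_left_of_imp R.ht_pos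

/-- The elements all of whose `Y`-conjugates are fixed by `F`. -/
def fixCore (F : G →* G) (Y : Subgroup G) : Subgroup G where
  carrier := {c | ∀ g ∈ Y, F (g * c * g⁻¹) = g * c * g⁻¹}
  one_mem' g _ := by simp
  mul_mem' {a b} ha hb g hg := by
    rw [show g * (a * b) * g⁻¹ = g * a * g⁻¹ * (g * b * g⁻¹) by group, map_mul, ha g hg, hb g hg]
  inv_mem' {a} ha g hg := by rw [show g * a⁻¹ * g⁻¹ = (g * a * g⁻¹)⁻¹ by group, map_inv, ha g hg]

theorem conj_mem_fixCore {F : G →* G} {Y : Subgroup G} {y c : G} (hy : y ∈ Y) (hc : c ∈ fixCore F Y) : y * c * y⁻¹ ∈ fixCore F Y :=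
  fun g hg => by simpa only [mul_inv_rev, mul_assoc] using hc _ (mul_mem hg hy)

variable {S : PreSys R K G} {T : Tw R}

/-- A subgroup `Y` of the fixed points of `X.σ` containing the unipotent elements fixed by the field map `F`. -/
structure SubD (X : TwSys S T) (F : G →* G) (φ : K →+* K) (Y : Subgroup G) : Prop where
  F_x : ∀ r t, F (S.x r t) = S.x r (φ t)
  grp : X.Grp X.Fix
  φ_comm : ∀ r t, X.φ r (φ t) = φ (X.φ r t)
  le : Y ≤ X.Fix
  pos : ∀ u ∈ S.U {r | R.Pos r} ⊓ X.Fix, F u = u → u ∈ Y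
  neg : ∀ u ∈ S.U {r | ¬ R.Pos r} ⊓ X.Fix, F u = u → u ∈ Y
  orth : ∀ i, ∃ l, X.Orth l ∧ ∀ j, j ∈ T.orb i ↔ j ∈ l
  hZ : ∀ g ∈ S.H, (∀ s u, g * S.x s u * g⁻¹ = S.x s u) → g = 1

namespace SubD
variable {X : TwSys S T} {F : G →* G} {φ : K →+* K} {Y : Subgroup G} (h : SubD X F φ Y)
include h

/-- The field map as a twisting system. -/
def XF : TwSys S (Tw.refl R) := fieldTw X.st X.sep X.opp X.mult X.gen F φ h.F_x

theorem F_mem {A : Set Φ} {g : G} (hg : g ∈ S.U A) : F g ∈ S.U A := h.XF.σ_mem_U (fun _ hr => hr) hg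

theorem F_zl (a : I → Φ) (l : List I) (c : I → K) : F (zl S a l c) = zl S a l (φ ∘ c) := by
  simp only [zl, map_list_prod, List.map_map, Function.comp_def, h.F_x]

theorem σ_F (g : G) : X.σ (F g) = F (X.σ g) :=
  DFunLike.congr_fun (hom_ext X.gen (φ := X.σ.comp F) (ψ := F.comp X.σ) fun r t => by
    have : φ (X.ε r) = X.ε r := by rcases mul_self_eq_one_iff.1 (X.ε_sq r) with e | e <;> simp [e]
    simp [h.F_x, X.σ_x, h.φ_comm, this]) g

theorem F_fix {g : G} (hg : g ∈ X.Fix) : F g ∈ X.Fix := show X.σ (F g) = F g by rw [h.σ_F, X.mem_Fix.1 hg]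

variable [Finite Φ]

theorem co_F {T₀ A : Set Φ} {r : Φ} (hE : R.Ext T₀ A r) {g : G} (hg : g ∈ S.U A) : S.co A r (F g) = φ (S.co A r g) :=
  co_map hE X.sep hE F (h.F_x r) (fun k hk t => h.F_x k t ▸ S.x_mem_U hk _) hg

theorem exists_rep {w : Equiv.Perm Φ} (hw : w ∈ T.W1 Set.univ) : ∃ m ∈ S.N, m ∈ Y ∧ F m = m ∧ S.Act m w := by
  induction hw using Tw.W1_induction T.stable_univ with
  | h1 => exact ⟨1, one_mem _, one_mem _, map_one F, act_one⟩
  | h2 w hw i _ _ ih =>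
    obtain ⟨m, hm, h1, h2, h3⟩ := ih
    obtain ⟨l, o, hl⟩ := h.orth i
    have e1 : zl S (fun i => R.neg (R.simple i)) l 1 ∈ X.Fix := o.zl_fix (Or.inr rfl) (by simp)
    have e2 : F (zl S (fun i => R.neg (R.simple i)) l 1) = zl S (fun i => R.neg (R.simple i)) l 1 := by
      rw [h.F_zl]; congr; ext; simp
    have e3 := o.neg_mem (c := 1) hl
    obtain ⟨a, ha, b, hb, h4, h5⟩ := h.grp.exists_lng' e1 e3 (o.neg_ne_one ((hl i).1 (T.mem_orb i)))
    generalize zl S (fun i => R.neg (R.simple i)) l 1 = v at *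
    have h6 := X.st.mul_inv_mem_H X.sep (h.XF.σ_mem_N h4) h4 (lng_mem_W _) (by simpa [Tw.refl] using h.XF.act_σ h4 h5) h5
    change F (a * v * b) * _ ∈ _ at h6
    have ha' : a ∈ S.U {r | R.Pos r} := S.U_mono (fun _ h => h.1) ha.1
    obtain ⟨h7, h8⟩ := X.st.normal_form_unique X.opp h5 (inv_mem (S.U_le_B ha'))
      (mul_mem (inv_mem (S.U_le_B (h.F_mem ha'))) (S.H_le_B h6)) (u := b⁻¹) (u' := (F b)⁻¹)
      (by rw [Inv_lng]; exact Subgroup.inv_mem _ hb.1) (by rw [Inv_lng]; exact inv_mem (h.F_mem hb.1)) (by simp [e2, mul_assoc])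
    have h9 : F a * a⁻¹ ∈ S.U {r | R.Pos r} ⊓ S.H := Subgroup.mem_inf.2 ⟨mul_mem (h.F_mem ha') (inv_mem ha'), by rwa [h7, mul_inv_cancel_left]⟩
    rw [X.st.U_inf_H X.opp, Subgroup.mem_bot, mul_inv_eq_one] at h9
    have h10 : F b = b := (inv_inj.1 h8).symm
    exact ⟨m * (a * v * b), mul_mem hm h4, mul_mem h1 (mul_mem (mul_mem (h.pos a ⟨ha', ha.2⟩ h9)
      (h.neg v ⟨S.U_mono (fun _ h => h.1) e3, e1⟩ e2)) (h.pos b ⟨S.U_mono (fun _ h => h.1) hb.1, hb.2⟩ h10)),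
      by simp [h2, h9, h10, e2], h3.mul (lng_mem_W _) h5⟩

/-- If the core contains enough unipotent elements then `Y` is fixed by `F`. -/
theorem fix_of_core (hc : ∀ i, ∃ v ∈ fixCore F Y, v ∈ S.U {r | R.Pos r} ∧ cf S i v ≠ 0) {g : G} (hg : g ∈ Y) : F g = g := by
  have h1 : ∀ d : G, (∀ c ∈ fixCore F Y, d * c * d⁻¹ = c) → d ∈ S.B := fun d hd => by
    obtain ⟨w, hw, h1⟩ := X.st.exists_cell (X.mem_univ d)
    have : w = 1 := R.eq_one_of_forall_pos_W hw fun i => by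
      obtain ⟨v, h2, h3, h4⟩ := hc i
      have h5 : R.up {r | R.Pos r} = {r | R.Pos r} := (up_pos fun _ h => h).antisymm fun r hr => ⟨r, hr, le_rfl⟩
      have := X.st.conj_root X.sep X.opp (ext_cf i) (M := {r | R.Pos r}) (fun _ h => h) h3 h4 hw h1 (by rwa [hd v h2, h5])
      rwa [h5] at this
    exact (X.st.mem_cell_one X.sep).1 (this ▸ h1)
  have h2 : ∀ c ∈ fixCore F Y, g⁻¹ * F g * c * (g⁻¹ * F g)⁻¹ = c := fun c hc => by
    have e1 := hc g hg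
    have e2 : F c = c := by simpa using hc 1 (one_mem _)
    rw [map_mul, map_mul, map_inv, e2] at e1
    rw [show g⁻¹ * F g * c * (g⁻¹ * F g)⁻¹ = g⁻¹ * (F g * c * (F g)⁻¹) * g by group, e1]; group
  generalize e : g⁻¹ * F g = d at h2
  obtain ⟨m, hm, h3, -, h4⟩ := h.exists_rep (Tw.lng_mem_W1 T.stable_univ)
  have h5 := h1 (m⁻¹ * d * m) fun c hc => by
    rw [show m⁻¹ * d * m * c * (m⁻¹ * d * m)⁻¹ = m⁻¹ * (d * (m * c * m⁻¹) * d⁻¹) * m by group, h2 _ (conj_mem_fixCore h3 hc)]; group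
  have h6 : d ∈ S.H := by
    rw [← X.st.B_inf_neg_sup_H X.opp]
    refine ⟨h1 d h2, ?_⟩
    obtain ⟨u, hu, a, ha, h6⟩ := X.st.mem_U_sup_H.1 h5
    rw [show d = m * u * m⁻¹ * (m * a * m⁻¹) by rw [← mul_inv_cancel_left m d, ← mul_inv_cancel_right (m⁻¹ * d) m, h6]; group]
    exact Subgroup.mul_mem_sup (h4.conj_mem (fun r hr => (pos_lng_iff (fun _ h => (h trivial).elim)).not.2 (not_not.2 hr)) hu)
      (X.st.conj_mem_H hm ha)
  obtain ⟨χ, h7, h8⟩ := X.st.exists_char h6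
  have h9 := isChar_eq_one (R := R) h7 fun i => by
    obtain ⟨v, e2, e3, e4⟩ := hc i
    have := cf_conj X.sep X.st h6 (h8 (R.simple i)) e3
    rw [h2 v e2] at this
    exact (mul_eq_right₀ e4).1 this.symm
  rw [h.hZ d h6 fun s u => by rw [h8, h9, one_mul], inv_mul_eq_one] at e
  exact e.symm

omit h [Finite Φ] in
variable (X F Y) in
/-- Some conjugate `u x_β(s) u⁻¹` lies in `Y` and is not fixed by `F`. -/
def Bad (β : Φ) : Prop :=
  ∃ u ∈ S.U {r | R.Pos r} ⊓ X.Fix, ∃ s, s ≠ 0 ∧ u * S.x β s * u⁻¹ ∈ Y ∧ F (u * S.x β s * u⁻¹) ≠ u * S.x β s * u⁻¹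

theorem bad_step {β : Φ} {i : I}
    (hi : ∀ u ∈ S.U {r | R.Pos r} ⊓ X.Fix, ∀ s, s ≠ 0 → u * S.x β s * u⁻¹ ∈ Y → φ (cf S i u) = cf S i u) (hb : Bad X F Y β) :
    Bad X F Y (lng R (T.orb i) β) := by
  obtain ⟨u, hu, s, hs, h1, h2⟩ := hb
  have h3 := hi u hu s hs h1
  obtain ⟨a, ha, b, hb, rfl⟩ := S.exists_mul nil_pos {r | R.InSub (T.orb i) r} hu.1
  obtain ⟨ha', hb'⟩ := TwSys.fix_mul (X := X) (nil_pos.inter fun r hr s hs k hk => inSub_of_mem_cone hk hr hs) (nil_rad Set.univ (T.orb i))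
    (Set.disjoint_left.2 fun r hr hr' => hr'.2 hr.2)
    (fun r hr => ⟨(T.pos_ρ r).2 hr.1, (T.inSub_ρ (T.stable_orb i) r).2 hr.2⟩)
    (fun r hr => ⟨⟨(T.pos_ρ r).2 hr.1.1, fun _ h => (h trivial).elim⟩, (T.inSub_ρ (T.stable_orb i) r).not.2 hr.2⟩) ha
    (S.U_mono (fun r hr => And.intro (And.intro hr.1 fun _ h => (h trivial).elim) hr.2) hb) hu.2
  obtain ⟨l, o, hl⟩ := h.orth i
  have ha1 : a ∈ S.U {r | R.Pos r} := S.U_mono (fun _ h => h.1) ha
  have hb1 : b ∈ S.U {r | R.Pos r} := S.U_mono (fun _ h => h.1) hb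
  have h4 : F a = a := o.eq_of_cf hl ⟨h.F_mem ha, h.F_fix ha'⟩ ⟨ha, ha'⟩ (by
    rw [cf_mul X.sep ha1 hb1, show cf S i b = 0 from co_of_mem (ext_cf i) X.sep (S.U_mono (fun r hr => And.intro hr.1 fun e =>
      hr.2 (by rw [show r = _ from e]; exact inSub_simple.2 (T.mem_orb i))) hb), add_zero] at h3
    exact (h.co_F (ext_cf i) ha1).trans h3)
  obtain ⟨m, -, h5, h6, h7⟩ := h.exists_rep (Tw.lng_orb_mem T.stable_univ (Set.mem_univ i))
  have h8 := h7.conj_mem (T' := {r | R.Pos r}) (fun r hr => (pos_lng_iff' hr.2).2 hr.1) hb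
  obtain ⟨χ, h9, -, h10⟩ := h7
  have e : m * b * m⁻¹ * S.x (lng R (T.orb i) β) (χ β * s) * (m * b * m⁻¹)⁻¹ =
      m * a⁻¹ * (a * b * S.x β s * (a * b)⁻¹) * (m * a⁻¹)⁻¹ := by rw [← h10]; group
  have h11 : m * a⁻¹ ∈ Y := mul_mem h5 (inv_mem (h.pos a ⟨ha1, ha'⟩ h4))
  refine ⟨_, ⟨h8, X.Fix.mul_mem (mul_mem (h.le h5) hb') (inv_mem (h.le h5))⟩, _, mul_ne_zero (h9 β) hs,
    e ▸ mul_mem (mul_mem h11 h1) (inv_mem h11), fun h12 => h2 ?_⟩
  rw [e, map_mul, map_mul, map_inv, map_mul F m, map_inv, h6, h4] at h12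
  exact mul_left_cancel (mul_right_cancel h12)

theorem mem_core (hU : ∀ u ∈ S.U {r | R.Pos r}, u ∈ Y → F u = u) {O : Set Φ} (hO : ∀ w ∈ T.W1 Set.univ, ∀ r ∈ O, w r ∈ O)
    (hs : ∀ β ∈ O, ¬ R.Pos β → ∃ i, R.ht β < R.ht (lng R (T.orb i) β) ∧
      ∀ u ∈ S.U {r | R.Pos r} ⊓ X.Fix, ∀ s, s ≠ 0 → u * S.x β s * u⁻¹ ∈ Y → φ (cf S i u) = cf S i u)
    {θ : Φ} (hθ : θ ∈ O) (h1 : ∀ u ∈ S.U {r | R.Pos r}, Commute u (S.x θ 1)) (h2 : S.x θ 1 ∈ Y) : S.x θ 1 ∈ fixCore F Y := by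
  have key : ∀ n : ℕ, ∀ β ∈ O, -R.ht β < n → ¬ Bad X F Y β := fun n => by
    induction n with
    | zero =>
      rintro β - hβ ⟨u, hu, s, -, e1, e2⟩
      exact e2 (hU _ (mul_mem (mul_mem hu.1 (S.x_mem_U ((R.pos_iff_ht β).2 (by omega)) s)) (Subgroup.inv_mem _ hu.1)) e1)
    | succ n ih =>
      intro β hβ e hb
      by_cases e' : R.Pos β
      · exact ih β hβ (by have := R.ht_pos e'; omega) hb
      · obtain ⟨i, e1, e2⟩ := hs β hβ e'
        exact ih _ (hO _ (Tw.lng_orb_mem T.stable_univ (Set.mem_univ i)) β hβ) (by omega) (h.bad_step e2 hb)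
  intro g hg
  obtain ⟨w, hw, e⟩ := X.exists_W1_cell (h.le hg)
  have e1 := mul_mem (mul_mem hg h2) (inv_mem hg)
  obtain ⟨u', hu', m, -, ⟨χ, e2, -, e3⟩, u, hu, rfl⟩ := X.fix_cell hw e (h.le hg)
  rw [show u' * m * u * S.x θ 1 * (u' * m * u)⁻¹ = u' * (m * (u * S.x θ 1 * u⁻¹) * m⁻¹) * u'⁻¹ by group,
    (h1 u (S.U_mono (fun _ h => h.1) hu.1)).mul_inv_cancel, e3] at e1 ⊢
  by_contra e4
  exact key ((-R.ht (w θ)).toNat + 1) _ (hO w hw θ hθ) (by omega) ⟨u', hu', _, by simpa using e2 θ, e1, e4⟩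

/-- The coefficient of `u` at a simple root is read off from a commutator. -/
theorem cf_fix (hU : ∀ u ∈ S.U {r | R.Pos r}, u ∈ Y → F u = u) {β γ ε k : Φ} {i : I} {A : Set Φ} (hi : R.simple i ∈ A) {s : K}
    (h1 : ∀ r, R.Pos r → r ∉ A → ∀ t, Commute (S.x r t) (S.x β s)) (h2 : ∀ r ∈ A, R.Pos r → ∀ t, Commute (S.x r t) (S.x γ 1))
    (h3 : S.x γ 1 ∈ Y) (hε : R.Pos ε) {C : K} (hC : C ≠ 0) (hC' : φ C = C)
    (h4 : (S.x ε (C * s))⁻¹ * ⁅S.x β s, S.x γ 1⁆ ∈ S.U (R.lev {r | R.Pos r} htL (R.ht ε + 1)))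
    (h5 : φ s = s → F ⁅S.x β s, S.x γ 1⁆ = ⁅S.x β s, S.x γ 1⁆) (hk : R.rt k = R.rt (R.simple i) + R.rt ε) {N : K} (hN : N ≠ 0)
    (h6 : ∀ t, S.co (R.lev {r | R.Pos r} htL (1 + R.ht ε)) k ⁅S.x (R.simple i) t, S.x ε (C * s)⁆ = N * t)
    {u : G} (hu : u ∈ S.U {r | R.Pos r}) (hy : u * S.x β s * u⁻¹ ∈ Y) : φ (cf S i u) = cf S i u := by
  obtain ⟨a, ha, b, hb, rfl⟩ := S.exists_mul nil_pos A hu
  have ha1 : a ∈ S.U {r | R.Pos r} := S.U_mono (fun _ h => h.1) ha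
  have e1 : Commute b (S.x β s) := (Subgroup.mem_centralizer_singleton_iff.1
    ((S.U_le_iff (H := Subgroup.centralizer {S.x β s})).2 (fun r hr t => Subgroup.mem_centralizer_singleton_iff.2 (h1 r hr.1 hr.2 t)) hb))
  have e2 : Commute a (S.x γ 1) := (Subgroup.mem_centralizer_singleton_iff.1
    ((S.U_le_iff (H := Subgroup.centralizer {S.x γ 1})).2 (fun r hr t => Subgroup.mem_centralizer_singleton_iff.2 (h2 r hr.2 hr.1 t)) ha))
  rw [cf_mul X.sep ha1 (S.U_mono (fun _ h => h.1) hb), show cf S i b = 0 from co_of_mem (ext_cf i) X.sep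
    (S.U_mono (fun r hr => And.intro hr.1 fun e => hr.2 (by rwa [show r = _ from e])) hb), add_zero]
  rw [show a * b * S.x β s * (a * b)⁻¹ = a * (b * S.x β s * b⁻¹) * a⁻¹ by group, e1.mul_inv_cancel] at hy
  have e3 : a * ⁅S.x β s, S.x γ 1⁆ * a⁻¹ ∈ Y := by
    have := mul_mem (mul_mem hy h3) (mul_mem (inv_mem hy) (inv_mem h3))
    rw [← e2.mul_inv_cancel] at this
    convert this using 1
    simp only [commutatorElement_def]; group
  generalize ⁅S.x β s, S.x γ 1⁆ = c at *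
  have hE := nil_pos.ext_lev (T := {r | R.Pos r}) hε
  have hε' : ε ∈ R.lev {r | R.Pos r} htL (R.ht ε) := hE.mem
  have e4 : c ∈ S.U (R.lev {r | R.Pos r} htL (R.ht ε)) := by
    simpa using mul_mem (S.x_mem_U hε' (C * s)) (S.U_mono (lev_succ_subset _ _ _) h4)
  have e5 := hU _ (S.U_mono (fun _ h => h.1) (S.conj_mem_lev nil_pos _ ha1 e4)) e3
  have e6 : S.co (R.lev {r | R.Pos r} htL (R.ht ε)) ε (a * c * a⁻¹) = C * s := (co_conj hE X.sep ha1 e4).trans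
    (co_eq hE X.sep (S.U_mono (fun r hr => And.intro (lev_succ_subset _ _ _ hr) fun e => by
      have := hr.2; rw [show r = ε from e, htL_rt] at this; omega) h4))
  have e7 := h.co_F hE (S.conj_mem_lev nil_pos _ ha1 e4)
  erw [e5, e6, map_mul, hC'] at e7
  rw [map_mul, map_mul, map_inv, h5 (mul_left_cancel₀ hC e7).symm] at e5
  have hd : a⁻¹ * F a ∈ S.U (R.lev {r | R.Pos r} htL 1) := by rw [lev_one]; exact mul_mem (inv_mem ha1) (h.F_mem ha1)
  have hk1 : R.Pos k := R.pos_of_comb (R.pos_simple i) hε (i := 1) (j := 1) (by simpa using hk)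
  have hk2 : htL (R.rt k) = 1 + R.ht ε := by rw [hk, map_add, htL_rt, htL_rt, R.ht_simple]
  have e8 : ⁅a⁻¹ * F a, S.x ε (C * s) * ((S.x ε (C * s))⁻¹ * c)⁆ = 1 := by
    rw [mul_inv_cancel_left, commutatorElement_def, show a⁻¹ * F a * c * (a⁻¹ * F a)⁻¹ = a⁻¹ * (F a * c * (F a)⁻¹) * a by group, e5]
    group
  have e9 := co_comm_right nil_pos X.sep hk1 hk2 hd (S.x_mem_U hε' (C * s)) (S.U_mono (lev_succ_subset _ _ _) h4)
  rw [e8, co_comm_succ nil_pos X.sep hk1 hk2 hd h4, co_comm_x nil_pos X.sep hk1 hk2 (R.pos_simple i) (R.ht_simple i) hε'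
    (fun c _ e => R.rt_inj (add_right_cancel (e.symm.trans hk))) h6 hd, co_one (hk2 ▸ nil_pos.ext_lev hk1) X.sep, add_zero,
    lev_one] at e9
  have e10 : cf S i (a⁻¹ * F a) = 0 := (mul_eq_zero.1 e9.symm).resolve_left hN
  rw [cf_mul X.sep (inv_mem ha1) (h.F_mem ha1), cf_inv X.sep ha1, neg_add_eq_zero] at e10
  exact (h.co_F (ext_cf i) ha1).symm.trans e10.symm

omit h [Finite Φ] in
variable (X F) in
/-- `d` centralises the unipotent elements fixed by both maps. -/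
def Cen (d : G) : Prop := ∀ x ∈ S.U {r | R.Pos r} ⊓ X.Fix, F x = x → Commute d x

theorem exists_cen {v : G} (hv : v ∈ S.U {r | R.Pos r}) (hY : v ∈ Y) (h1 : F v ≠ v) :
    ∃ v ∈ S.U {r | R.Pos r}, v ∈ Y ∧ F v ≠ v ∧ Cen X F (v⁻¹ * F v) := by
  by_contra! hc
  obtain ⟨m, hm⟩ := exists_lev_eq_empty (R := R) {r | R.Pos r} htL
  refine h1 (Nat.decreasingInduction (motive := fun n _ => ∀ v ∈ S.U (R.lev {r | R.Pos r} htL n), v ∈ Y → F v = v)
    (fun n _ ih v hv hY => ?_) (fun v hv _ => ?_) (Nat.zero_le m) v (S.U_mono nil_pos.subset_lev_zero hv) hY)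
  · by_contra h2
    refine hc v (S.U_mono (fun _ h => h.1) hv) hY h2 fun x hx e => ?_
    have h3 := h.pos x hx e
    have h4 := ih _ (by exact_mod_cast S.comm_mem_lev nil_pos hx.1 hv) (mul_mem (mul_mem (mul_mem h3 hY) (inv_mem h3)) (inv_mem hY))
    simp only [map_mul, map_inv, e, mul_assoc, mul_right_inj] at h4
    refine Commute.inv_right_iff.1 ?_
    rw [Commute, SemiconjBy, show v⁻¹ * F v * x⁻¹ = v⁻¹ * (F v * (x⁻¹ * (F v)⁻¹)) * F v by group, h4]; group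
  · rw [hm, S.U_empty, Subgroup.mem_bot] at hv
    rw [hv, map_one]

omit h in
theorem mem_lev_of_cen {n : ℕ} (hc : ∀ a, R.Pos a → R.ht a < n → ∀ d ∈ S.U (R.lev {r | R.Pos r} htL (R.ht a)), Cen X F d →
    S.co (R.lev {r | R.Pos r} htL (R.ht a)) a d = 0) {d : G} (hd : d ∈ S.U {r | R.Pos r}) (h1 : Cen X F d) :
    d ∈ S.U (R.lev {r | R.Pos r} htL n) := by
  induction n with
  | zero => exact S.U_mono nil_pos.subset_lev_zero hd
  | succ n ih =>
    have := ih fun a ha e => hc a ha (by omega)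
    exact_mod_cast mem_lev_succ X.sep nil_pos this fun a ha e => e ▸ hc a ha (by rw [htL_rt] at e; omega) d (by rwa [← htL_rt, e]) h1

omit h in
theorem mem_top_of_cen {A : Set Φ} (hA : ∀ k ∈ A, R.Pos k → ∀ t, ∀ u ∈ S.U {r | R.Pos r}, Commute (S.x k t) u)
    (hc : ∀ a, R.Pos a → a ∉ A → ∀ d ∈ S.U (R.lev {r | R.Pos r} htL (R.ht a)), Cen X F d →
    S.co (R.lev {r | R.Pos r} htL (R.ht a)) a d = 0) {d : G} (hd : d ∈ S.U {r | R.Pos r}) (h1 : Cen X F d) :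
    d ∈ S.U ({r | R.Pos r} ∩ A) := by
  obtain ⟨m, hm⟩ := exists_lev_eq_empty (R := R) {r | R.Pos r} htL
  refine Nat.decreasingInduction (motive := fun n _ => ∀ d ∈ S.U (R.lev {r | R.Pos r} htL n), Cen X F d → d ∈ S.U ({r | R.Pos r} ∩ A))
    (fun n _ ih d hd h1 => ?_) (fun v hv _ => ?_) (Nat.zero_le m) d (S.U_mono nil_pos.subset_lev_zero hd) h1
  · obtain ⟨a, ha, b, hb, rfl⟩ := S.exists_mul (nil_pos.lev n) A hd
    have h2 : Cen X F b := fun x hx e => by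
      have : Commute a x := Subgroup.mem_centralizer_singleton_iff.1 ((S.U_le_iff (H := Subgroup.centralizer {x})).2
        (fun r hr t => Subgroup.mem_centralizer_singleton_iff.2 (hA r hr.2 hr.1.1 t x hx.1)) ha)
      simpa using this.inv_left.mul_left (h1 x hx e)
    have h3 : b ∈ S.U (R.lev {r | R.Pos r} htL n) := S.U_mono (fun _ h => h.1) hb
    refine mul_mem (S.U_mono (fun _ h => And.intro h.1.1 h.2) ha) (ih b ?_ h2)
    push_cast
    refine mem_lev_succ X.sep nil_pos h3 fun r hr e => ?_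
    by_cases h4 : r ∈ A
    · exact co_of_mem (e ▸ nil_pos.ext_lev hr) X.sep (S.U_mono (fun k hk => And.intro hk.1 fun e => hk.2 (by rwa [show k = r from e])) hb)
    · exact e ▸ hc r hr h4 b (by rwa [← htL_rt, e]) h2
  · rw [hm, S.U_empty, Subgroup.mem_bot] at hv
    exact hv ▸ one_mem _

theorem le_of_conj {w : Equiv.Perm Φ} (hw : w ∈ T.W1 Set.univ) {A B : Set Φ} (hA : ∀ r ∈ A, w r ∈ B) (hB : S.U B ⊓ X.Fix ≤ Y) :
    S.U A ⊓ X.Fix ≤ Y := fun g hg => by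
  obtain ⟨m, -, h1, -, h2⟩ := h.exists_rep hw
  simpa [mul_assoc] using mul_mem (mul_mem (inv_mem h1) (hB ⟨h2.conj_mem hA hg.1,
    X.Fix.mul_mem (mul_mem (h.le h1) hg.2) (inv_mem (h.le h1))⟩)) h1

theorem eq_Fix (hgen : X.Fix ≤ S.U {r | R.Pos r} ⊓ X.Fix ⊔ S.U {r | ¬ R.Pos r} ⊓ X.Fix)
    (hp : ∀ i, S.U {r | R.Pos r ∧ R.InSub (T.orb i) r} ⊓ X.Fix ≤ Y) : Y = X.Fix := by
  have : X.Grp Y := ⟨h.le, hp, fun i => by
    obtain ⟨l, o, hl⟩ := h.orth i
    exact ⟨_, h.neg _ ⟨S.U_mono (fun _ h => h.1) (o.neg_mem hl), o.zl_fix (Or.inr rfl) (by simp)⟩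
      (by rw [h.F_zl]; congr; ext; simp), o.neg_mem hl, o.neg_ne_one ((hl i).1 (T.mem_orb i))⟩⟩
  exact h.le.antisymm (hgen.trans (sup_le this.pos_le this.neg_le))

omit h [Finite Φ] in
theorem h_mem {r : Φ} (hx : ∀ t, φ t = t → S.x r t ∈ Y ∧ S.x (R.neg r) t ∈ Y) {t : K} (ht : φ t = t) : S.h r t ∈ Y := by
  have : ∀ t, φ t = t → S.n r t ∈ Y := fun t ht => mul_mem (mul_mem (hx t ht).1 (hx _ (by simp [ht])).2) (hx t ht).1
  exact mul_mem (this t ht) (this _ (by simp))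

section lift
variable (hρ : ∀ r, R.ht (T.ρ r) = R.ht r) (hO : ∀ r, R.Pos r → ∀ c, φ c = c → ∃ z ∈ X.Fix, F z = z ∧
  (S.x r c)⁻¹ * z ∈ S.U ({k | T.ρ.SameCycle r k} \ {r}))
include hρ

omit h in
theorem co_σ {m : ℤ} {r : Φ} (hr : R.Pos r) (e : R.ht r = m) {g : G} (hg : g ∈ S.U (R.lev {r | R.Pos r} htL m)) :
    S.co (R.lev {r | R.Pos r} htL m) (T.ρ r) (X.σ g) = X.ε r * X.φ r (S.co (R.lev {r | R.Pos r} htL m) r g) :=
  co_map (ext_ht hr e) X.sep (ext_ht ((T.pos_ρ r).2 hr) ((hρ r).trans e)) X.σ (X.σ_x r) (fun k hk t =>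
    X.σ_x k t ▸ S.x_mem_U (And.intro (And.intro ((T.pos_ρ k).2 hk.1.1) (hk.1.2.trans_eq (hρ k).symm))
      fun e => hk.2 (T.ρ.injective e)) _) hg

omit h in
theorem sameCycle_ht {r k : Φ} (e : T.ρ.SameCycle r k) : (R.Pos r → R.Pos k) ∧ R.ht k = R.ht r := by
  obtain ⟨n, -, rfl⟩ := e.exists_pow_eq'
  induction n with
  | zero => exact ⟨id, rfl⟩
  | succ n ih =>
    have := ih (Equiv.Perm.sameCycle_pow_right.2 (Equiv.Perm.SameCycle.refl _ _))
    rw [pow_succ', Equiv.Perm.mul_apply, hρ, T.pos_ρ]; exact this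

include hO

theorem lift_step {m : ℤ} {v : G} (hv : v ∈ S.U (R.lev {r | R.Pos r} htL m) ⊓ X.Fix)
    (h1 : v⁻¹ * F v ∈ S.U (R.lev {r | R.Pos r} htL (m + 1))) :
    ∃ z ∈ S.U {r | R.Pos r} ⊓ X.Fix, F z = z ∧ z⁻¹ * v ∈ S.U (R.lev {r | R.Pos r} htL (m + 1)) := by
  classical
  have key : ∀ s : Finset Φ, ∃ z ∈ S.U (R.lev {r | R.Pos r} htL m) ⊓ X.Fix, F z = z ∧
      ∀ r ∈ s, R.Pos r → R.ht r = m → S.co (R.lev {r | R.Pos r} htL m) r (z⁻¹ * v) = 0 := fun s => by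
    induction s using Finset.induction_on with
    | empty => exact ⟨1, one_mem _, map_one F, by simp⟩
    | insert r s _ ih =>
      obtain ⟨z, hz, h2, h3⟩ := ih
      by_cases hr : R.Pos r ∧ R.ht r = m
      swap; · exact ⟨z, hz, h2, by simpa [imp_not_comm, not_and.1 hr] using And.intro (fun a b => (hr ⟨a, b⟩).elim) h3⟩
      have hE := ext_ht hr.1 hr.2
      have hv' := mul_mem (inv_mem hz) hv
      have h4 : φ (S.co (R.lev {r | R.Pos r} htL m) r (z⁻¹ * v)) = S.co (R.lev {r | R.Pos r} htL m) r (z⁻¹ * v) := by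
        rw [← h.co_F hE hv'.1, map_mul, map_inv, h2, show z⁻¹ * F v = z⁻¹ * v * (v⁻¹ * F v) by group,
          co_mul hE X.sep hv'.1 (S.U_mono (lev_succ_subset _ _ _) h1), co_of_mem hE X.sep (g := v⁻¹ * F v) (S.U_mono (fun k hk =>
            And.intro (lev_succ_subset _ _ _ hk) fun e => by have := hk.2; rw [show k = r from e, htL_rt] at this; omega) h1), add_zero]
      obtain ⟨y, hy, h5, h6⟩ := hO r hr.1 _ h4
      have h7 : ∀ k, T.ρ.SameCycle r k → k ∈ R.lev {r | R.Pos r} htL m := fun k hk =>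
        ⟨(sameCycle_ht hρ hk).1 hr.1, ((sameCycle_ht hρ hk).2.trans hr.2).ge⟩
      have h8 : y ∈ S.U {k | T.ρ.SameCycle r k} := by
        rw [← mul_inv_cancel_left (S.x r _) y]
        exact mul_mem (S.x_mem_U (Equiv.Perm.SameCycle.refl T.ρ r) _) (S.U_mono (fun _ h => h.1) h6)
      have h9 : y ∈ S.U (R.lev {r | R.Pos r} htL m) ⊓ X.Fix := ⟨S.U_mono h7 h8, hy⟩
      have hv'' := mul_mem (inv_mem h9) hv'
      have h10 : ∀ n : ℕ, S.co (R.lev {r | R.Pos r} htL m) ((T.ρ ^ n) r) (y⁻¹ * (z⁻¹ * v)) = 0 := fun n => by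
        induction n with
        | zero =>
          rw [pow_zero, Equiv.Perm.one_apply, co_mul hE X.sep (Subgroup.inv_mem _ h9.1) hv'.1, co_inv hE X.sep h9.1,
            co_eq hE X.sep (S.U_mono (fun k hk => And.intro (h7 k hk.1) hk.2) h6), neg_add_cancel]
        | succ n ih =>
          have := h7 _ (Equiv.Perm.sameCycle_pow_right.2 (Equiv.Perm.SameCycle.refl T.ρ r) : T.ρ.SameCycle r ((T.ρ ^ n) r))
          rw [pow_succ', Equiv.Perm.mul_apply, ← X.mem_Fix.1 hv''.2, co_σ hρ this.1 ((sameCycle_ht hρ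
            (Equiv.Perm.sameCycle_pow_right.2 (Equiv.Perm.SameCycle.refl T.ρ r))).2.trans hr.2) hv''.1, ih, map_zero, mul_zero]
      refine ⟨z * y, mul_mem hz h9, by rw [map_mul, h2, h5], fun k hk e1 e2 => ?_⟩
      rw [mul_inv_rev, mul_assoc]
      by_cases e : T.ρ.SameCycle r k
      · obtain ⟨n, -, rfl⟩ := e.exists_pow_eq'
        exact h10 n
      · have hE' := ext_ht e1 e2
        rw [co_mul hE' X.sep (Subgroup.inv_mem _ h9.1) hv'.1, co_inv hE' X.sep h9.1, co_of_mem hE' X.sep (S.U_mono (fun a ha =>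
          And.intro (h7 a ha) fun e' => e (by rwa [← show a = k from e'])) h8), neg_zero, zero_add,
          h3 k ((Finset.mem_insert.1 hk).resolve_left fun e' => e (e' ▸ Equiv.Perm.SameCycle.refl _ _)) e1 e2]
  have := Fintype.ofFinite Φ
  obtain ⟨z, hz, h2, h3⟩ := key Finset.univ
  exact ⟨z, ⟨S.U_mono (fun _ h => h.1) hz.1, hz.2⟩, h2,
    mem_lev_succ X.sep nil_pos (mul_mem (inv_mem hz) hv).1 fun r => h3 r (Finset.mem_univ r)⟩

theorem exists_top {n : ℕ} (hc : ∀ a, R.Pos a → R.ht a < n → ∀ d ∈ S.U (R.lev {r | R.Pos r} htL (R.ht a)), Cen X F d →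
    S.co (R.lev {r | R.Pos r} htL (R.ht a)) a d = 0) {v : G} (hv : v ∈ S.U {r | R.Pos r}) (hY : v ∈ Y) (h1 : F v ≠ v) :
    ∃ v ∈ S.U (R.lev {r | R.Pos r} htL n), v ∈ Y ∧ F v ≠ v := by
  obtain ⟨v, hv, hY, h1, h2⟩ := h.exists_cen hv hY h1
  have h3 := mem_lev_of_cen hc (mul_mem (inv_mem hv) (h.F_mem hv)) h2
  suffices ∀ m ≤ n, ∃ v' ∈ S.U (R.lev {r | R.Pos r} htL m), v' ∈ Y ∧ v'⁻¹ * F v' = v⁻¹ * F v by
    obtain ⟨v', a, b, c⟩ := this n le_rfl
    exact ⟨v', a, b, fun e => h1 (inv_mul_eq_one.1 (by rw [← c, e, inv_mul_cancel])).symm⟩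
  intro m hm
  induction m with
  | zero => exact ⟨v, S.U_mono nil_pos.subset_lev_zero hv, hY, rfl⟩
  | succ m ih =>
    obtain ⟨v', a, b, c⟩ := ih (by omega)
    obtain ⟨z, hz, e1, e2⟩ := h.lift_step hρ hO ⟨a, h.le b⟩ (c ▸ S.U_mono (fun k hk => And.intro hk.1 (by have := hk.2; omega)) h3)
    exact ⟨_, by exact_mod_cast e2, mul_mem (inv_mem (h.pos z hz e1)) b, by rw [← c, map_mul, map_inv, e1]; group⟩

end lift

end SubD

section dec
variable (D : ChevalleyDatum)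

/-- The root `b + a` and the structure constant. -/
def hdT (b a : ℕ) : ℕ × ℤ := match D.commTerms b a with
  | (k, C, 1, 1) :: l => if ∀ c ∈ l, c.1 ≠ k then (k, C) else (0, 0)
  | _ => (0, 0)

variable {D} {R : RootSys (Fin D.rank) (Fin D.nroots)} (hc : Compat D R) {S : PreSys R K G} (hE : S.Exact fun r s => termsF D r s)
include hc

theorem hdT_spec {a b : Fin D.nroots} (h : (hdT D b a).2 ≠ 0) : ∃ k l, termsF D b a = (k, (hdT D b a).2, 1, 1) :: l ∧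
    (k : ℕ) = (hdT D b a).1 ∧ (∀ c ∈ l, c.1 ≠ k) ∧ R.rt k = R.rt a + R.rt b ∧ a ≠ b ∧ a ≠ R.neg b := by
  have e := hc.map_termsF b a
  unfold hdT at h ⊢
  split at h
  · rename_i k C l e1
    split_ifs at h ⊢ with e2
    · rw [e1, List.map_eq_cons_iff] at e
      obtain ⟨c, l', e3, e4, rfl⟩ := e
      obtain ⟨k', c⟩ := c
      obtain ⟨rfl, rfl⟩ := Prod.mk.inj e4
      have e5 : R.rt k' = R.rt a + R.rt b := by
        simpa [add_comm] using (hc.mem_termsF (e3 ▸ List.mem_cons_self : (k', C, 1, 1) ∈ termsF D b a)).2.2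
      refine ⟨k', l', e3, rfl, fun c hc e => e2 _ (List.mem_map_of_mem hc) (congrArg Fin.val e), e5, ?_, ?_⟩
      · rintro rfl
        have : k' ∈ R.cone a a := ⟨1, 1, le_rfl, le_rfl, by simpa using e5⟩
        rwa [R.cone_self] at this
      · rintro rfl
        exact R.rt_ne_zero k' (by rw [e5, R.rt_neg, neg_add_cancel])
    · exact (h rfl).elim
  · exact (h rfl).elim

include hE

omit hc in
theorem comm_eq {a b : Fin D.nroots} (h1 : a ≠ b) (h2 : a ≠ R.neg b) (t u : K) : ⁅S.x a t, S.x b u⁆ =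
    ((termsF D b a).map fun c => S.x c.1 ((c.2.1 : K) * u ^ c.2.2.1 * (-t) ^ c.2.2.2)).prod := by
  simpa using (hE.prod_eq h1 h2 (-u) (-t)).symm

theorem commute_dec {r s : Fin D.nroots} (h : s = r ∨ ((s : ℕ) ≠ D.neg r ∧ ∀ c ∈ D.commTerms r s, (c.2.1 : K) = 0)) (t u : K) :
    Commute (S.x s t) (S.x r u) := by
  by_cases e : s = r
  · subst e; exact S.x_comm _ _ _
  · exact (hc.commute_of_terms hE e (fun e' => (h.resolve_left e).1 (e' ▸ hc.neg_eq r)) (h.resolve_left e).2 u t).symm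

theorem co_hd (hF : S.Sep) {T : Set (Fin D.nroots)} {f} (hT : R.Nil T f) {m n : ℤ} {a b k : Fin D.nroots} (ha : a ∈ R.lev T f m)
    (hb : b ∈ R.lev T f n) (e : f (R.rt k) = m + n) (h0 : (hdT D b a).2 ≠ 0) (h1 : (k : ℕ) = (hdT D b a).1) (t u : K) :
    S.co (R.lev T f (m + n)) k ⁅S.x a t, S.x b u⁆ = -((hdT D b a).2 * u) * t := by
  obtain ⟨k', l, e1, e2, e3, e4, e5, e6⟩ := hdT_spec hc h0
  obtain rfl : k = k' := Fin.ext (h1.trans e2.symm)
  refine co_eq (e ▸ hT.ext_lev (hT.closed a ha.1 b hb.1 ⟨1, 1, le_rfl, le_rfl, by simpa using e4⟩)) hF ?_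
  rw [comm_eq hE e5 e6, e1, List.map_cons, List.prod_cons, show -((hdT D b a).2 * u) * t = (hdT D b a).2 * u ^ 1 * (-t) ^ 1 by ring,
    inv_mul_cancel_left]
  refine Subgroup.list_prod_mem _ fun g hg => ?_
  obtain ⟨c, hc', rfl⟩ := List.mem_map.1 hg
  exact S.x_mem_U (And.intro (cone_lev_add hT ha hb (R.cone_comm _ _ ▸ hc.terms b a c (by simp only [e1]; exact List.mem_cons_of_mem _ hc'))) (e3 c hc')) _

/-- The leading coefficient of `⁅d, x_b(u)⁆`. -/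
theorem co_comm_hd (hF : S.Sep) {T : Set (Fin D.nroots)} {f} (hT : R.Nil T f) {m n : ℤ} {a b k : Fin D.nroots} (ha : a ∈ T)
    (ha' : f (R.rt a) = m) (hb : b ∈ T) (hb' : f (R.rt b) = n) (h0 : (hdT D b a).2 ≠ 0) (h1 : (k : ℕ) = (hdT D b a).1) (u : K) {d : G}
    (hd : d ∈ S.U (R.lev T f m)) : k ∈ T ∧ f (R.rt k) = m + n ∧
      S.co (R.lev T f (m + n)) k ⁅d, S.x b u⁆ = -((hdT D b a).2 * u) * S.co (R.lev T f m) a d := by
  obtain ⟨k', l, -, e2, -, e4, -⟩ := hdT_spec hc h0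
  obtain rfl : k = k' := Fin.ext (h1.trans e2.symm)
  have e : f (R.rt k) = m + n := by rw [e4, map_add, ha', hb']
  have hk := hT.closed a ha b hb ⟨1, 1, le_rfl, le_rfl, by simpa using e4⟩
  exact ⟨hk, e, co_comm_x hT hF hk e ha ha' ⟨hb, hb'.ge⟩ (fun c _ e => R.rt_inj (add_right_cancel (e.symm.trans e4)))
    (fun t => co_hd hc hE hF hT ⟨ha, ha'.ge⟩ ⟨hb, hb'.ge⟩ e h0 h1 t u) hd⟩

end dec

section dec2
variable (D : ChevalleyDatum) (t : RTab)

/-- The certificate for reading off a simple coefficient. -/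
def okγ (β γ i : ℕ) : Prop := prN D β (D.simple i) < 0 ∧ (∀ r < D.nroots, D.nroots ≤ 2 * r →
    if prN D β r < 0 then r = γ ∨ (r ≠ D.neg γ ∧ D.commTerms γ r = []) else r ≠ D.neg β ∧ D.commTerms β r = []) ∧
  (hdT D γ β).2 ^ 2 = 1 ∧ D.nroots ≤ 2 * (hdT D γ β).1 ∧ (∀ c ∈ (D.commTerms γ β).tail, htN D t (hdT D γ β).1 < htN D t c.1) ∧
  (hdT D (hdT D γ β).1 (D.simple i)).2 ^ 2 = 1

noncomputable instance okγ_dec (β γ i : ℕ) : Decidable (okγ D t β γ i) := by unfold okγ; infer_instance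

theorem sq_cast {C : ℤ} (h : C ^ 2 = 1) : C ≠ 0 ∧ (C : K) ≠ 0 := by
  rcases sq_eq_one_iff.1 h with rfl | rfl <;> simp

variable {D t} {hR : RootOK D t} {S : PreSys hR.R K G} {T : Tw hR.R} {X : TwSys S T} {F : G →* G} {φ : K →+* K} {Y : Subgroup G}
  (h : SubD X F φ Y) (hE : S.Exact fun r s => termsF D r s)
include h hE

theorem SubD.cf_fix_dec (hU : ∀ u ∈ S.U {r | hR.R.Pos r}, u ∈ Y → F u = u) {β γ : Fin D.nroots} {i : Fin D.rank}
    (hd : okγ D t β γ i) (h3 : S.x γ 1 ∈ Y) {u : G} (hu : u ∈ S.U {r | hR.R.Pos r}) {s : K} (hs : s ≠ 0)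
    (hy : u * S.x β s * u⁻¹ ∈ Y) : φ (cf S i u) = cf S i u := by
  have hc := hR.compat
  obtain ⟨d1, d2, d3, d4, d5, d6⟩ := hd
  obtain ⟨ε, l, e1, e2, -, -, e5, e6⟩ := hdT_spec hc (sq_cast (K := K) d3).1
  rw [← e2, ← hc.simple_eq] at d6
  obtain ⟨k, -, -, e7, -, e8, -⟩ := hdT_spec hc (sq_cast (K := K) d6).1
  have hε : hR.R.Pos ε := (hR.pos_iff_half ε).2 (e2 ▸ d4)
  refine h.cf_fix hU (A := {r | hR.R.pair β r < 0}) (by rwa [Set.mem_ofPred_eq, hc.pair_eq, hc.simple_eq]) (fun r hr h1 t => ?_)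
    (fun r h1 hr t => ?_) h3 hε (C := -(hdT D γ β).2) (neg_ne_zero.2 (sq_cast d3).2) (by simp) ?_ (fun e => ?_) e8
    (neg_ne_zero.2 (mul_ne_zero (sq_cast d6).2 (mul_ne_zero (neg_ne_zero.2 (sq_cast d3).2) hs))) (fun t => co_hd hc hE X.sep nil_pos
      ⟨hR.R.pos_simple i, (hR.R.ht_simple i).ge⟩ ⟨hε, le_rfl⟩ (by rw [e8, map_add, htL_rt, htL_rt, ht_simple])
      (sq_cast (K := K) d6).1 e7 t _) hu hy
  · have := d2 r r.2 ((hR.pos_iff_half r).1 hr)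
    rw [if_neg (by rwa [← hc.pair_eq])] at this
    exact commute_dec hc hE (Or.inr ⟨this.1, by simp [this.2]⟩) _ _
  · have := d2 r r.2 ((hR.pos_iff_half r).1 hr)
    rw [if_pos (by rwa [← hc.pair_eq])] at this
    exact commute_dec hc hE (this.imp Fin.ext fun e => ⟨e.1, by simp [e.2]⟩) _ _
  · rw [comm_eq hE e5 e6, e1, List.map_cons, List.prod_cons, show -((hdT D γ β).2 : K) * s = (hdT D γ β).2 * 1 ^ 1 * (-s) ^ 1 by ring,
      inv_mul_cancel_left]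
    refine Subgroup.list_prod_mem _ fun g hg => ?_
    obtain ⟨c, hc', rfl⟩ := List.mem_map.1 hg
    have := d5 (c.1, c.2) (by rw [← hc.map_termsF, e1]; exact List.mem_map_of_mem (f := fun c => ((c.1 : ℕ), c.2)) hc')
    rw [← e2, ← ht_eq hR, ← ht_eq hR] at this
    exact S.x_mem_U (And.intro ((hR.R.pos_iff_ht _).2 ((hR.R.ht_pos hε).trans this)) this) _
  · simp [comm_eq hE e5 e6, map_list_prod, h.F_x, e, Function.comp_def]

end dec2

end Cfsg.Lib.Twist
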