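/-
Overgroups of subfield subgroups: further general lemmas.
-/
import Cfsg.Agent.Lib.Twist.SubA

set_option autoImplicit false

namespace Cfsg.Lib.Twist

open Cfsg.Lib.Chev PreSys RootSys Cfsg.Lie
open scoped commutatorElement

universe u

section
variable {I Φ : Type*} [Fintype I] [DecidableEq I] {R : RootSys I Φ} {K : Type*} [Field K] {G : Type*} [Group G] {S : PreSys R K G}

theorem co_comm_zero₂ [Finite Φ] {T : Set Φ} {f : (I → ℤ) →+ ℤ} (hT : R.Nil T f) (hF : S.Sep) {m n : ℤ} {k : Φ} (hk : k ∈ T)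
    (e : f (R.rt k) = m + n) {A B : Set Φ} (hA : A ⊆ R.lev T f m) (hB : B ⊆ R.lev T f n)
    (h : ∀ a ∈ A, ∀ b ∈ B, R.rt k ≠ R.rt a + R.rt b) {d g : G} (hd : d ∈ S.U A) (hg : g ∈ S.U B) :
    S.co (R.lev T f (m + n)) k ⁅d, g⁆ = 0 := by
  induction hd using S.U_induction_left with
  | h1 => rw [commutatorElement_one_left, co_one (e ▸ hT.ext_lev hk) hF]
  | h2 a ha t d hd ih =>
    rw [co_comm_left hT hF hk e (S.x_mem_U (hA ha) t) (S.U_mono hA hd) (S.U_mono hB hg), ih, add_zero]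
    clear ih
    induction hg using S.U_induction_left with
    | h1 => rw [commutatorElement_one_right, co_one (e ▸ hT.ext_lev hk) hF]
    | h2 b hb u g hg ih =>
      rw [co_comm_right hT hF hk e (S.x_mem_U (hA ha) t) (S.x_mem_U (hB hb) u) (S.U_mono hB hg), ih,
        co_comm_x_zero hT hF hk e (hA ha) (hB hb) (h a ha b hb), add_zero]

theorem nil_fun (f : (I → ℤ) →+ ℤ) : R.Nil {r | 0 < f (R.rt r)} f :=
  ⟨fun _ hr _ hs _ hk => (add_pos hr hs).trans_le (le_of_mem_cone hk (le_of_lt hr) (le_of_lt hs)), fun _ h => h⟩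

theorem nil_top {n : ℤ} (h : ∀ k, R.ht k < n + n) {A : Set Φ} (hA : A ⊆ R.lev {r | R.Pos r} htL n) : R.Nil A htL :=
  ⟨fun _ hr _ hs k hk => ((h k).not_ge (cone_lev_add nil_pos (hA hr) (hA hs) hk).2).elim, fun _ hr => R.ht_pos (hA hr).1⟩

namespace SubD
variable {T : Tw R} {X : TwSys S T} {F : G →* G} {φ : K →+* K} {Y : Subgroup G} (h : SubD X F φ Y) [Finite Φ]
include h

theorem exists_conj {w : Equiv.Perm Φ} (hw : w ∈ T.W1 Set.univ) (r : Φ) : ∃ m ∈ Y, F m = m ∧ S.Act m w ∧ ∃ c, c ≠ 0 ∧ φ c = c ∧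
    ∀ t, m * S.x r t * m⁻¹ = S.x (w r) (c * t) := by
  obtain ⟨m, -, h1, h2, χ, h3, h4, h5⟩ := h.exists_rep hw
  refine ⟨m, h1, h2, ⟨χ, h3, h4, h5⟩, χ r, h3 r, X.sep.x_inj (r := w r) ?_, h5 r⟩
  rw [← h.F_x, ← mul_one (χ r), ← h5, map_mul, map_mul, map_inv, h2, h.F_x, map_one]

theorem core_W {θ : Φ} (hθ : S.x θ 1 ∈ fixCore F Y) {w : Equiv.Perm Φ} (hw : w ∈ T.W1 Set.univ) :
    ∃ c, c ≠ 0 ∧ S.x (w θ) c ∈ fixCore F Y := by
  obtain ⟨m, h1, -, -, c, h2, -, h3⟩ := h.exists_conj hw θ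
  exact ⟨_, by simpa using h2, h3 1 ▸ conj_mem_fixCore h1 hθ⟩

omit h in
theorem core_simple {i : I} {c : K} (hc : c ≠ 0) (h1 : S.x (R.simple i) c ∈ fixCore F Y) (hF : S.Sep) :
    ∃ v ∈ fixCore F Y, v ∈ S.U {r | R.Pos r} ∧ cf S i v ≠ 0 := ⟨_, h1, S.x_mem_U (R.pos_simple i) c, by rwa [cf_x hF]⟩

omit h in
theorem core_comm (hF : S.Sep) {β s : Φ} {c : K} (h1 : S.x β c ∈ fixCore F Y) {i : I} {f : (I → ℤ) →+ ℤ} (hβ : 0 < f (R.rt β))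
    (hs : 0 < f (R.rt s)) (e : R.rt (R.simple i) = R.rt β + R.rt s) (hp : ∀ r, f (R.rt β) + f (R.rt s) ≤ f (R.rt r) → R.Pos r)
    {z : G} (hz : z ∈ Y) {B : Set Φ} (hB : ∀ b ∈ B, f (R.rt b) = f (R.rt s) ∧ b ≠ s) (hz' : (S.x s 1)⁻¹ * z ∈ S.U B)
    (h2 : S.co (R.lev {r | 0 < f (R.rt r)} f (f (R.rt β) + f (R.rt s))) (R.simple i) ⁅S.x β c, S.x s 1⁆ ≠ 0) :
    ∃ v ∈ fixCore F Y, v ∈ S.U {r | R.Pos r} ∧ cf S i v ≠ 0 := by
  have hT := nil_fun (R := R) f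
  have e1 : f (R.rt (R.simple i)) = f (R.rt β) + f (R.rt s) := by rw [e, map_add]
  have hk : R.simple i ∈ {r | 0 < f (R.rt r)} := (add_pos hβ hs).trans_eq e1.symm
  have hβ' : β ∈ {r | 0 < f (R.rt r)} := hβ
  have hs' : s ∈ {r | 0 < f (R.rt r)} := hs
  have hB' : B ⊆ R.lev {r | 0 < f (R.rt r)} f (f (R.rt s)) := fun b hb => ⟨hs.trans_eq (hB b hb).1.symm, (hB b hb).1.ge⟩
  generalize {r | 0 < f (R.rt r)} = A at *
  have a1 := S.x_mem_U (hT.ext_lev hβ').mem c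
  have a2 := S.x_mem_U (hT.ext_lev hs').mem 1
  have e2 := co_comm_right hT hF hk e1 a1 a2 (S.U_mono hB' hz')
  have e3 := co_comm_zero₂ hT hF hk e1 (Set.singleton_subset_iff.2 (hT.ext_lev hβ').mem) hB'
    (fun a ha b hb e' => (hB b hb).2 (R.rt_inj (by rw [show a = β from ha, e] at e'; exact (add_left_cancel e').symm)))
    (S.x_mem_U (Set.mem_singleton β) c) hz'
  rw [e3, add_zero] at e2
  have a3 := comm_lev_add hT a1 (mul_mem a2 (S.U_mono hB' hz'))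
  rw [mul_inv_cancel_left] at e2 a3
  have hE := hT.ext_lev hk
  rw [e1] at hE
  have a4 := co_spec hE a3
  rw [e2] at a4
  refine ⟨⁅S.x β c, z⁆, ?_, S.U_mono (fun r hr => hp r hr.2) a3, ?_⟩
  · rw [show ⁅S.x β c, z⁆ = S.x β c * (z * (S.x β c)⁻¹ * z⁻¹) by simp only [commutatorElement_def, mul_assoc]]
    exact mul_mem h1 (conj_mem_fixCore hz (inv_mem h1))
  · rwa [cf, co_eq (ext_cf i) hF (S.U_mono (fun r hr => And.intro (hp r hr.1.2) hr.2) a4)]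

variable (S T Y) in
omit h in
/-- The coefficients of the elements of `Y` in a fundamental subgroup. -/
def cfSet (hF : S.Sep) (i : I) : AddSubgroup K where
  carrier := {t | ∃ g ∈ Y, g ∈ S.U {r | R.Pos r ∧ R.InSub (T.orb i) r} ∧ cf S i g = t}
  zero_mem' := ⟨1, one_mem _, one_mem _, cf_one hF⟩
  add_mem' := by
    rintro _ _ ⟨a, h1, h2, rfl⟩ ⟨b, h3, h4, rfl⟩
    exact ⟨_, mul_mem h1 h3, mul_mem h2 h4, cf_mul hF (S.U_mono (fun _ h => h.1) h2) (S.U_mono (fun _ h => h.1) h4)⟩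
  neg_mem' := by
    rintro _ ⟨a, h1, h2, rfl⟩
    exact ⟨_, inv_mem h1, inv_mem h2, cf_inv hF (S.U_mono (fun _ h => h.1) h2)⟩

theorem mem_of_cfSet {i : I} {g : G} (hg : g ∈ S.U {r | R.Pos r ∧ R.InSub (T.orb i) r} ⊓ X.Fix) (h1 : cf S i g ∈ cfSet S T Y X.sep i) :
    g ∈ Y := by
  obtain ⟨a, h2, h3, h4⟩ := h1
  obtain ⟨l, o, hl⟩ := h.orth i
  exact o.eq_of_cf hl ⟨h3, h.le h2⟩ hg h4 ▸ h2

theorem fix_of_cf {i : I} {g : G} (hg : g ∈ S.U {r | R.Pos r ∧ R.InSub (T.orb i) r} ⊓ X.Fix) : F g = g ↔ φ (cf S i g) = cf S i g := by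
  obtain ⟨l, o, hl⟩ := h.orth i
  have := h.co_F (ext_cf i) (S.U_mono (fun _ h => h.1) hg.1)
  exact ⟨fun e => by rw [cf, ← this, e], fun e => o.eq_of_cf hl ⟨h.F_mem hg.1, h.F_fix hg.2⟩ hg (this.trans e)⟩

variable (hφ : ∀ r t, X.φ r t = φ t)
include hφ

theorem mem_cfSet {i : I} {c : K} (hc : φ c = c) : c ∈ cfSet S T Y X.sep i := by
  obtain ⟨l, o, hl⟩ := h.orth i
  obtain ⟨g, h1, h2⟩ := o.exists_cf hl (c := fun _ => c) fun _ _ => by rw [hφ, hc]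
  exact ⟨g, h.pos _ ⟨S.U_mono (fun _ h => h.1) h1, g.2⟩ ((h.fix_of_cf ⟨h1, g.2⟩).2 (by rw [h2, hc])), h1, h2⟩

omit [Finite Φ] in
theorem x_mem {r : Φ} (h1 : T.ρ r = r) (h2 : X.ε r = 1) {t : K} (ht : φ t = t) : S.x r t ∈ Y := by
  have := X.x_fix h1 h2 ((hφ r t).trans ht)
  by_cases e : R.Pos r
  · exact h.pos _ ⟨S.x_mem_U e t, this⟩ (by rw [h.F_x, ht])
  · exact h.neg _ ⟨S.x_mem_U e t, this⟩ (by rw [h.F_x, ht])

omit [Finite Φ] in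
theorem h_mem' {r : Φ} (h1 : T.ρ r = r) (h2 : X.ε r = 1) {t : K} (ht : φ t = t) : S.h r t ∈ Y :=
  h_mem (fun _ e => ⟨h.x_mem hφ h1 h2 e, h.x_mem hφ (by rw [T.ρ_neg, h1]) (by rw [X.ε_neg, h2]) e⟩) ht

theorem smul_cfSet {r : Φ} (h1 : T.ρ r = r) (h2 : X.ε r = 1) {i : I} (h3 : R.pair r (R.simple i) = -1) {a t : K} (ha : φ a = a)
    (ht : t ∈ cfSet S T Y X.sep i) : a * t ∈ cfSet S T Y X.sep i := by
  rcases eq_or_ne a 0 with rfl | h0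
  · simp
  obtain ⟨g, e1, e2, rfl⟩ := ht
  have e3 := h.h_mem' hφ h1 h2 (t := a⁻¹) (by simp [ha])
  have e4 := S.h_mem_H r (inv_ne_zero h0)
  exact ⟨_, mul_mem (mul_mem e3 e1) (inv_mem e3), X.st.H_conj_mem_U e4 e2, cf_conj X.sep X.st e4
    (fun u => by simpa [h3] using X.st.h_conj r (inv_ne_zero h0) (R.simple i) u) (S.U_mono (fun _ h => h.1) e2)⟩

omit [Finite Φ] in
theorem F_eq {A : Set Φ} (hA : ∀ r ∈ A, T.ρ r = r ∧ X.ε r = 1) {g : G} (hg : g ∈ S.U A ⊓ X.Fix) : F g = g :=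
  ((S.U_le_iff (H := F.eqLocus X.σ)).2 (fun r hr t => show F _ = X.σ _ by
    rw [h.F_x, X.σ_x, (hA r hr).1, (hA r hr).2, one_mul, hφ]) hg.1).trans hg.2

theorem exists_cfSet (hρ : ∀ r, R.ht (T.ρ r) = R.ht r) (hε : ∀ r, T.ρ r = r → X.ε r = 1) {n : ℤ} (hn : ∀ k, R.ht k < n + n)
    {w : Equiv.Perm Φ} (hw : w ∈ T.W1 Set.univ) {i : I} (hw' : ∀ r, n ≤ R.ht r → T.ρ r ≠ r → R.Pos (w r) ∧ R.InSub (T.orb i) (w r))
    {v : G} (hv : v ∈ S.U (R.lev {r | R.Pos r} htL n)) (hY : v ∈ Y) (h1 : F v ≠ v) : ∃ c ∈ cfSet S T Y X.sep i, φ c ≠ c := by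
  obtain ⟨a, ha, b, hb, rfl⟩ := S.exists_mul (nil_pos.lev n) {r | T.ρ r ≠ r} hv
  have e : ∀ r ∈ R.lev {r | R.Pos r} htL n, T.ρ r ∈ R.lev {r | R.Pos r} htL n := fun r hr =>
    ⟨(T.pos_ρ r).2 hr.1, hr.2.trans_eq (hρ r).symm⟩
  obtain ⟨ha', hb'⟩ := TwSys.fix_mul (X := X) (B := R.lev {r | R.Pos r} htL n \ {r | T.ρ r ≠ r}) (nil_top hn Set.inter_subset_left)
    (nil_top hn Set.sdiff_subset)
    (Set.disjoint_left.2 fun r hr hr' => hr'.2 hr.2) (fun r hr => ⟨e r hr.1, T.ρ.injective.ne hr.2⟩)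
    (fun r hr => ⟨e r hr.1, fun e' => hr.2 fun e'' => e' (congrArg T.ρ e'' :)⟩) ha hb (h.le hY)
  have e1 := h.F_eq hφ (fun r hr => ⟨not_not.1 hr.2, hε r (not_not.1 hr.2)⟩) ⟨hb, hb'⟩
  have e2 : a ∈ Y := by simpa using mul_mem hY (inv_mem (h.pos b ⟨S.U_mono (fun _ h => h.1.1) hb, hb'⟩ e1))
  obtain ⟨m, -, e3, e4, e5⟩ := h.exists_rep hw
  have e6 := e5.conj_mem (T' := {r | R.Pos r ∧ R.InSub (T.orb i) r}) (fun r hr => hw' r hr.1.2 hr.2) ha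
  have e7 := mul_mem (mul_mem e3 e2) (inv_mem e3)
  exact ⟨_, ⟨_, e7, e6, rfl⟩, fun e8 => h1 (by rw [map_mul, e1, conj_fix e4 ((h.fix_of_cf ⟨e6, h.le e7⟩).2 e8)])⟩

end SubD
end

theorem max_glue {D : ChevalleyDatum} {K : Type*} [Field K] {Γ : Subgroup (GL D.Idx K)} (hΓ : Γ ≤ D.group K) {φ : K →+* K} {q : ℕ}
    (hφ : ∀ t, φ t = t ^ q) {M : Subgroup (GL D.Idx K)} (hM : ∀ g, g ∈ M ↔ g ∈ Γ ∧ ∀ i j, g.1 i j ^ q = g.1 i j)
    (h1 : ∃ g ∈ Γ.subgroupOf (D.group K), baseExt D φ g ≠ g)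
    (h2 : ∀ Y ≤ Γ.subgroupOf (D.group K), (∀ g ∈ Γ.subgroupOf (D.group K), baseExt D φ g = g → g ∈ Y) →
      Y = Γ.subgroupOf (D.group K) ∨ ∀ g ∈ Y, baseExt D φ g = g) : M ≠ Γ ∧ ∀ H, M ≤ H → H ≤ Γ → H = M ∨ H = Γ := by
  have e : ∀ g : D.group K, baseExt D φ g = g ↔ ∀ i j, g.1.1 i j ^ q = g.1.1 i j := fun g => by
    rw [Subtype.ext_iff, Units.ext_iff, baseExt_val, ← Matrix.ext_iff]; simp [hφ]
  refine ⟨fun e1 => ?_, fun H e1 e2 => ?_⟩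
  · obtain ⟨g, h3, h4⟩ := h1
    exact h4 ((e g).2 ((hM _).1 (e1 ▸ h3)).2)
  · refine (h2 (H.subgroupOf _) (fun g hg => e2 hg) fun g hg e3 => e1 ((hM _).2 ⟨hg, (e g).1 e3⟩)).symm.imp
      (fun e3 => le_antisymm (fun g hg => (hM g).2 ⟨e2 hg, (e ⟨g, hΓ (e2 hg)⟩).1 (e3 _ hg)⟩) e1)
      fun e3 => le_antisymm e2 fun g hg => (SetLike.ext_iff.1 e3 ⟨g, hΓ hg⟩).2 hg

section dec
variable (D : ChevalleyDatum) (t : RTab)

/-- A linear function of the coefficients of a root. -/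
noncomputable def dotN (a : List ℤ) (r : ℕ) : ℤ := Twist.sumLt (fun i => a.getD i 0 * rtN D t r i) D.rank

/-- `k - b` is not a positive root. -/
def noSum (k b : ℕ) : Prop := ∀ c < D.nroots, D.nroots ≤ 2 * c → ∃ i < D.rank, rtN D t k i ≠ rtN D t c i + rtN D t b i

instance noSum_dec (k b : ℕ) : Decidable (noSum D t k b) := by unfold noSum; infer_instance

variable {D t} (h : RootOK D t)

theorem exists_dotN (a : List ℤ) : ∃ f : (Fin D.rank → ℤ) →+ ℤ, ∀ r, f (h.R.rt r) = dotN D t a r :=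
  ⟨⟨⟨fun v => ∑ i : Fin D.rank, a.getD i 0 * v i, by simp⟩, fun v w => by simp [mul_add, Finset.sum_add_distrib]⟩,
    fun r => (Twist.sumLt_eq (fun i => a.getD i 0 * rtN D t r i) _).symm⟩

theorem noSum_spec {k b : Fin D.nroots} (hd : noSum D t k b) {c : Fin D.nroots} (hc : h.R.Pos c) : h.R.rt k ≠ h.R.rt c + h.R.rt b :=
  fun e => let ⟨i, hi, e'⟩ := hd c c.2 ((h.pos_iff_half c).1 hc); e' (congrFun e ⟨i, hi⟩)

variable {h} {K : Type*} [Field K] {G : Type*} [Group G] {S : PreSys h.R K G} (hE : S.Exact fun r s => termsF D r s) (hF : S.Sep)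
include hE hF

/-- A commutator giving an element of the core with a nonzero simple coefficient. -/
theorem core_dec {F : G →* G} {Y : Subgroup G} {β s : Fin D.nroots} {c : K} (hc : c ≠ 0) (h1 : S.x β c ∈ fixCore F Y) {i : Fin D.rank}
    {z : G} (hz : z ∈ Y) {l : List ℕ} (hz' : (S.x s 1)⁻¹ * z ∈ S.U ({r | (r : ℕ) ∈ l} \ {s})) (a : List ℤ)
    (hd : 0 < dotN D t a β ∧ 0 < dotN D t a s ∧ (hdT D s β).1 = D.simple i ∧ (hdT D s β).2 ^ 2 = 1 ∧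
      (∀ r ∈ l, dotN D t a r = dotN D t a s) ∧ ∀ r < D.nroots, dotN D t a β + dotN D t a s ≤ dotN D t a r → D.nroots ≤ 2 * r) :
    ∃ v ∈ fixCore F Y, v ∈ S.U {r | h.R.Pos r} ∧ cf S i v ≠ 0 := by
  obtain ⟨f, hf⟩ := exists_dotN h a
  obtain ⟨d1, d2, d3, d4, d5, d6⟩ := hd
  obtain ⟨k, -, -, e1, -, e2, -⟩ := hdT_spec h.compat (sq_cast (K := K) d4).1
  obtain rfl : k = h.R.simple i := Fin.ext (e1.trans (d3.trans (h.compat.simple_eq i).symm))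
  rw [← hf] at d1 d2
  refine SubD.core_comm hF h1 d1 d2 e2 (fun r hr => (h.pos_iff_half r).2 (d6 r r.2 (by rwa [← hf, ← hf, ← hf]))) hz
    (fun b hb => ⟨by rw [hf, hf, d5 b hb.1], hb.2⟩) hz' ?_
  rw [co_hd h.compat hE hF (nil_fun f) ⟨d1, le_rfl⟩ ⟨d2, le_rfl⟩ (by rw [e2, map_add]) (sq_cast (K := K) d4).1 e1]
  simpa [hc] using (sq_cast (K := K) d4).2

/-- A commutator killing a leading coefficient. -/
theorem cen_dec {a b : Fin D.nroots} (ha : h.R.Pos a) (hb : h.R.Pos b) {z : G} {l : List ℕ}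
    (hz : (S.x b 1)⁻¹ * z ∈ S.U ({r | (r : ℕ) ∈ l} \ {b})) (h0 : ((hdT D b a).2 : K) ≠ 0)
    (hd : ∀ r ∈ l, r = b ∨ (htN D t r = htN D t b ∧ noSum D t (hdT D b a).1 r)) {d : G}
    (h1 : d ∈ S.U (h.R.lev {r | h.R.Pos r} htL (h.R.ht a))) (h2 : Commute d z) :
    S.co (h.R.lev {r | h.R.Pos r} htL (h.R.ht a)) a d = 0 := by
  have h0' : (hdT D b a).2 ≠ 0 := fun e => h0 (by simp [e])
  obtain ⟨k, -, -, e1, -⟩ := hdT_spec h.compat h0'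
  obtain ⟨e2, e3, e4⟩ := co_comm_hd h.compat hE hF nil_pos ha (h.R.htL_rt a) hb (h.R.htL_rt b) h0' e1 1 h1
  have e5 : ∀ r : Fin D.nroots, r ∈ {r : Fin D.nroots | (r : ℕ) ∈ l} \ {b} → h.R.ht r = h.R.ht b ∧ noSum D t k r := fun r hr => by
    rw [ht_eq h, ht_eq h, e1]; exact (hd r hr.1).resolve_left fun e => hr.2 (Fin.ext e)
  have e6 : {r : Fin D.nroots | (r : ℕ) ∈ l} \ {b} ⊆ h.R.lev {r | h.R.Pos r} htL (h.R.ht b) := fun r hr =>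
    ⟨(h.R.pos_iff_ht r).2 ((e5 r hr).1 ▸ h.R.ht_pos hb), (e5 r hr).1.ge⟩
  have e7 := co_comm_right nil_pos hF e2 e3 h1 (S.x_mem_U (And.intro hb le_rfl) 1) (S.U_mono e6 hz)
  rw [mul_inv_cancel_left, commutatorElement_eq_one_iff_commute.2 h2, co_one (e3 ▸ nil_pos.ext_lev e2) hF, e4,
    co_comm_zero₂ nil_pos hF e2 e3 le_rfl e6 (fun c hc r hr => noSum_spec h (e5 r hr).2 hc.1) h1 hz] at e7
  simpa [h0] using e7

end dec

end Cfsg.Lib.Twist
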