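/-
A consequence of Dickson's theorem for finite sections of `SL₂`.
-/
import Cfsg.Agent.Lib.Linear.SL2Sub
import Cfsg.Agent.Lib.Chev.A1

set_option autoImplicit false

namespace Cfsg.Lib.Twist

open Cfsg.Lib.Linear Cfsg.Lib.Chev PreSys Matrix MulAction PL

variable {K : Type*} [Field K] [IsAlgClosed K]

theorem card_transl_le {H : Subgroup (PGL2 K)} [Finite H] (h1 : (1 : K) ∈ transl H) {g : PGL2 K} (hg : g ∈ H) (h2 : g • (inf : PL K) ≠ inf) :
    Nat.card (transl H) - 1 ≤ 2 * Nat.card (slopes H) := by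
  have := finite_transl (H := H)
  have := finite_slopes (H := H)
  have h3 : 0 < Nat.card (slopes H) := Nat.card_pos
  have h4 : 1 < Nat.card (transl H) := Finite.one_lt_card_iff_nontrivial.2 ⟨0, ⟨1, h1⟩, fun e => zero_ne_one (congrArg Subtype.val e)⟩
  rw [card_transl] at *
  rcases dickson_wild_numerics h4 (fun e => h2 (fix_of_ncard_orbit_eq_one e g hg)) with ⟨a, b, h5, h6⟩ | ⟨-, h5, h6⟩ | ⟨-, h5⟩
  · have h7 : ∀ c ∈ transl H, aff 1 c one_ne_zero • a = a → aff 1 c one_ne_zero • b = b → c = 0 := fun c _ e1 e2 => by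
      by_cases e : a = inf
      · exact (aff_eq_one_iff.1 (eq_one_of_mem_unip (aff_mem_unip_inf.2 rfl) e2 (e ▸ h5.symm))).2
      · exact (aff_eq_one_iff.1 (eq_one_of_mem_unip (aff_mem_unip_inf.2 rfl) e1 e)).2
    have h8 := (h6 _ h1).resolve_left fun e => one_ne_zero (h7 _ h1 e.1 e.2)
    have h9 : (transl H : Set K) ⊆ {0, -1} := fun c hc => (h6 _ hc).imp (fun e => h7 _ hc e.1 e.2) fun e =>
      have : aff 1 (c + 1) one_ne_zero = aff 1 1 one_ne_zero * aff 1 c one_ne_zero := by simp [aff_mul]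
      eq_neg_of_add_eq_zero_left (h7 _ (add_mem hc h1) (by rw [this, mul_smul, e.1, h8.2]) (by rw [this, mul_smul, e.2, h8.1]))
    have := (Set.ncard_le_ncard h9).trans (Set.ncard_insert_le _ _)
    rw [Set.ncard_singleton, ← Nat.card_coe_set_eq, SetLike.coe_sort_coe, card_transl] at this
    omega
  · have : Fact (Nat.Prime 3) := ⟨by decide⟩
    have : CharP K 3 := (CharP.charP_iff_prime_eq_zero (by decide)).2 h5
    have := finite_inf (H := H) (unip inf)
    obtain ⟨k, hk⟩ := ((isPGroup_unip 3 (inf : PL K)).to_le (inf_le_right (a := H))).exists_card_eq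
    have h7 : qH H inf ∣ 60 := h6 ▸ Subgroup.card_dvd_of_le inf_le_left
    rw [qH, hk] at *
    have : k ≤ 1 := by_contra fun e => absurd ((pow_dvd_pow 3 (show 2 ≤ k by omega)).trans h7) (by decide)
    interval_cases k <;> omega
  · omega

omit [IsAlgClosed K] in
theorem toPGL_x (t : K) : SpecialLinearGroup.toPGL ((sl2 K).x true t) = aff 1 t one_ne_zero := slToPGL_eq_mat (RingHom.id K) _

/-- A finite section of `SL₂` containing upper and lower transvections. -/
theorem dickson_section {G : Type*} [Group G] (ψ : SpecialLinearGroup (Fin 2) K →* G) {Q Y : Subgroup G} [Finite Y]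
    (hn : ∀ g, ∀ r ∈ Q, ψ g * r * (ψ g)⁻¹ ∈ Q) (h0 : ∀ t, ψ ((sl2 K).x true t) ∈ Q → t = 0)
    (h1 : ∃ r ∈ Q, r * ψ ((sl2 K).x true 1) ∈ Y) {s : K} (hs : s ≠ 0) (h2 : ∃ r ∈ Q, r * ψ ((sl2 K).x false s) ∈ Y) :
    ∃ E : Subfield K, Finite E ∧ (∀ t, t ∈ E ↔ ∃ r ∈ Q, r * ψ ((sl2 K).x true t) ∈ Y) ∧ ((∀ t ∈ E, t ^ 3 = t) ∨
      ∃ a t, a ≠ 0 ∧ a ^ 2 ≠ 1 ∧ ∃ r ∈ Q, r * ψ ((sl2 K).x true t * (sl2 K).h true a) ∈ Y) := by
  let P : Subgroup (SpecialLinearGroup (Fin 2) K) :=
    { carrier := {g | ∃ r ∈ Q, r * ψ g ∈ Y}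
      one_mem' := ⟨1, one_mem _, by simp⟩
      mul_mem' := by
        rintro a b ⟨r, h1, h2⟩ ⟨r', h3, h4⟩
        exact ⟨_, mul_mem h1 (hn a _ h3), by simpa [mul_assoc] using mul_mem h2 h4⟩
      inv_mem' := by
        rintro a ⟨r, h1, h2⟩
        exact ⟨_, hn a⁻¹ _ (inv_mem h1), by simpa [mul_assoc] using inv_mem h2⟩ }
  have h3 : (2 : K) = 0 → ∀ g : SpecialLinearGroup (Fin 2) K, -g = g := fun e g => Subtype.ext (Matrix.ext fun i j =>
    neg_eq_of_add_eq_zero_left (by rw [← two_mul, e, zero_mul]))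
  have h4 : ∀ g, ψ g ∈ Q → SpecialLinearGroup.toPGL g = 1 := fun g hg => by
    obtain ⟨a, ha⟩ : ∃ a : K, a ≠ 0 ∧ a ^ 2 ≠ 1 := by
      classical
      obtain ⟨a, ha⟩ := Infinite.exists_notMem_finset ({0, 1, -1} : Finset K)
      exact ⟨a, by simpa [not_or] using ha⟩
    have : (Q.comap ψ).Normal := ⟨fun a ha b => by simpa using hn b _ ha⟩
    rcases (ProjectiveSpecialLinearGroup.rank_two_simple' ⟨a, ha⟩).eq_bot_or_eq_top_of_normal
      ((Q.comap ψ).map (QuotientGroup.mk' _)) (this.map _ (QuotientGroup.mk'_surjective _)) with e | e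
    · have : (g : ProjectiveSpecialLinearGroup (Fin 2) K) = 1 := Subgroup.mem_bot.1 (e ▸ ⟨g, hg, rfl⟩)
      exact (congrArg (pslToPGL (RingHom.id K)) this).trans (map_one _)
    · obtain ⟨b, h5, h6⟩ := e.ge (Subgroup.mem_top ((sl2 K).x true 1 : ProjectiveSpecialLinearGroup (Fin 2) K))
      rcases (slToPGL_eq_iff (RingHom.id K)).1 (congrArg (pslToPGL (RingHom.id K)) h6.symm :) with rfl | rfl
      · exact (one_ne_zero (h0 _ h5)).elim
      · have h7 := h0 (1 + 1) (by simpa [x_add] using mul_mem h5 h5)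
        rw [h3 (one_add_one_eq_two.symm.trans h7)] at h5
        exact (one_ne_zero (h0 _ h5)).elim
  set H := P.map SpecialLinearGroup.toPGL with hH
  have : Finite H := by
    have : ∀ g : H, ∃ (y : Y) (a : _), SpecialLinearGroup.toPGL a = g ∧ y * (ψ a)⁻¹ ∈ Q := by
      rintro ⟨_, a, ⟨r, e1, e2⟩, rfl⟩
      exact ⟨⟨_, e2⟩, a, rfl, by simpa using e1⟩
    choose f a e1 e2 using this
    refine Finite.of_injective f fun b c e => Subtype.ext ?_
    have := h4 (a b * (a c)⁻¹) (by simpa [e, mul_assoc] using mul_mem (inv_mem (e2 b)) (e2 c))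
    rwa [map_mul, map_inv, e1, e1, mul_inv_eq_one] at this
  have h5 : (1 : K) ∈ transl H := ⟨_, h1, toPGL_x 1⟩
  have h6 := card_transl_le h5 (g := SpecialLinearGroup.toPGL ((sl2 K).x false s)) ⟨_, h2, rfl⟩
    fun e => hs (mat_smul_inf_eq_inf.1 (slToPGL_eq_mat (RingHom.id K) _ ▸ e :))
  have := finite_transl (H := H)
  obtain ⟨E, hE⟩ := exists_subfield_eq _ h5 _ (fun _ ha _ => mul_mem_transl ha) h6
  have h7 : ∀ t, t ∈ E ↔ t ∈ transl H := Set.ext_iff.1 hE
  have : Finite E := Finite.of_injective (fun t : E => (⟨t, (h7 _).1 t.2⟩ : transl H)) fun a b e => Subtype.ext (congrArg Subtype.val e :)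
  have h8 : ∀ t ∈ E, (sl2 K).x true t ∈ P ∨ -(sl2 K).x true t ∈ P := fun t ht => by
    obtain ⟨g, h8, h9⟩ := (h7 t).1 ht
    rcases sl_toPGL_eq_iff.1 ((toPGL_x t).trans h9.symm) with rfl | rfl
    exacts [Or.inl h8, Or.inr h8]
  refine ⟨E, this, fun t => ⟨fun ht => ?_, fun ht => (h7 t).2 ⟨_, ht, toPGL_x t⟩⟩, or_iff_not_imp_right.2 fun h9 t ht => ?_⟩
  · show (sl2 K).x true t ∈ P
    by_cases e : (2 : K) = 0
    · simpa [h3 e] using h8 t ht
    · rw [show t = t / 2 + t / 2 by field_simp; ring, x_add]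
      exact (h8 _ (div_mem ht (ofNat_mem E 2))).elim (fun h => mul_mem h h) fun h => by simpa [x_add] using mul_mem h h
  · have h10 : slopes H = ⊥ := eq_bot_iff.2 fun a ⟨b, g, h10, h11⟩ => by_contra fun h12 => by
      obtain ⟨x, y, z, w, h13, rfl⟩ := exists_slMat g
      obtain ⟨u, e0, e1, -, e2, e3⟩ := mat_eq_mat_iff.1 ((slToPGL_eq_mat (RingHom.id K) _).symm.trans h11)
      simp [slMat, e0] at e1 e2 e3
      subst e2
      have hx : x ≠ 0 := left_ne_zero_of_mul_eq_one (by simpa using h13)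
      refine h9 ⟨x, y * x, hx, fun e => h12 (Units.ext ?_), ?_⟩
      · show (a : K) = 1
        linear_combination e1 - x * u * h13 + u * w * e - e3
      · refine (congrArg (· ∈ P) (?_ : (sl2 K).x true (y * x) * (sl2 K).h true x = _)).mpr h10
        ext i j
        rw [Matrix.SpecialLinearGroup.coe_mul, sl2_true, sl2_h hx]
        fin_cases i <;> fin_cases j <;> simp [slMat, hx, eq_inv_of_mul_eq_one_right (by simpa using h13 : x * w = 1)]
    rw [h10, Subgroup.card_bot, ← show Nat.card E = Nat.card (transl H) from Nat.card_congr (Equiv.setCongr hE)] at h6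
    have := Fintype.ofFinite E
    have h11 := congrArg Subtype.val (FiniteField.pow_card (⟨t, ht⟩ : E))
    have := Fintype.one_lt_card (α := E)
    rw [Nat.card_eq_fintype_card] at h6
    obtain e | e : Fintype.card E = 2 ∨ Fintype.card E = 3 := by omega
    all_goals rw [e] at h11
    · simp at h11; linear_combination (t + 1) * h11
    · simpa using h11

end Cfsg.Lib.Twist
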