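/-
Overgroups of the subfield subgroups of the twisted groups.
-/
import Cfsg.Agent.Lib.Twist.SubB

set_option autoImplicit false

namespace Cfsg.Lib.Twist

open Cfsg.Lib.Chev PreSys RootSys Cfsg.Lie
open scoped commutatorElement

universe u

/-- The roots of the orbit of `r` commute and the signs multiply to one. -/
def okO (D : ChevalleyDatum) (S E r : ℕ) : Prop :=
  if lk S r = r then bt E r = false else lk S r ≠ D.neg r ∧ D.commTerms r (lk S r) = [] ∧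
    if lk S (lk S r) = r then bt E r = bt E (lk S r) else lk S (lk S r) ≠ D.neg r ∧ D.commTerms r (lk S (lk S r)) = [] ∧
      lk S (lk S (lk S r)) = r ∧ sgn (bt E (lk S (lk S r))) * (sgn (bt E (lk S r)) * sgn (bt E r)) = 1

noncomputable instance okO_dec (D : ChevalleyDatum) (S E r : ℕ) : Decidable (okO D S E r) := by unfold okO; infer_instance

/-- A twisting system described by tables. -/
structure GP {D : ChevalleyDatum} {t : RTab} {h : RootOK D t} {K G : Type*} [Field K] [Group G] {P : PreSys h.R K G} {T : Tw h.R}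
    (X : TwSys P T) (p S E : ℕ) (φ : K →+* K) : Prop where
  π_val : ∀ i, (T.π i : ℕ) = lk p i
  ρ_val : ∀ r, (T.ρ r : ℕ) = lk S r
  rt_ρ : ∀ r i, h.R.rt (T.ρ r) (T.π i) = h.R.rt r i
  ε_eq : ∀ r, X.ε r = sgn (bt E r)
  φ_eq : ∀ r u, X.φ r u = φ u
  exact : P.Exact fun r s => termsF D r s

section
variable {D : ChevalleyDatum} {t : RTab} {η : ℕ → ℕ → ℤ} {h : RootOK D t} {hm : MatOK D η} {p S E : ℕ} {K : Type u} [Field K] {q : ℕ}
  (d : GData h hm p S E K q) {φ : K →+* K} (hφ : ∀ t, φ t = t ^ q)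
include hφ

theorem GData.gp : GP d.X p S E φ := ⟨d.π_val, d.ρ_val, d.rt_ρ, d.ε_eq, fun _ _ => by rw [d.φ_eq, hφ], h.compat.gexact hm⟩

theorem GData.subD (hg : d.X.Grp d.X.Fix) (ho : ∀ i, ∃ l, d.X.Orth l ∧ ∀ j, j ∈ d.T.orb i ↔ j ∈ l) {Y : Subgroup (D.group K)}
    (hY : Y ≤ d.X.Fix) (hM : ∀ g ∈ d.X.Fix, baseExt D φ g = g → g ∈ Y) : SubD d.X (baseExt D φ) φ Y :=
  ⟨h.compat.baseExt_x hm φ, hg, fun r t => by simp only [(d.gp hφ).φ_eq], hY, fun u hu => hM u hu.2, fun u hu => hM u hu.2, ho, gZ _ hm⟩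

end

namespace GP
variable {D : ChevalleyDatum} {t : RTab} {h : RootOK D t} {K G : Type*} [Field K] [Group G] {P : PreSys h.R K G} {T : Tw h.R}
  {X : TwSys P T} {p S E : ℕ} {φ : K →+* K} (d : GP X p S E φ)
include d

theorem ht_ρ (r : Fin D.nroots) : h.R.ht (T.ρ r) = h.R.ht r :=
  (Equiv.sum_comp T.π (h.R.rt (T.ρ r))).symm.trans (Finset.sum_congr rfl fun i _ => d.rt_ρ r i)

theorem ε_fix {r : Fin D.nroots} (ho : okO D S E r) (e : T.ρ r = r) : X.ε r = 1 := by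
  rw [okO, if_pos (by rw [← d.ρ_val, e])] at ho
  simp [d.ε_eq, ho, sgn]

theorem σ_x' (r : Fin D.nroots) (t : K) :
    X.σ (P.x r t) = P.x (T.ρ r) (sgn (bt E r) * φ t) := by
  rw [X.σ_x, d.ε_eq, d.φ_eq]

variable {F : G →* G} {Y : Subgroup G} (hs : SubD X F φ Y)
include hs

theorem exists_orb {r : Fin D.nroots} (ho : okO D S E r) {c : K} (hc : φ c = c) : ∃ z ∈ X.Fix, F z = z ∧
    (P.x r c)⁻¹ * z ∈ P.U ({k | (k : ℕ) ∈ [lk S r, lk S (lk S r)]} \ {r}) := by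
  have hE := d.exact
  have e0 : F (P.x r c) = P.x r c := by rw [hs.F_x, hc]
  have e1 := d.σ_x' r c
  have e2 := d.σ_x' (T.ρ r) (sgn (bt E r) * φ c)
  have e3 := d.σ_x' (T.ρ (T.ρ r)) (sgn (bt E (T.ρ r)) * φ (sgn (bt E r) * φ c))
  simp only [map_mul, map_intCast, hc, ← mul_assoc, ← Int.cast_mul] at e1 e2 e3
  rw [← e2, ← e1] at e3
  have e4 := e1 ▸ e2
  simp only [okO, ← d.ρ_val, Fin.val_inj] at ho
  split_ifs at ho with h1 h2
  · exact ⟨_, X.mem_Fix.2 (by simp [e1, h1, ho, sgn]), e0, by simp⟩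
  · have c1 := commute_dec h.compat hE (Or.inr ⟨ho.1, by simp [ho.2.1]⟩) (sgn (bt E r) * c) c
    rw [h2, ← ho.2.2, sgn_sq, Int.cast_one, one_mul] at e4
    refine ⟨P.x r c * X.σ (P.x r c), X.mem_Fix.2 (by rw [map_mul, e4, e1, c1.eq]), by rw [map_mul, ← hs.σ_F, e0], ?_⟩
    rw [inv_mul_cancel_left, e1]
    exact P.x_mem_U (And.intro (by simp [d.ρ_val]) h1) _
  · have c1 := commute_dec h.compat hE (Or.inr ⟨ho.1, by simp [ho.2.1]⟩) (sgn (bt E r) * c) c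
    have c2 := commute_dec h.compat hE (Or.inr ⟨ho.2.2.1, by simp [ho.2.2.2.1]⟩) ((sgn (bt E (T.ρ r)) * sgn (bt E r) : ℤ) * c) c
    rw [ho.2.2.2.2.1, mul_assoc, ho.2.2.2.2.2, Int.cast_one, one_mul] at e3
    rw [← e1] at c1
    rw [← e4] at c2
    refine ⟨P.x r c * (X.σ (P.x r c) * X.σ (X.σ (P.x r c))),
      X.mem_Fix.2 (by rw [map_mul, map_mul, e3, ← mul_assoc, (c1.mul_left c2).eq]),
      by rw [map_mul, map_mul, ← hs.σ_F, ← hs.σ_F, ← hs.σ_F, e0], ?_⟩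
    rw [inv_mul_cancel_left, e4, e1]
    exact mul_mem (P.x_mem_U (And.intro (by simp [d.ρ_val]) h1) _) (P.x_mem_U (And.intro (by simp [d.ρ_val]) h2) _)

theorem hO (ho : ∀ r < D.nroots, okO D S E r) (r : Fin D.nroots) (_ : h.R.Pos r) (c : K) (hc : φ c = c) : ∃ z ∈ X.Fix, F z = z ∧
    (P.x r c)⁻¹ * z ∈ P.U ({k | T.ρ.SameCycle r k} \ {r}) :=
  let ⟨z, a, b, e⟩ := d.exists_orb hs (ho r r.2) hc
  ⟨z, a, b, P.U_mono (fun k hk => And.intro (by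
    have := hk.1
    simp only [← d.ρ_val, Set.mem_ofPred_eq, List.mem_cons, Fin.val_inj, List.not_mem_nil, or_false] at this
    rcases this with rfl | rfl <;> simp [Equiv.Perm.SameCycle.refl]) hk.2) e⟩

theorem exists_orb' {r : Fin D.nroots} (ho : okO D S E r) (hr : h.R.Pos r) : ∃ z ∈ P.U {r | h.R.Pos r} ⊓ X.Fix,
    F z = z ∧ (P.x r 1)⁻¹ * z ∈ P.U ({k | (k : ℕ) ∈ [lk S r, lk S (lk S r)]} \ {r}) := by
  obtain ⟨z, a, b, e⟩ := d.exists_orb hs ho (map_one φ)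
  refine ⟨z, ⟨?_, a⟩, b, e⟩
  rw [← mul_inv_cancel_left (P.x r 1) z]
  refine mul_mem (P.x_mem_U hr _) (P.U_mono (fun k hk => ?_) e)
  have := hk.1
  simp only [← d.ρ_val, Set.mem_ofPred_eq, List.mem_cons, Fin.val_inj, List.not_mem_nil, or_false] at this
  rcases this with rfl | rfl <;> simpa [T.pos_ρ]

omit hs in
theorem cen_dec' (hs : SubD X F φ Y) {a : Fin D.nroots} (ha : h.R.Pos a) {b : ℕ} (hd : b < D.nroots ∧ D.nroots ≤ 2 * b ∧ okO D S E b ∧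
    (hdT D b a).2 ^ 2 = 1 ∧ ∀ r ∈ [lk S b, lk S (lk S b)], r = b ∨ (htN D t r = htN D t b ∧ noSum D t (hdT D b a).1 r))
    (g : G) (h1 : g ∈ P.U (h.R.lev {r | h.R.Pos r} htL (h.R.ht a))) (h2 : SubD.Cen X F g) :
    P.co (h.R.lev {r | h.R.Pos r} htL (h.R.ht a)) a g = 0 :=
  have hb : h.R.Pos ⟨b, hd.1⟩ := (h.pos_iff_half _).2 hd.2.1
  let ⟨z, e1, e2, e3⟩ := d.exists_orb' hs (r := ⟨b, hd.1⟩) hd.2.2.1 hb
  cen_dec d.exact X.sep ha hb e3 (sq_cast hd.2.2.2.1).2 hd.2.2.2.2 h1 (h2 z e1 e2)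

variable {ob : ℕ → List ℕ} (hob : ∀ i j : Fin D.rank, j ∈ T.orb i ↔ (j : ℕ) ∈ ob i) (ho : ∀ r < D.nroots, okO D S E r)
include hob ho

theorem fix_of_hU (hU : ∀ u ∈ P.U {r | h.R.Pos r}, u ∈ Y → F u = u) (θ : Fin D.nroots) (ce : ℕ → ℕ × ℕ)
    (w : ℕ → List ℕ) (s : ℕ → ℕ) (a : ℕ → List ℤ)
    (d1 : ∀ i < D.rank, (∀ k ∈ ob i, k < D.rank) ∧ ∀ k < D.rank, k ∈ ob i → D.IsNegRoot (wN D (ob i) (D.simple k)))
    (d2 : ∀ β < D.nroots, lk S β = β → 2 * β < D.nroots → (ce β).2 < D.rank ∧ htN D t β < htN D t (wN D (ob (ce β).2) β) ∧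
      ((lk p (ce β).2 = (ce β).2 ∧ lk S (D.simple (ce β).2) = D.simple (ce β).2) ∨
        ((ce β).1 < D.nroots ∧ lk S (ce β).1 = (ce β).1 ∧ okγ D t β (ce β).1 (ce β).2)))
    (d3 : lk S θ = θ ∧ ∀ r < D.nroots, D.nroots ≤ 2 * r → r = θ ∨ (r ≠ D.neg θ ∧ D.commTerms θ r = []))
    (d4 : ∀ i < D.rank, okF D S (true, w i) = true ∧ (wN D (w i) θ = D.simple i ∨ (s i < D.nroots ∧ D.nroots ≤ 2 * s i ∧
      0 < dotN D t (a i) (wN D (w i) θ) ∧ 0 < dotN D t (a i) (s i) ∧ (hdT D (s i) (wN D (w i) θ)).1 = D.simple i ∧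
      (hdT D (s i) (wN D (w i) θ)).2 ^ 2 = 1 ∧ (∀ r ∈ [lk S (s i), lk S (lk S (s i))], dotN D t (a i) r = dotN D t (a i) (s i)) ∧
      ∀ r < D.nroots, dotN D t (a i) (wN D (w i) θ) + dotN D t (a i) (s i) ≤ dotN D t (a i) r → D.nroots ≤ 2 * r)))
    {g : G} (hg : g ∈ Y) : F g = g := by
  have hE := d.exact
  have e1 : ∀ r : Fin D.nroots, lk S r = r → P.x r 1 ∈ Y := fun r e =>
    have : T.ρ r = r := Fin.ext (by rw [d.ρ_val, e])
    hs.x_mem (d.φ_eq) this (d.ε_fix (ho r r.2) this) (map_one φ)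
  have e2 := hs.mem_core hU (O := {r | T.ρ r = r}) (fun w hw r hr => (Tw.apply_ρ hw r).symm.trans (congrArg w hr))
    (fun β h1 h2 => ?_) (θ := θ) (Fin.ext (by rw [d.ρ_val, d3.1])) (fun u hu => ?_) (e1 θ d3.1)
  · refine hs.fix_of_core (fun i => ?_) hg
    obtain ⟨h1, h2⟩ := d4 i i.2
    obtain ⟨v, h3, h4⟩ := exists_W1 d.ρ_val h1 (M := Set.univ) fun _ _ => trivial
    obtain ⟨c, h5, h6⟩ := hs.core_W e2 h3
    rw [← h4] at h2
    rcases h2 with h2 | ⟨h2, h7, h8⟩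
    · exact SubD.core_simple h5 (by rwa [← show v θ = _ from Fin.ext (h2.trans (h.compat.simple_eq i).symm)]) X.sep
    · obtain ⟨z, a1, a2, a3⟩ := d.exists_orb' hs (r := ⟨s i, h2⟩) (ho _ h2) ((h.pos_iff_half _).2 h7)
      exact core_dec hE X.sep h5 h6 (hs.pos z a1 a2) a3 (a i) h8
  · obtain ⟨h3, h4, h5⟩ := d2 β β.2 (by rw [← d.ρ_val, h1]) (by rwa [h.pos_iff_half, not_le] at h2)
    refine ⟨⟨_, h3⟩, by
      rwa [ht_eq, ht_eq, lng_val h (hob _) ⟨(d1 _ h3).1, fun k hk => ⟨Iff.rfl, (d1 _ h3).2 k hk⟩⟩], fun u hu s h6 h7 => ?_⟩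
    rcases h5 with h5 | ⟨h5, h8, h9⟩
    · have := TwSys.cf_σ ⟨_, h3⟩ (d.ε_fix (ho _ (Fin.is_lt _)) (Fin.ext (by rw [d.ρ_val, h.compat.simple_eq, h5.2]))) hu
      rw [show T.π ⟨_, h3⟩ = ⟨_, h3⟩ from Fin.ext (by rw [d.π_val, h5.1]), d.φ_eq] at this
      exact this.symm
    · exact hs.cf_fix_dec hE hU (γ := ⟨_, h5⟩) (i := ⟨_, h3⟩) h9 (e1 ⟨_, h5⟩ h8) hu.1 h6 h7
  · exact commute_U (B := {θ}) (fun r hr s e t u => by
      rw [show s = θ from e]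
      exact commute_dec h.compat hE ((d3.2 r r.2 ((h.pos_iff_half r).1 hr)).imp Fin.ext fun e => ⟨e.1, by simp [e.2]⟩) t u) hu
      (P.x_mem_U (Set.mem_singleton θ) 1)

theorem exists_cf {n : ℕ} (hc : ∀ a, h.R.Pos a → h.R.ht a < n → ∀ g ∈ P.U (h.R.lev {r | h.R.Pos r} htL (h.R.ht a)),
    SubD.Cen X F g → P.co (h.R.lev {r | h.R.Pos r} htL (h.R.ht a)) a g = 0) (w : List ℕ) (i : Fin D.rank)
    (hd : okF D S (true, w) = true ∧ ∀ r < D.nroots, htN D t r < n + n ∧ (n ≤ htN D t r → lk S r ≠ r →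
      D.nroots ≤ 2 * wN D w r ∧ subN D t (ob i) (wN D w r)))
    (hU : ¬ ∀ u ∈ P.U {r | h.R.Pos r}, u ∈ Y → F u = u) :
    ∃ c ∈ SubD.cfSet P T Y X.sep i, φ c ≠ c := by
  push Not at hU
  obtain ⟨u, h1, h2, h3⟩ := hU
  obtain ⟨v, h4, h5, h6⟩ := hs.exists_top d.ht_ρ (d.hO hs ho) hc h1 h2 h3
  obtain ⟨w', h7, h8⟩ := exists_W1 d.ρ_val hd.1 (M := Set.univ) fun _ _ => trivial
  refine hs.exists_cfSet (d.φ_eq) d.ht_ρ (fun r => d.ε_fix (ho r r.2)) (fun k => by rw [ht_eq]; exact (hd.2 k k.2).1) h7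
    (fun r a b => ?_) h4 h5 h6
  simpa only [subN_iff h (hob i), h.pos_iff_half, h8] using (hd.2 r r.2).2 (by rwa [← ht_eq]) (by rwa [← d.ρ_val, ne_eq, Fin.val_inj])

omit ho in
theorem eq_Fix (hgen : X.Fix ≤ P.U {r | h.R.Pos r} ⊓ X.Fix ⊔ P.U {r | ¬ h.R.Pos r} ⊓ X.Fix)
    {i : Fin D.rank} (hi : ∀ c, c ∈ SubD.cfSet P T Y X.sep i) (w : ℕ → List ℕ)
    (hd : ∀ j < D.rank, (lk p j = j ∧ bt E (D.simple j) = false) ∨ (okF D S (true, w j) = true ∧ ∀ r < D.nroots, D.nroots ≤ 2 * r →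
      subN D t (ob j) r → D.nroots ≤ 2 * wN D (w j) r ∧ subN D t (ob i) (wN D (w j) r))) : Y = X.Fix := by
  refine hs.eq_Fix hgen fun j => ?_
  rcases hd j j.2 with e | ⟨e1, e2⟩
  · refine fun g hg => hs.pos g ⟨P.U_mono (fun _ h => h.1) hg.1, hg.2⟩ ((hs.fix_of_cf hg).2 ?_)
    have := TwSys.cf_σ j (by simp [d.ε_eq, h.compat.simple_eq, e.2, sgn]) ⟨P.U_mono (fun _ h => h.1) hg.1, hg.2⟩
    rw [show T.π j = j from Fin.ext (by rw [d.π_val, e.1]), d.φ_eq] at this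
    exact this.symm
  · obtain ⟨w', h1, h2⟩ := exists_W1 d.ρ_val e1 (M := Set.univ) fun _ _ => trivial
    refine hs.le_of_conj h1 (fun r hr => ?_) fun g hg => hs.mem_of_cfSet hg (hi _)
    simpa only [Set.mem_ofPred_eq, subN_iff h (hob i), h.pos_iff_half, h2] using
      e2 r r.2 ((h.pos_iff_half r).1 hr.1) ((subN_iff h (hob j) r).1 hr.2)

end GP

end Cfsg.Lib.Twist
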