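/-
Finite overgroups of Chevalley groups over finite subfields: the general lemmas.
-/
import Cfsg.Agent.Lib.Twist.SubTw
import Cfsg.Agent.Lib.Twist.SubDk
import Cfsg.Agent.Lib.Chev.WC

set_option autoImplicit false

namespace Cfsg.Lib.Twist

open Cfsg.Lib.Chev PreSys RootSys Cfsg.Lie
open scoped commutatorElement

section
variable {I Φ : Type*} [Fintype I] [DecidableEq I] {R : RootSys I Φ} {K : Type*} [Field K] {G : Type*} [Group G] {S : PreSys R K G}

theorem dickson_lev [IsAlgClosed K] (hS : S.St) (hM : S.Mult) (hF : S.Sep) {θ : Φ} {f : (I → ℤ) →+ ℤ} (hf : f (R.rt θ) = 0) {m : ℤ}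
    (hm : 0 < m) {Y : Subgroup G} [Finite Y] (h1 : S.x θ 1 ∈ Y) {s : K} (hs : s ≠ 0) (h2 : S.x (R.neg θ) s ∈ Y) :
    ∃ E : Subfield K, Finite E ∧ (∀ t, t ∈ E ↔ ∃ r ∈ S.U {r | m ≤ f (R.rt r)}, r * S.x θ t ∈ Y) ∧ ((∀ t ∈ E, t ^ 3 = t) ∨
      ∃ a t, a ≠ 0 ∧ a ^ 2 ≠ 1 ∧ ∃ r ∈ S.U {r | m ≤ f (R.rt r)}, r * (S.x θ t * S.h θ a) ∈ Y) := by
  obtain ⟨ψ, e1, e2⟩ := hS.exists_sl2_hom hM θ
  have e3 : ∀ b t, ψ ((sl2 K).x b t) = (S.atRoot θ).x b t := fun b t => by cases b; exacts [(e2 t).2, (e2 t).1]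
  have e4 : ∀ t, ψ ((sl2 K).h true t) = S.h θ t := (sl2 K).map_h e3 true
  simpa only [map_mul, e2, e4] using dickson_section ψ (Q := S.U {r | m ≤ f (R.rt r)}) (Y := Y) (fun g r hr => S.conj_mem
    (T' := {θ} ∪ {R.neg θ}) (fun s hs r hr => by
      have : f (R.rt s) = 0 := by rcases hs with rfl | rfl <;> simp [R.rt_neg, hf]
      refine ⟨fun e => ?_, fun k hk => le_trans (by simpa [this] using hr) (le_of_mem_cone hk this.ge (hm.le.trans hr))⟩
      rw [e, Set.mem_ofPred_eq, R.rt_neg, map_neg, this] at hr; omega) (by rw [S.U_union, ← e1]; exact ⟨g, rfl⟩) hr)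
    (fun t ht => (hF _ _ _ ((e2 t).1 ▸ ht)).resolve_right fun h => by
      have : R.rt θ = 0 ∨ 0 < f (R.rt θ) := AddSubmonoid.closure_induction (motive := fun v _ => v = 0 ∨ 0 < f v)
        (by rintro _ ⟨r, hr, rfl⟩; exact Or.inr (hm.trans_le hr)) (Or.inl rfl)
        (by rintro a b - - (rfl | ha) (rfl | hb) <;> simp [*, add_pos]) h
      exact this.elim (R.rt_ne_zero θ) hf.le.not_gt) ⟨1, one_mem _, by rwa [one_mul, (e2 1).1]⟩ hs ⟨1, one_mem _, by rwa [one_mul, (e2 s).2]⟩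

section zero
variable (hS : S.St) {Y : Subgroup G} (h1 : ∀ r, S.x r 1 ∈ Y)
include hS h1

theorem x_mem_W {w : Equiv.Perm Φ} (hw : w ∈ R.W) {r : Φ} {t : K} (h : S.x r t ∈ Y) : S.x (w r) t ∈ Y := by
  induction hw using R.W_induction_left with
  | h1 => exact h
  | h2 i w _ ih =>
    obtain ⟨ε, e1, -, -, e2⟩ := hS (R.simple i)
    have e3 : S.n (R.simple i) 1 ∈ Y := mul_mem (mul_mem (h1 _) (by rw [inv_one, S.x_neg]; exact inv_mem (h1 _))) (h1 _)
    have := e2 (w r) 1 t one_ne_zero ▸ mul_mem (mul_mem e3 ih) (inv_mem e3)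
    show S.x (R.refl (R.simple i) (w r)) t ∈ Y
    rcases mul_self_eq_one_iff.1 (e1 (w r)) with e | e <;> simpa [e, x_neg] using this

theorem exists_subfield [IsAlgClosed K] (hM : S.Mult) (hF : S.Sep) [Finite Y] (r : Φ) :
    ∃ E : Subfield K, Finite E ∧ ∀ t, t ∈ E ↔ S.x r t ∈ Y := by
  simpa [S.U_empty] using (dickson_lev hS hM hF (f := 0) rfl one_pos (h1 r) one_ne_zero (h1 _)).imp fun _ h => And.intro h.1 h.2.1

theorem x_mem_pow {r s : Φ} {E : Subfield K} (hE : ∀ t, t ∈ E ↔ S.x r t ∈ Y) {t : K} (ht : t ∈ E) (h0 : t ≠ 0) : S.x s (t ^ R.pair r s) ∈ Y := by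
  have e : ∀ t ∈ E, S.n r t ∈ Y := fun t ht => mul_mem (mul_mem ((hE t).1 ht) (by
    simpa [R.refl_self] using x_mem_W hS h1 (R.reflPerm_mem_W r) ((hE _).1 (neg_mem (inv_mem ht))))) ((hE t).1 ht)
  have e1 : S.h r t ∈ Y := mul_mem (e t ht) (e _ (by simp))
  simpa [hS.h_conj r h0] using mul_mem (mul_mem e1 (h1 s)) (inv_mem e1)

/-- The parameters of the root elements in `Y` form one subfield. -/
theorem exists_subfield_all [Finite Φ] [IsAlgClosed K] (hM : S.Mult) (hF : S.Sep) (hR : R.Conn) [Finite Y] (l : Φ) (h : (∀ r, R.len r = R.len l) ∨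
    ∃ s s', ∃ m : ℕ, m.Prime ∧ (∀ r, R.len r = R.len l ∨ R.len r = R.len s) ∧ R.pair l s = 1 ∧ R.pair s l = m ∧
      ∃ C : K, (C = m ∨ C = -m) ∧ ∀ t, ⁅S.x s t, S.x s' 1⁆ = S.x l (C * t)) : ∃ E : Subfield K, Finite E ∧ ∀ r t, t ∈ E ↔ S.x r t ∈ Y := by
  obtain ⟨E, h2, h3⟩ := exists_subfield hS h1 hM hF l
  have h4 : ∀ {a b}, R.len a = R.len b → ∀ t, S.x a t ∈ Y ↔ S.x b t ∈ Y := fun e t =>
    ⟨fun h => let ⟨_, a, b⟩ := hR.exists_W e; b ▸ x_mem_W hS h1 a h, fun h => let ⟨_, a, b⟩ := hR.exists_W e.symm; b ▸ x_mem_W hS h1 a h⟩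
  refine ⟨E, h2, fun r t => ?_⟩
  rcases h with h | ⟨s, s', m, hm, h, h5, h6, C, h7, h8⟩
  · rw [h4 (h r), h3]
  rcases h r with h | h
  · rw [h4 h, h3]
  rw [h4 h]
  rcases eq_or_ne t 0 with rfl | h0
  · simp [x_zero]
  refine ⟨fun ht => by simpa [h5] using x_mem_pow hS h1 (s := s) h3 ht h0, fun ht => ?_⟩
  by_cases e : (m : K) = 0
  · obtain ⟨E', h9, h10⟩ := exists_subfield hS h1 hM hF s
    have : Fact m.Prime := ⟨hm⟩
    have := (CharP.charP_iff_prime_eq_zero hm).2 e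
    obtain ⟨u, hu⟩ := Finite.surjective_of_injective (frobenius E' m).injective ⟨t, (h10 t).2 ht⟩
    obtain rfl : (u : K) ^ m = t := congrArg Subtype.val hu
    simpa [h6, h3] using x_mem_pow hS h1 (s := l) h10 u.2 fun e => h0 (by simp [e, hm.ne_zero])
  · have := (h3 _).2 (h8 t ▸ (mul_mem (mul_mem (mul_mem ht (h1 s')) (inv_mem ht)) (inv_mem (h1 s')) : ⁅_, _⁆ ∈ Y))
    have h9 : C ∈ E ∧ C ≠ 0 := by rcases h7 with rfl | rfl <;> simp [e]
    simpa [h9.2] using mul_mem (inv_mem h9.1) this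

end zero

/-- The data for the untwisted case. -/
structure SubU (S : PreSys R K G) (F : G →* G) (φ : K →+* K) (Y : Subgroup G) : Prop where
  st : S.St
  sep : S.Sep
  opp : S.Opp
  mult : S.Mult
  gen : S.U Set.univ = ⊤
  F_x : ∀ r t, F (S.x r t) = S.x r (φ t)
  hx : ∀ r t, S.x r t ∈ Y ↔ φ t = t
  hZ : ∀ g ∈ S.H, (∀ s u, g * S.x s u * g⁻¹ = S.x s u) → g = 1

namespace SubU
variable {F : G →* G} {φ : K →+* K} {Y : Subgroup G} (h : SubU S F φ Y)
include h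

/-- The trivial twisting. -/
def X : TwSys S (Tw.refl R) := fieldTw h.st h.sep h.opp h.mult h.gen (MonoidHom.id G) (RingHom.id K) fun _ _ => rfl

theorem one_mem' (r : Φ) : S.x r 1 ∈ Y := (h.hx r 1).2 (map_one φ)

variable [Finite Φ]

theorem subD : SubD h.X F φ Y :=
  have := grp_refl (fieldTw h.st h.sep h.opp h.mult h.gen F φ h.F_x) (fun _ => rfl) (Γ := Y ⊓ TwSys.Fix _) inf_le_right
    fun r t e => ⟨(h.hx r t).2 e, (h.F_x r t).trans (congrArg _ e)⟩
  ⟨h.F_x, grp_refl _ (fun _ => rfl) le_rfl fun _ _ _ => rfl, fun _ _ => rfl, fun _ _ => rfl, fun _ hu e => (this.pos_le ⟨hu.1, e⟩).1,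
    fun _ hu e => (this.neg_le ⟨hu.1, e⟩).1, fun i => ⟨[i], orth_refl _ (fun _ => rfl) i, fun _ => mem_orb_refl⟩, h.hZ⟩

theorem fix_of_top {a b : Φ} (ha : R.Pos a) (hb : R.Pos b) (hN : R.Nil {a, b} htL)
    (hA : ∀ k ∈ ({a, b} : Set Φ), ∀ t, ∀ u ∈ S.U {r | R.Pos r}, Commute (S.x k t) u)
    (hc : ∀ k, R.Pos k → k ∉ ({a, b} : Set Φ) → ∀ d ∈ S.U (R.lev {r | R.Pos r} htL (R.ht k)), SubD.Cen h.X F d →
      S.co (R.lev {r | R.Pos r} htL (R.ht k)) k d = 0) (hT : ∀ s l, S.x a s * S.x b l ∈ Y → F (S.x a s * S.x b l) = S.x a s * S.x b l)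
    (u : G) (hu : u ∈ S.U {r | R.Pos r}) (hY : u ∈ Y) : F u = u := by
  classical
  by_contra e
  obtain ⟨v, hv, h1, h2, h3⟩ := h.subD.exists_cen hu hY e
  have h4 := S.U_mono Set.inter_subset_right (SubD.mem_top_of_cen (fun k hk _ => hA k hk) hc (mul_mem (inv_mem hv) (h.subD.F_mem hv)) h3)
  have := Fintype.ofFinite Φ
  generalize hA' : ({a, b} : Set Φ) = A at *
  have h5 : ∀ r ∈ A, R.Pos r := by rintro r hr; rcases hA' ▸ hr with rfl | rfl <;> assumption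
  let l := (Finset.univ.filter (· ∈ A)).toList
  let l' := (Finset.univ.filter (· ∉ A)).toList
  have h6 : (l ++ l').Nodup := List.nodup_append'.2 ⟨Finset.nodup_toList _, Finset.nodup_toList _, by simp +contextual [l, l', List.disjoint_left]⟩
  obtain ⟨c, hc, rfl⟩ := S.exists_prod nil_pos h6 (by simp [l, l', em]) hv
  have h7 : S.prod l c ∈ S.U A := Subgroup.list_prod_mem _ fun g hg => by
    obtain ⟨r, hr, rfl⟩ := List.mem_map.1 hg
    exact S.x_mem_U (by simpa [l] using hr) _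
  have h7' : S.prod l' c ∈ S.U {r | R.Pos r} := by
    rw [← inv_mul_cancel_left (S.prod l c) (S.prod l' c), ← prod_append]; exact mul_mem (inv_mem (S.U_mono h5 h7)) hv
  have h8 : ∀ l, F (S.prod l c) = S.prod l (φ ∘ c) := fun l => by simp [prod, map_list_prod, h.F_x, Function.comp_def]
  obtain ⟨c', hc', h9⟩ := S.exists_prod hN (l := l) (Finset.nodup_toList _) (by simp [l]) (mul_mem (inv_mem (h.subD.F_mem h7)) (mul_mem h7 h4))
  have h10 : S.prod (l ++ l') (fun r => if r ∈ A then c' r else c r) = S.prod (l ++ l') fun r => if r ∈ A then 0 else φ (c r) := by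
    have e1 : ∀ (x y : Φ → K), S.prod (l ++ l') (fun r => if r ∈ A then x r else y r) = S.prod l x * S.prod l' y := fun x y => by
      rw [prod_append]; congr 1 <;> exact congrArg List.prod (List.map_congr_left (by simp +contextual [l, l']))
    have e2 : Commute (S.prod l' c) ((S.prod (l ++ l') c)⁻¹ * F (S.prod (l ++ l') c)) := Subgroup.mem_centralizer_singleton_iff.1
      ((S.U_le_iff (H := Subgroup.centralizer {_})).2 (fun r hr t => Subgroup.mem_centralizer_singleton_iff.2 (hA r hr t _ h7')) h4) |>.symm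
    rw [e1, e1, h9, mul_assoc, mul_assoc, ← e2.eq, ← mul_assoc (S.prod l c), ← prod_append, mul_inv_cancel_left, prod_append, map_mul,
      inv_mul_cancel_left, h8]
    simp [prod, x_zero]
  have h11 := S.prod_inj h.sep nil_pos h6 (fun r _ e => by split_ifs with e'; exacts [(e (h5 r e')).elim, hc r e])
    (fun r _ e => by simp [hc r e]) h10
  have h12 : F (S.prod l' c) = S.prod l' c := (h8 l').trans (congrArg List.prod (List.map_congr_left fun r hr => by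
    have := h11 r (List.mem_append_right _ hr)
    simp only [l', Finset.mem_toList, Finset.mem_filter] at hr
    simpa [hr.2] using congrArg (S.x r) this.symm))
  rw [prod_append] at h1 h2 hv
  have h13 := mul_mem h1 (inv_mem (h.subD.pos _ ⟨h7', rfl⟩ h12))
  rw [mul_inv_cancel_right] at h13
  obtain ⟨x, hx, y, hy, e⟩ := S.exists_mul hN {a} h7
  obtain ⟨s, rfl⟩ := S.mem_U_singleton.1 (S.U_mono Set.inter_subset_right hx)
  obtain ⟨t, rfl⟩ := S.mem_U_singleton.1 (S.U_mono (fun k hk => (hA' ▸ hk.1 : k ∈ ({a, b} : Set Φ)).resolve_left hk.2) hy)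
  exact h2 (by rw [map_mul, h12, e, hT s t (e ▸ h13)])

omit h in
theorem red_Q (hF : S.Sep) {β : Φ} {A : Set Φ} {s : K} (h1 : ∀ r, R.Pos r → r ∉ A → ∀ t u, Commute (S.x r t) (S.x β u)) {i : I}
    (hi : R.simple i ∈ A) {u : G} (hu : u ∈ S.U {r | R.Pos r}) :
    ∃ a ∈ S.U ({r | R.Pos r} ∩ A), cf S i u = cf S i a ∧ u * S.x β s * u⁻¹ = a * S.x β s * a⁻¹ := by
  obtain ⟨a, ha, b, hb, rfl⟩ := S.exists_mul nil_pos A hu
  have e1 : Commute b (S.x β s) := commute_U (B := {β}) (fun r hr k e t u' => by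
    rw [show k = β from e]; exact h1 r hr.1 hr.2 t u') hb (S.x_mem_U (Set.mem_singleton β) s)
  refine ⟨a, ha, ?_, by rw [show a * b * S.x β s * (a * b)⁻¹ = a * (b * S.x β s * b⁻¹) * a⁻¹ by group, e1.mul_inv_cancel]⟩
  rw [cf_mul hF (S.U_mono (fun _ h => h.1) ha) (S.U_mono (fun _ h => h.1) hb), show cf S i b = 0 from co_of_mem (ext_cf i) hF
    (S.U_mono (fun r hr => And.intro hr.1 fun e => hr.2 (by rwa [show r = _ from e])) hb), add_zero]

end SubU
end

end Cfsg.Lib.Twist
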