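/-
Finite overgroups of Chevalley groups over finite subfields: the opposite long root.
-/
import Cfsg.Agent.Lib.Twist.SubU

set_option autoImplicit false

namespace Cfsg.Lib.Twist

open Cfsg.Lib.Chev PreSys RootSys Cfsg.Lie
open scoped commutatorElement

/-- The root subgroups commute. -/
def cm (D : ChevalleyDatum) (r s : ℕ) : Prop := s = r ∨ (s ≠ D.neg r ∧ D.commTerms r s = [])

instance cm_dec (D : ChevalleyDatum) (r s : ℕ) : Decidable (cm D r s) := by unfold cm; infer_instance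

/-- The certificate for the root opposite to the highest root. -/
def okL (D : ChevalleyDatum) (θ i γ κ κ' : ℕ) : Prop :=
  (∀ r < D.nroots, (D.nroots ≤ 2 * r → cm D θ r ∧ (0 < prN D θ r ∨ cm D (D.neg θ) r)) ∧ (0 < prN D θ r → D.nroots ≤ 2 * r) ∧
    (2 ≤ prN D θ r → r = θ) ∧ (3 ≤ prN D γ r - prN D (D.simple i) r → r = γ ∨ r = D.neg (D.simple i))) ∧
  prN D θ (D.simple i) = 1 ∧ prN D θ γ = 1 ∧ prN D θ κ = 1 ∧ prN D θ κ' = 1 ∧ prN D γ θ = prN D (D.simple i) θ ∧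
  prN D (D.simple i) γ = -1 ∧ (θ = (hdT D γ (D.simple i)).1 ∧ (hdT D γ (D.simple i)).2 ^ 2 = 1) ∧
  (θ = (hdT D κ κ').1 ∧ (hdT D κ κ').2 ≠ 0) ∧ (γ = (hdT D θ (D.neg (D.simple i))).1 ∧ (hdT D θ (D.neg (D.simple i))).2 ≠ 0 ∧
  (D.commTerms θ (D.neg (D.simple i))).length = 1) ∧ cm D κ γ ∧ cm D κ (D.neg (D.simple i)) ∧ cm D γ (D.neg (D.simple i)) ∧ κ ≠ γ

noncomputable instance okL_dec (D : ChevalleyDatum) (θ i γ κ κ' : ℕ) : Decidable (okL D θ i γ κ κ') := by unfold okL; infer_instance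

theorem fix_of_cube {K : Type*} [Field K] (φ : K →+* K) {c : K} (h : c ^ 3 = c) : φ c = c := by
  have : c * ((c - 1) * (c + 1)) = 0 := by linear_combination h
  rcases mul_eq_zero.1 this with rfl | e
  · simp
  rcases mul_eq_zero.1 e with e | e
  · simp [sub_eq_zero.1 e]
  · simp [eq_neg_of_add_eq_zero_left e]

theorem SubU.long_aux {I Φ : Type*} [Fintype I] [DecidableEq I] {R : RootSys I Φ} {K G : Type*} [Field K] [Group G] {S : PreSys R K G}
    {F : G →* G} {φ : K →+* K} {Y : Subgroup G} (h : SubU S F φ Y) (hU : ∀ u ∈ S.U {r | R.Pos r}, u ∈ Y → F u = u) [IsAlgClosed K] [Finite Y]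
    [Finite Φ] {θ κ γ n : Φ} {a : G} {c c' C : K} (e2 : ∀ v, a * S.x γ v * a⁻¹ = S.x θ (-(c * v)) * S.x γ v)
    (e3 : ∀ v, a * S.x κ v * a⁻¹ = S.x θ (-(c' * v)) * S.x κ v) (e4 : ∀ v, Commute a (S.x θ v)) (c1 : ∀ u v, Commute (S.x κ u) (S.x θ v))
    (c2 : ∀ u v, Commute (S.x γ u) (S.x θ v)) (c3 : ∀ u v, Commute (S.x γ u) (S.x κ v)) (c4 : ∀ u v, ⁅S.x n u, S.x θ v⁆ = S.x γ (-(C * v) * u))
    (c5 : ∀ u v, Commute (S.x n u) (S.x κ v)) (c6 : ∀ u v, Commute (S.x n u) (S.x γ v)) (d2 : R.pair θ γ = 1) (d3 : R.pair θ κ = 1)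
    (p : ∀ r ∈ [θ, κ, γ], R.Pos r) (d4 : κ ≠ γ) (d5 : γ ≠ n) {f : (I → ℤ) →+ ℤ} (hf : f (R.rt θ) = 0) (q1 : 3 ≤ f (R.rt γ))
    (q2 : ∀ r, 3 ≤ f (R.rt r) → r = γ ∨ r = n) {s : K} (hs : s ≠ 0) (hy : a * S.x (R.neg θ) s * a⁻¹ ∈ Y) : φ c = c := by
  have k0 : ∀ x y z, a * (S.x θ z * (S.x κ x * S.x γ y)) * a⁻¹ = S.x θ (z - c' * x - c * y) * (S.x κ x * S.x γ y) := fun x y z => by
    rw [← MulAut.conj_apply, map_mul, map_mul]
    simp only [MulAut.conj_apply, e2, e3, (e4 z).mul_inv_cancel, mul_assoc]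
    rw [← mul_assoc (S.x κ x), (c1 _ _).eq, ← mul_assoc, ← mul_assoc, ← mul_assoc, ← S.x_add, ← S.x_add, mul_assoc]
    congr 2; ring
  have k1 : ∀ x y z, a * (S.x θ z * (S.x κ x * S.x γ y)) * a⁻¹ ∈ Y ↔ φ x = x ∧ φ y = y ∧ φ (z - c' * x - c * y) = z - c' * x - c * y :=
    fun x y z => by
      rw [k0]
      generalize z - c' * x - c * y = z
      refine ⟨fun e => ?_, fun e => mul_mem ((h.hx _ _).2 e.2.2) (mul_mem ((h.hx _ _).2 e.1) ((h.hx _ _).2 e.2.1))⟩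
      have := hU _ (mul_mem (S.x_mem_U (p θ (by simp)) _) (mul_mem (S.x_mem_U (p κ (by simp)) _) (S.x_mem_U (p γ (by simp)) _))) e
      have := map_prod_inj h.sep nil_pos (a := ![θ, κ, γ]) (c := ![φ z, φ x, φ y]) (c' := ![z, x, y]) (by
        have : ∀ k, R.pair θ k = 1 → θ ≠ k := fun k e e' => by rw [← e', pair_self] at e; omega
        simp [this κ d3, this γ d2, d4]) p (by simpa [h.F_x] using this)
      simpa [and_comm, and_assoc] using this
  set Y' := Y.comap (MulAut.conj a).toMonoidHom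
  have hY : ∀ g, g ∈ Y' ↔ a * g * a⁻¹ ∈ Y := fun _ => Iff.rfl
  have : Finite Y' :=
    Finite.of_injective (fun g => (⟨_, g.2⟩ : Y)) fun x y e => Subtype.ext ((MulAut.conj a).injective (congrArg Subtype.val e))
  clear_value Y'
  simp only [← hY] at k1 hy
  obtain ⟨E, -, k2, k3⟩ := dickson_lev h.st h.mult h.sep hf (m := 3) (by decide) (Y := Y')
    (by rw [hY, (e4 1).mul_inv_cancel]; exact h.one_mem' θ) hs hy
  rcases k3 with k3 | ⟨l, v, l0, l1, r, hr, k3⟩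
  · exact fix_of_cube φ (k3 c ((k2 c).2 ⟨S.x γ 1, S.x_mem_U q1 1, by
      rw [(c2 _ _).eq]; simpa only [x_zero, one_mul] using (k1 0 1 c).2 (by simp)⟩))
  obtain ⟨w, -, rfl⟩ := S.exists_prod ((nil_fun f).lev 3) (l := [γ, n]) (by simpa using d5) (fun r hr => by simpa using q2 r hr.2)
    (S.U_mono (T := {r | 3 ≤ f (R.rt r)}) (fun r hr => And.intro ((show (0 : ℤ) < 3 by decide).trans_le hr) hr) hr)
  have c0 : ∀ r u v, Commute (S.x r u) (S.x r v) := S.x_comm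
  have k4 : ∀ x y z, S.prod [γ, n] w * (S.x θ v * S.h θ l) * (S.x θ z * (S.x κ x * S.x γ y)) * (S.prod [γ, n] w * (S.x θ v * S.h θ l))⁻¹ =
      S.x θ (l ^ 2 * z) * (S.x κ (l * x) * S.x γ (l * y - C * l ^ 2 * w n * z)) := fun x y z => by
    simp only [← MulAut.conj_apply, map_mul, prod_cons, prod_nil, mul_one, MulAut.mul_apply]
    simp only [MulAut.conj_apply, h.st.h_conj θ l0, pair_self, d2, d3, zpow_ofNat, pow_one, (c1 _ _).symm.mul_inv_cancel,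
      (c2 _ _).symm.mul_inv_cancel, (c0 _ _ _).mul_inv_cancel, (c5 _ _).mul_inv_cancel, (c6 _ _).mul_inv_cancel,
      (c3 _ _).mul_inv_cancel, show ∀ u v, S.x n u * S.x θ v * (S.x n u)⁻¹ = S.x γ (-(C * v) * u) * S.x θ v from fun u v => by
        rw [← c4, commutatorElement_def, inv_mul_cancel_right]]
    rw [((c0 _ _ _).mul_right (c2 _ _)).mul_inv_cancel, (c2 _ _).eq, mul_assoc, ← mul_assoc (S.x γ _), (c3 _ _).eq, mul_assoc, ← S.x_add]
    congr 3; ring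
  have k5 : ∀ x y z, (φ x = x ∧ φ y = y ∧ φ (z - c' * x - c * y) = z - c' * x - c * y) → _ := fun x y z e =>
    (k1 _ _ _).1 (k4 x y z ▸ mul_mem (mul_mem k3 ((k1 x y z).2 e)) (inv_mem k3))
  have m1 := (k5 0 0 1 (by simp)).2.1
  have m2 := (k5 1 0 c' (by simp)).1
  have m3 := (k5 0 1 c (by simp)).2
  generalize C * l ^ 2 * w n = e at *
  simp only [mul_one, mul_zero, zero_sub, sub_zero, map_sub, map_mul, map_pow, map_neg, _root_.neg_inj] at m1 m2 m3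
  rw [m1, m2, sub_right_inj] at m3
  by_contra m4
  have m5 : e = 0 := (mul_eq_mul_left_iff.1 m3.1).resolve_left m4
  exact l1 (by
    rw [show l = 1 from mul_left_cancel₀ (mul_ne_zero l0 (sub_ne_zero.2 m4)) (by linear_combination m3.2 - (φ c ^ 2 - c ^ 2) * m5), one_pow])

section
variable {D : ChevalleyDatum} {t : RTab} {hR : RootOK D t} {K G : Type*} [Field K] [Group G] {S : PreSys hR.R K G}
  (hE : S.Exact fun r s => termsF D r s)
include hE

theorem cm_spec {r s : Fin D.nroots} (h : cm D r s) (a b : K) : Commute (S.x s a) (S.x r b) :=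
  commute_dec hR.compat hE (h.imp Fin.ext fun e => ⟨e.1, by simp [e.2]⟩) a b

theorem comm_single {a b k : Fin D.nroots} (h : (k : ℕ) = (hdT D b a).1 ∧ (hdT D b a).2 ≠ 0 ∧ (D.commTerms b a).length = 1) (u v : K) :
    ⁅S.x a u, S.x b v⁆ = S.x k (-((hdT D b a).2 * v) * u) := by
  obtain ⟨k', l, e1, e2, -, -, e3, e4⟩ := hdT_spec hR.compat h.2.1
  obtain rfl : k = k' := Fin.ext (h.1.trans e2.symm)
  obtain rfl : l = [] := by simpa [← hR.compat.map_termsF, e1] using h.2.2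
  simp [comm_eq hE e3 e4, e1]

variable {F : G →* G} {φ : K →+* K} {Y : Subgroup G} (h : SubU S F φ Y) (hU : ∀ u ∈ S.U {r | hR.R.Pos r}, u ∈ Y → F u = u)
  [IsAlgClosed K] [Finite Y]
include h hU

theorem SubU.cf_long {θ γ κ κ' : Fin D.nroots} {i : Fin D.rank} (hd : okL D θ i γ κ κ') {u : G} (hu : u ∈ S.U {r | hR.R.Pos r}) {s : K}
    (hs : s ≠ 0) (hy : u * S.x (hR.R.neg θ) s * u⁻¹ ∈ Y) : φ (cf S i u) = cf S i u := by
  have hc := hR.compat
  simp only [okL, ← hc.simple_eq, ← hc.neg_eq, ← hc.pair_eq] at hd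
  obtain ⟨d0, d1, d2, d3, d4, d5, d6, d7, d8, d9, d10, d11, d12, d13⟩ := hd
  replace d0 := fun r : Fin D.nroots => d0 r r.2
  simp only [← hR.pos_iff_half, ← hc.pair_eq, Fin.val_inj] at d0
  obtain ⟨a, ha, e, e0⟩ := SubU.red_Q h.sep (A := {r | 0 < hR.R.pair θ r}) (s := s)
    (fun r h1 h2 => cm_spec hE (((d0 r).1 h1).2.resolve_left h2)) (one_pos.trans_eq d1.symm) hu
  rw [e0] at hy
  rw [e]
  clear e e0 hu u
  have hT := nil_fun (R := hR.R) (hR.R.pairL θ)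
  have ha1 : a ∈ S.U (hR.R.lev {r | 0 < hR.R.pairL θ (hR.R.rt r)} (hR.R.pairL θ) 1) := S.U_mono (fun _ h => And.intro h.2 h.2) ha
  have ha2 : a ∈ S.U {r | hR.R.Pos r} := S.U_mono (fun _ h => h.1) ha
  have e1 : ∀ {k k' : Fin D.nroots}, hR.R.pair θ k = 1 → hR.R.pair θ k' = 1 → (θ : ℕ) = (hdT D k k').1 → (hdT D k k').2 ≠ 0 → ∀ v,
      a * S.x k v * a⁻¹ = S.x θ (-((hdT D k k').2 * v) * S.co (hR.R.lev {r | 0 < hR.R.pairL θ (hR.R.rt r)} (hR.R.pairL θ) 1) k' a) *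
        S.x k v := fun {k k'} a1 a2 a3 a4 v => by
    obtain ⟨b1, b2, b3⟩ := co_comm_hd hc hE h.sep hT (one_pos.trans_eq a2.symm) a2 (one_pos.trans_eq a1.symm) a1 a4 a3 v ha1
    have := co_spec (b2 ▸ hT.ext_lev b1) (comm_lev_add hT ha1 (S.x_mem_U (And.intro (one_pos.trans_eq a1.symm) a1.ge) v))
    rw [b3] at this
    rw [inv_mul_eq_one.1 (S.U_empty.le (S.U_mono (fun r hr => hr.2 ((d0 r).2.2.1 hr.1.2)) this)), commutatorElement_def, inv_mul_cancel_right]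
  have e2 := e1 d2 d1 d7.1 (sq_cast (K := K) d7.2).1
  have e3 := e1 d3 d4 d8.1 d8.2
  have hE' := hT.ext_lev (r := hR.R.simple i) (one_pos.trans_eq d1.symm)
  rw [pairL_rt, d1] at hE'
  rw [← show cf S i a = _ from co_eq (ext_cf i) h.sep (S.U_mono (fun r h => And.intro ((d0 r).2.1 h.1.1) h.2) (co_spec hE' ha1))] at e2
  have p : ∀ k, hR.R.pair θ k = 1 → hR.R.Pos k := fun k e => (d0 k).2.1 (one_pos.trans_eq e.symm)
  have := h.long_aux hU (by simpa only [neg_mul, mul_right_comm _ _ (cf S i a)] using e2)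
    (by simpa only [neg_mul, mul_right_comm _ _ (S.co _ κ' a)] using e3) (fun v => commute_U (B := {θ}) (fun r hr k e x y => by
      rw [show k = θ from e]; exact cm_spec hE ((d0 r).1 hr).1 x y) ha2 (S.x_mem_U (Set.mem_singleton θ) v))
    (cm_spec hE ((d0 κ).1 (p κ d3)).1) (cm_spec hE ((d0 γ).1 (p γ d2)).1) (cm_spec hE d10) (comm_single hE d9) (cm_spec hE d11)
    (cm_spec hE d12) d2 d3 (by simp [p _ d2, p _ d3, (d0 θ).2.1, pair_self]) (Fin.val_ne_iff.1 d13)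
    (fun e => hR.R.not_pos_neg_simple i (e ▸ p γ d2)) (f := hR.R.pairL γ - hR.R.pairL (hR.R.simple i)) (sub_eq_zero.2 d5)
    (by simp [d6, pair_self]) (fun r => (d0 r).2.2.2) hs hy
  rw [map_mul, map_intCast] at this
  exact mul_left_cancel₀ (sq_cast d7.2).2 this

end

end Cfsg.Lib.Twist
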