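/-
Finite overgroups of Chevalley groups over finite subfields: special cases and the main theorem.
-/
import Cfsg.Agent.Lib.Twist.SubV

set_option autoImplicit false

namespace Cfsg.Lib.Twist

open Cfsg.Lib.Chev PreSys RootSys Cfsg.Lie
open scoped commutatorElement

/-- The roots of type B₂. -/
def rB2 (k : Fin 8) : Fin chevB2.nroots := k

theorem SubU.cf_B2 {K G : Type*} [Field K] [Group G] {S : PreSys rootOK_B2.R K G} (hE : S.Exact fun r s => termsF chevB2 r s)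
    {F : G →* G} {φ : K →+* K} {Y : Subgroup G} (h : SubU S F φ Y) (hU : ∀ u ∈ S.U {r | rootOK_B2.R.Pos r}, u ∈ Y → F u = u)
    [IsAlgClosed K] [Finite Y] {u : G} (hu : u ∈ S.U {r | rootOK_B2.R.Pos r}) {s : K} (hs : s ≠ 0)
    (hy : u * S.x (rootOK_B2.R.neg (rB2 7)) s * u⁻¹ ∈ Y) : φ (cf S ⟨0, by decide⟩ u) = cf S ⟨0, by decide⟩ u := by
  have hc := rootOK_B2.compat
  have hp := rootOK_B2.pos_iff_half
  obtain ⟨a, ha, e, e0⟩ := SubU.red_Q h.sep (A := {r | (r : ℕ) ∈ [5, 6, 7]}) (s := s) (β := rootOK_B2.R.neg (rB2 7)) (i := ⟨0, by decide⟩)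
    (fun r h1 h2 => cm_spec hE (by rw [hc.neg_eq]; rw [hp] at h1; revert r; decide +kernel)) (by decide +kernel) hu
  rw [e0] at hy
  rw [e]
  clear e e0 hu u
  obtain ⟨f, hf⟩ := exists_dotN rootOK_B2 [1, 0]
  obtain ⟨w, -, rfl⟩ := S.exists_prod ((nil_fun f).lev 1) (l := [rB2 5, rB2 6, rB2 7]) (by decide) (fun r hr => by
    have := hr.2; rw [hf] at this; clear hr; revert r; decide +kernel) (S.U_mono (fun r hr => by
      have := hr.2; simp only [lev, Set.mem_ofPred_eq, hf] at this ⊢; clear hr; revert r; decide +kernel) ha)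
  have p : ∀ k : Fin 8, 4 ≤ k → rootOK_B2.R.Pos (rB2 k) := fun k => by rw [hp]; revert k; decide
  have x : ∀ k : Fin 8, 4 ≤ k → ∀ t, S.x (rB2 k) t ∈ S.U {r | rootOK_B2.R.Pos r} := fun k e => S.x_mem_U (p k e)
  rw [show cf S ⟨0, by decide⟩ (S.prod [rB2 5, rB2 6, rB2 7] w) = w (rB2 5) by
    rw [prod_cons, prod_cons, prod_cons, prod_nil, mul_one, cf_mul h.sep (x _ (by decide) _) (mul_mem (x _ (by decide) _) (x _ (by decide) _)),
      cf_mul h.sep (x _ (by decide) _) (x _ (by decide) _), cf_x_ne h.sep (p 6 (by decide)) (by decide +kernel),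
      cf_x_ne h.sep (p 7 (by decide)) (by decide +kernel), add_zero, add_zero]
    exact cf_x h.sep _]
  have key : ∀ (l : List (Fin 8)) (w : Fin chevB2.nroots → K) x y z {P Q R : Pol}, colW chevB2 0 (genW (l.map Fin.val) 3 ++ genW [4, 6, 7] 0 ++
      invW 0 (genW (l.map Fin.val) 3)) = colW chevB2 0 [(4, P), (6, Q), (7, R)] → l.length = 3 → ∀ v : ℕ → K,
      v = (fun i => ([x, y, z] ++ l.map fun k => w (rB2 k)).getD i 0) →
      S.prod (l.map rB2) w * (S.x (rB2 4) x * (S.x (rB2 6) y * S.x (rB2 7) z)) * (S.prod (l.map rB2) w)⁻¹ =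
        S.x (rB2 4) (evP v P) * (S.x (rB2 6) (evP v Q) * S.x (rB2 7) (evP v R)) := fun l w x y z P Q R e hl v hv => by
    have := evW_eq (S := S) v Nat.cast_zero hc hE e
    obtain ⟨a, b, c, rfl⟩ := List.length_eq_three.1 hl
    rw [evW_append, evW_invW _ Nat.cast_zero] at this
    simp only [prod, List.map, List.prod_cons, List.prod_nil, ← xN_coe]
    simpa [genW, hv, rB2, mul_assoc] using this
  have k0 := fun x y z => key [5, 6, 7] w x y z (P := [(1, [1])]) (Q := [(1, [0, 1]), (-1, [1, 0, 0, 1])])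
    (R := [(1, [0, 0, 1]), (2, [0, 1, 0, 1]), (-1, [1, 0, 0, 2])]) (by decide +kernel) rfl _ rfl
  simp [evP, evM] at k0
  generalize S.prod _ w = a at *
  generalize w (rB2 5) = c at *
  have k1 : ∀ x y z, a * (S.x (rB2 4) x * (S.x (rB2 6) y * S.x (rB2 7) z)) * a⁻¹ ∈ Y ↔
      φ x = x ∧ φ (y - x * c) = y - x * c ∧ φ (z + (2 * (y * c) - x * c ^ 2)) = z + (2 * (y * c) - x * c ^ 2) := fun x' y z => by
    rw [k0, ← sub_eq_add_neg, ← sub_eq_add_neg]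
    generalize y - x' * c = y, z + _ = z
    refine ⟨fun e => ?_, fun e => mul_mem ((h.hx _ _).2 e.1) (mul_mem ((h.hx _ _).2 e.2.1) ((h.hx _ _).2 e.2.2))⟩
    have := hU _ (mul_mem (x _ (by decide) _) (mul_mem (x _ (by decide) _) (x _ (by decide) _))) e
    simpa using map_prod_inj h.sep nil_pos (a := ![rB2 4, rB2 6, rB2 7]) (c := ![φ x', φ y, φ z]) (c' := ![x', y, z]) (by decide)
      (by simp [p]) (by simpa [h.F_x] using this)
  have e4 : a * S.x (rB2 7) 1 * a⁻¹ ∈ Y := by simpa only [x_zero, one_mul] using (k1 0 0 1).2 (by simp)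
  set Y' := Y.comap (MulAut.conj a).toMonoidHom
  have hY : ∀ g, g ∈ Y' ↔ a * g * a⁻¹ ∈ Y := fun _ => Iff.rfl
  have : Finite Y' :=
    Finite.of_injective (fun g => (⟨_, g.2⟩ : Y)) fun x y e => Subtype.ext ((MulAut.conj a).injective (congrArg Subtype.val e))
  clear_value Y'
  simp only [← hY] at k1 hy e4
  obtain ⟨f, hf⟩ := exists_dotN rootOK_B2 [-1, 2]
  obtain ⟨E, -, k2, k3⟩ := dickson_lev h.st h.mult h.sep (f := f) (by rw [hf]; decide +kernel) one_pos e4 hs hy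
  have q : ∀ k ∈ [4, 6], ∀ t, S.x (rB2 k) t ∈ S.U {r | 1 ≤ f (rootOK_B2.R.rt r)} := fun k e => S.x_mem_U (by
    rw [Set.mem_ofPred_eq, hf]; revert k; decide +kernel)
  rcases k3 with k3 | ⟨l, v, l0, l1, r, hr, k3⟩
  · have m1 := fix_of_cube φ (k3 _ ((k2 (-(2 * c))).2 ⟨_, q 6 (by simp) 1, by simpa only [x_zero, one_mul] using (k1 0 1 _).2 (by simp)⟩))
    have m2 := fix_of_cube φ (k3 _ ((k2 (-c ^ 2)).2 ⟨_, mul_mem (q 4 (by simp) 1) (q 6 (by simp) c), by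
      rw [mul_assoc]; exact (k1 1 c _).2 (by simp [show -c ^ 2 + (2 * (c * c) - c ^ 2) = 0 by ring])⟩))
    simp only [map_neg, map_mul, map_pow, map_ofNat] at m1 m2
    exact sub_eq_zero.1 (pow_eq_zero_iff two_ne_zero |>.1 (by linear_combination c * m1 - m2))
  obtain ⟨w, -, rfl⟩ := S.exists_prod ((nil_fun f).lev 1) (l := [4, 6, 2].map rB2) (by decide) (fun r hr => by
    have := hr.2; rw [hf] at this; clear hr; revert r; decide +kernel) (S.U_mono (fun r hr => And.intro hr hr) hr)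
  have k4 := fun x y z => key [4, 6, 2] w x y z (P := [(-1, [0, 0, 1, 0, 0, 2]), (-2, [0, 1, 0, 0, 0, 1]), (1, [1])])
    (Q := [(1, [0, 0, 1, 0, 0, 1]), (1, [0, 1])]) (R := [(1, [0, 0, 1])]) (by decide +kernel) rfl _ rfl
  have k5 : ∀ x y z, S.x (rB2 7) v * S.h (rB2 7) l * (S.x (rB2 4) x * (S.x (rB2 6) y * S.x (rB2 7) z)) * (S.x (rB2 7) v * S.h (rB2 7) l)⁻¹ =
      S.x (rB2 4) x * (S.x (rB2 6) (l * y) * S.x (rB2 7) (l ^ 2 * z)) := fun x y z => by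
    have c : ∀ k : Fin 8, 4 ≤ k → ∀ u, Commute (S.x (rB2 7) v) (S.x (rB2 k) u) := fun k e => cm_spec hE (by revert k; decide +kernel) v
    simp only [← MulAut.conj_apply, map_mul, MulAut.mul_apply]
    simp only [MulAut.conj_apply, h.st.h_conj _ l0, hc.pair_eq, show prN chevB2 (rB2 7) (rB2 4) = 0 ∧ prN chevB2 (rB2 7) (rB2 6) = 1 ∧
      prN chevB2 (rB2 7) (rB2 7) = 2 by decide +kernel, zpow_ofNat, pow_one, pow_zero, one_mul, (c 4 (by decide) _).mul_inv_cancel,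
      (c 6 (by decide) _).mul_inv_cancel, (c 7 (by decide) _).mul_inv_cancel]
  have k6 := fun x y z e => (k1 _ _ _).1 ((k4 x (l * y) (l ^ 2 * z)).subst (motive := (· ∈ Y')) (by
    rw [← k5]; simpa only [mul_assoc, mul_inv_rev] using mul_mem (mul_mem k3 ((k1 x y z).2 e)) (inv_mem k3)))
  have m1 := k6 0 0 1 (by simp)
  have m2 := k6 0 1 (-(2 * c)) (by simp)
  have m3 := k6 1 c (-c ^ 2) (by simp [show -c ^ 2 + (2 * (c * c) - c ^ 2) = 0 by ring])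
  have m : ∀ {x y z w}, φ x = x → φ y = y → φ z = z → x - c * y - c ^ 2 * z = w → x - φ c * y - φ c ^ 2 * z = φ w := fun a b c e => by
    rw [← e, map_sub, map_sub, map_mul, map_mul, map_pow, a, b, c]
  have n1 := m m3.1 m2.1 m1.1 (w := 1) (by simp [evP, evM]; ring)
  have n2 := m m3.2.1 m2.2.1 m1.2.1 (w := -c) (by simp [evP, evM]; ring)
  have n3 := m m3.2.2 m2.2.2 m1.2.2 (w := -c ^ 2) (by simp [evP, evM]; ring)
  simp [evP, evM] at n1 n2 n3
  exact sub_eq_zero.1 (pow_eq_zero_iff two_ne_zero |>.1 (mul_left_cancel₀ (sub_ne_zero.2 l1) (by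
    linear_combination c ^ 2 * n1 + 2 * c * n2 - n3)))

theorem SubU.top_three {I Φ : Type*} [Fintype I] [DecidableEq I] {R : RootSys I Φ} {K G : Type*} [Field K] [Group G] {S : PreSys R K G}
    {F : G →* G} {φ : K →+* K} {Y : Subgroup G} (h : SubU S F φ Y) (h2 : (2 : K) ≠ 0) {r a b : Φ} (e1 : R.pair r a = 1) (e2 : R.pair r b = 0)
    (s l : K) (hY : S.x a s * S.x b l ∈ Y) : F (S.x a s * S.x b l) = S.x a s * S.x b l := by
  have h1 : S.h r (-1) ∈ Y := SubD.h_mem (φ := φ) (fun t e => ⟨(h.hx _ t).2 e, (h.hx _ t).2 e⟩) (by simp)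
  have h3 := mul_mem hY (inv_mem (mul_mem (mul_mem h1 hY) (inv_mem h1)))
  rw [← MulAut.conj_apply, map_mul] at h3
  simp only [MulAut.conj_apply, h.st.h_conj r (neg_ne_zero.2 one_ne_zero), e1, e2, zpow_ofNat, pow_one, pow_zero, one_mul, mul_inv_rev,
    mul_assoc, mul_inv_cancel_left, neg_mul, x_neg, inv_inv] at h3
  rw [← x_add, h.hx, ← two_mul, map_mul, map_ofNat, mul_right_inj' h2] at h3
  rw [map_mul, h.F_x, h.F_x, h3, (h.hx _ _).1 ((mul_mem_cancel_left ((h.hx _ _).2 h3)).1 hY)]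

theorem exists_charClass (K : Type*) [Field K] : ∃ p ∈ [2, 3, 5], ∀ C : ℤ, C ∣ 6 → ((C : K) = 0 ↔ (p : ℤ) ∣ C) := by
  have e : ∀ C : ℤ, C ∣ 6 → C ∈ [1, -1, 2, -2, 3, -3, 6, -6] := fun C h => by
    have := Int.le_of_dvd (by decide) h
    have := neg_le.1 (Int.le_of_dvd (by decide) (neg_dvd.2 h))
    interval_cases C <;> revert h <;> decide
  have e6 : (6 : K) = 2 * 3 := by norm_num
  by_cases h2 : (2 : K) = 0
  · have h3 : (3 : K) ≠ 0 := fun h3 => one_ne_zero (α := K) (by linear_combination h3 - h2)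
    exact ⟨2, by simp, fun C h => by have := e C h; clear h; revert C; simp [h2, h3, e6]⟩
  by_cases h3 : (3 : K) = 0
  · exact ⟨3, by simp, fun C h => by have := e C h; clear h; revert C; simp [h2, h3, e6]⟩
  · exact ⟨5, by simp, fun C h => by have := e C h; clear h; revert C; simp [h2, h3, e6]⟩

/-- The certificate for the unipotent subgroup. -/
def okT (D : ChevalleyDatum) (t : RTab) (θ σ : ℕ) (p : ℤ) (cb : ℕ → ℕ) : Prop := D.nroots ≤ 2 * σ ∧ htN D t σ ≤ htN D t θ ∧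
  ∀ k < D.nroots, htN D t k < htN D t σ + htN D t σ ∧ (D.nroots ≤ 2 * k → cm D θ k ∧
    (k = σ ∨ (k ≠ D.neg σ ∧ ∀ c ∈ D.commTerms σ k, c.2.1 ∣ 6 ∧ p ∣ c.2.1)) ∧
    (k = σ ∨ k = θ ∨ (cb k < D.nroots ∧ D.nroots ≤ 2 * cb k ∧ (hdT D (cb k) k).2 ∣ 6 ∧ ¬ p ∣ (hdT D (cb k) k).2)))

noncomputable instance okT_dec (D : ChevalleyDatum) (t : RTab) (θ σ : ℕ) (p : ℤ) (cb : ℕ → ℕ) : Decidable (okT D t θ σ p cb) := by
  unfold okT; infer_instance

/-- The certificate for the core. -/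
def okC (D : ChevalleyDatum) (t : RTab) (θ i₀ : ℕ) (ce : ℕ → ℕ × ℕ) (β s : ℕ → ℕ) (a : ℕ → List ℤ) : Prop := 0 < prN D θ (D.simple i₀) ∧
  (∀ b < D.nroots, lk t.L b = lk t.L θ → 2 * b < D.nroots → b = D.neg θ ∨
    ((ce b).2 < D.rank ∧ (ce b).1 < D.nroots ∧ okγ D t b (ce b).1 (ce b).2)) ∧
  ∀ i < D.rank, lk t.L θ = lk t.L (D.simple i) ∨ (β i < D.nroots ∧ lk t.L θ = lk t.L (β i) ∧ s i < D.nroots ∧
    0 < dotN D t (a i) (β i) ∧ 0 < dotN D t (a i) (s i) ∧ (hdT D (s i) (β i)).1 = D.simple i ∧ (hdT D (s i) (β i)).2 ^ 2 = 1 ∧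
    ∀ r < D.nroots, dotN D t (a i) (β i) + dotN D t (a i) (s i) ≤ dotN D t (a i) r → D.nroots ≤ 2 * r)

noncomputable instance okC_dec (D : ChevalleyDatum) (t : RTab) (θ i₀ : ℕ) (ce : ℕ → ℕ × ℕ) (β s : ℕ → ℕ) (a : ℕ → List ℤ) :
    Decidable (okC D t θ i₀ ce β s a) := by unfold okC; infer_instance

section
variable {D : ChevalleyDatum} {t : RTab} {hR : RootOK D t} {K G : Type*} [Field K] [Group G] {S : PreSys hR.R K G}
  {F : G →* G} {φ : K →+* K} {Y : Subgroup G} (h : SubU S F φ Y) (hE : S.Exact fun r s => termsF D r s)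
include h hE

theorem SubU.top_two (h2 : (2 : K) = 0) {a b σ θ : Fin D.nroots} (l l' : List (Fin D.rank)) (hd : wN D (l.map Fin.val) σ = a ∧
    wN D (l.map Fin.val) θ = θ ∧ wN D (l'.map Fin.val) σ = σ ∧ wN D (l'.map Fin.val) θ = b ∧ cm D σ θ ∧
    colW D 2 (genW [a, θ] 0 ++ genW [σ, b] 2 ++ invW 2 (genW [a, θ] 0) ++ invW 2 (genW [σ, b] 2)) =
      colW D 2 [(σ, [(1, [1, 0, 0, 1])]), (θ, [(1, [2, 0, 0, 1])])]) (s v : K) (hY : S.x σ s * S.x θ v ∈ Y) :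
    F (S.x σ s * S.x θ v) = S.x σ s * S.x θ v := by
  have : CharP K 2 := (CharP.charP_iff_prime_eq_zero Nat.prime_two).2 h2
  obtain ⟨d1, d2, d3, d4, d5, d6⟩ := hd
  have e0 : ∀ l x y, S.x σ x * S.x θ y ∈ Y → S.x (hR.R.wprod l σ) x * S.x (hR.R.wprod l θ) y ∈ Y := fun l x y e => by
    have : S.nw l ∈ Y := S.nw_mem fun i _ => mul_mem (mul_mem (h.one_mem' _) ((h.hx _ _).2 (by simp))) (h.one_mem' _)
    simpa only [← nw_conj h.st, mul_assoc, inv_mul_cancel_left] using mul_mem (mul_mem this e) (inv_mem this)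
  have e1 : ∀ {x y x' y'}, S.x σ x * S.x θ y ∈ Y → S.x σ x' * S.x θ y' ∈ Y → S.x σ (x * y') * S.x θ (x ^ 2 * y') ∈ Y := fun {x y x' y'} a1 a2 => by
    have a3 := e0 l _ _ a1
    have a4 := e0 l' _ _ a2
    rw [show hR.R.wprod l σ = a from Fin.ext ((wprod_val hR.compat l σ).trans d1),
      show hR.R.wprod l θ = θ from Fin.ext ((wprod_val hR.compat l θ).trans d2)] at a3
    rw [show hR.R.wprod l' σ = σ from Fin.ext ((wprod_val hR.compat l' σ).trans d3),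
      show hR.R.wprod l' θ = b from Fin.ext ((wprod_val hR.compat l' θ).trans d4)] at a4
    have := evW_eq (S := S) (fun i => [x, y, x', y'].getD i 0) (Nat.cast_ofNat.trans h2) hR.compat hE d6
    simp only [evW_append, evW_invW _ (Nat.cast_ofNat.trans h2)] at this
    simpa [genW, xN_coe, evP, evM] using this.subst (motive := (· ∈ Y)) (mul_mem (mul_mem (mul_mem (by simpa [genW, xN_coe] using a3)
      (by simpa [genW, xN_coe] using a4)) (inv_mem (by simpa [genW, xN_coe] using a3))) (inv_mem (by simpa [genW, xN_coe] using a4)))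
  have e2 : ∀ {x y x' y'}, S.x σ x * S.x θ y ∈ Y → S.x σ x' * S.x θ y' ∈ Y → S.x σ (x + x') * S.x θ (y + y') ∈ Y := fun {x y x' y'} a1 a2 => by
    rw [x_add, x_add, (cm_spec hE d5 y x').symm.mul_mul_mul_comm]; exact mul_mem a1 a2
  have a1 : S.x σ 0 * S.x θ 1 ∈ Y := by simpa [x_zero] using h.one_mem' θ
  have a2 : S.x σ 1 * S.x θ 0 ∈ Y := by simpa [x_zero] using h.one_mem' σ
  have a3 := e1 hY a1
  have a4 := e2 (e1 a2 a3) (e1 (e1 a2 a3) a1)
  have a5 := e2 (e2 a3 (e1 hY a3)) a4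
  simp only [mul_one, one_mul, one_pow, CharTwo.add_self_eq_zero, x_zero, add_zero, h.hx, ← sq, map_add, map_mul, map_pow] at a4 a5
  have a6 : φ s + φ s ^ 2 = s + s ^ 2 := sub_eq_zero.1 (pow_eq_zero_iff two_ne_zero |>.1 (by
    linear_combination a4 + (φ s ^ 3 + s ^ 2 + s ^ 3 + s ^ 4 - (φ s + φ s ^ 2) * (s + s ^ 2)) * h2))
  have a7 : φ s = s := by
    by_cases e : s + s ^ 2 = 0
    · exact fix_of_cube φ (by linear_combination (s - 1) * e)
    · exact mul_left_cancel₀ e (by linear_combination a5 - (1 + φ s) * a6 + (φ s ^ 2 - s ^ 2) * h2)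
  rw [map_mul, h.F_x, h.F_x, a7, (h.hx _ _).1 ((mul_mem_cancel_left ((h.hx _ _).2 a7)).1 hY)]

theorem SubU.hU_dec {p : ℤ} (hp : ∀ C : ℤ, C ∣ 6 → ((C : K) = 0 ↔ p ∣ C)) {θ σ : Fin D.nroots} (cb : ℕ → ℕ) (hd : okT D t θ σ p cb)
    (hT : σ = θ ∨ ∀ s l, S.x σ s * S.x θ l ∈ Y → F (S.x σ s * S.x θ l) = S.x σ s * S.x θ l) : ∀ u ∈ S.U {r | hR.R.Pos r}, u ∈ Y → F u = u := by
  obtain ⟨d1, d2, d3⟩ := hd
  replace d3 := fun k : Fin D.nroots => d3 k k.2
  simp only [← hR.pos_iff_half, ← ht_eq hR] at d1 d2 d3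
  have hθ := (hR.R.pos_iff_ht θ).2 ((hR.R.ht_pos d1).trans_le d2)
  refine h.fix_of_top d1 hθ (nil_top (fun k => (d3 k).1) (by rintro _ (rfl | rfl); exacts [⟨d1, le_rfl⟩, ⟨hθ, d2⟩])) (fun k hk v u hu =>
    (commute_U (B := {k}) (fun r hr _ e x y => ?_) hu (S.x_mem_U (Set.mem_singleton k) v)).symm) (fun k hk e d a1 a2 => ?_)
    (hT.elim (fun e s l => by rw [e, ← x_add, h.hx, h.F_x]; exact congrArg _) id)
  · obtain rfl : _ = k := e
    rcases hk with rfl | rfl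
    · exact commute_dec hR.compat hE (((d3 r).2 hr).2.1.imp Fin.ext fun e => ⟨e.1, fun c hc => (hp _ (e.2 c hc).1).2 (e.2 c hc).2⟩) x y
    · exact cm_spec hE ((d3 r).2 hr).1 x y
  · obtain ⟨b1, b2, b3, b4⟩ := (((d3 k).2 hk).2.2.resolve_left fun e' => e (Or.inl (Fin.ext e'))).resolve_left fun e' => e (Or.inr (Fin.ext e'))
    have hb := (hR.pos_iff_half ⟨_, b1⟩).2 b2
    exact cen_dec hE h.sep hk hb (z := S.x ⟨_, b1⟩ 1) (l := []) (by simp) ((hp _ b3).not.2 b4) (by simp) a1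
      (a2 _ ⟨S.x_mem_U hb 1, rfl⟩ (by simp [h.F_x]))

theorem SubU.fix_dec (hC : hR.R.Conn) (hU : ∀ u ∈ S.U {r | hR.R.Pos r}, u ∈ Y → F u = u) {θ : Fin D.nroots} {i₀ : Fin D.rank}
    (h0 : ∀ u ∈ S.U {r | hR.R.Pos r}, ∀ s, s ≠ 0 → u * S.x (hR.R.neg θ) s * u⁻¹ ∈ Y → φ (cf S i₀ u) = cf S i₀ u)
    (h1 : ∀ k < D.nroots, D.nroots ≤ 2 * k → cm D θ k) (ce : ℕ → ℕ × ℕ) (β s : ℕ → ℕ) (a : ℕ → List ℤ) (hd : okC D t θ i₀ ce β s a)
    (g : G) (hg : g ∈ Y) : F g = g := by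
  have hc := hR.compat
  obtain ⟨d1, d2, d3⟩ := hd
  have e0 : ∀ i b, hR.R.pair b (hR.R.simple i) < 0 → hR.R.ht b < hR.R.ht (lng hR.R ((Tw.refl hR.R).orb i) b) := fun i b e => by
    rw [← eq_lng (hR.R.s_mem_WJ ((Tw.refl _).mem_orb i)) fun j hj => by
      rw [List.mem_singleton.1 (mem_orb_refl.1 hj), s_simple]; exact hR.R.not_pos_neg_simple i, ht_s]
    rw [pair_neg_iff] at e; omega
  have e1 := h.subD.mem_core hU (O := {r | hR.R.len r = hR.R.len θ}) (fun w hw r hr => (hR.R.W_len (Tw.W1_le_W _ _ hw) r).trans hr)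
    (fun b e1 e2 => ?_) (θ := θ) rfl (fun u hu => commute_U (B := {θ}) (fun r hr _ e x y => by
      obtain rfl : _ = θ := e
      exact cm_spec hE (h1 r r.2 ((hR.pos_iff_half r).1 hr)) x y) hu (S.x_mem_U (Set.mem_singleton θ) 1)) (h.one_mem' θ)
  · have e2 : ∀ r, hR.R.len θ = hR.R.len r → ∃ c, c ≠ 0 ∧ S.x r c ∈ fixCore F Y := fun r e =>
      let ⟨_, a, b⟩ := hC.exists_W e
      b ▸ h.subD.core_W e1 (by rwa [Tw.W1_refl, WJ_univ])
    refine h.subD.fix_of_core (fun i => ?_) hg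
    rcases d3 i i.2 with e | ⟨a1, a2, a3, a4, a5, a6, a7, a8⟩
    · obtain ⟨c, b1, b2⟩ := e2 (hR.R.simple i) (by rwa [← hc.simple_eq] at e)
      exact SubD.core_simple b1 b2 h.sep
    · obtain ⟨c, b1, b2⟩ := e2 ⟨_, a1⟩ a2
      exact core_dec hE h.sep b1 b2 (s := ⟨_, a3⟩) (h.one_mem' ⟨_, a3⟩) (l := []) (by simp) (a i) ⟨a4, a5, a6, a7, by simp, a8⟩
  · rcases d2 b b.2 e1 (by rwa [hR.pos_iff_half, not_le] at e2) with e | ⟨a1, a2, a3⟩
    · obtain rfl : b = hR.R.neg θ := Fin.ext (e.trans (hc.neg_eq θ).symm)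
      exact ⟨i₀, e0 _ _ (by rwa [pair_neg_left, neg_lt_zero, hc.pair_eq, hc.simple_eq]), fun u hu => h0 u hu.1⟩
    · exact ⟨⟨_, a1⟩, e0 _ _ (by rw [hc.pair_eq, hc.simple_eq]; exact a3.1), fun u hu s hs hy =>
        h.subD.cf_fix_dec hE hU (γ := ⟨_, a2⟩) (i := ⟨_, a1⟩) a3 (h.one_mem' _) hu.1 hs hy⟩

end

end Cfsg.Lib.Twist
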