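/-
Finite overgroups of Chevalley groups over finite subfields.
-/
import Cfsg.Agent.Lib.Twist.SubW

set_option autoImplicit false

namespace Cfsg.Lib.Twist

open Cfsg.Lib.Chev PreSys RootSys Cfsg.Lie

set_option synthInstance.maxSize 4000
set_option synthInstance.maxHeartbeats 400000

universe u

/-- The Cartan integer in the simply laced case. -/
noncomputable def prS (D : ChevalleyDatum) (t : RTab) (r s : ℕ) : ℤ := sumLt (fun i => Int.mul (rtN D t r i) (wtN D t s i)) D.rank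

/-- The certificate for the core in the simply laced case. -/
def okS (D : ChevalleyDatum) (t : RTab) (θ : ℕ) (c : ℕ × ℕ) (b : ℕ) : Prop :=
  b = D.neg θ ∨ (c.2 < D.rank ∧ c.1 < D.nroots ∧ prS D t b (D.simple c.2) < 0 ∧
    (∀ r < D.nroots, D.nroots ≤ 2 * r → prS D t b r < 0 → 0 ≤ prS D t c.1 r) ∧ (hdT D c.1 b).2 ^ 2 = 1 ∧
    D.nroots ≤ 2 * (hdT D c.1 b).1 ∧ (∀ e ∈ (D.commTerms c.1 b).tail, htN D t (hdT D c.1 b).1 < htN D t e.1) ∧
    (hdT D (hdT D c.1 b).1 (D.simple c.2)).2 ^ 2 = 1)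

noncomputable instance okS_dec (D : ChevalleyDatum) (t : RTab) (θ : ℕ) (c : ℕ × ℕ) (b : ℕ) : Decidable (okS D t θ c b) := by
  unfold okS; infer_instance

theorem forall_lt_add {P : ℕ → Prop} {a n : ℕ} (h1 : ∀ b < a, P b) (h2 : ∀ b < n, P (a + b)) : ∀ b < a + n, P b := fun b hb => by
  by_cases e : b < a
  exacts [h1 b e, Nat.add_sub_cancel' (not_lt.1 e) ▸ h2 _ (by omega)]

theorem okC_of_okS {D : ChevalleyDatum} {t : RTab} (h : RootOK D t) {θ i₀ n : ℕ} {ce : ℕ → ℕ × ℕ}
    (hd : (∀ r < D.nroots, lk t.L r = lk t.L θ) ∧ 0 < prN D θ (D.simple i₀) ∧ D.nroots = 2 * n) (hb : ∀ b < n, okS D t θ (ce b) b) :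
    okC D t θ i₀ ce (fun _ => 0) (fun _ => 0) (fun _ => []) := by
  have hc := h.compat
  have l : ∀ r s : Fin D.nroots, h.R.len r = h.R.len s := fun r s => (hd.1 r r.2).trans (hd.1 s s.2).symm
  have p : ∀ r < D.nroots, ∀ s < D.nroots, prS D t r s = prN D r s := fun r hr s hs => by
    rw [← hc.pair_eq ⟨r, hr⟩ ⟨s, hs⟩, prS, Twist.sumLt_eq]
    refine Finset.sum_congr rfl fun i _ => ?_
    have := h.R.len_co ⟨r, hr⟩ i
    rw [l (h.R.simple i) ⟨r, hr⟩] at this
    rw [mul_left_cancel₀ (h.R.len_pos' _).ne' this, RootOK.wtN_eq]; rfl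
  have e : ∀ r < D.nroots, ∀ s < D.nroots, 0 ≤ prN D r s → s ≠ D.neg r ∧ D.commTerms r s = [] := fun r hr s hs e => by
    rw [← hc.pair_eq ⟨r, hr⟩ ⟨s, hs⟩] at e
    have e1 := ne_neg_of_pair (le_trans (by decide) e)
    refine ⟨fun e2 => e1 (Fin.ext (e2.trans (hc.neg_eq ⟨r, hr⟩).symm)), (hc.map_termsF ⟨r, hr⟩ ⟨s, hs⟩).symm.trans (List.map_eq_nil_iff.2
      (List.eq_nil_iff_forall_not_mem.2 fun c e2 => ?_))⟩
    obtain ⟨a, b, e3⟩ := hc.mem_termsF e2
    have : c.1 ∈ h.R.cone _ _ := ⟨_, _, a, b, e3⟩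
    rwa [SL.cone_eq_empty (fun r s => mul_left_cancel₀ (h.R.len_pos' r).ne' (by rw [h.R.len_pair_symm, l s r])) e e1] at this
  have q : ∀ i < D.rank, D.simple i < D.nroots := fun i hi => hc.simple_eq ⟨i, hi⟩ ▸ (h.R.simple ⟨i, hi⟩).2
  refine ⟨hd.2.1, fun b h1 _ h2 => (hb b (by omega)).imp_right fun ⟨a1, a2, a3, a4, a5⟩ =>
    ⟨a1, a2, p b h1 _ (q _ a1) ▸ a3, fun r hr h3 => ?_, a5⟩, fun i hi => Or.inl (hd.1 _ (q i hi)).symm⟩
  split_ifs with h4
  exacts [Or.inr (e _ a2 r hr (p _ a2 r hr ▸ a4 r hr h3 (p b h1 r hr ▸ h4))), e b h1 r hr (not_lt.1 h4)]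

section
variable {K G : Type*} [Field K] [Group G] [IsAlgClosed K] {F : G →* G} {φ : K →+* K} {Y : Subgroup G} [Finite Y]

theorem okC_G2 : okC chevG2 tabG2 11 1 (fun b => [(0, 0), (11, 0), (0, 0), (0, 0), (0, 0), (11, 1)].getD b (0, 0))
    (fun i => [5, 0].getD i 0) (fun i => [8, 0].getD i 0) (fun i => [[2, -1], []].getD i []) := by decide +kernel

theorem fix_G2 {S : PreSys rootOK_G2.R K G} (h : SubU S F φ Y) (hE : S.Exact fun r s => termsF chevG2 r s) : ∀ g ∈ Y, F g = g := by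
  obtain ⟨p, hp, e⟩ := exists_charClass K
  have hU : ∀ u ∈ S.U {r | rootOK_G2.R.Pos r}, u ∈ Y → F u = u := by
    simp only [List.mem_cons, List.not_mem_nil, or_false] at hp
    rcases hp with rfl | rfl | rfl
    · exact h.hU_dec hE e (θ := ⟨11, by decide⟩) (σ := ⟨11, by decide⟩) (fun k => [7, 6, 9, 7, 6, 0].getD (k - 6) 0)
        (by decide +kernel) (Or.inl rfl)
    · exact h.hU_dec hE e (θ := ⟨11, by decide⟩) (σ := ⟨9, by decide⟩) (fun k => [7, 6, 7, 0, 6, 0].getD (k - 6) 0)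
        (by decide +kernel) (Or.inr (h.top_three (by exact_mod_cast (e 2 (by decide)).not.2 (by decide)) (r := ⟨7, by decide⟩)
          (by rw [rootOK_G2.compat.pair_eq]; decide +kernel) (by rw [rootOK_G2.compat.pair_eq]; decide +kernel)))
    · exact h.hU_dec hE e (θ := ⟨11, by decide⟩) (σ := ⟨11, by decide⟩) (fun k => [7, 6, 7, 7, 6, 0].getD (k - 6) 0)
        (by decide +kernel) (Or.inl rfl)
  exact h.fix_dec hE (rootOK_G2.compat.conn (by simp)) hU (θ := ⟨11, by decide⟩) (i₀ := ⟨1, by decide⟩)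
    (fun _ hu _ => h.cf_long hE hU (γ := ⟨10, by decide⟩) (κ := ⟨9, by decide⟩) (κ' := ⟨8, by decide⟩) (by decide +kernel) hu)
    (by decide +kernel) _ _ _ _ okC_G2

theorem okC_B2 : okC chevB2 tabB2 7 0 (fun b => [(0, 0), (0, 0), (0, 0), (6, 1)].getD b (0, 0))
    (fun i => [3, 0].getD i 0) (fun i => [6, 0].getD i 0) (fun i => [[2, -1], []].getD i []) := by decide +kernel

theorem fix_B2 {S : PreSys rootOK_B2.R K G} (h : SubU S F φ Y) (hE : S.Exact fun r s => termsF chevB2 r s) : ∀ g ∈ Y, F g = g := by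
  obtain ⟨p, hp, e⟩ := exists_charClass K
  have hU : ∀ u ∈ S.U {r | rootOK_B2.R.Pos r}, u ∈ Y → F u = u := by
    simp only [List.mem_cons, List.not_mem_nil, or_false] at hp
    rcases hp with rfl | rfl | rfl
    · exact h.hU_dec hE e (θ := ⟨7, by decide⟩) (σ := ⟨6, by decide⟩) (fun k => [5, 4, 0, 0].getD (k - 4) 0)
        (by decide +kernel) (Or.inr (h.top_two hE (by exact_mod_cast (e 2 (by decide)).2 (by decide)) (a := ⟨5, by decide⟩) (b := ⟨4, by decide⟩)
          [⟨1, by decide⟩] [⟨0, by decide⟩] (by decide +kernel)))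
    · exact h.hU_dec hE e (θ := ⟨7, by decide⟩) (σ := ⟨7, by decide⟩) (fun k => [5, 4, 5, 0].getD (k - 4) 0)
        (by decide +kernel) (Or.inl rfl)
    · exact h.hU_dec hE e (θ := ⟨7, by decide⟩) (σ := ⟨7, by decide⟩) (fun k => [5, 4, 5, 0].getD (k - 4) 0)
        (by decide +kernel) (Or.inl rfl)
  exact h.fix_dec hE (rootOK_B2.compat.conn (by simp)) hU (θ := ⟨7, by decide⟩) (i₀ := ⟨0, by decide⟩)
    (fun _ hu _ => h.cf_B2 hE hU hu)
    (by decide +kernel) _ _ _ _ okC_B2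

/-- The certificate. -/
def ceD4 (b : ℕ) : ℕ × ℕ := (23 - lk
    0x10100000000010000000000 b, lk
    0x30201030202000000000000 b)

theorem okS_D4_0 : ∀ b < 12, okS chevD4 tabD4 23 (ceD4 b) b := by decide +kernel

theorem okT_D4 : ∀ p ∈ ([2, 3, 5] : List ℤ), okT chevD4 tabD4 23 23 p fun k => lk
    0xe0c0d0c0e120c0d0c0e0e000000000000000000000000 k := by decide +kernel

theorem fix_D4 {S : PreSys rootOK_D4.R K G} (h : SubU S F φ Y) (hE : S.Exact fun r s => termsF chevD4 r s) : ∀ g ∈ Y, F g = g := by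
  obtain ⟨p, hp, e⟩ := exists_charClass K
  have hU := h.hU_dec hE e (θ := ⟨23, by decide⟩) (σ := ⟨23, by decide⟩) _ (okT_D4 p hp) (Or.inl rfl)
  exact h.fix_dec hE (rootOK_D4.compat.conn (by simp)) hU (θ := ⟨23, by decide⟩) (i₀ := ⟨1, by decide⟩)
    (fun _ hu _ => h.cf_long hE hU (γ := ⟨22, by decide⟩) (κ := ⟨17, by decide⟩) (κ' := ⟨19, by decide⟩) (by decide +kernel) hu)
    (by decide +kernel) _ _ _ _ (okC_of_okS rootOK_D4 (n := 12) (ce := ceD4) (by decide +kernel)
      okS_D4_0)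

theorem okC_F4 : okC chevF4 tabF4 47 3 (fun b => [(0, 0), (47, 2), (47, 1), (0, 0), (47, 0), (47, 0), (46, 0), (0, 0), (0, 0), (0, 0), (0, 0), (0, 0), (0, 0), (0, 0), (0, 0), (47, 2),
    (47, 1), (46, 1), (0, 0), (0, 0), (0, 0), (47, 2), (46, 2), (47, 3)].getD b (0, 0))
    (fun i => [15, 21, 0, 0].getD i 0) (fun i => [39, 29, 0, 0].getD i 0) (fun i => [[2, 0, -1, 1], [-1, 2, -1, 0], [], []].getD i []) := by decide +kernel

theorem fix_F4 {S : PreSys rootOK_F4.R K G} (h : SubU S F φ Y) (hE : S.Exact fun r s => termsF chevF4 r s) : ∀ g ∈ Y, F g = g := by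
  obtain ⟨p, hp, e⟩ := exists_charClass K
  have hU : ∀ u ∈ S.U {r | rootOK_F4.R.Pos r}, u ∈ Y → F u = u := by
    simp only [List.mem_cons, List.not_mem_nil, or_false] at hp
    rcases hp with rfl | rfl | rfl
    · exact h.hU_dec hE e (θ := ⟨47, by decide⟩) (σ := ⟨44, by decide⟩) (fun k => [25, 24, 27, 25, 24, 33, 24, 25, 33, 27, 25, 24, 27, 24, 25, 27, 33, 24, 25, 27, 0, 25, 24, 0].getD (k - 24) 0)
        (by decide +kernel) (Or.inr (h.top_two hE (by exact_mod_cast (e 2 (by decide)).2 (by decide)) (a := ⟨29, by decide⟩) (b := ⟨41, by decide⟩)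
          ([0, 1, 2, 1, 0].map nF) ([3, 2, 1, 2, 3].map nF) (by decide +kernel)))
    · exact h.hU_dec hE e (θ := ⟨47, by decide⟩) (σ := ⟨47, by decide⟩) (fun k => [25, 24, 27, 25, 24, 33, 24, 25, 33, 27, 25, 24, 27, 24, 25, 27, 33, 24, 25, 27, 27, 25, 24, 0].getD (k - 24) 0)
        (by decide +kernel) (Or.inl rfl)
    · exact h.hU_dec hE e (θ := ⟨47, by decide⟩) (σ := ⟨47, by decide⟩) (fun k => [25, 24, 27, 25, 24, 33, 24, 25, 33, 27, 25, 24, 27, 24, 25, 27, 33, 24, 25, 27, 27, 25, 24, 0].getD (k - 24) 0)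
        (by decide +kernel) (Or.inl rfl)
  exact h.fix_dec hE (rootOK_F4.compat.conn (by simp)) hU (θ := ⟨47, by decide⟩) (i₀ := ⟨3, by decide⟩)
    (fun _ hu _ => h.cf_long hE hU (γ := ⟨46, by decide⟩) (κ := ⟨32, by decide⟩) (κ' := ⟨42, by decide⟩) (by decide +kernel) hu)
    (by decide +kernel) _ _ _ _ okC_F4

/-- The certificate. -/
def ceE6 (b : ℕ) : ℕ × ℕ := (71 - lk
    0x30202010101020101010000000000000000000005020101010000000000000000000000 b, lk
    0x50405030405020202020103040502020203030400000000000000000000000202020300 b)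

theorem okS_E6_0 : ∀ b < 36, okS chevE6 tabE6 71 (ceE6 b) b := by decide +kernel

theorem okT_E6 : ∀ p ∈ ([2, 3, 5] : List ℤ), okT chevE6 tabE6 71 71 p fun k => lk
    0x2e2725242a25242724252e2425272a3825242724252a2425272e2425272a2425272425000000000000000000000000000000000000000000000000000000000000000000000000 k := by decide +kernel

theorem fix_E6 {S : PreSys rootOK_E6.R K G} (h : SubU S F φ Y) (hE : S.Exact fun r s => termsF chevE6 r s) : ∀ g ∈ Y, F g = g := by
  obtain ⟨p, hp, e⟩ := exists_charClass K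
  have hU := h.hU_dec hE e (θ := ⟨71, by decide⟩) (σ := ⟨71, by decide⟩) _ (okT_E6 p hp) (Or.inl rfl)
  exact h.fix_dec hE (rootOK_E6.compat.conn (by simp)) hU (θ := ⟨71, by decide⟩) (i₀ := ⟨1, by decide⟩)
    (fun _ hu _ => h.cf_long hE hU (γ := ⟨70, by decide⟩) (κ := ⟨53, by decide⟩) (κ' := ⟨63, by decide⟩) (by decide +kernel) hu)
    (by decide +kernel) _ _ _ _ (okC_of_okS rootOK_E6 (n := 36) (ce := ceE6) (by decide +kernel)
      okS_E6_0)

/-- The certificate. -/
def ceE7 (b : ℕ) : ℕ × ℕ := (125 - lk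
    0x50404030303020202020101010101030202020201010101010101010101000000000000000000000000000000000000000000000000000000000000000000 b, lk
    0x60506040506030405060203040506010101010101010101030303040405000203040506010101010303030404050202020202020303030401010101030200 b)

theorem okS_E7_0 : ∀ b < 32, okS chevE7 tabE7 125 (ceE7 b) b := by decide +kernel
theorem okS_E7_1 : ∀ b < 31, okS chevE7 tabE7 125 (ceE7 (32 + b)) (32 + b) := by decide +kernel

theorem okT_E7 : ∀ p ∈ ([2, 3, 5] : List ℤ), okT chevE7 tabE7 125 125 p fun k => lk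
    0x5d494542403f4e42403f45403f423f4049403f423f40453f40424e3f404245495d403f423f40453f4042493f4042454e3f404245493f4042453f40423f40000000000000000000000000000000000000000000000000000000000000000000000000000000000000000000000000000000000000000000000000000000 k := by decide +kernel

theorem fix_E7 {S : PreSys rootOK_E7.R K G} (h : SubU S F φ Y) (hE : S.Exact fun r s => termsF chevE7 r s) : ∀ g ∈ Y, F g = g := by
  obtain ⟨p, hp, e⟩ := exists_charClass K
  have hU := h.hU_dec hE e (θ := ⟨125, by decide⟩) (σ := ⟨125, by decide⟩) _ (okT_E7 p hp) (Or.inl rfl)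
  exact h.fix_dec hE (rootOK_E7.compat.conn (by simp)) hU (θ := ⟨125, by decide⟩) (i₀ := ⟨0, by decide⟩)
    (fun _ hu _ => h.cf_long hE hU (γ := ⟨124, by decide⟩) (κ := ⟨109, by decide⟩) (κ' := ⟨108, by decide⟩) (by decide +kernel) hu)
    (by decide +kernel) _ _ _ _ (okC_of_okS rootOK_E7 (n := 63) (ce := ceE7) (by decide +kernel)
      (forall_lt_add (a := 32) okS_E7_0 okS_E7_1))

/-- The certificate. -/
def ceE8 (b : ℕ) : ℕ × ℕ := (239 - lk
    0x100020100030201000403020100050403020100050403020100040302010003020100020100010000060504030201000403020100030201000201000100000302010002010001000002010001000001000000020100010000010000000100000000010000000000000100000000000000000000000000 b, lk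
    0x70606050505040404040303030303020202020202010101010101010101010103030303040404050506000000000000000000000000000000000000000000000202020202020202020203030303030304040405010101010101010101010303030304020202020203010000000000000200010304050600 b)

theorem okS_E8_0 : ∀ b < 20, okS chevE8 tabE8 239 (ceE8 b) b := by decide +kernel
theorem okS_E8_1 : ∀ b < 20, okS chevE8 tabE8 239 (ceE8 (20 + b)) (20 + b) := by decide +kernel
theorem okS_E8_2 : ∀ b < 20, okS chevE8 tabE8 239 (ceE8 (40 + b)) (40 + b) := by decide +kernel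
theorem okS_E8_3 : ∀ b < 20, okS chevE8 tabE8 239 (ceE8 (60 + b)) (60 + b) := by decide +kernel
theorem okS_E8_4 : ∀ b < 20, okS chevE8 tabE8 239 (ceE8 (80 + b)) (80 + b) := by decide +kernel
theorem okS_E8_5 : ∀ b < 20, okS chevE8 tabE8 239 (ceE8 (100 + b)) (100 + b) := by decide +kernel

theorem okT_E8 : ∀ p ∈ ([2, 3, 5] : List ℤ), okT chevE8 tabE8 239 239 p fun k => lk
    0x78797b7e82878d87827e7b7978a28d827e7b7978877e7b7978827b79787e79787b78798d7b79787e79787b78798279787b78797e78797b8779787b78797e78797b8278797b7e8d78797b7e8287a279787b78797e78797b8278797b7e8778797b7e828d78797b7e828778797b7e8278797b7e78797b7879000000000000000000000000000000000000000000000000000000000000000000000000000000000000000000000000000000000000000000000000000000000000000000000000000000000000000000000000000000000000000000000000000000000000000000000000000000000000000000000000 k := by decide +kernel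

theorem fix_E8 {S : PreSys rootOK_E8.R K G} (h : SubU S F φ Y) (hE : S.Exact fun r s => termsF chevE8 r s) : ∀ g ∈ Y, F g = g := by
  obtain ⟨p, hp, e⟩ := exists_charClass K
  have hU := h.hU_dec hE e (θ := ⟨239, by decide⟩) (σ := ⟨239, by decide⟩) _ (okT_E8 p hp) (Or.inl rfl)
  exact h.fix_dec hE (rootOK_E8.compat.conn (by simp)) hU (θ := ⟨239, by decide⟩) (i₀ := ⟨7, by decide⟩)
    (fun _ hu _ => h.cf_long hE hU (γ := ⟨238, by decide⟩) (κ := ⟨161, by decide⟩) (κ' := ⟨227, by decide⟩) (by decide +kernel) hu)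
    (by decide +kernel) _ _ _ _ (okC_of_okS rootOK_E8 (n := 120) (ce := ceE8) (by decide +kernel)
      (forall_lt_add (a := 100) (forall_lt_add (a := 80) (forall_lt_add (a := 60) (forall_lt_add (a := 40) (forall_lt_add (a := 20) okS_E8_0 okS_E8_1) okS_E8_2) okS_E8_3) okS_E8_4) okS_E8_5))

end

theorem finite_over_of {D : ChevalleyDatum} {t : RTab} (h : RootOK D t) {η : ℕ → ℕ → ℤ} (hm : MatOK D η) (hC : h.R.Conn) {K : Type u} [Field K]
    [IsAlgClosed K] {Y : Subgroup (D.group K)} [Finite Y] (hF : ∀ F φ, SubU (h.compat.gsys hm K) F φ Y → ∀ g ∈ Y, F g = g) (l s s' m : ℕ)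
    (hd : l < D.nroots ∧ ((∀ r < D.nroots, lk t.L r = lk t.L l) ∨ (s < D.nroots ∧ s' < D.nroots ∧ m ∈ [2, 3] ∧
      (∀ r < D.nroots, lk t.L r = lk t.L l ∨ lk t.L r = lk t.L s) ∧ prN D l s = 1 ∧ prN D s l = m ∧ (hdT D s' s).2 = -m ∧
      l = (hdT D s' s).1 ∧ (hdT D s' s).2 ≠ 0 ∧ (D.commTerms s' s).length = 1)))
    (h1 : ∀ g : D.group K, ∀ r, g.1.1 = D.x K r 1 → g ∈ Y) : ∃ E : Subfield K, Finite E ∧
      (∀ (g : D.group K) r t, t ∈ E → g.1.1 = D.x K r t → g ∈ Y) ∧ ∀ φ : K →+* K, (∀ t, φ t = t ↔ t ∈ E) → ∀ g ∈ Y, baseExt D φ g = g := by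
  have hc := h.compat
  obtain ⟨E, e1, e2⟩ := exists_subfield_all (hc.gst hm) (fun r => h1 _ r (hc.gsys_val hm r 1)) (hc.gmult hm) (hc.gsep hm) hC ⟨l, hd.1⟩
    (hd.2.imp (fun e r => e r r.2) fun ⟨a, b, c, d, e, f, g, k⟩ => ⟨⟨s, a⟩, ⟨s', b⟩, m, by clear * - c; revert m; decide, fun r => d r r.2,
      (hc.pair_eq _ _).trans e, (hc.pair_eq _ _).trans f, _, Or.inl rfl, fun t => by
        simpa [g] using comm_single (hc.gexact hm) (a := ⟨s, a⟩) (b := ⟨s', b⟩) (k := ⟨l, hd.1⟩) k t 1⟩)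
  refine ⟨E, e1, fun g r t ht e => ?_, fun φ e => hF _ φ ⟨hc.gst hm, hc.gsep hm, hc.gopp hm, hc.gmult hm, hc.ggen hm, hc.baseExt_x hm φ,
    fun r t => (e2 r t).symm.trans (e t).symm, gZ _ hm⟩⟩
  by_cases hr : r < D.nroots
  · rw [show g = (hc.gsys hm K).x ⟨r, hr⟩ t from Subtype.ext (Units.ext (e.trans (hc.gsys_val hm ⟨r, hr⟩ t).symm))]
    exact (e2 _ t).1 ht
  · rw [show g = 1 from Subtype.ext (Units.ext (e.trans (dif_neg hr)))]
    exact one_mem _

/-- A finite subgroup containing the root elements `x_r(1)` lies between the group over a finite subfield and its fixed points. -/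
theorem finite_over {D : ChevalleyDatum} (hD : D ∈ [chevG2, chevB2, chevD4, chevF4, chevE6, chevE7, chevE8]) {K : Type u} [Field K]
    [IsAlgClosed K] {Y : Subgroup (D.group K)} [Finite Y] (h1 : ∀ g : D.group K, ∀ r, g.1.1 = D.x K r 1 → g ∈ Y) : ∃ E : Subfield K, Finite E ∧
      (∀ (g : D.group K) r t, t ∈ E → g.1.1 = D.x K r t → g ∈ Y) ∧ ∀ φ : K →+* K, (∀ t, φ t = t ↔ t ∈ E) → ∀ g ∈ Y, baseExt D φ g = g := by
  simp only [List.mem_cons, List.not_mem_nil, or_false] at hD
  rcases hD with rfl | rfl | rfl | rfl | rfl | rfl | rfl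
  · exact finite_over_of rootOK_G2 matOK_G2 (rootOK_G2.compat.conn (by simp)) (fun _ _ h => fix_G2 h (rootOK_G2.compat.gexact _))
      10 7 9 3 (by decide +kernel) h1
  · exact finite_over_of rootOK_B2 matOK_B2 (rootOK_B2.compat.conn (by simp)) (fun _ _ h => fix_B2 h (rootOK_B2.compat.gexact _))
      7 5 6 2 (by decide +kernel) h1
  · exact finite_over_of rootOK_D4 matOK_D4 (rootOK_D4.compat.conn (by simp)) (fun _ _ h => fix_D4 h (rootOK_D4.compat.gexact _))
      0 0 0 0 (by decide +kernel) h1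
  · exact finite_over_of rootOK_F4 matOK_F4 (rootOK_F4.compat.conn (by simp)) (fun _ _ h => fix_F4 h (rootOK_F4.compat.gexact _))
      30 27 28 2 (by decide +kernel) h1
  · exact finite_over_of rootOK_E6 matOK_E6 (rootOK_E6.compat.conn (by simp)) (fun _ _ h => fix_E6 h (rootOK_E6.compat.gexact _))
      0 0 0 0 (by decide +kernel) h1
  · exact finite_over_of rootOK_E7 matOK_E7 (rootOK_E7.compat.conn (by simp)) (fun _ _ h => fix_E7 h (rootOK_E7.compat.gexact _))
      0 0 0 0 (by decide +kernel) h1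
  · exact finite_over_of rootOK_E8 matOK_E8 (rootOK_E8.compat.conn (by simp)) (fun _ _ h => fix_E8 h (rootOK_E8.compat.gexact _))
      0 0 0 0 (by decide +kernel) h1

end Cfsg.Lib.Twist
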