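/-
Generation of the twisted groups ²E₆(q), ³D₄(q), ²F₄(q) by two elements.
-/
import Cfsg.Agent.Lib.Twist.D4DegB
import Cfsg.Agent.Lib.Twist.MuE6
import Cfsg.Agent.Lib.Twist.MuF4
import Cfsg.Agent.Lib.Pres.TwoBCD

set_option autoImplicit false

namespace Cfsg.Lib.Twist

open Cfsg.Lib.Chev PreSys RootSys Cfsg.Lie Cfsg.Lib.Pres

universe u

namespace TwSys

variable {I Φ : Type*} [Fintype I] [DecidableEq I] {R : RootSys I Φ} {K : Type*} [Field K] {G : Type*} [Group G]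
  {S : PreSys R K G} {T : Tw R} (X : TwSys S T) {H : Subgroup G} {A A' : Set Φ}

/-- The fixed points in `U A` lie in `H`. -/
def Full (H : Subgroup G) (A : Set Φ) : Prop := S.U A ⊓ X.Fix ≤ H

theorem full_single {r : Φ} (h1 : T.ρ r = r) (h2 : X.ε r = 1) (h : ∀ t, X.φ r t = t → S.x r t ∈ H) : X.Full H {r} :=
  fun g hg => by
    obtain ⟨t, rfl⟩ := (S.mem_U_singleton).1 hg.1
    have := X.mem_Fix.1 hg.2
    rw [X.σ_x, h1, h2, one_mul] at this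
    exact h t (X.sep.x_inj this)

theorem full_pair {r s : Φ} (h1 : T.ρ r = s) (h2 : s ≠ r) (hc : ∀ a b, Commute (S.x r a) (S.x s b))
    (h : ∀ t, ∃ u, S.x r t * S.x s u ∈ H ⊓ X.Fix) : X.Full H {r, s} := fun g hg => by
  obtain ⟨a, b, rfl⟩ : ∃ a b, S.x r a * S.x s b = g := (S.U_le_iff (H := ⟨⟨⟨{g | ∃ a b, S.x r a * S.x s b = g}, by
    rintro _ _ ⟨a, b, rfl⟩ ⟨c, d, rfl⟩
    exact ⟨a + c, b + d, by rw [S.x_add, S.x_add, (hc c b).mul_mul_mul_comm]⟩⟩, 0, 0, by simp [S.x_zero]⟩, by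
    rintro _ ⟨a, b, rfl⟩
    exact ⟨-a, -b, by rw [(hc _ _).eq, S.x_neg, S.x_neg, mul_inv_rev]⟩⟩)).2 (by
    rintro _ (rfl | rfl) t
    exacts [⟨t, 0, by simp [S.x_zero]⟩, ⟨0, t, by simp [S.x_zero]⟩]) hg.1
  obtain ⟨u, h3, h4⟩ := h a
  have h5 := X.mem_Fix.1 (mul_mem (inv_mem h4) hg.2)
  rw [mul_inv_rev, mul_assoc, inv_mul_cancel_left, ← S.x_neg, ← S.x_add, X.σ_x] at h5
  by_cases e : -u + b = 0
  · rwa [← neg_add_eq_zero.1 e]
  · exact (h2 (T.ρ.injective ((X.sep.root_eq h5.symm e).symm.trans h1.symm))).elim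

variable {X}

theorem Full.conj (hA : X.Full H A) {m : G} (hm : m ∈ H ⊓ X.Fix) {w : Equiv.Perm Φ} (hw : w ∈ R.W) (h : S.Act m w)
    (hA' : ∀ r, w r ∈ A' → r ∈ A) : X.Full H A' := fun g hg => by
  simpa [mul_assoc] using conj_mem' (H := H) hm.1 (hA ⟨(h.inv hw).conj_mem (T' := A) (fun r hr => hA' _ (by simpa using hr)) hg.1,
    conj_inv_mem hm.2 hg.2⟩)

variable [Finite Φ]

theorem Grp.le_of_full (h : X.Grp X.Fix) (hgen : X.Fix ≤ S.U {r | R.Pos r} ⊓ X.Fix ⊔ S.U {r | ¬ R.Pos r} ⊓ X.Fix)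
    (h1 : ∀ i, X.Full H {r | R.Pos r ∧ R.InSub (T.orb i) r} ∧ X.Full H {r | ¬ R.Pos r ∧ R.InSub (T.orb i) r}) : X.Fix ≤ H :=
  have : X.Grp (H ⊓ X.Fix) := ⟨inf_le_right, fun i => le_inf (h1 i).1 inf_le_right, fun i =>
    let ⟨v, a, b, c⟩ := h.neg i; ⟨v, ⟨(h1 i).2 ⟨b, a⟩, a⟩, b, c⟩⟩
  hgen.trans ((sup_le this.pos_le this.neg_le).trans inf_le_left)

theorem stage [Finite K] {i : I} {x h n : G} (hx : x ∈ S.U {r | R.Pos r ∧ R.InSub (T.orb i) r} ⊓ X.Fix) (hx1 : cf S i x = 1)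
    (hh : h ∈ S.H ⊓ X.Fix) {χ : Φ → K} (hχ : ∀ s t, h * S.x s t * h⁻¹ = S.x s (χ s * t)) (hn : n ∈ S.N ⊓ X.Fix)
    {w : Equiv.Perm Φ} (hw : S.Act n w) {c : K} (hc : Gen c) (h1 : χ (R.simple i) = c ∨ χ (R.simple i) = c ^ 2)
    (h2 : χ (R.simple i) ≠ 1) (h3 : χ (w⁻¹ (R.simple i)) ≠ 1) (a1 : h ∈ H) (a2 : x * n ∈ H) (t : K) :
    ∃ z ∈ S.U {r | R.Pos r ∧ R.InSub (T.orb i) r} ⊓ X.Fix ⊓ H, cf S i z = t := by
  set P := S.U {r | R.Pos r ∧ R.InSub (T.orb i) r} ⊓ X.Fix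
  have p : ∀ {g}, g ∈ P → g ∈ S.U {r | R.Pos r} := fun hg => S.U_mono (fun _ h => h.1) hg.1
  have k : ∀ {a g}, a ∈ S.H ⊓ X.Fix → g ∈ P → a * g * a⁻¹ ∈ P := fun ha hg =>
    ⟨X.st.H_conj_mem_U ha.1 hg.1, conj_mem' (H := X.Fix) ha.2 hg.2⟩
  have g1 : n * h * n⁻¹ ∈ S.H ⊓ X.Fix := ⟨X.st.conj_mem_H hn.1 hh.1, conj_mem' (H := X.Fix) hn.2 hh.2⟩
  have g2 : S.Sc (n * h * n⁻¹) (R.simple i) (χ (w⁻¹ (R.simple i))) := fun t => by
    obtain ⟨ψ, b1, -, b2⟩ := hw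
    obtain ⟨s, hs⟩ := w.surjective (R.simple i)
    obtain ⟨t, rfl⟩ : ∃ u, t = ψ s * u := ⟨_, (mul_inv_cancel_left₀ (b1 s) t).symm⟩
    rw [← hs, show w⁻¹ (w s) = s by simp, mul_left_comm, ← b2, ← b2, ← hχ]; group
  have g3 : x * (n * h * n⁻¹) * x⁻¹ ∈ H := by convert mul_mem (mul_mem a2 a1) (inv_mem a2) using 1; group
  generalize n * h * n⁻¹ = g at g1 g2 g3
  have g4 := mul_mem (inv_mem (k hh hx)) hx
  have g5 : h * x * h⁻¹ * (g * ((h * x * h⁻¹)⁻¹ * x) * g⁻¹) * x⁻¹ ∈ H := by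
    convert mul_mem (mul_mem (mul_mem a1 g3) (inv_mem a1)) (inv_mem g3) using 1
    nth_rewrite 1 [← (Commute.mul_inv_cancel (X.st.H_comm X.mult hh.1 g1.1))]
    group
  have g6 : cf S i (h * x * h⁻¹ * (g * ((h * x * h⁻¹)⁻¹ * x) * g⁻¹) * x⁻¹) = (χ (R.simple i) - 1) * (1 - χ (w⁻¹ (R.simple i))) := by
    rw [cf_mul X.sep (p (mul_mem (k hh hx) (k g1 g4))) (p (inv_mem hx)), cf_mul X.sep (p (k hh hx)) (p (k g1 g4)),
      cf_conj X.sep X.st g1.1 g2 (p g4), cf_mul X.sep (p (inv_mem (k hh hx))) (p hx), cf_inv X.sep (p (k hh hx)), cf_inv X.sep (p hx),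
      cf_conj X.sep X.st hh.1 (hχ _) (p hx), hx1]
    ring
  have g7 := mul_ne_zero (sub_ne_zero.2 h2) (sub_ne_zero.2 h3.symm)
  generalize (χ (R.simple i) - 1) * (1 - χ (w⁻¹ (R.simple i))) = s at g6 g7
  have g8 : ∀ t, (∃ z ∈ P ⊓ H, cf S i z = t * s) → ∃ z ∈ P ⊓ H, cf S i z = χ (R.simple i) * t * s := fun t ⟨z, a, b⟩ =>
    ⟨_, ⟨k hh a.1, conj_mem' a1 a.2⟩, by rw [cf_conj X.sep X.st hh.1 (hχ _) (p a.1), b, mul_assoc]⟩
  simpa [g7] using span2 hc (K := ⟨⟨{t | ∃ z ∈ P ⊓ H, cf S i z = t * s}, fun ⟨y, a, b⟩ ⟨z, a', b'⟩ =>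
    ⟨_, mul_mem a a', by rw [cf_mul X.sep (p a.1) (p a'.1), b, b', add_mul]⟩⟩, 1, one_mem _, by rw [cf_one X.sep, zero_mul]⟩)
    ⟨_, ⟨P.mul_mem (P.mul_mem (k hh hx) (k g1 g4)) (P.inv_mem hx), g5⟩, by rw [g6, one_mul]⟩ (fun t ht => by
      rcases h1 with e | e
      · exact (show χ (R.simple i) * (χ (R.simple i) * t) = c ^ 2 * t by rw [e]; ring) ▸ g8 _ (g8 t ht)
      · exact e ▸ g8 t ht) (t * s⁻¹)

theorem Orth.full {l : List I} (o : X.Orth l) {i : I} (hJ : ∀ j, j ∈ T.orb i ↔ j ∈ l)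
    (h : ∀ t, ∃ z ∈ S.U {r | R.Pos r ∧ R.InSub (T.orb i) r} ⊓ X.Fix ⊓ H, cf S i z = t) :
    X.Full H {r | R.Pos r ∧ R.InSub (T.orb i) r} := fun g hg =>
  let ⟨_, a, b⟩ := h (cf S i g); o.eq_of_cf hJ a.1 hg b ▸ a.2

end TwSys

section

variable {D : ChevalleyDatum} {t : RTab} {h : RootOK D t} {K : Type*} [Field K] {G : Type*} [Group G] {S : PreSys h.R K G}
  {T : Tw h.R} {X : TwSys S T} {H : Subgroup G}

/-- The action of a word on the indices of the roots. -/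
def wd (D : ChevalleyDatum) (l : List (Fin D.rank)) (r : ℕ) : ℕ := (l.map Fin.val).foldr D.reflectRoot r

/-- The root lies in the span of the given fundamental roots. -/
def InO (D : ChevalleyDatum) (t : RTab) (l : List (Fin D.rank)) (r : ℕ) : Prop := ∀ i : Fin D.rank, i ∉ l → rtN D t r i = 0

noncomputable instance (D : ChevalleyDatum) (t : RTab) (l : List (Fin D.rank)) (r : ℕ) : Decidable (InO D t l r) := by
  unfold InO; infer_instance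

theorem exists_wd {ρ : ℕ} (hρ : ∀ r, (T.ρ r : ℕ) = lk ρ r) (l : List (Fin D.rank)) (W : ℕ)
    (e : ∀ r < D.nroots, wd D l r = lk W r ∧ lk ρ (lk W r) = lk W (lk ρ r)) : ∃ w ∈ T.W1 Set.univ, ∀ r, (w r : ℕ) = lk W r :=
  have k : ∀ r, (h.R.wprod l r : ℕ) = lk W r := fun r => (wprod_val h.compat l r).trans (e r r.2).1
  ⟨_, T.mem_W1.2 ⟨h.R.WJ_univ ▸ h.R.wprod_mem_W l, Equiv.ext fun r => Fin.ext (by
    rw [Equiv.Perm.mul_apply, Equiv.Perm.mul_apply, hρ, k, k, hρ]; exact (e r r.2).2)⟩, k⟩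

theorem wd_inv {m : ℕ} {w : Equiv.Perm (Fin m)} {W : ℕ} (h : ∀ r, (w r : ℕ) = lk W r) {r s : Fin m} (e : lk W r = s) : w⁻¹ s = r :=
  Equiv.Perm.inv_eq_iff_eq.2 (Fin.ext (e.symm.trans (h r).symm))

variable {n : G} (hn : n ∈ H ⊓ X.Fix) {w : Equiv.Perm (Fin D.nroots)} {W : ℕ}
  (hw : S.Act n w ∧ w ∈ T.W1 Set.univ ∧ ∀ r, (w r : ℕ) = lk W r) {a : List ℕ}
include hn hw

theorem full_pow (ha : X.Full H {r | (r : ℕ) ∈ a}) (k : ℕ) {A : Set (Fin D.nroots)}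
    (e : ∀ r s : Fin D.nroots, (s : ℕ) = (lk W)^[k] r → s ∈ A → (r : ℕ) ∈ a) : X.Full H A := by
  have : S.Act (n ^ k) (w ^ k) ∧ ∀ r, ((w ^ k) r : ℕ) = (lk W)^[k] r := by
    clear e
    induction k with
    | zero => exact ⟨by simpa using act_one, fun _ => rfl⟩
    | succ k ih => exact ⟨by simpa only [pow_succ] using ih.1.mul (T.W1_le_W _ hw.2.1) hw.1, fun r => by
        rw [pow_succ, Equiv.Perm.mul_apply, ih.2, hw.2.2]; rfl⟩
  exact ha.conj (pow_mem hn k) (pow_mem (T.W1_le_W _ hw.2.1) k) this.1 fun r => e r _ (this.2 r)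

theorem full_list (ha : X.Full H {r | (r : ℕ) ∈ a}) (k : ℕ) {b : List ℕ} (e : ∀ r < D.nroots, (lk W)^[k] r ∈ b → r ∈ a) :
    X.Full H {r | (r : ℕ) ∈ b} := full_pow hn hw ha k fun r _ e' hs => e r r.2 (e' ▸ hs)

theorem full_orb (ha : X.Full H {r | (r : ℕ) ∈ a}) (k k' : ℕ) {J : Set (Fin D.rank)} {l' : List (Fin D.rank)}
    (hJ : ∀ j, j ∈ J ↔ j ∈ l')
    (e : ∀ r < D.nroots, (D.nroots ≤ 2 * (lk W)^[k] r → InO D t l' ((lk W)^[k] r) → r ∈ a) ∧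
      (¬ D.nroots ≤ 2 * (lk W)^[k'] r → InO D t l' ((lk W)^[k'] r) → r ∈ a)) :
    X.Full H {r | h.R.Pos r ∧ h.R.InSub J r} ∧ X.Full H {r | ¬ h.R.Pos r ∧ h.R.InSub J r} := by
  refine ⟨full_pow hn hw ha k fun r s e' hs => ?_, full_pow hn hw ha k' fun r s e' hs => ?_⟩ <;>
    simp only [Set.mem_ofPred_eq, h.pos_iff_half, InSub, hJ, h.R_rt, e'] at hs
  exacts [(e r r.2).1 hs.1 hs.2, (e r r.2).2 hs.1 hs.2]

omit hn hw

theorem full_of_orb {J : Set (Fin D.rank)} {l' : List (Fin D.rank)} (hJ : ∀ j, j ∈ J ↔ j ∈ l')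
    (ha : X.Full H {r | h.R.Pos r ∧ h.R.InSub J r})
    (e : ∀ r ∈ a, D.nroots ≤ 2 * r ∧ ∀ i : Fin D.rank, i ∉ l' → rtN D t r i = 0) : X.Full H {r | (r : ℕ) ∈ a} :=
  (inf_le_inf_right _ (S.U_mono fun r hr => by
    simpa only [Set.mem_ofPred_eq, h.pos_iff_half, InSub, hJ, h.R_rt] using e r hr)).trans ha

theorem xN_mem {r : ℕ} (hr : r ∈ a) (u : K) : S.xN r u ∈ S.U {r | (r : ℕ) ∈ a} := by
  unfold xN; split_ifs
  exacts [S.x_mem_U hr _, one_mem _]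

theorem two_of {Γ : Subgroup (GL D.Idx K)} (h1 : Γ ≤ D.group K) {Y : Subgroup (D.group K)} (h2 : Γ.subgroupOf (D.group K) = Y)
    (h3 : TwoG Y) : ∃ a b : Γ, Subgroup.closure {a, b} = ⊤ := by
  subst h2
  obtain ⟨a, ha, b, hb, e⟩ := h3
  refine ⟨⟨a, ha⟩, ⟨b, hb⟩, top_unique fun g _ => ?_⟩
  have := Subgroup.mem_map_of_mem (D.group K).subtype (e (show ⟨g, h1 g.2⟩ ∈ _ from g.2))
  rw [MonoidHom.map_closure, Set.image_pair] at this
  rw [← Subgroup.mem_map_iff_mem Γ.subtype_injective, MonoidHom.map_closure, Set.image_pair]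
  exact this

theorem single_eq {r : Fin D.nroots} : {s : Fin D.nroots | (s : ℕ) ∈ [(r : ℕ)]} = {r} := by
  ext; simp [Fin.ext_iff]

end

theorem gen_pow_ne_one {K : Type*} [Field K] [Fintype K] {c : K} (hc : Gen c) {k : ℕ} (h0 : 0 < k) (h : k + 1 < Fintype.card K) :
    c ^ k ≠ 1 := fun e => by
  have := Nat.le_of_dvd h0 ((FiniteField.forall_pow_eq_one_iff K k).1 fun x => Units.ext (by
    obtain ⟨m, hm⟩ := hc.2 x x.ne_zero
    rw [Units.val_pow_eq_pow_val, ← hm, ← pow_mul, mul_comm, pow_mul, e, one_pow, Units.val_one]))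
  omega

theorem D4Data.two {K : Type u} [Field K] {q : ℕ} (d : D4Data K q) [Fintype K] (hK : Fintype.card K = q ^ 3) (hq : 1 < q) :
    TwoG d.X.Fix := by
  obtain ⟨c, hc⟩ := exists_gen K
  have hF := (d.grp hK).fix
  obtain ⟨χ, ⟨h, h1, h2⟩, h3⟩ := d.tor hK 18 hc.1
  obtain ⟨w, w1, w2⟩ := exists_wd d.ρ_val [n4 0, n4 2, n4 3, n4 1]
    0xe170f100511130a0b0114150203160c0d04061207080009 (by decide +kernel)
  obtain ⟨n, n1, n2⟩ := hF.exists_rep w1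
  have n3 := And.intro n2 (And.intro w1 w2)
  have J := d.orb3 (i := n4 0) (by decide)
  obtain ⟨x, x1, x2⟩ := d.o3.exists_cf J (c := 1) (by simp)
  have c1 : χ (rootOK_D4.R.simple (n4 0)) = c ^ 2 := (h3 18).trans (by simp [show pr3 18 18 = (2, 0, 0) by decide +kernel])
  obtain ⟨p, rfl⟩ : ∃ p, q = p + 2 := ⟨q - 2, by omega⟩
  refine .of h1.2 (mul_mem x.2 n1.2) fun H a1 a2 => ?_
  have b1 := d.o3.full J (TwSys.stage ⟨x1, x.2⟩ x2 h1 h2 n1 n2 hc (.inr c1)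
    (c1 ▸ gen_pow_ne_one hc two_pos (by rw [hK]; nlinarith [Nat.zero_le (p ^ 3)])) (by
      rw [wd_inv w2 (r := rootOK_D4.rr 4) (by decide +kernel), h3, show pr3 18 4 = (-1, 1, 1) by decide +kernel]
      refine fun e => gen_pow_ne_one hc (k := p + 1 + (p + 2) * (p + 2)) (by positivity) (by rw [hK]; nlinarith [Nat.zero_le (p ^ 3)]) ?_
      rw [← e, zpow_neg_one, zpow_one, zpow_one, ← pow_mul, pow_add, pow_succ' c (p + 1), mul_assoc, inv_mul_cancel_left₀ hc.1]) a1 a2)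
  have b2 : n ∈ H ⊓ d.X.Fix := ⟨(mul_mem_cancel_left (b1 ⟨x1, x.2⟩)).1 a2, n1.2⟩
  have b3 := full_of_orb J b1 (a := [18, 13, 12]) (by decide +kernel)
  have b4 := d.X.full_single (H := H) (r := rootOK_D4.rr 23) (d.fixed D4Data.lg23.2).1 (d.fixed D4Data.lg23.2).2 fun t ht => by
    obtain ⟨s, hs⟩ := (d.td hK hq).c12' 1 one_ne_zero ⟨t, (d.fq_eq t).trans (d.φ_eq _ t ▸ ht)⟩
    have e1 : ∀ {a b c e f} (h : D4Data.Sh a b c e f) t, d.X.Full H {r | (r : ℕ) ∈ [a, b, c]} → (d.ys hK h t).1 ∈ H := fun h t e =>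
      e ⟨mul_mem (xN_mem (by simp) _) (mul_mem (xN_mem (by simp) _) (xN_mem (by simp) _)), (d.ys hK h t).2⟩
    have e2 := e1 D4Data.sh1 s (full_list b2 n3 b3 2 (by decide +kernel))
    have e3 := e1 D4Data.sh2 1 (full_list b2 n3 b3 1 (by decide +kernel))
    exact (mul_mem_cancel_left (mul_mem e3 e2)).1 ((congrArg (·.1 ∈ H) hs).mp (mul_mem e2 e3))
  rw [← single_eq] at b4
  refine hF.le_of_full (d.eq_Fix hK ▸ (d.gen hK).2) fun i => ?_
  rcases n4_cases i with rfl | hi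
  · exact full_orb b2 n3 b4 1 4 d.orb1 (by decide +kernel)
  · exact full_orb b2 n3 b3 0 3 (d.orb3 hi) (by decide +kernel)

theorem exists_tr_two {K : Type*} [Field K] [Fintype K] {q : ℕ} (hq : 1 < q) (hK : Fintype.card K = q ^ 2) : ∃ c : K, c ^ q + c ≠ 0 := by
  by_contra! h
  have := Polynomial.eq_zero_of_natDegree_lt_card_of_eval_eq_zero (Polynomial.X ^ q + Polynomial.X)
    Function.injective_id (fun c => by simpa using h c) (lt_of_le_of_lt (b := q) (by compute_degree; omega) (by rw [hK]; nlinarith))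
  simpa [Polynomial.coeff_X, hq.ne] using congrArg (Polynomial.coeff · 1) this

theorem evE6 {K : Type u} [Field K] (l : List K) {w w' : PW} (h : colW chevE6 0 w = colW chevE6 0 w') :
    (sE6 K).evW (fun i => l.getD i 0) w = (sE6 K).evW (fun i => l.getD i 0) w' :=
  evW_eq _ Nat.cast_zero rootOK_E6.compat (rootOK_E6.compat.gexact matOK_E6) h

theorem relE6 {K : Type u} [Field K] (a b : K) : (sE6 K).xN 42 a * (sE6 K).xN 37 b * ((sE6 K).xN 43 1 * (sE6 K).xN 40 (-1)) =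
    (sE6 K).xN 43 1 * (sE6 K).xN 40 (-1) * ((sE6 K).xN 42 a * (sE6 K).xN 37 b) * (sE6 K).xN 44 (b + a) := by
  simpa [mul_assoc, xN_add] using evE6 [a, b] (w := [(42, varP 0), (37, varP 1), (43, cstP 1), (40, cstP (-1))])
    (w' := [(43, cstP 1), (40, cstP (-1)), (42, varP 0), (37, varP 1), (44, varP 1), (44, varP 0)]) (by decide +kernel)

theorem E6Data.pair_fix {K : Type u} [Field K] {q : ℕ} (d : E6Data K q) [Fintype K] (hK : Fintype.card K = q ^ 2) {r s : ℕ}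
    (e : r < 72 ∧ s < 72 ∧ lk rhoE6 r = s ∧ lk rhoE6 s = r ∧ bt epsE6 s = bt epsE6 r ∧
      colW chevE6 0 [(s, varP 1), (r, varP 0)] = colW chevE6 0 [(r, varP 0), (s, varP 1)]) {t u : K}
    (f : sgn (bt epsE6 r) * t ^ q = u) : (sE6 K).xN r t * (sE6 K).xN s u ∈ d.X.Fix := by
  obtain ⟨e1, e2, e⟩ := e
  lift r to Fin chevE6.nroots using e1
  lift s to Fin chevE6.nroots using e2
  rw [← d.φ_eq r] at f
  rw [d.X.mem_Fix, xN_coe, xN_coe, map_mul, d.X.σ_x, d.X.σ_x, d.ε_eq, d.ε_eq, f, show d.T.ρ r = s from Fin.ext ((d.ρ_val r).trans e.1),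
    show d.T.ρ s = r from Fin.ext ((d.ρ_val s).trans e.2.1), ← f, map_mul, map_intCast, d.φφ hK, e.2.2.1, ← mul_assoc,
    ← Int.cast_mul, sgn_sq, Int.cast_one, one_mul, f]
  simpa [xN_coe] using evE6 [t, u] e.2.2.2

theorem E6Data.two {K : Type u} [Field K] {q : ℕ} (d : E6Data K q) [Fintype K] (hK : Fintype.card K = q ^ 2) (hq : 1 < q) :
    TwoG d.X.Fix := by
  obtain ⟨c, hc⟩ := exists_gen K
  have hF := (d.grp hK).fix
  obtain ⟨χ, ⟨h, h1, h2⟩, h3⟩ := d.tor hK 21 hc.1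
  obtain ⟨w, w1, w2⟩ := exists_wd d.ρ_val [n6 0, n6 5, n6 2, n6 4, n6 3, n6 1]
    0x35474637364333322c2b0f4544342d2a40302f28270e23210b08424131293e3d2e3b3a25220d0c190a091e1606053f3c262439201f1817071d1a130302381c1b1514041110010012 (by decide +kernel)
  obtain ⟨n, n1, n2⟩ := hF.exists_rep w1
  have n3 := And.intro n2 (And.intro w1 w2)
  have J : ∀ j, j ∈ d.T.orb (n6 0) ↔ j ∈ [n6 0, n6 5] := orb_of d.π_val (by decide)
  obtain ⟨x, x1, x2⟩ := d.o05.exists_cf J (c := 1) (by simp)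
  have c1 : χ (rootOK_E6.R.simple (n6 0)) = c := (h3 56).trans (by simp [show pr2 chevE6 rhoE6 21 56 = (1, 0) by decide +kernel])
  have c2 : c ≠ 1 := pow_one c ▸ gen_pow_ne_one hc one_pos (by rw [hK]; nlinarith)
  refine .of h1.2 (mul_mem x.2 n1.2) fun H a1 a2 => ?_
  have b1 := d.o05.full J (TwSys.stage ⟨x1, x.2⟩ x2 h1 h2 n1 n2 hc (.inl c1) (c1 ▸ c2) (by
    rw [wd_inv w2 (r := rootOK_E6.rr 10) (by decide +kernel), h3, show pr2 chevE6 rhoE6 21 10 = (1, 0) by decide +kernel]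
    simpa using c2) a1 a2)
  have b2 : n ∈ H ⊓ d.X.Fix := ⟨(mul_mem_cancel_left (b1 ⟨x1, x.2⟩)).1 a2, n1.2⟩
  have b3 := full_of_orb J b1 (a := [56, 36]) (by decide +kernel)
  have b4 := d.X.full_single (H := H) (r := rootOK_E6.rr 44) (d.fixed (by decide +kernel)).1 (d.fixed (by decide +kernel)).2 fun t ht => by
    obtain ⟨a, ha⟩ := exists_tr_two hq hK
    have e2 : _ ∈ H := full_list b2 n3 b3 1 (b := [42, 37]) (by decide +kernel) ⟨mul_mem (xN_mem (by simp) _) (xN_mem (by simp) _),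
      d.pair_fix hK (r := 42) (s := 37) (by decide +kernel) (t := a * (t / (a ^ q + a))) (u := a ^ q * (t / (a ^ q + a))) (by
        simp only [← d.φ_eq (rootOK_E6.rr 44), map_mul, map_div₀, map_add, d.φφ hK, ht, add_comm a,
          show sgn (bt epsE6 42) = 1 by decide +kernel, Int.cast_one, one_mul])⟩
    have e3 : _ ∈ H := full_list b2 n3 b3 4 (b := [43, 40]) (by decide +kernel) ⟨mul_mem (xN_mem (by simp) _) (xN_mem (by simp) _),
      d.pair_fix hK (r := 43) (s := 40) (by decide +kernel) (t := 1) (u := -1) (by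
        simp [show sgn (bt epsE6 43) = -1 by decide +kernel])⟩
    have e4 := mul_mem e2 e3
    rw [relE6, mul_mem_cancel_left (mul_mem e3 e2), ← add_mul, mul_div_cancel₀ t ha] at e4
    exact xN_coe (sE6 K) (rootOK_E6.rr 44) t ▸ e4
  rw [← single_eq] at b4
  refine hF.le_of_full (d.eq_Fix hK ▸ (d.gen hK).2) fun i => ?_
  rcases n6_cases i with (rfl | rfl) | (hi | hi)
  · exact full_orb b2 n3 b4 4 10 (d.orb1 (.inl rfl)).2 (by decide +kernel)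
  · exact full_orb b2 n3 b4 3 9 (d.orb1 (.inr rfl)).2 (by decide +kernel)
  · exact full_orb b2 n3 b3 0 6 (l' := [n6 0, n6 5]) (orb_of d.π_val (by revert i; decide)) (by decide +kernel)
  · exact full_orb b2 n3 b3 1 7 (l' := [n6 2, n6 4]) (orb_of d.π_val (by revert i; decide)) (by decide +kernel)

theorem relF4 {K : Type u} [Field K] [CharP K 2] (a b c z w : K) :
    x4 (rF 35) (rF 31) (rF 40) (rF 46) 1 1 w z * x4 (rF 27) (rF 25) (rF 28) (rF 30) a b c z =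
      x4 (rF 27) (rF 25) (rF 28) (rF 30) a b c z * x4 (rF 35) (rF 31) (rF 40) (rF 46) 1 1 w z *
        ((sF4 K).x (rF 32) b * (sF4 K).x (rF 37) a) := by
  have := evW_eq (S := sF4 K) (fun i => [a, b, c, z, w].getD i 0) (CharP.cast_eq_zero K 2) rootOK_F4.compat
    (rootOK_F4.compat.gexact matOK_F4)
    (w := [(35, cstP 1), (31, cstP 1), (40, varP 4), (46, varP 3), (27, varP 0), (25, varP 1), (28, varP 2), (30, varP 3)])
    (w' := [(27, varP 0), (25, varP 1), (28, varP 2), (30, varP 3), (35, cstP 1), (31, cstP 1), (40, varP 4), (46, varP 3),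
      (32, varP 1), (37, varP 0)]) (by decide +kernel)
  simp only [evW_cons, evW_nil, evP_cstP, evP_varP, Int.cast_one, mul_one] at this
  simp only [x4, mul_assoc]
  exact this

theorem F4Data.two {K : Type u} [Field K] {e : ℕ} (d : F4Data K e) [Fintype K] (hK : 2 < Fintype.card K) : TwoG d.X.Fix := by
  obtain ⟨c, hc⟩ := exists_gen K
  have := d.char
  have hF := d.grp.fix
  obtain ⟨h, h1, h2⟩ := d.X.tor₂ (d.ρ_ρ (rF 23)) hc.1 (d.φφ _ c)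
  obtain ⟨w, w1, w2⟩ := exists_wd d.ρ_val [nF 1, nF 2, nF 1, nF 2, nF 0, nF 3]
    0x2a2f2b2418111a2c262127131d140a2d292e222823161f0f2010190c070d010602251b121c080e0903151e170b040005 (by decide +kernel)
  obtain ⟨n, n1, n2⟩ := hF.exists_rep w1
  have n3 := And.intro n2 (And.intro w1 w2)
  have J := d.orb12 (i := nF 2) (by decide)
  have y1 : ∀ t u, (d.y t u).1 ∈ (sF4 K).U {r | RF4.Pos r ∧ RF4.InSub (d.T.orb (nF 2)) r} ⊓ d.X.Fix := fun t u =>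
    (d.mem12 (by decide)).2 ⟨(t, u), rfl⟩
  have c1 : ∀ r : Fin chevF4.nroots, pF 23 r = (1, 0) → c ^ rootOK_F4.R.pair (rF 23) r *
      d.X.φ (rF 23) c ^ rootOK_F4.R.pair (d.T.ρ (rF 23)) r = c :=
    fun r h => by
      simp only [pF, Prod.mk.injEq] at h
      rw [rootOK_F4.compat.pair_eq, rootOK_F4.compat.pair_eq, d.ρ_val]
      exact (congrArg₂ (c ^ · * _ ^ ·) h.1 h.2).trans (by simp)
  have c2 : c ≠ 1 := pow_one c ▸ gen_pow_ne_one hc one_pos hK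
  refine .of h1.2 (mul_mem (d.y 1 0).2 n1.2) fun H a1 a2 => ?_
  have b0 := TwSys.stage (y1 1 0) (d.cf_y 1 0).1 h1 h2 n1 n2 hc (.inl (c1 _ (by decide +kernel)))
    ((c1 _ (by decide +kernel)).trans_ne c2) (by
      rw [wd_inv w2 (r := rF 21) (by decide +kernel)]; exact (c1 _ (by decide +kernel)).trans_ne c2) a1 a2
  have b5 : ∀ t, ∃ u, (d.y t u).1 ∈ H := fun t => by
    obtain ⟨z, a, b⟩ := b0 t
    obtain ⟨p, rfl⟩ := (d.mem12 (by decide)).1 a.1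
    exact ⟨p.2, (b.symm.trans (d.cf_y p.1 p.2).1) ▸ a.2⟩
  have b1 : d.X.Full H {r | RF4.Pos r ∧ RF4.InSub (d.T.orb (nF 2)) r} := fun g hg => by
    obtain ⟨⟨t, u⟩, rfl⟩ := (d.mem12 (by decide)).1 hg
    obtain ⟨v, hv⟩ := b5 t
    obtain ⟨s, hs⟩ : ∃ s : K, s ^ e * s = u - v := by
      generalize u - v = w
      by_cases h0 : w = 0
      · exact ⟨0, by simp [h0]⟩
      refine ⟨w ^ 2 / (w ^ e) ^ 2, ?_⟩
      rw [div_pow, pow_right_comm w, d.pow_eq']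
      field_simp
    obtain ⟨v', hv'⟩ := b5 s
    have := mul_mem (mul_mem hv' hv') hv
    rw [← Subgroup.coe_mul, ← Subgroup.coe_mul, d.y_mul, d.y_mul, hs] at this
    simp only [CharTwo.add_self_eq_zero, zero_add, zero_pow d.e_ne, zero_mul, add_zero, sub_add_cancel] at this
    exact this
  have b6 : n ∈ H ⊓ d.X.Fix := ⟨(mul_mem_cancel_left (b1 (y1 1 0))).1 a2, n1.2⟩
  have b3 := full_of_orb J b1 (a := [27, 25, 28, 30]) (by decide +kernel)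
  have b4 := d.X.full_pair (H := H) (r := rF 32) (s := rF 37) (Fin.ext (d.ρ_val _)) (by decide)
    (fun _ _ => d.cm (by decide +kernel) _ _) fun t => by
    have e2 : b2 e (rF 27) (rF 25) (rF 28) (rF 30) t 0 ∈ H ⊓ d.X.Fix := ⟨b1 (y1 t 0), (d.y t 0).2⟩
    have e3 := d.b2_fix (a := rF 35) (b := rF 31) (c := rF 40) (k := rF 46) (C := 1) (C' := 1) (by unfold B2Cl; decide +kernel) 1 0
    have e4 : _ ∈ H ⊓ d.X.Fix := ⟨full_list b6 n3 b3 1 (b := [35, 31, 40, 46]) (by decide +kernel) ⟨x4_mem (by decide) _ _ _ _, e3⟩, e3⟩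
    simp only [b2, one_pow] at e2 e4
    exact ⟨_, (mul_mem_cancel_left (mul_mem e2 e4)).1 (relF4 (K := K) _ _ _ _ _ ▸ mul_mem e4 e2)⟩
  rw [show ({rF 32, rF 37} : Set _) = {r : Fin chevF4.nroots | (r : ℕ) ∈ [32, 37]} from Set.ext fun r => by
    simp only [Set.mem_insert_iff, Set.mem_singleton_iff, Fin.ext_iff, Set.mem_ofPred_eq, List.mem_cons, List.not_mem_nil, or_false]; rfl] at b4
  refine hF.le_of_full (d.eq_Fix ▸ d.gen.2) fun i => ?_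
  rcases nF_cases i with hi | hi
  · exact full_orb b6 n3 b4 3 7 (d.orb03 hi) (by decide +kernel)
  · exact full_orb b6 n3 b3 0 4 (d.orb12 hi) (by decide +kernel)

end Cfsg.Lib.Twist
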