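import Cfsg.Agent.Lib.Conj.LSCount

/-!
The index of the stabiliser of a symmetric bilinear form of rank at least two, `q` odd.
-/

set_option autoImplicit false

namespace Cfsg.Lib.Twist.Weil

open Module Cfsg.Lib.Conj

variable {F U : Type*} [Field F] [Finite F] [AddCommGroup U] [Module F U] [Finite U]
  {b : U →ₗ[F] U →ₗ[F] F}

omit [Finite F] in
theorem card_ker_two {φ φ' : U →ₗ[F] F} {u v : U} (h1 : φ u ≠ 0) (h2 : φ v = 0) (h3 : φ' u = 0)
    (h4 : φ' v ≠ 0) :
    Nat.card ↥(LinearMap.ker φ ⊓ LinearMap.ker φ') * Nat.card F ^ 2 = Nat.card U := by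
  have h5 : LinearMap.range (φ.prod φ') = ⊤ := by
    rw [LinearMap.range_eq_top]
    rintro ⟨s, t⟩
    exact ⟨(s / φ u) • u + (t / φ' v) • v, by simp [h1, h2, h3, h4]⟩
  have h6 := LinearMap.finrank_range_add_finrank_ker (φ.prod φ')
  rw [h5, LinearMap.ker_prod, finrank_top, finrank_prod, finrank_self] at h6
  rw [natCard_eq_pow_finrank (K := F) (V := U), natCard_eq_pow_finrank (K := F), ← pow_add, ← h6,
    add_comm]

omit [Finite F] in
theorem card_ker_one {φ : U →ₗ[F] F} {u : U} (h1 : φ u ≠ 0) :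
    Nat.card ↥(LinearMap.ker φ) * Nat.card F = Nat.card U := by
  have h5 : LinearMap.range φ = ⊤ := by
    rw [LinearMap.range_eq_top]
    exact fun s => ⟨(s / φ u) • u, by simp [h1]⟩
  have h6 := LinearMap.finrank_range_add_finrank_ker φ
  rw [h5, finrank_top, finrank_self] at h6
  rw [natCard_eq_pow_finrank (K := F) (V := U), natCard_eq_pow_finrank (K := F), ← pow_succ, ← h6,
    add_comm]

variable (b) in
/-- Pairs of vectors with the same Gram matrix as `u, v`. -/
def gram (u v : U) : Set (Fin 2 → U) :=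
  {x | b (x 0) (x 0) = b u u ∧ b (x 1) (x 1) = b v v ∧ b (x 0) (x 1) = b u v}

variable {H : Type*} [Group H] [Finite H] (π : H →* (U ≃ₗ[F] U))

theorem index_gen {u v : U} {α β γ δ : F} (h1 : b (α • u + β • v) u = 1)
    (h2 : b (α • u + β • v) v = 0) (h3 : b (γ • u + δ • v) u = 0) (h4 : b (γ • u + δ • v) v = 1)
    (S : Subgroup H) (hS : ∀ g ∈ S, ∀ x y, b (π g x) (π g y) = b x y)
    (hπ : Function.Surjective π) {w : ℕ} (hw : w * Nat.card F ^ 2 = Nat.card U) :
    (Nat.card U - 1) * (Nat.card U - Nat.card F) * (w * w) ≤ S.index * (gram b u v).ncard := by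
  let _ : MulAction H U := MulAction.compHom U π
  let _ := Fintype.ofFinite F
  generalize hu' : α • u + β • v = u' at h1 h2
  generalize hv' : γ • u + δ • v = v' at h3 h4
  have hW := card_ker_two (φ := b u') (φ' := b v') (u := u) (v := v) (by simp [h1]) h2 h3
    (by simp [h4])
  rw [← hw, Nat.mul_left_inj (pow_ne_zero 2 Nat.card_pos.ne')] at hW
  set W := LinearMap.ker (b u') ⊓ LinearMap.ker (b v')
  let P : U →ₗ[F] W := (LinearMap.id - (b u').smulRight u - (b v').smulRight v).codRestrict W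
    fun x => by simp [W, h1, h2, h3, h4]
  have hP : ∀ x, (P x : U) = x - b u' x • u - b v' x • v := fun x => rfl
  have hPu : P u = 0 := Subtype.ext (by simp [hP, h1, h3])
  have hPv : P v = 0 := Subtype.ext (by simp [hP, h2, h4])
  have hPw : ∀ w : W, P w = w := fun w => Subtype.ext (by
    rw [hP, show b u' w = 0 from w.2.1, show b v' w = 0 from w.2.2]; simp)
  have h5 : ∀ φ : (W →ₗ[F] F) × (W →ₗ[F] F), ∃ g, ∀ x,
      π g x = x + φ.1 (P x) • u + φ.2 (P x) • v := fun φ => by
    let N : U →ₗ[F] U := (φ.1 ∘ₗ P).smulRight u + (φ.2 ∘ₗ P).smulRight v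
    have hN : ∀ x, N (N x) = 0 := fun x => by simp [N, hPu, hPv]
    obtain ⟨g, hg⟩ := hπ (LinearEquiv.ofLinearMap (LinearMap.id + N) (LinearMap.id - N)
      (by ext x; simp [hN]) (by ext x; simp [hN]))
    exact ⟨g, fun x => by rw [hg, add_assoc]; rfl⟩
  choose g hg using h5
  have hgu : ∀ φ, π (g φ) u = u := fun φ => by simp [hg, hPu]
  have hgv : ∀ φ, π (g φ) v = v := fun φ => by simp [hg, hPv]
  have hgu' : ∀ φ, π (g φ) u' = u' := fun φ => by rw [← hu']; simp [hgu, hgv]
  have hgv' : ∀ φ, π (g φ) v' = v' := fun φ => by rw [← hv']; simp [hgu, hgv]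
  have hli : LinearIndependent F ![u, v] := LinearIndependent.pair_iff.2 fun s t hst => by
    have h6 := congrArg (b u') hst
    have h7 := congrArg (b v') hst
    simp [h1, h2, h3, h4] at h6 h7
    exact ⟨h6, h7⟩
  have h0 := orbit_mul_le S ![u, v] g (fun φ => by
    ext i; fin_cases i
    · exact hgu φ
    · exact hgv φ) (fun i j hij => by
    have h6 := fun x y => hS _ hij (π (g j) x) (π (g j) y)
    simp only [← LinearEquiv.mul_apply, ← map_mul, inv_mul_cancel_right] at h6
    refine Prod.ext (LinearMap.ext fun w => ?_) (LinearMap.ext fun w => ?_)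
    · have h7 := h6 u' w
      rw [hgu', hgu'] at h7
      simpa [hg, hPw, h1, h2] using h7
    · have h7 := h6 v' w
      rw [hgv', hgv'] at h7
      simpa [hg, hPw, h3, h4] using h7)
    (L := gram b u v) (Set.toFinite _) fun s hs => ⟨hS s hs u u, hS s hs v v, hS s hs u v⟩
  have h6 : (MulAction.orbit H ![u, v]).ncard = (Nat.card U - 1) * (Nat.card U - Nat.card F) := by
    have h4 : MulAction.orbit H ![u, v] = {s | LinearIndependent F s} := by
      ext s
      constructor
      · rintro ⟨k, rfl⟩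
        exact hli.map' (π k).toLinearMap (π k).ker
      · intro hs
        obtain ⟨e, he⟩ := exists_equiv_of_li hli hs
        obtain ⟨k, rfl⟩ := hπ e
        exact ⟨k, funext he⟩
    rw [h4, ← Nat.card_coe_set_eq, natCard_eq_pow_finrank (K := F) (V := U),
      Nat.card_eq_fintype_card (α := F)]
    refine (card_linearIndependent (K := F) (V := U) (k := 2)
      (by simpa using hli.fintype_card_le_finrank)).trans ?_
    simp
  rwa [h6, Nat.card_prod, card_dual, hW] at h0

variable (h2 : (2 : F) ≠ 0) (hb : ∀ x y, b x y = b y x)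
include h2 hb

theorem gram_hyp {u v : U} (hu : b u u = 0) (hv : b v v = 0) (huv : b u v = 1) {w : ℕ}
    (hw : w * Nat.card F ^ 2 = Nat.card U) : (gram b u v).ncard ≤ w * (2 * Nat.card F * w) := by
  classical
  have hW : ∀ x y, b x x = 0 → b y y = 0 → b x y = 1 →
      (↑(LinearMap.ker (b x) ⊓ LinearMap.ker (b y)) : Set U).ncard = w := fun x y h3 h4 h5 => by
    have h6 := card_ker_two (φ := b x) (φ' := b y) (u := y) (v := x) (by simp [h5]) h3 h4
      (by simp [hb y x, h5])
    rwa [← hw, Nat.mul_left_inj (pow_ne_zero 2 Nat.card_pos.ne')] at h6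
  refine (ncard_le_mul (t := {x | b x x = 0}) (fun x => x 0) (fun x hx => hx.1.trans hu) (n := w)
    fun y hy => ?_).trans (Nat.mul_le_mul_left _ ?_)
  · rcases Set.eq_empty_or_nonempty {a | a ∈ gram b u v ∧ a 0 = y} with h5 | ⟨z, ⟨-, h5, h6⟩, rfl⟩
    · rw [h5]; simp
    rw [hv] at h5
    rw [huv] at h6
    rw [← hW _ _ hy h5 h6]
    refine Set.ncard_le_ncard_of_injOn (fun x => x 1 - z 1 - b (z 1) (x 1) • z 0) ?_ ?_
    · rintro x ⟨⟨-, -, hx⟩, hx0⟩
      rw [hx0, huv] at hx
      simp [hx, h5, h6, hb (z 1) (z 0), show b (z 0) (z 0) = 0 from hy]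
    · rintro x ⟨⟨-, hx1, hx⟩, hx0⟩ x' ⟨⟨-, hx1', hx'⟩, hx0'⟩ hxx
      rw [hx0, huv] at hx
      rw [hx0', huv] at hx'
      have h7 : x 1 = x' 1 + (b (z 1) (x 1) - b (z 1) (x' 1)) • z 0 := by
        have h7 : x 1 - z 1 - b (z 1) (x 1) • z 0 = x' 1 - z 1 - b (z 1) (x' 1) • z 0 := hxx
        rw [sub_smul]; exact eq_of_sub_eq_zero (by rw [← sub_eq_zero.2 h7]; abel)
      have h8 := hx1.trans hx1'.symm
      generalize b (z 1) (x 1) - b (z 1) (x' 1) = a at h7
      rw [h7] at h8
      simp only [map_add, map_smul, LinearMap.add_apply, LinearMap.smul_apply, hx',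
        hb (x' 1) (z 0), show b (z 0) (z 0) = 0 from hy, smul_eq_mul] at h8
      have h9 : a = 0 := mul_left_cancel₀ h2 (by linear_combination h8)
      ext i; fin_cases i
      · exact hx0.trans hx0'.symm
      · simpa [h9] using h7
  · rw [← hW u v hu hv huv]
    refine ncard_le_mul (fun x => x - b v x • u - b u x • v)
      (fun x _ => by simp [hu, hv, huv, hb v u]) fun y hy => ?_
    rw [two_mul, ← Nat.card_sum, ← Set.ncard_univ]
    refine Set.ncard_le_ncard_of_injOn
      (fun x => if b v x = 0 then Sum.inl (b u x) else Sum.inr (b v x)) (by simp) ?_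
    rintro x ⟨hx, hxy⟩ x' ⟨hx', hxy'⟩ hxx
    have h3 : ∀ x, b x x = 0 → x - b v x • u - b u x • v = y →
        2 * (b v x * b u x) + b y y = 0 := fun x hx hxy => by
      rw [← hxy]
      simp only [map_sub, map_smul, LinearMap.sub_apply, LinearMap.smul_apply, hx, hu, hv, huv,
        hb v u, hb x u, hb x v, smul_eq_mul]
      ring
    have h4 : b v x = b v x' ∧ b u x = b u x' := by
      dsimp only at hxx
      split_ifs at hxx with h5 h6 h6
      · exact ⟨h5.trans h6.symm, Sum.inl_injective hxx⟩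
      · have h7 := Sum.inr_injective hxx
        refine ⟨h7, mul_left_cancel₀ (mul_ne_zero h2 h5) ?_⟩
        linear_combination h3 x hx hxy - h3 x' hx' hxy' - 2 * b u x' * h7
    have h5 := hxy.trans hxy'.symm
    rwa [h4.1, h4.2, sub_left_inj, sub_left_inj] at h5

theorem gram_aniso (ha : ∀ x, b x x = 0 → b x = 0) {u v : U} (hu : b u u ≠ 0) (hv : b v v ≠ 0)
    (huv : b u v = 0) {w : ℕ} (hw : w * Nat.card F ^ 2 = Nat.card U) :
    (gram b u v).ncard ≤ 2 * w * (w + w * Nat.card F) := by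
  have hW : ∀ x y, b x x ≠ 0 → b y y ≠ 0 → b x y = 0 →
      (↑(LinearMap.ker (b x) ⊓ LinearMap.ker (b y)) : Set U).ncard = w := fun x y h3 h4 h5 => by
    have h6 := card_ker_two (φ := b x) (φ' := b y) (u := x) (v := y) h3 h5 (hb x y ▸ h5) h4
    rwa [← hw, Nat.mul_left_inj (pow_ne_zero 2 Nat.card_pos.ne')] at h6
  refine (ncard_le_mul (t := {x | b x x = b u u}) (fun x => x 0) (fun x hx => hx.1) (n := 2 * w)
    fun y hy => ?_).trans (Nat.mul_le_mul_left _ ?_)
  · rcases Set.eq_empty_or_nonempty {a | a ∈ gram b u v ∧ a 0 = y} with h5 | ⟨z, ⟨-, h5, h6⟩, rfl⟩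
    · rw [h5]; simp
    rw [huv] at h6
    have h7 : b (z 1) (z 1) ≠ 0 := h5 ▸ hv
    rw [← hW (z 0) (z 1) (by rwa [show b (z 0) (z 0) = b u u from hy]) h7 h6]
    refine ncard_le_mul (fun x => x 1 - (b (z 1) (x 1) / b (z 1) (z 1)) • z 1) ?_ fun y hy => ?_
    · rintro x ⟨⟨-, -, hx⟩, hx0⟩
      rw [hx0, huv] at hx
      simp [hx, h6, h7]
    refine le_trans (Set.ncard_le_ncard_of_injOn (fun x => b (z 1) (x 1) / b (z 1) (z 1)) ?_ ?_)
      (ncard_quad_le (b := 0) (c := b y y - b v v) h7)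
    · rintro x ⟨⟨⟨-, hx, -⟩, -⟩, rfl⟩
      simp only [Set.mem_ofPred_eq, map_sub, map_smul, LinearMap.sub_apply, LinearMap.smul_apply,
        hx, hb (x 1) (z 1), smul_eq_mul]
      field_simp; ring
    · rintro x ⟨⟨-, hx0⟩, hx⟩ x' ⟨⟨-, hx0'⟩, hx'⟩ hxx
      have h8 := hx.trans hx'.symm
      simp only [show b (z 1) (x 1) / b (z 1) (z 1) = _ from hxx, sub_left_inj] at h8
      ext i; fin_cases i
      · exact hx0.trans hx0'.symm
      · exact h8
  · have h3 : ∀ x, b x x = b u u → b (x - u) (x - u) = -2 * b u (x - u) := fun x hx => by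
      simp only [map_sub, LinearMap.sub_apply, hx, hb x u]; ring
    have h4 : (↑(LinearMap.ker (b u)) : Set U).ncard = w * Nat.card F := by
      have h5 := card_ker_one hu
      rwa [← hw, sq, ← mul_assoc, Nat.mul_left_inj Nat.card_pos.ne'] at h5
    rw [← Set.inter_union_sdiff {x | b x x = b u u} {x | b u (x - u) = 0}]
    refine (Set.ncard_union_le _ _).trans (add_le_add ?_ ?_)
    · rw [← hW u v hu hv huv]
      refine Set.ncard_le_ncard_of_injOn (fun x => x - u) (fun x ⟨hx, hx'⟩ => ⟨hx', ?_⟩)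
        fun x _ y _ h => sub_left_injective h
      change b v (x - u) = 0
      rw [hb, ha _ (by rw [h3 x hx, show b u (x - u) = 0 from hx', mul_zero])]
      rfl
    · rw [← h4]
      refine Set.ncard_le_ncard_of_injOn
        (fun x => (b u (x - u))⁻¹ • (x - u) - (b u u)⁻¹ • u) (fun x ⟨_, hx'⟩ => ?_) ?_
      · change b u _ = 0
        rw [map_sub, map_smul, map_smul, smul_eq_mul, smul_eq_mul, inv_mul_cancel₀ hx',
          inv_mul_cancel₀ hu, sub_self]
      · rintro x ⟨hx, hx'⟩ y ⟨hy, hy'⟩ hxy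
        have h5 := sub_left_injective hxy
        have h6 := congrArg (fun z => b z z) h5
        replace hx' : b u (x - u) ≠ 0 := hx'
        replace hy' : b u (y - u) ≠ 0 := hy'
        simp only [map_smul, LinearMap.smul_apply, h3 x hx, h3 y hy, smul_eq_mul] at h6
        have h7 : b u (x - u) = b u (y - u) := by
          field_simp at h6
          exact neg_injective h6.symm
        rw [h7] at h5
        exact sub_left_injective (smul_right_injective U (inv_ne_zero hy') h5)

theorem index_bound_odd {u v : U} (h : b u u * b v v ≠ b u v ^ 2) (S : Subgroup H)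
    (hS : ∀ g ∈ S, ∀ x y, b (π g x) (π g y) = b x y) (hπ : Function.Surjective π) :
    (Nat.card U - 1) * (Nat.card U - Nat.card F) ≤ S.index * (2 * (Nat.card F + 1)) := by
  have key : ∀ {w k : ℕ}, w * Nat.card F ^ 2 = Nat.card U →
      (Nat.card U - 1) * (Nat.card U - Nat.card F) * (w * w) ≤ S.index * k →
      k ≤ 2 * (Nat.card F + 1) * (w * w) →
      (Nat.card U - 1) * (Nat.card U - Nat.card F) ≤ S.index * (2 * (Nat.card F + 1)) :=
    fun {w k} hw h3 h4 => by
      have h5 : 0 < w := Nat.pos_of_mul_pos_right (hw ▸ Nat.card_pos)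
      refine Nat.le_of_mul_le_mul_right (h3.trans ?_) (Nat.mul_pos h5 h5)
      rw [mul_assoc]
      exact Nat.mul_le_mul_left _ h4
  by_cases ha : ∀ x, b x x = 0 → b x = 0
  · have hu : b u u ≠ 0 := fun h0 => h (by simp [ha u h0])
    obtain ⟨v', hv'⟩ : ∃ v', v' = v - (b u v / b u u) • u := ⟨_, rfl⟩
    have h3 : b u v' = 0 := by simp [hv', hu]
    have h4 : b v' v' ≠ 0 := fun h0 => h (by
      simp only [hv', map_sub, map_smul, LinearMap.sub_apply, LinearMap.smul_apply, hb v u,
        smul_eq_mul] at h0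
      field_simp at h0
      linear_combination h0)
    have hw := card_ker_two (φ := b u) (φ' := b v') hu h3 (hb u v' ▸ h3) h4
    refine key hw (index_gen π (α := (b u u)⁻¹) (β := 0) (γ := 0) (δ := (b v' v')⁻¹)
      (by simp [hu]) (by simp [h3]) (by simp [hb v' u, h3]) (by simp [h4]) S hS hπ hw)
      ((gram_aniso h2 hb ha hu h4 h3 hw).trans (le_of_eq (by ring)))
  · push Not at ha
    obtain ⟨x, hx, hx'⟩ := ha
    obtain ⟨y, hy⟩ := DFunLike.ne_iff.1 hx'
    replace hy : b x y ≠ 0 := hy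
    obtain ⟨y', hy'⟩ : ∃ y', y' = (b x y)⁻¹ • y - (b y y / (2 * b x y ^ 2)) • x := ⟨_, rfl⟩
    have h3 : b x y' = 1 := by simp [hy', hx, hy]
    have h4 : b y' y' = 0 := by
      simp only [hy', map_sub, map_smul, LinearMap.sub_apply, LinearMap.smul_apply, hb y x, hx,
        smul_eq_mul]
      field_simp; ring
    have hw := card_ker_two (φ := b x) (φ' := b y') (u := y') (v := x) (by simp [h3]) hx h4
      (by simp [hb y' x, h3])
    refine key hw (index_gen π (u := x) (v := y') (α := 0) (β := 1) (γ := 1) (δ := 0)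
      (by simp [hb y' x, h3]) (by simp [h4]) (by simp [hx]) (by simp [h3]) S hS hπ hw)
      ((gram_hyp h2 hb hx h4 h3 hw).trans (by nlinarith))

end Cfsg.Lib.Twist.Weil
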