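import Cfsg.Agent.Lib.Conj.Weil

/-!
Representations of `Sp(V)`, `q` odd, all of whose weights for the Siegel radical have rank at
most one: the basic relations.
-/

set_option autoImplicit false

namespace Cfsg.Lib.Twist.Weil

open Module Cfsg.Lib.Forms Cfsg.Lib.Forms.Form Cfsg.Lib.Conj

/-- A family of projections onto the members of a direct sum decomposition. -/
structure Proj {ι M : Type*} [Fintype ι] [AddCommGroup M] [Module ℂ M] (W : ι → Submodule ℂ M)
    (π : ι → End ℂ M) : Prop where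
  mem : ∀ i x, π i x ∈ W i
  self : ∀ i, ∀ x ∈ W i, π i x = x
  ne : ∀ i j, i ≠ j → ∀ x ∈ W j, π i x = 0
  sum : ∀ x, ∑ i, π i x = x

theorem exists_proj {ι M : Type*} [Fintype ι] [AddCommGroup M] [Module ℂ M]
    {W : ι → Submodule ℂ M} (h1 : iSupIndep W) (h2 : ⨆ i, W i = ⊤) : ∃ π, Proj W π := by
  classical
  have h := (DirectSum.isInternal_submodule_iff_iSupIndep_and_iSup_eq_top W).2 ⟨h1, h2⟩
  let _ := h.chooseDecomposition
  refine ⟨fun i => (W i).subtype ∘ₗ DirectSum.component ℂ ι (fun i => W i) i ∘ₗ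
    (DirectSum.decomposeLinearEquiv W).toLinearMap, fun i x => Subtype.property _,
    fun i x hx => DirectSum.decompose_of_mem_same W hx,
    fun i j hij x hx => DirectSum.decompose_of_mem_ne W hx hij.symm, fun x => ?_⟩
  conv_rhs => rw [← DirectSum.sum_support_decompose W x]
  refine (Finset.sum_subset (Finset.subset_univ _) fun i _ hi => ?_).symm
  rw [DFinsupp.notMem_support_iff] at hi
  exact congrArg Subtype.val hi

variable {F : Type*} [Field F] {V : Type*} [AddCommGroup V] [Module F V]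
  {D : Form (altKind F) V} {M : Type*} [AddCommGroup M] [Module ℂ M]

/-- Eichler elements. -/
def ei (e z : V) (d : F) (h : D.B e z = 0) : D.isom := D.eich e z d (Symp.isEich h d)

theorem ei_apply {e z : V} (d : F) (h : D.B e z = 0) (x : V) :
    (ei e z d h).1 x = x + D.B z x • e + D.B e x • (z + d • e) := by
  rw [ei, eich_apply, altKind_ε, neg_one_mul, neg_smul, sub_neg_eq_add]

theorem conj_ei (g : D.isom) {e z : V} (d : F) (h : D.B e z = 0) :
    g * ei e z d h * g⁻¹ = ei (g.1 e) (g.1 z) d (by simpa using h) := D.conj_eich g _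

variable (R : D.isom →* End ℂ M) (ψ : AddChar F ℂ) (U : Submodule F V)

/-- The weight spaces of the transvections with centre in `U`. -/
noncomputable def WS (q : U → F) : Submodule ℂ M :=
  wt (fun i : U × F => R (Symp.tv D i.1 i.2)) fun i => ψ (i.2 * q i.1)

/-- The eigenspaces of a long root subgroup. -/
noncomputable def ES (e : V) (a : F) : Submodule ℂ M :=
  wt (fun c : F => R (Symp.tv D e c)) fun c => ψ (c * a)

variable (D) in
/-- The weights of rank at most one. -/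
def wq (l : F) (f : V) : U → F := fun u => l * D.B f u ^ 2

/-- All weights have rank at most one. -/
def HasW : Prop := ∀ q, WS R ψ U q ≠ ⊥ → ∃ l f, q = wq D U l f

variable {R ψ U}

theorem mem_WS {q : U → F} {x : M} :
    x ∈ WS R ψ U q ↔ ∀ (u : U) c, R (Symp.tv D u c) x = ψ (c * q u) • x := by
  rw [WS, mem_wt, Prod.forall]

theorem mem_ES {e : V} {a : F} {x : M} :
    x ∈ ES R ψ e a ↔ ∀ c, R (Symp.tv D e c) x = ψ (c * a) • x := mem_wt

theorem WS_le_ES {q : U → F} {x : M} (hx : x ∈ WS R ψ U q) (u : U) : x ∈ ES R ψ u (q u) :=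
  mem_ES.2 (mem_WS.1 hx u)

theorem R_inv_apply (g : D.isom) (x : M) : R g⁻¹ (R g x) = x := by
  rw [← End.mul_apply, ← map_mul, inv_mul_cancel, map_one, End.one_apply]

theorem R_apply_inv (g : D.isom) (x : M) : R g (R g⁻¹ x) = x := by
  rw [← End.mul_apply, ← map_mul, mul_inv_cancel, map_one, End.one_apply]

theorem R_conj (g k : D.isom) (x : M) : R (g * k * g⁻¹) (R g x) = R g (R k x) := by
  rw [← End.mul_apply, ← map_mul, inv_mul_cancel_right, map_mul, End.mul_apply]

theorem map_ES (g : D.isom) {e : V} {a : F} {x : M} (hx : x ∈ ES R ψ e a) :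
    R g x ∈ ES R ψ (g.1 e) a := mem_ES.2 fun c => by
  rw [← Symp.conj_tv, R_conj, mem_ES.1 hx, map_smul]

theorem map_WS {g : D.isom} (hg : g ∈ D.stab U) {l : F} {f : V} {x : M}
    (hx : x ∈ WS R ψ U (wq D U l f)) : R g x ∈ WS R ψ U (wq D U l (g.1 f)) :=
  mem_WS.2 fun u c => by
    have h := map_ES g (WS_le_ES hx ⟨(g⁻¹).1 u, ((inv_mem hg) u).1 u.2⟩)
    rw [isom_apply_inv] at h
    rw [mem_ES.1 h, wq, wq, B_isom_left]

theorem ei_WS {q : U → F} {x : M} (hx : x ∈ WS R ψ U q) (e z : U) (d : F) (h : D.B e z = 0) :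
    R (ei e z d h) x = ψ (q (e + z) - q z + (d - 1) * q e) • x := by
  rw [ei, Symp.eich_eq_mul_tv, map_mul, map_mul, End.mul_apply, End.mul_apply, mem_WS.1 hx,
    map_smul, map_smul, mem_WS.1 hx, map_smul, ← Submodule.coe_add, mem_WS.1 hx, smul_smul,
    smul_smul, ← AddChar.map_add_eq_mul, ← AddChar.map_add_eq_mul]
  congr 2; ring

theorem ei_wq {l : F} {f : V} {x : M} (hx : x ∈ WS R ψ U (wq D U l f)) (e z : U) (d : F)
    (h : D.B e z = 0) :
    R (ei e z d h) x = ψ (l * D.B f e * (2 * D.B f z + d * D.B f e)) • x := by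
  rw [ei_WS hx]
  congr 2
  simp only [wq, Submodule.coe_add, map_add]; ring

variable (ψ) in
/-- The Fourier coefficients of a Gaussian. -/
noncomputable def gam [Fintype F] (k s : F) : ℂ :=
  (Fintype.card F : ℂ)⁻¹ * ∑ r : F, ψ (k * r ^ 2 - s * r)

theorem sum_gam [Fintype F] (hψ : ψ ≠ 1) (k r : F) :
    ∑ s, gam ψ k s * ψ (s * r) = ψ (k * r ^ 2) := by
  classical
  have h1 : ∀ s t : F, ψ (k * t ^ 2 - s * t) * ψ (s * r) = ψ (k * t ^ 2) * ψ (s * (r - t)) :=
    fun s t => by rw [← AddChar.map_add_eq_mul, ← AddChar.map_add_eq_mul]; congr 1; ring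
  simp only [gam, mul_assoc, Finset.sum_mul, ← Finset.mul_sum, h1]
  rw [Finset.sum_comm]
  simp only [← Finset.mul_sum, AddChar.sum_mulShift _ (AddChar.IsPrimitive.of_ne_one hψ)]
  rw [Finset.sum_eq_single r (fun b _ hb => by simp [sub_ne_zero.2 hb.symm]) (by simp)]
  simp only [sub_self, if_true]
  field_simp

theorem exists_gam [Fintype F] (h2 : (2 : F) ≠ 0) (hψ : ψ ≠ 1) {k : F} (hk : k ≠ 0) :
    ∃ s, s ≠ 0 ∧ gam ψ k s ≠ 0 := by
  by_contra! H
  have h1 : ∀ r, ψ (k * r ^ 2) = gam ψ k 0 := fun r => by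
    rw [← sum_gam hψ, Finset.sum_eq_single 0 (fun b _ hb => by rw [H b hb, zero_mul]) (by simp)]
    simp
  obtain ⟨t, ht⟩ := AddChar.ne_one_iff.1 hψ
  have h3 := (h1 ((t / k + 1) / 2)).trans (h1 ((t / k - 1) / 2)).symm
  rw [show k * ((t / k + 1) / 2) ^ 2 = t + k * ((t / k - 1) / 2) ^ 2 by field_simp; ring,
    AddChar.map_add_eq_mul] at h3
  exact ht (mul_right_cancel₀ (ψ.val_isUnit _).ne_zero (h3.trans (one_mul _).symm))

variable (R ψ U) in
/-- The standing hypotheses. -/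
structure Ctx [Fintype (U → F)] (π : (U → F) → End ℂ M) : Prop where
  two : (2 : F) ≠ 0
  hψ : ψ ≠ 1
  hD : D.Nondeg
  ts : ∀ u ∈ U, ∀ v ∈ U, D.B u v = 0
  max : ∀ z, (∀ u ∈ U, D.B z u = 0) → z ∈ U
  rk : 2 ≤ finrank F U
  pr : Proj (WS R ψ U) π
  hW : HasW R ψ U

namespace Ctx
variable [Fintype (U → F)] {π : (U → F) → End ℂ M} (h : Ctx R ψ U π)
include h

theorem pi_tv (q : U → F) (u : U) (c : F) (y : M) :
    π q (R (Symp.tv D u c) y) = ψ (c * q u) • π q y := by
  conv_lhs => rw [← h.pr.sum y]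
  rw [map_sum, map_sum, Finset.sum_eq_single q (fun b _ hb => ?_) (by simp)]
  · rw [mem_WS.1 (h.pr.mem q y), map_smul, h.pr.self _ _ (h.pr.mem q y)]
  · rw [mem_WS.1 (h.pr.mem b y), map_smul, h.pr.ne _ _ hb.symm _ (h.pr.mem b y), smul_zero]

theorem pi_eq_zero {q : U → F} {u : U} {a : F} {y : M} (hy : y ∈ ES R ψ u a) (hq : q u ≠ a) :
    π q y = 0 := by
  by_contra h0
  refine hq (eq_of_addChar h.hψ fun c => smul_left_injective ℂ h0 ?_)
  change _ • _ = _ • _
  rw [← h.pi_tv, mem_ES.1 hy, map_smul]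

theorem exists_wq {q : U → F} {y : M} (h0 : π q y ≠ 0) : ∃ l f, q = wq D U l f :=
  h.hW q ((Submodule.ne_bot_iff _).2 ⟨_, h.pr.mem q y, h0⟩)

theorem ext_ES {u : U} {a : F} {y : M} (hy : y ∈ ES R ψ u a) {A B : End ℂ M}
    (H : ∀ l f, wq D U l f u = a → ∀ x ∈ WS R ψ U (wq D U l f), A x = B x) : A y = B y := by
  rw [← h.pr.sum y, map_sum, map_sum]
  refine Finset.sum_congr rfl fun q _ => ?_
  by_cases h0 : π q y = 0
  · rw [h0, map_zero, map_zero]
  · obtain ⟨l, f, rfl⟩ := h.exists_wq h0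
    exact H l f (by_contra fun h1 => h0 (h.pi_eq_zero hy h1)) _ (h.pr.mem _ y)

variable [FiniteDimensional F V]

theorem exists_map {e p : V} (hep : D.B e p = 0) : ∃ g : D.isom, g.1 e ∈ U ∧ g.1 p ∈ U := by
  have h1 : D.IsTS (Submodule.span F {e, p}) := isTS_span (fun x _ => alt_Q D x) (by
    rintro x (rfl | rfl) y (rfl | rfl) <;> simp [Symp.B_self, hep, D.eq_zero_symm hep])
  have h3 : finrank F (Submodule.span F {e, p}) ≤ 2 := by
    classical
    refine (finrank_span_le_card _).trans ?_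
    rw [Set.toFinset_insert, Set.toFinset_singleton]
    exact Finset.card_le_two
  obtain ⟨U', hU', h4⟩ := exists_le_finrank_eq U (h3.trans h.rk)
  obtain ⟨g, hg⟩ := h.hD.exists_map_eq_of_isTS h1 ((Symp.isTS h.ts).mono hU') h4.symm
  exact ⟨g, hU' (hg ▸ ⟨e, Submodule.subset_span (by simp), rfl⟩),
    hU' (hg ▸ ⟨p, Submodule.subset_span (by simp), rfl⟩)⟩

/-- Vectors fixed by a long root subgroup are fixed by the unipotent radical of its normaliser. -/
theorem ei_fix {e p : V} (hep : D.B e p = 0) (d : F) {y : M} (hy : y ∈ ES R ψ e 0) :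
    R (ei e p d hep) y = y := by
  obtain ⟨g, he, hp⟩ := h.exists_map hep
  have h1 := h.ext_ES (u := ⟨_, he⟩) (map_ES g hy) (A := R (g * ei e p d hep * g⁻¹)) (B := 1)
    fun l f h0 x hx => by
      have h3 : l * D.B f (g.1 e) = 0 := by
        rcases mul_eq_zero.1 h0 with h0 | h0
        · rw [h0, zero_mul]
        · rw [pow_eq_zero_iff two_ne_zero] at h0; rw [h0, mul_zero]
      rw [conj_ei, ei_wq hx ⟨_, he⟩ ⟨_, hp⟩, h3]
      simp
  rw [R_conj, End.one_apply] at h1
  rw [← R_inv_apply (R := R) g (R _ y), h1, R_inv_apply]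

/-- On a non-trivial eigenspace of a long root subgroup commuting transvections act as in the
Weil representation. -/
theorem tv_eq [Fintype F] {e p : V} (hep : D.B e p = 0) (c : F) {a : F} (ha : a ≠ 0) {y : M}
    (hy : y ∈ ES R ψ e a) : R (Symp.tv D p c) y =
      ∑ s, gam ψ (c / (4 * a)) s • R (ei e (s • p) 0 (by simp [hep])) y := by
  obtain ⟨g, he, hp⟩ := h.exists_map hep
  have h1 := h.ext_ES (u := ⟨_, he⟩) (map_ES g hy) (A := R (g * Symp.tv D p c * g⁻¹))
    (B := ∑ s, gam ψ (c / (4 * a)) s • R (g * ei e (s • p) 0 (by simp [hep]) * g⁻¹))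
    fun l f h0 x hx => by
      have h3 : ∀ s : F, R (g * ei e (s • p) 0 (by simp [hep]) * g⁻¹) x =
          ψ (s * (2 * l * D.B f (g.1 e) * D.B f (g.1 p))) • x := fun s => by
        rw [conj_ei, ei_wq hx ⟨_, he⟩ ⟨_, by rw [map_smul]; exact U.smul_mem s hp⟩]
        congr 2
        simp only [map_smul, smul_eq_mul]; ring
      rw [Symp.conj_tv, mem_WS.1 hx ⟨_, hp⟩, LinearMap.sum_apply]
      simp only [LinearMap.smul_apply, h3, smul_smul, ← Finset.sum_smul, sum_gam h.hψ]
      congr 2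
      have h4 : l * D.B f (g.1 e) ^ 2 = a := h0
      have h5 := h.two
      have h6 : (4 : F) ≠ 0 := by rw [show (4 : F) = 2 * 2 by norm_num]; exact mul_ne_zero h5 h5
      simp only [wq]
      field_simp
      linear_combination (-4 * c * l * D.B f (g.1 p) ^ 2) * h4
  rw [R_conj, LinearMap.sum_apply] at h1
  simp only [LinearMap.smul_apply, R_conj] at h1
  rw [← R_inv_apply (R := R) g (R _ y), h1, map_sum]
  simp only [map_smul, R_inv_apply]

end Ctx

end Cfsg.Lib.Twist.Weil
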