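import Cfsg.Agent.Lib.Twist.WeilB

/-!
Representations of `Sp(V)`, `q` odd, all of whose weights for the Siegel radical have rank at
most one: a weight vector of non-zero weight generates a submodule with multiplicity one.
-/

set_option autoImplicit false

namespace Cfsg.Lib.Twist.Weil

open Module Cfsg.Lib.Forms Cfsg.Lib.Forms.Form Cfsg.Lib.Conj

variable {F : Type*} [Field F] {V : Type*} [AddCommGroup V] [Module F V]
  {D : Form (altKind F) V} {M : Type*} [AddCommGroup M] [Module ℂ M]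
  {R : D.isom →* End ℂ M} {ψ : AddChar F ℂ} {U : Submodule F V}

theorem mem_of_fix [FiniteDimensional F V] (hD : D.Nondeg) {H : Subgroup D.isom} {e : V}
    (he : e ≠ 0) (hH : ∀ p c, D.B e p = 0 → Symp.tv D p c ∈ H) {g : D.isom} (hg : g.1 e = e) :
    g ∈ H := by
  obtain ⟨f, hf⟩ := Symp.exists_isHyp' hD he
  have hE : ∀ z d h, D.eich e z d h ∈ H := fun z d h => by
    rw [Symp.eich_eq_mul_tv]
    exact mul_mem (mul_mem (hH _ _ (by simp [Symp.B_self, h.B_ez])) (hH _ _ h.B_ez))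
      (hH _ _ (Symp.B_self D e))
  have h0 : D.B e (g.1 f) = D.B e f := by conv_lhs => rw [← hg, B_isom]
  obtain ⟨d, hd, h1⟩ := D.exists_eich_map (alt_Q D e) h0 (by simp [h0, hf.B_ef])
    (by rw [alt_Q, alt_Q])
  have h2 : D.eich _ _ d hd * g ∈ D.fix (Submodule.span F {e, f}) := by
    rw [mem_fix_span]
    rintro x (rfl | rfl)
    · rw [isom_mul_apply, hg, eich_apply_self]
    · exact h1
  rw [← range_extend hf.isOrthCompl.symm hD] at h2
  obtain ⟨k, hk⟩ := h2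
  have h3 : H.comap (extend hf.isOrthCompl.symm) = ⊤ :=
    Symp.eq_top_of_tv (hf.nondeg_hp hD) _ fun p c => by
      rw [Subgroup.mem_comap, Symp.tv, extend_rk1]
      exact hH p c (D.mem_hp.1 p.2).1
  have h4 : extend hf.isOrthCompl.symm k ∈ H := h3.ge (Subgroup.mem_top k)
  rw [hk] at h4
  exact (Subgroup.mul_mem_cancel_left H (hE _ _ hd)).1 h4

variable (R) in
/-- The stabiliser of a subspace of a representation. -/
def stabR (T : Submodule ℂ M) : Subgroup D.isom where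
  carrier := {k | ∀ y, y ∈ T ↔ R k y ∈ T}
  mul_mem' ha hb y := by rw [map_mul, End.mul_apply, ← ha, ← hb]
  one_mem' y := by rw [map_one, End.one_apply]
  inv_mem' {k} ha y := by rw [ha (R k⁻¹ y), R_apply_inv]

theorem tv_mem_stabR {T : Submodule ℂ M} {p : V} (H : ∀ c, ∀ y ∈ T, R (Symp.tv D p c) y ∈ T)
    (c : F) : Symp.tv D p c ∈ stabR R T := fun y => ⟨H c y, fun hy => by
  have := H (-c) _ hy
  rwa [← Symp.tv_inv, R_inv_apply] at this⟩

theorem sq_eq (h2 : (2 : F) ≠ 0) {l : F} (hl : l ≠ 0) {f f' e : V} (he : e ∈ U)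
    (H : wq D U l f' = wq D U l f) (h1 : D.B f' e = D.B f e) (h0 : D.B f e ≠ 0) {u : V}
    (hu : u ∈ U) : D.B f' u = D.B f u := by
  have h3 := mul_left_cancel₀ hl (congrFun H ⟨u, hu⟩)
  have h4 := mul_left_cancel₀ hl (congrFun H ⟨u + e, add_mem hu he⟩)
  simp only [map_add, h1] at h3 h4
  refine mul_left_cancel₀ (mul_ne_zero h2 h0) ?_
  linear_combination h4 - h3

variable (D U) in
/-- The stabiliser of a functional on `U`. -/
def fx (f : V) : Subgroup D.isom where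
  carrier := {g | g ∈ D.stab U ∧ ∀ u ∈ U, D.B f (g.1 u) = D.B f u}
  mul_mem' ha hb := ⟨mul_mem ha.1 hb.1, fun u hu => by
    rw [isom_mul_apply, ha.2 _ ((hb.1 u).1 hu), hb.2 u hu]⟩
  one_mem' := ⟨one_mem _, fun _ _ => rfl⟩
  inv_mem' {g} ha := ⟨inv_mem ha.1, fun u hu => by
    rw [← ha.2 _ ((inv_mem ha.1 u).1 hu), isom_apply_inv]⟩

variable (R U) in
/-- The span of the images of `x` under the stabiliser of `U`. -/
def YY (x : M) : Submodule ℂ M := Submodule.span ℂ {y | ∃ g ∈ D.stab U, y = R g x}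

variable (R U) in
/-- The span of the images of `YY` under transvections. -/
def SS (x : M) : Submodule ℂ M :=
  Submodule.span ℂ {y | ∃ g ∈ D.stab U, ∃ p c, y = R (Symp.tv D p c) (R g x)}

theorem map_span_le {s : Set M} {T : Submodule ℂ M} {A : End ℂ M} (H : ∀ y ∈ s, A y ∈ T) {y : M}
    (hy : y ∈ Submodule.span ℂ s) : A y ∈ T :=
  (Submodule.span_le (p := T.comap A)).2 H hy

theorem R_YY {x y : M} {g : D.isom} (hg : g ∈ D.stab U) (hy : y ∈ YY R U x) : R g y ∈ YY R U x :=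
  map_span_le (by
    rintro _ ⟨k, hk, rfl⟩
    exact Submodule.subset_span ⟨g * k, mul_mem hg hk, by rw [map_mul, End.mul_apply]⟩) hy

theorem tv_YY_SS {x y : M} (hy : y ∈ YY R U x) (p : V) (c : F) :
    R (Symp.tv D p c) y ∈ SS R U x :=
  map_span_le (by rintro _ ⟨k, hk, rfl⟩; exact Submodule.subset_span ⟨k, hk, p, c, rfl⟩) hy

theorem YY_le_SS {x y : M} (hy : y ∈ YY R U x) : y ∈ SS R U x := by
  simpa using tv_YY_SS hy 0 0

theorem R_SS {x y : M} {g : D.isom} (hg : g ∈ D.stab U) (hy : y ∈ SS R U x) : R g y ∈ SS R U x :=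
  map_span_le (by
    rintro _ ⟨k, hk, p, c, rfl⟩
    refine Submodule.subset_span ⟨g * k, mul_mem hg hk, g.1 p, c, ?_⟩
    rw [← R_conj, Symp.conj_tv, map_mul, End.mul_apply]) hy

namespace Ctx
variable [Fintype (U → F)] {π : (U → F) → End ℂ M} (h : Ctx R ψ U π)
include h

theorem exists_ne {f : V} (hf : f ∉ U) : ∃ e ∈ U, D.B f e ≠ 0 := by
  by_contra! H
  exact hf (h.max f H)

theorem B_ei {e z : V} (he : e ∈ U) (d : F) (hz : D.B e z = 0) (f : V) {u : V} (hu : u ∈ U) :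
    D.B ((ei e z d hz).1 f) u = D.B f u + D.B e f * D.B z u := by
  simp [ei_apply, h.ts e he u hu]

variable [FiniteDimensional F V]

theorem ei_mem_stab {e z : V} (he : e ∈ U) (d : F) (hz : D.B e z = 0) :
    ei e z d hz ∈ D.stab U := D.mem_stab_of_mapsTo fun u hu => by
  rw [ei_apply, h.ts e he u hu, zero_smul, add_zero]
  exact add_mem hu (U.smul_mem _ he)

theorem exists_good {p e : V} (he : e ∈ U) (hpe : D.B p e ≠ 0) :
    ∃ f, ∃ e' ∈ U, D.B p f = 0 ∧ D.B f e = 0 ∧ D.B f e' = 1 ∧ D.B p e' = 0 := by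
  obtain ⟨u, hu, hue⟩ : ∃ u ∈ U, u ∉ F ∙ e := by
    by_contra! H
    have h1 := Submodule.finrank_mono (show U ≤ F ∙ e from H)
    have h2 := h.rk
    rw [finrank_span_singleton (fun h0 => hpe (by simp [h0]))] at h1
    omega
  have h1 : u - (D.B p u / D.B p e) • e ∉ F ∙ e := fun h1 => hue (by
    simpa using add_mem h1 (Submodule.smul_mem _ (D.B p u / D.B p e)
      (Submodule.mem_span_singleton_self e)))
  obtain ⟨f, hf, hf'⟩ := h.hD.exists_perp_B_eq h1 1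
  rw [mem_perp_span_singleton] at hf
  refine ⟨f - (D.B p f / D.B p e) • e, _, sub_mem hu (U.smul_mem (D.B p u / D.B p e) he),
    by simp [hpe], by simp [Symp.B_self, D.eq_zero_symm hf], ?_, by simp [hpe]⟩
  rw [D.B_sub_left, hf', D.B_smul_left, h.ts e he _ (sub_mem hu (U.smul_mem _ he))]
  simp

variable [Fintype F] {l : F} {f : V} {x : M} (hl : l ≠ 0) (hx : x ∈ WS R ψ U (wq D U l f))

include hl hx in
theorem fix_smul {e : V} (he : e ∈ U) (hfe : D.B f e ≠ 0) {g : D.isom} (hg : g.1 e = e) :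
    π (wq D U l f) (R g x) ∈ ℂ ∙ x := by
  let T := Submodule.span ℂ {y | ∃ z d hz, y = R (ei e z d hz) x}
  have h1 : g ∈ stabR R T := mem_of_fix h.hD (fun h0 => hfe (by simp [h0])) (fun p c hp =>
    tv_mem_stabR (fun c y hy => map_span_le (by
      rintro _ ⟨z, d, hz, rfl⟩
      have h2 := map_ES (ei e z d hz) (WS_le_ES hx ⟨e, he⟩)
      rw [show (ei e z d hz).1 (⟨e, he⟩ : U) = e from D.eich_apply_self _] at h2
      rw [h.tv_eq hp c (mul_ne_zero hl (pow_ne_zero 2 hfe)) h2]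
      refine Submodule.sum_mem _ fun s _ => Submodule.smul_mem _ _ (Submodule.subset_span
        ⟨s • p + z, 0 + d + D.B (s • p) z, by simp [hp, hz], ?_⟩)
      rw [← End.mul_apply, ← map_mul, ei, ei, eich_mul]
      rfl) hy) c) hg
  have h2 : x ∈ T := Submodule.subset_span ⟨0, 0, map_zero _, by
    rw [ei, eich_zero, map_one, End.one_apply]⟩
  refine map_span_le ?_ ((h1 x).1 h2)
  rintro _ ⟨z, d, hz, rfl⟩
  by_cases h3 : wq D U l ((ei e z d hz).1 f) = wq D U l f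
  · have h4 : z ∈ U := h.max z fun u hu => by
      have h5 := sq_eq h.two hl he h3 (by rw [h.B_ei he d hz f he, D.eq_zero_symm hz]; simp) hfe hu
      rw [h.B_ei he d hz f hu, add_eq_left, mul_eq_zero] at h5
      exact h5.resolve_left (D.ne_zero_symm hfe)
    rw [ei_wq hx ⟨e, he⟩ ⟨z, h4⟩, map_smul, h.pr.self _ _ hx]
    exact Submodule.smul_mem _ _ (Submodule.mem_span_singleton_self x)
  · rw [h.pr.ne _ _ (Ne.symm h3) _ (map_WS (h.ei_mem_stab he d hz) hx)]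
    exact zero_mem _

include hl hx in
theorem fx_smul (hf : f ∉ U) {g : D.isom} (hg : g ∈ fx D U f) : R g x ∈ ℂ ∙ x := by
  obtain ⟨e, he, hfe⟩ := h.exists_ne hf
  have h1 : ∀ k ∈ fx D U f, ∀ e ∈ U, D.B f e ≠ 0 → k.1 e = e → R k x ∈ ℂ ∙ x :=
    fun k hk e he hfe hke => by
      have h2 := map_WS hk.1 hx
      rw [show wq D U l (k.1 f) = wq D U l f from funext fun u => by
        rw [wq, wq, B_isom_left, (inv_mem hk).2 u u.2]] at h2
      rw [← h.pr.self _ _ h2]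
      exact h.fix_smul hl hx he hfe hke
  have h2 := h.two
  let e' : U := ⟨(2 : F)⁻¹ • (e + g.1 e), U.smul_mem _ (add_mem he ((hg.1 e).1 he))⟩
  have he' : D.B f e' = D.B f e := by simp [e', hg.2 e he]; field_simp; norm_num
  let σ : U →ₗ[F] U := ((2 / D.B f e) • (D.B f ∘ₗ U.subtype)).smulRight e' - LinearMap.id
  have hσ : ∀ u : U, (σ u : V) = (2 / D.B f e * D.B f u) • (e' : V) - u := fun u => rfl
  have hσ1 : ∀ u : U, D.B f (σ u) = D.B f u := fun u => by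
    rw [hσ, map_sub, map_smul, he', smul_eq_mul]; field_simp; ring
  obtain ⟨k, hk⟩ := (Symp.isTS h.ts).resLin_surjective h.hD (LinearEquiv.ofInvolutive σ fun u =>
    Subtype.ext (by rw [hσ, hσ1, hσ]; abel))
  have hk1 : ∀ u : U, k.1.1 u = σ u := fun u => congrArg Subtype.val (LinearEquiv.congr_fun hk u)
  have hk2 : k.1 ∈ fx D U f := ⟨k.2, fun u hu => (congrArg _ (hk1 ⟨u, hu⟩)).trans (hσ1 _)⟩
  have h3 := h1 _ (mul_mem hk2 hg) e he hfe (by
    rw [isom_mul_apply, hk1 ⟨_, (hg.1 e).1 he⟩, hσ]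
    simp only [hg.2 e he, e', div_mul_cancel₀ _ hfe, smul_smul, mul_inv_cancel₀ h2]
    simp)
  have h4 := h1 _ (inv_mem hk2) e' e'.2 (he' ▸ hfe) (isom_inv_apply_eq.2 (by
    rw [hk1, hσ, he', div_mul_cancel₀ _ hfe, two_smul, add_sub_cancel_right]))
  obtain ⟨c, hc⟩ := Submodule.mem_span_singleton.1 h3
  rw [← R_inv_apply (R := R) k.1 (R g x), ← End.mul_apply (R k.1), ← map_mul, ← hc, map_smul]
  exact Submodule.smul_mem _ _ h4

omit [FiniteDimensional F V] [Fintype F] in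
include hx in
theorem pi_YY {y : M} (hy : y ∈ YY R U x) (q : U → F) : π q y ∈ YY R U x :=
  map_span_le (by
    rintro _ ⟨g, hg, rfl⟩
    by_cases h1 : q = wq D U l (g.1 f)
    · rw [h1, h.pr.self _ _ (map_WS hg hx)]
      exact Submodule.subset_span ⟨g, hg, rfl⟩
    · rw [h.pr.ne _ _ h1 _ (map_WS hg hx)]
      exact zero_mem _) hy

include hl hx in
theorem pi_YY_self (hf : f ∉ U) {ζ : ℂ} (hζ : R (Symp.negOne D) = ζ • 1) {y : M}
    (hy : y ∈ YY R U x) : π (wq D U l f) y ∈ ℂ ∙ x :=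
  map_span_le (by
    rintro _ ⟨g, hg, rfl⟩
    by_cases h1 : wq D U l (g.1 f) = wq D U l f
    · rw [h.pr.self _ _ (h1 ▸ map_WS hg hx)]
      obtain ⟨e, he, hfe⟩ := h.exists_ne hf
      have h2 : ∀ k ∈ D.stab U, wq D U l (k.1 f) = wq D U l f → D.B (k.1 f) e = D.B f e →
          R k x ∈ ℂ ∙ x := fun k hk h2 h3 => h.fx_smul hl hx hf ⟨hk, fun u hu => by
        rw [← sq_eq h.two hl he h2 h3 hfe ((hk u).1 hu), B_isom]⟩
      rcases sq_eq_sq_iff_eq_or_eq_neg.1 (mul_left_cancel₀ hl (congrFun h1 ⟨e, he⟩)) with h3 | h3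
      · exact h2 g hg h1 h3
      · have h4 := h2 (Symp.negOne D * g) (mul_mem (fun u => by simp) hg)
          (h1 ▸ funext fun u => by simp [wq]) (by
            rw [isom_mul_apply, Symp.negOne_apply, D.B_neg_left, h3, neg_neg])
        have h5 : g = Symp.negOne D * (Symp.negOne D * g) := isom_ext fun v => by simp
        rw [h5, map_mul, End.mul_apply, hζ]
        exact Submodule.smul_mem _ _ h4
    · rw [h.pr.ne _ _ (Ne.symm h1) _ (map_WS hg hx)]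
      exact zero_mem _) hy

theorem tv_YY {y : M} (hy : y ∈ YY R U x) {e p : V} (he : e ∈ U) {a : F} (ha : a ≠ 0)
    (hy' : y ∈ ES R ψ e a) (hp : D.B e p = 0) (c : F) : R (Symp.tv D p c) y ∈ YY R U x := by
  rw [h.tv_eq hp c ha hy']
  exact Submodule.sum_mem _ fun s _ => Submodule.smul_mem _ _ (R_YY (h.ei_mem_stab he _ _) hy)

include hl in
theorem star {y : M} (hy : y ∈ YY R U x) {f' p f₂ e₁ e₂ : V} (hy' : y ∈ WS R ψ U (wq D U l f'))
    (he₁ : e₁ ∈ U) (he₂ : e₂ ∈ U) (h1 : D.B f' e₁ ≠ 0) (h2 : D.B f' e₂ = 0) (h3 : D.B p f₂ = 0)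
    (h4 : D.B f₂ e₁ = 0) (h5 : D.B f₂ e₂ = 1) (h6 : D.B p e₂ = 0) (c c' : F) :
    ∃ γ : ℂ, R (Symp.tv D f₂ c') (R (Symp.tv D p c) y) - γ • R (Symp.tv D p c) y ∈ YY R U x := by
  classical
  refine ⟨gam ψ (c' / (4 * wq D U l f' ⟨e₁, he₁⟩)) 0, ?_⟩
  rw [← End.mul_apply, ← map_mul, ← Symp.tv_comm h3, map_mul, End.mul_apply,
    h.tv_eq (D.eq_zero_symm h4) c' (mul_ne_zero hl (pow_ne_zero 2 h1)) (WS_le_ES hy' ⟨e₁, he₁⟩),
    map_sum, ← Finset.add_sum_erase _ _ (Finset.mem_univ 0), map_smul,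
    show ei (D := D) e₁ ((0 : F) • f₂) 0 (by simp) = 1 from isom_ext fun v => by
      simp [ei_apply],
    map_one, End.one_apply]
  change _ + _ - gam ψ (c' / (4 * (l * D.B f' e₁ ^ 2))) 0 • _ ∈ _
  rw [add_sub_cancel_left]
  refine Submodule.sum_mem _ fun s hs => ?_
  rw [map_smul]
  refine Submodule.smul_mem _ _ (h.tv_YY (R_YY (h.ei_mem_stab he₁ _ _) hy) he₂ ?_
    (WS_le_ES (map_WS (h.ei_mem_stab he₁ _ _) hy') ⟨e₂, he₂⟩) (D.eq_zero_symm h6) c)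
  rw [wq, h.B_ei he₁ _ _ _ he₂]
  simp [hl, h2, h5, D.ne_zero_symm h1, Finset.ne_of_mem_erase hs]

include hl hx in
theorem pi_tv_gen {y : M} (hy : y ∈ YY R U x) {f' : V} (hy' : y ∈ WS R ψ U (wq D U l f'))
    (hf' : f' ∉ U) (p : V) (c : F) {q : U → F} (hq : q ≠ 0) :
    π q (R (Symp.tv D p c) y) ∈ YY R U x := by
  by_cases hA : ∃ e ∈ U, D.B p e = 0 ∧ D.B f' e ≠ 0
  · obtain ⟨e, he, h1, h2⟩ := hA
    exact h.pi_YY hx (h.tv_YY hy he (mul_ne_zero hl (pow_ne_zero 2 h2)) (WS_le_ES hy' ⟨e, he⟩)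
      (D.eq_zero_symm h1) c) q
  push Not at hA
  obtain ⟨e₁, he₁, h1⟩ := h.exists_ne hf'
  have hp : D.B p e₁ ≠ 0 := fun h0 => h1 (hA _ he₁ h0)
  obtain ⟨f₂, e₂, he₂, h3, h4, h5, h6⟩ := h.exists_good he₁ hp
  obtain ⟨z, hz⟩ : ∃ z, z = R (Symp.tv D p c) y := ⟨_, rfl⟩
  rw [← hz]
  have hz0 : ∀ (q : U → F) (u : U), D.B p u = 0 → q u ≠ 0 → π q z = 0 := fun q u hu hq => by
    have h7 := map_ES (Symp.tv D p c) (WS_le_ES hy' u)
    rw [← hz, Symp.tv_apply, hu, wq, hA u u.2 hu] at h7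
    exact h.pi_eq_zero (a := 0) (by simpa using h7) hq
  have hz1 : ∀ q : U → F, π q z ≠ 0 → ∀ u : U, q u = (D.B p u / D.B p e₁) ^ 2 * q ⟨e₁, he₁⟩ :=
    fun q h0 u => by
      obtain ⟨m, k, rfl⟩ := h.exists_wq h0
      have h7 : wq D U m k (u - (D.B p u / D.B p e₁) • ⟨e₁, he₁⟩) = 0 :=
        by_contra fun h7 => h0 (hz0 _ _ (by simp [hp]) h7)
      simp only [wq, Submodule.coe_sub, Submodule.coe_smul, map_sub, map_smul, smul_eq_mul,
        mul_eq_zero, pow_eq_zero_iff two_ne_zero, sub_eq_zero] at h7 ⊢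
      rcases h7 with h7 | h7
      · simp [h7]
      · rw [h7]; ring
  by_cases h0 : π q z = 0
  · rw [h0]; exact zero_mem _
  have ha : q ⟨e₁, he₁⟩ ≠ 0 := fun ha => hq (funext fun u => by rw [hz1 q h0, ha]; simp)
  obtain ⟨m, k, rfl⟩ := h.exists_wq h0
  have hm : m ≠ 0 := left_ne_zero_of_mul ha
  have hk1 : D.B k e₁ ≠ 0 := fun h7 => ha (by simp [wq, h7])
  have hk2 : D.B k e₂ = 0 := by simpa [wq, h6, hm] using hz1 _ h0 ⟨e₂, he₂⟩
  have h7 : (4 : F) ≠ 0 := by rw [show (4 : F) = 2 * 2 by norm_num]; exact mul_ne_zero h.two h.two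
  obtain ⟨r, hr, hγ⟩ := exists_gam h.two h.hψ (k := 1 / (4 * wq D U m k ⟨e₁, he₁⟩))
    (one_div_ne_zero (mul_ne_zero h7 ha))
  have h8 : ∀ s : F, D.B e₁ (s • f₂) = 0 := fun s => by simp [D.eq_zero_symm h4]
  have h9 : ∀ s : F, D.B ((ei e₁ (s • f₂) 0 (h8 s)).1 k) e₁ = D.B k e₁ := fun s => by
    simp [h.B_ei he₁ _ _ _ he₁, h4]
  have h10 : ∀ s : F, D.B ((ei e₁ (s • f₂) 0 (h8 s)).1 k) e₂ = D.B e₁ k * s := fun s => by
    simp [h.B_ei he₁ _ _ _ he₂, h5, hk2]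
  obtain ⟨γ, h11⟩ := h.star hl hy hy' he₁ he₂ h1 (hA _ he₂ h6) h3 h4 h5 h6 c 1
  have h12 := h.pi_YY hx h11 (wq D U m ((ei e₁ (r • f₂) 0 (h8 r)).1 k))
  rw [← hz, map_sub, map_smul, hz0 _ ⟨e₂, he₂⟩ h6 (by
    simp [wq, h10, hm, hr, D.ne_zero_symm hk1]), smul_zero, sub_zero, ← h.pr.sum z, map_sum,
    map_sum, Finset.sum_eq_single (wq D U m k) (fun b _ hb => ?_) (by simp),
    h.tv_eq (D.eq_zero_symm h4) 1 ha (WS_le_ES (h.pr.mem _ z) ⟨e₁, he₁⟩), map_sum,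
    Finset.sum_eq_single r (fun s _ hs => ?_) (by simp), map_smul,
    h.pr.self _ _ (map_WS (h.ei_mem_stab he₁ _ _) (h.pr.mem _ z)),
    Submodule.smul_mem_iff _ hγ] at h12
  · simpa only [R_inv_apply] using R_YY (inv_mem (h.ei_mem_stab he₁ 0 (h8 r))) h12
  · rw [map_smul, h.pr.ne _ _ (fun h13 => hs ?_) _
      (map_WS (h.ei_mem_stab he₁ _ _) (h.pr.mem _ z)), smul_zero]
    have h14 := sq_eq h.two hm he₁ h13 (by rw [h9, h9]) (by rwa [h9]) he₂
    rw [h10, h10] at h14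
    exact (mul_left_cancel₀ (D.ne_zero_symm hk1) h14).symm
  · by_cases h13 : π b z = 0
    · rw [h13, map_zero, map_zero]
    have h14 := map_ES (Symp.tv D f₂ 1) (WS_le_ES (h.pr.mem b z) ⟨e₁, he₁⟩)
    rw [Symp.tv_apply, h4, mul_zero, zero_smul, add_zero] at h14
    refine h.pi_eq_zero (u := ⟨e₁, he₁⟩) h14 fun h15 => hb (funext fun u => ?_)
    rw [hz1 b h13, hz1 _ h0, ← h15, wq, wq, h9]

include hl hx in
theorem pi_tv_YY (hf : f ∉ U) {g : D.isom} (hg : g ∈ D.stab U) (p : V) (c : F) {q : U → F}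
    (hq : q ≠ 0) : π q (R (Symp.tv D p c) (R g x)) ∈ YY R U x :=
  h.pi_tv_gen hl hx (Submodule.subset_span ⟨g, hg, rfl⟩) (map_WS hg hx)
    (fun h0 => hf ((hg f).2 h0)) p c hq

include hl hx in
theorem tv_SS (hf : f ∉ U) (t : V) (c' : F) {y : M} (hy : y ∈ SS R U x) :
    R (Symp.tv D t c') y ∈ SS R U x := by
  classical
  refine map_span_le ?_ hy
  rintro _ ⟨g, hg, p, c, rfl⟩
  have hy : R g x ∈ YY R U x := Submodule.subset_span ⟨g, hg, rfl⟩
  have hy' := map_WS hg hx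
  by_cases hA : ∃ e ∈ U, D.B p e = 0 ∧ D.B (g.1 f) e ≠ 0
  · obtain ⟨e, he, h1, h2⟩ := hA
    exact tv_YY_SS (h.tv_YY hy he (mul_ne_zero hl (pow_ne_zero 2 h2)) (WS_le_ES hy' ⟨e, he⟩)
      (D.eq_zero_symm h1) c) _ _
  push Not at hA
  have hz' := tv_YY_SS hy p c
  have hπ := fun q hq => h.pi_tv_YY hl hx hf hg p c (q := q) hq
  have hs := fun f₂ e₁ e₂ he₁ he₂ h1 h2 h3 h4 h5 h6 => h.star hl hy (p := p) (f₂ := f₂) (e₁ := e₁)
    (e₂ := e₂) hy' he₁ he₂ h1 h2 h3 h4 h5 h6 c c'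
  generalize R (Symp.tv D p c) (R g x) = z at hz' hπ hs
  have h1 : z - π 0 z ∈ YY R U x := by
    conv => enter [2, 1]; rw [← h.pr.sum z, ← Finset.add_sum_erase _ _ (Finset.mem_univ 0)]
    rw [add_sub_cancel_left]
    exact Submodule.sum_mem _ fun q hq => hπ q (Finset.ne_of_mem_erase hq)
  rw [← sub_add_cancel z (π 0 z), map_add]
  refine add_mem (tv_YY_SS h1 _ _) ?_
  by_cases ht : t ∈ U
  · rw [mem_WS.1 (h.pr.mem 0 z) ⟨t, ht⟩]
    exact Submodule.smul_mem _ _ (by simpa using sub_mem hz' (YY_le_SS h1))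
  obtain ⟨e₁, he₁, h2, h2'⟩ : ∃ e ∈ U, D.B (g.1 f) e ≠ 0 ∧ D.B t e ≠ 0 := by
    obtain ⟨u, hu, hu'⟩ := h.exists_ne fun h0 => hf ((hg f).2 h0)
    obtain ⟨v, hv, hv'⟩ := h.exists_ne ht
    by_cases h2 : D.B t u = 0
    · by_cases h3 : D.B (g.1 f) v = 0
      · exact ⟨u + v, add_mem hu hv, by simpa [h3], by simpa [h2]⟩
      · exact ⟨v, hv, h3, hv'⟩
    · exact ⟨u, hu, hu', h2⟩
  obtain ⟨f₂, e₂, he₂, h3, h4, h5, h6⟩ := h.exists_good he₁ fun h0 => h2 (hA _ he₁ h0)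
  obtain ⟨γ, h7⟩ := hs f₂ e₁ e₂ he₁ he₂ h2 (hA _ he₂ h6) h3 h4 h5 h6
  have he : ((1 - D.B t e₂) / D.B t e₁) • e₁ + e₂ ∈ U := add_mem (U.smul_mem _ he₁) he₂
  have h8 : D.B t (((1 - D.B t e₂) / D.B t e₁) • e₁ + e₂) = 1 := by simp [h2']
  have h9 : D.B f₂ (((1 - D.B t e₂) / D.B t e₁) • e₁ + e₂) = 1 := by simp [h4, h5]
  obtain ⟨d, hd, h10⟩ := D.exists_eich_map (alt_Q D _) (D.eq_symm_of_eq (h8.trans h9.symm))
    (D.ne_zero_symm (by rw [h8]; exact one_ne_zero)) (by rw [alt_Q, alt_Q])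
  have h11 := h.ei_fix hd.B_ez d (WS_le_ES (h.pr.mem 0 z) ⟨_, he⟩)
  have h12 := R_conj (R := R) (ei _ _ d hd.B_ez) (Symp.tv D t c') (π 0 z)
  rw [h11, Symp.conj_tv, show (ei _ _ d hd.B_ez).1 t = f₂ from h10] at h12
  rw [← R_inv_apply (R := R) (ei _ _ d hd.B_ez) (R _ _), ← h12]
  refine R_SS (inv_mem (h.ei_mem_stab he _ _)) ?_
  have h13 := sub_mem (add_mem (YY_le_SS h7) (Submodule.smul_mem _ γ hz')) (tv_YY_SS h1 f₂ c')
  simpa using h13

include hl hx in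
/-- The multiplicity one statement. -/
theorem exists_sub (hf : f ∉ U) {ζ : ℂ} (hζ : R (Symp.negOne D) = ζ • 1) :
    ∃ S : Submodule ℂ M, x ∈ S ∧ (∀ g, ∀ v ∈ S, R g v ∈ S) ∧
      ∀ v ∈ S, v ∈ WS R ψ U (wq D U l f) → v ∈ ℂ ∙ x := by
  refine ⟨SS R U x, YY_le_SS (Submodule.subset_span ⟨1, one_mem _, by simp⟩), fun g v hv => ?_,
    fun v hv hv' => ?_⟩
  · have h1 := Symp.eq_top_of_tv h.hD (stabR R (SS R U x)) fun p =>
      tv_mem_stabR fun c y hy => h.tv_SS hl hx hf p c hy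
    exact ((h1.ge (Subgroup.mem_top g)) v).1 hv
  · rw [← h.pr.self _ _ hv']
    refine map_span_le ?_ hv
    rintro _ ⟨g, hg, p, c, rfl⟩
    obtain ⟨e, he, hfe⟩ := h.exists_ne hf
    rw [← h.pr.self _ _ (h.pr.mem _ _)]
    exact h.pi_YY_self hl hx hf hζ (h.pi_tv_YY hl hx hf hg p c fun h0 =>
      mul_ne_zero hl (pow_ne_zero 2 hfe) (congrFun h0 ⟨e, he⟩))

end Ctx

end Cfsg.Lib.Twist.Weil
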