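import Cfsg.Agent.Lib.Twist.WeilA
import Cfsg.Agent.Lib.Twist.WeilC
import Cfsg.Agent.Lib.Char.Ortho

/-!
Representations of small degree of `Sp(V)`, `q` odd, are determined by their central character and
the square class of their weights.
-/

set_option autoImplicit false

namespace Cfsg.Lib.Twist.Weil

open Module Cfsg.Lib.Forms Cfsg.Lib.Forms.Form Cfsg.Lib.Conj Cfsg.Lib.Char

variable {F : Type*} [Field F] {V : Type*} [AddCommGroup V] [Module F V]
  {D : Form (altKind F) V} {M M' : Type*} [AddCommGroup M] [Module ℂ M] [AddCommGroup M']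
  [Module ℂ M'] {R : D.isom →* End ℂ M} {R' : D.isom →* End ℂ M'} {ψ : AddChar F ℂ}
  {U : Submodule F V}

theorem WS_indep (hψ : ψ ≠ 1) : iSupIndep (WS R ψ U) :=
  (wt_indep _).comp (f := fun (q : U → F) (i : U × F) => ψ (i.2 * q i.1)) fun _ _ h =>
    funext fun u => eq_of_addChar hψ fun s => congrFun h (u, s)

theorem tv_pow (p : V) (c : F) : Symp.tv D p c ^ ringChar F = 1 := by
  have h3 : ∀ m : ℕ, Symp.tv D p c ^ m = Symp.tv D p (m * c) := fun m => by
    induction m with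
    | zero => simp [Symp.tv_zero]
    | succ m ih => rw [pow_succ, ih, ← Symp.tv_add, Nat.cast_succ, add_one_mul]
  rw [h3, ringChar.Nat.cast_ringChar, zero_mul, Symp.tv_zero]

theorem iSup_WS [Finite F] [FiniteDimensional ℂ M] (hψ : ψ ≠ 1)
    (hU : ∀ u ∈ U, ∀ v ∈ U, D.B u v = 0) : ⨆ q, WS R ψ U q = ⊤ := by
  rw [eq_top_iff, ← iSup_wt (fun i : U × F => R (Symp.tv D i.1 i.2))
    (fun i j => Commute.map (Symp.tv_comm (hU _ i.1.2 _ j.1.2) _ _) R) (n := ringChar F)
    (by exact_mod_cast CharP.ringChar_ne_zero_of_finite F)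
    fun i => by rw [← map_pow, tv_pow, map_one]]
  refine iSup_le fun χ => ?_
  by_cases h0 : wt (fun i : U × F => R (Symp.tv D i.1 i.2)) χ = ⊥
  · rw [h0]; exact bot_le
  obtain ⟨x, hx, h1⟩ := (Submodule.ne_bot_iff _).1 h0
  choose q hq using fun u : U => exists_mulShift hψ
    { toFun := fun c => χ (u, c)
      map_zero_eq_one' := smul_left_injective ℂ h1 (by
        have := mem_wt.1 hx (u, 0)
        simpa using this.symm)
      map_add_eq_mul' := fun s t => smul_left_injective ℂ h1 (by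
        have := mem_wt.1 hx (u, s + t)
        rw [Symp.tv_add, map_mul, End.mul_apply, mem_wt.1 hx (u, t), map_smul,
          mem_wt.1 hx (u, s), smul_smul, mul_comm] at this
        exact this.symm) }
  refine le_iSup_of_le q (le_of_eq ?_)
  rw [WS]
  congr 1
  exact funext fun i => hq i.1 i.2

theorem exists_bil (hψ : ψ ≠ 1) (hU : ∀ u ∈ U, ∀ v ∈ U, D.B u v = 0) {q : U → F}
    (hq : WS R ψ U q ≠ ⊥) : ∃ b : U →ₗ[F] U →ₗ[F] F, (∀ x y, b x y = b y x) ∧
      ∀ x, b x x = 2 * q x := by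
  obtain ⟨x, hx, h1⟩ := (Submodule.ne_bot_iff _).1 hq
  have h2 : ∀ (u v : U) (s : F), R (ei u (s • v : U) 0 (hU _ u.2 _ (s • v).2)) x =
      ψ (s * (q (u + v) - q u - q v)) • x := fun u v s => by
    have h3 : ei (D := D) u (s • v : U) 0 (hU _ u.2 _ (s • v).2) =
        Symp.tv D (u + v : U) s * Symp.tv D u (-s) * Symp.tv D v (-s) := isom_ext fun y => by
      simp only [isom_mul_apply, ei_apply, Symp.tv_apply, Submodule.coe_add, Submodule.coe_smul,
        map_add, map_smul, LinearMap.add_apply, LinearMap.smul_apply, hU _ u.2 _ v.2,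
        hU _ v.2 _ u.2, Symp.B_self, smul_eq_mul]
      module
    rw [h3, map_mul, map_mul, End.mul_apply, End.mul_apply, mem_WS.1 hx, map_smul, map_smul,
      mem_WS.1 hx, map_smul, mem_WS.1 hx, smul_smul, smul_smul, ← AddChar.map_add_eq_mul,
      ← AddChar.map_add_eq_mul]
    congr 2; ring
  have h3 : ∀ u v v' : U, q (u + (v + v')) - q u - q (v + v') =
      (q (u + v) - q u - q v) + (q (u + v') - q u - q v') := fun u v v' =>
    eq_of_addChar hψ fun s => smul_left_injective ℂ h1 (by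
      have h4 := h2 u (v + v') s
      rw [show ei (D := D) u (s • (v + v') : U) 0 (hU _ u.2 _ (s • (v + v')).2) =
          ei (D := D) u (s • v : U) 0 (hU _ u.2 _ (s • v).2) *
            ei (D := D) u (s • v' : U) 0 (hU _ u.2 _ (s • v').2) by
          rw [ei, ei, ei, eich_mul]
          exact D.eich_congr _ _ rfl (by simp) (by simp [hU _ v.2 _ v'.2]),
        map_mul, End.mul_apply, h2, map_smul, h2, smul_smul, ← AddChar.map_add_eq_mul] at h4
      change _ • _ = _ • _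
      rw [← h4, mul_add, add_comm])
  have h4 : ∀ (c : F) (u v : U), q (u + c • v) - q u - q (c • v) = c * (q (u + v) - q u - q v) :=
    fun c u v => eq_of_addChar hψ fun s => smul_left_injective ℂ h1 (by
      change _ • _ = _ • _
      rw [← h2, ← mul_assoc, ← h2]
      simp only [smul_smul])
  have h5 : ∀ (c : F) (u : U), q (c • u) = c ^ 2 * q u := fun c u =>
    eq_of_addChar hψ fun s => smul_left_injective ℂ h1 (by
      change _ • _ = _ • _
      rw [← mem_WS.1 hx, ← mul_assoc, ← mem_WS.1 hx, Submodule.coe_smul, Symp.tv_smul, mul_comm])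
  refine ⟨LinearMap.mk₂ F (fun u v => q (u + v) - q u - q v) (fun u u' v => ?_) (fun c u v => ?_)
    h3 h4, fun u v => ?_, fun u => ?_⟩
  · have := h3 v u u'
    rw [add_comm v, add_comm v, add_comm v] at this
    linear_combination this
  · have := h4 c v u
    rw [add_comm v, add_comm v] at this
    rw [smul_eq_mul]
    linear_combination this
  · rw [LinearMap.mk₂_apply, LinearMap.mk₂_apply, add_comm]; ring
  · rw [LinearMap.mk₂_apply, ← two_smul F, h5]; ring

theorem hasW_of_lt [Finite F] [FiniteDimensional F V] [FiniteDimensional ℂ M] (h2 : (2 : F) ≠ 0)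
    (hψ : ψ ≠ 1) (hD : D.Nondeg) (hU : ∀ u ∈ U, ∀ v ∈ U, D.B u v = 0)
    (h : finrank ℂ M * (2 * (Nat.card F + 1)) < (Nat.card U - 1) * (Nat.card U - Nat.card F)) :
    HasW R ψ U := fun q hq => by
  have : Finite V := Module.finite_of_finite F
  have := finite_isom (D := D)
  obtain ⟨b, hb, hb'⟩ := exists_bil hψ hU hq
  by_cases h1 : ∀ u v, b u u * b v v = b u v ^ 2
  · by_cases h3 : ∀ u, q u = 0
    · exact ⟨0, 0, funext fun u => by simp [wq, h3]⟩
    push Not at h3
    obtain ⟨u, hu⟩ := h3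
    obtain ⟨f, hf⟩ := hD.exists_rep_sub U (b u)
    refine ⟨(2 * (2 * q u))⁻¹, f, funext fun v => ?_⟩
    rw [wq, hf, ← h1, hb', hb']
    field_simp
  push Not at h1
  obtain ⟨u, v, huv⟩ := h1
  let S : Subgroup (D.stab U) :=
    { carrier := {g | ∀ x y, b (D.resLin U g x) (D.resLin U g y) = b x y}
      mul_mem' := fun ha hb x y => by
        rw [map_mul, LinearEquiv.mul_apply, LinearEquiv.mul_apply, ha, hb]
      one_mem' := fun _ _ => rfl
      inv_mem' := fun {g} ha x y => by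
        rw [← ha, ← LinearEquiv.mul_apply, ← LinearEquiv.mul_apply, ← map_mul, mul_inv_cancel]
        rfl }
  have h3 := index_bound_odd (D.resLin U) h2 hb huv S (fun g hg => hg)
    ((Symp.isTS hU).resLin_surjective hD)
  let _ : MulAction (D.stab U) (U × F) :=
    { smul := fun g i => (D.resLin U g i.1, i.2)
      one_smul := fun _ => rfl
      mul_smul := fun _ _ _ => rfl }
  have h4 := index_mul_le (R.comp (D.stab U).subtype) (fun i : U × F => R (Symp.tv D i.1 i.2))
    (fun g i => by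
      change R g.1 * R _ = R (Symp.tv D (g.1.1 i.1) i.2) * R g.1
      rw [← map_mul, ← map_mul, ← Symp.conj_tv, inv_mul_cancel_right])
    (fun i => ψ (i.2 * q i.1)) S fun g hg x y => by
      have h5 : ∀ x, b (D.resLin U g x) (D.resLin U g x) = b x x := fun x => by
        rw [hb', hb', eq_of_addChar (a := q (D.resLin U g x)) (b := q x) hψ fun s => hg (x, s)]
      have h6 := h5 (x + y)
      simp only [map_add, LinearMap.add_apply, h5, hb y x, hb (D.resLin U g y)] at h6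
      exact mul_left_cancel₀ h2 (by linear_combination h6)
  have h5 : 0 < finrank ℂ (WS R ψ U q) := Nat.pos_of_ne_zero (mt Submodule.finrank_eq_zero.1 hq)
  exact absurd (h3.trans (Nat.mul_le_mul_right _ ((Nat.le_mul_of_pos_right _ h5).trans h4)))
    h.not_ge

variable (D ψ U) in
/-- The standing hypotheses on the space. -/
structure Base : Prop where
  two : (2 : F) ≠ 0
  hψ : ψ ≠ 1
  hD : D.Nondeg
  ts : ∀ u ∈ U, ∀ v ∈ U, D.B u v = 0
  max : ∀ z, (∀ u ∈ U, D.B z u = 0) → z ∈ U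
  rk : 2 ≤ finrank F U

variable (R ψ U) in
/-- There is a non-zero weight `l φ²`. -/
def HasType (l : F) : Prop := l ≠ 0 ∧ ∃ f ∉ U, WS R ψ U (wq D U l f) ≠ ⊥

theorem char_eq_of_sub {G : Type*} [Group G] [FiniteDimensional ℂ M] [FiniteDimensional ℂ M']
    (ρ : Representation ℂ G M) (ρ' : Representation ℂ G M') [h : ρ.IsIrreducible]
    [h' : ρ'.IsIrreducible] (S : Submodule ℂ (M × M')) (hS : ∀ g, ∀ v ∈ S, ρ.prod ρ' g v ∈ S)
    {x : M} {x' : M'} (hx : x ≠ 0) (hx' : x' ≠ 0) (h1 : (x, x') ∈ S) (h2 : (x, 0) ∉ S) :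
    ρ.character = ρ'.character := by
  let σ : Representation ℂ G S := (ρ.prod ρ').subrepresentation S hS
  have h3 : S.comap (LinearMap.inl ℂ M M') = ⊥ := (((isIrreducible_iff ρ).1 h).2 _ fun g v hv => by
    simpa [Representation.prod] using hS g _ hv).resolve_right fun h0 =>
      h2 (h0.ge (Submodule.mem_top (x := x)))
  have h4 : S.comap (LinearMap.inr ℂ M M') = ⊥ :=
    (((isIrreducible_iff ρ').1 h').2 _ fun g v hv => by
      simpa [Representation.prod] using hS g _ hv).resolve_right fun h0 =>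
        h2 (by simpa using sub_mem h1 (h0.ge (Submodule.mem_top (x := x'))))
  have h5 : S.map (LinearMap.fst ℂ M M') = ⊤ := (((isIrreducible_iff ρ).1 h).2 _ (by
    rintro g _ ⟨v, hv, rfl⟩
    exact ⟨_, hS g v hv, rfl⟩)).resolve_left fun h0 => hx (h0.le ⟨_, h1, rfl⟩)
  have h6 : S.map (LinearMap.snd ℂ M M') = ⊤ := (((isIrreducible_iff ρ').1 h').2 _ (by
    rintro g _ ⟨v, hv, rfl⟩
    exact ⟨_, hS g v hv, rfl⟩)).resolve_left fun h0 => hx' (h0.le ⟨_, h1, rfl⟩)
  let e : S ≃ₗ[ℂ] M := LinearEquiv.ofBijective (LinearMap.fst ℂ M M' ∘ₗ S.subtype)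
    ⟨(injective_iff_map_eq_zero _).2 fun ⟨⟨a, b⟩, hv⟩ h0 => by
      obtain rfl : a = 0 := h0
      obtain rfl : b = 0 := h4.le hv
      rfl, fun y => by
      obtain ⟨v, hv, rfl⟩ := h5.ge (Submodule.mem_top (x := y))
      exact ⟨⟨v, hv⟩, rfl⟩⟩
  let e' : S ≃ₗ[ℂ] M' := LinearEquiv.ofBijective (LinearMap.snd ℂ M M' ∘ₗ S.subtype)
    ⟨(injective_iff_map_eq_zero _).2 fun ⟨⟨a, b⟩, hv⟩ h0 => by
      obtain rfl : b = 0 := h0
      obtain rfl : a = 0 := h3.le hv
      rfl, fun y => by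
      obtain ⟨v, hv, rfl⟩ := h6.ge (Submodule.mem_top (x := y))
      exact ⟨⟨v, hv⟩, rfl⟩⟩
  rw [← Representation.char_iso (Representation.Equiv.mk (ρ := σ) (σ := ρ) e fun g => rfl),
    ← Representation.char_iso (Representation.Equiv.mk (ρ := σ) (σ := ρ') e' fun g => rfl)]

namespace Base
variable [Finite F] [FiniteDimensional F V] [FiniteDimensional ℂ M] [FiniteDimensional ℂ M']
  (h : Base D ψ U)
include h

omit [FiniteDimensional F V] in
theorem exists_ctx [Fintype (U → F)] (hW : HasW R ψ U) : ∃ π, Ctx R ψ U π :=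
  let ⟨π, hπ⟩ := exists_proj (WS_indep h.hψ) (iSup_WS (R := R) h.hψ h.ts)
  ⟨π, h.two, h.hψ, h.hD, h.ts, h.max, h.rk, hπ, hW⟩

theorem WS_ne (hW : HasW R ψ U) {l : F} (hl : HasType R ψ U l) {f : V} (hf : f ∉ U) :
    WS R ψ U (wq D U l f) ≠ ⊥ := by
  have : Finite V := Module.finite_of_finite F
  let _ := Fintype.ofFinite (U → F)
  obtain ⟨π, hc⟩ := h.exists_ctx hW
  obtain ⟨-, f', hf', h1⟩ := hl
  obtain ⟨e₁, he₁, h2, h2'⟩ : ∃ e ∈ U, D.B f e ≠ 0 ∧ D.B f' e ≠ 0 := by
    obtain ⟨u, hu, hu'⟩ := hc.exists_ne hf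
    obtain ⟨v, hv, hv'⟩ := hc.exists_ne hf'
    by_cases h2 : D.B f' u = 0
    · by_cases h3 : D.B f v = 0
      · exact ⟨u + v, add_mem hu hv, by simpa [h3], by simpa [h2]⟩
      · exact ⟨v, hv, h3, hv'⟩
    · exact ⟨u, hu, hu', h2⟩
  obtain ⟨f₂, e₂, he₂, -, h4, h5, -⟩ := hc.exists_good he₁ h2
  have h3 : ∀ t, D.B t e₁ ≠ 0 → ∃ g ∈ D.stab U, g.1 t = f₂ := fun t ht => by
    have h8 : D.B t (((1 - D.B t e₂) / D.B t e₁) • e₁ + e₂) = 1 := by simp [ht]
    have h9 : D.B f₂ (((1 - D.B t e₂) / D.B t e₁) • e₁ + e₂) = 1 := by simp [h4, h5]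
    obtain ⟨d, hd, h10⟩ := D.exists_eich_map (alt_Q D _) (D.eq_symm_of_eq (h8.trans h9.symm))
      (D.ne_zero_symm (by rw [h8]; exact one_ne_zero)) (by rw [alt_Q, alt_Q])
    exact ⟨_, hc.ei_mem_stab (add_mem (U.smul_mem _ he₁) he₂) d hd.B_ez, h10⟩
  obtain ⟨g, hg, hg'⟩ := h3 f h2
  obtain ⟨k, hk, hk'⟩ := h3 f' h2'
  obtain ⟨x, hx, h0⟩ := (Submodule.ne_bot_iff _).1 h1
  have h6 := map_WS (mul_mem (inv_mem hg) hk) hx
  rw [isom_mul_apply, hk', ← hg', isom_inv_apply] at h6
  exact (Submodule.ne_bot_iff _).2 ⟨_, h6, fun h7 => h0 (by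
    rw [← R_inv_apply (R := R) (g⁻¹ * k) x, h7, map_zero])⟩

theorem exists_type (hW : HasW R ψ U) (hR : Representation.IsIrreducible R)
    (h1 : finrank ℂ M ≠ 1) : ∃ l, HasType R ψ U l := by
  have : Finite V := Module.finite_of_finite F
  let _ := Fintype.ofFinite (U → F)
  obtain ⟨π, hc⟩ := h.exists_ctx hW
  by_contra! H
  have h2 : ∀ (u : U) c, R (Symp.tv D u c) = 1 := fun u c => LinearMap.ext fun y => by
    rw [← hc.pr.sum y, map_sum, map_sum]
    refine Finset.sum_congr rfl fun q _ => ?_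
    by_cases h0 : π q y = 0
    · rw [h0, map_zero, map_zero]
    obtain ⟨l, f, rfl⟩ := hc.exists_wq h0
    have h3 : wq D U l f u = 0 := by_contra fun h3 => H l ⟨left_ne_zero_of_mul h3, f,
      fun hf => h3 (by simp [wq, h.ts f hf u u.2]),
      (Submodule.ne_bot_iff _).2 ⟨_, hc.pr.mem _ y, h0⟩⟩
    rw [mem_WS.1 (hc.pr.mem _ y), h3]
    simp
  have : Nontrivial U := nontrivial_of_finrank_pos (R := F) (by have := h.rk; omega)
  obtain ⟨u, hu⟩ := exists_ne (0 : U)
  have h3 := Symp.eq_top_of_tv h.hD R.ker fun p c => by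
    by_cases hp : p = 0
    · simp [hp]
    obtain ⟨g, rfl⟩ := Symp.exists_map h.hD (fun h0 => hu (Subtype.ext h0)) hp
    rw [← Symp.conj_tv]
    exact (MonoidHom.normal_ker R).conj_mem _ (h2 u c) g
  obtain ⟨-, h4⟩ := (isIrreducible_iff R).1 hR
  have := nontrivial_of_isIrreducible (h := hR)
  obtain ⟨x, hx⟩ := exists_ne (0 : M)
  refine h1 ?_
  rw [← finrank_top, ← (h4 (ℂ ∙ x) fun g v hv => by
    rwa [show R g = 1 from h3.ge (Subgroup.mem_top g)]).resolve_left (by simpa using hx),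
    finrank_span_singleton hx]

theorem char_eq (hW : HasW R ψ U) (hW' : HasW R' ψ U) (hR : Representation.IsIrreducible R)
    (hR' : Representation.IsIrreducible R') {ζ : ℂ} (hζ : R (Symp.negOne D) = ζ • 1)
    (hζ' : R' (Symp.negOne D) = ζ • 1) {l s : F} (hl : HasType R ψ U l)
    (hl' : HasType R' ψ U (l * s ^ 2)) :
    Representation.character R = Representation.character R' := by
  have : Finite V := Module.finite_of_finite F
  let _ := Fintype.ofFinite (U → F)
  let _ := Fintype.ofFinite F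
  have hs : s ≠ 0 := fun h0 => hl'.1 (by simp [h0])
  obtain ⟨-, f, hf, h1⟩ := hl'
  have hf' : s • f ∉ U := by rwa [U.smul_mem_iff hs]
  rw [show wq D U (l * s ^ 2) f = wq D U l (s • f) from funext fun u => by
    simp [wq, mul_pow, mul_assoc]] at h1
  obtain ⟨x, hx, h0⟩ := (Submodule.ne_bot_iff _).1 (h.WS_ne hW hl hf')
  obtain ⟨x', hx', h0'⟩ := (Submodule.ne_bot_iff _).1 h1
  have h2 : ∀ q y y', (y, y') ∈ WS (Representation.prod R R') ψ U q ↔
      y ∈ WS R ψ U q ∧ y' ∈ WS R' ψ U q := fun q y y' => by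
    simp [mem_WS, Representation.prod, forall_and]
  obtain ⟨π, hc⟩ := h.exists_ctx (R := Representation.prod R R') fun q hq => by
    obtain ⟨⟨y, y'⟩, hy, h3⟩ := (Submodule.ne_bot_iff _).1 hq
    rw [h2] at hy
    by_cases h4 : y = 0
    · exact hW' q ((Submodule.ne_bot_iff _).2 ⟨y', hy.2, fun h5 => h3 (by rw [h4, h5]; rfl)⟩)
    · exact hW q ((Submodule.ne_bot_iff _).2 ⟨y, hy.1, h4⟩)
  obtain ⟨S, h3, h4, h5⟩ := hc.exists_sub hl.1 ((h2 _ x x').2 ⟨hx, hx'⟩) hf' (ζ := ζ) (by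
    ext <;> simp [Representation.prod, hζ, hζ'])
  refine char_eq_of_sub R R' S h4 h0 h0' h3 fun h6 => ?_
  obtain ⟨c, hc⟩ := Submodule.mem_span_singleton.1 (h5 _ h6 ((h2 _ x 0).2 ⟨hx, zero_mem _⟩))
  rw [Prod.smul_mk, Prod.mk.injEq, smul_eq_zero, or_iff_left h0'] at hc
  exact h0 (by rw [← hc.1, hc.2, zero_smul])

theorem le_of_types (hW : HasW R ψ U) {l μ : F} (hμ : ¬ IsSquare μ) (hl : HasType R ψ U l)
    (hl' : HasType R ψ U (μ * l)) : Nat.card U - 1 ≤ finrank ℂ M := by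
  classical
  have : Finite V := Module.finite_of_finite F
  have : Finite (U →ₗ[F] F) := Module.finite_of_finite F
  choose f hf using h.hD.exists_rep_sub U
  obtain ⟨n, hn⟩ := exists_injective_nat (U →ₗ[F] F)
  have h1 : ∀ φ : ({0}ᶜ : Set (U →ₗ[F] F)), f φ ∉ U := fun φ h0 => φ.2 (LinearMap.ext fun u => by
    rw [← hf, h.ts _ h0 _ u.2]; rfl)
  have h2 : ∀ (a : F) (φ φ' : U →ₗ[F] F), a ≠ 0 → wq D U a (f φ) = wq D U a (f φ') →
      φ = φ' ∨ φ = -φ' := fun a φ φ' ha h3 => by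
    by_cases h4 : φ' = 0
    · exact .inl (LinearMap.ext fun u => by simpa [wq, hf, ha, h4] using congrFun h3 u)
    obtain ⟨e, he⟩ := DFunLike.ne_iff.1 h4
    replace he : D.B (f φ') e ≠ 0 := by rwa [hf]
    rcases sq_eq_sq_iff_eq_or_eq_neg.1 (mul_left_cancel₀ ha (congrFun h3 e)) with h5 | h5
    · exact .inl (LinearMap.ext fun u => by
        rw [← hf, ← hf, sq_eq h.two ha e.2 h3 h5 he u.2])
    · refine .inr (LinearMap.ext fun u => ?_)
      have h6 := sq_eq h.two ha (f := -f φ') e.2 (h3.trans (funext fun u => by simp [wq]))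
        (by simpa using h5) (by simpa using he) u.2
      rw [← hf, h6, D.B_neg_left, hf]; rfl
  have h3 : ∀ φ φ' : ({0}ᶜ : Set (U →ₗ[F] F)), wq D U l (f φ) ≠ wq D U (μ * l) (f φ') :=
    fun φ φ' h3 => by
      obtain ⟨e, he⟩ := DFunLike.ne_iff.1 φ'.2
      replace he : φ'.1 e ≠ 0 := he
      have h4 := congrFun h3 e
      have h5 := hl.1
      simp only [wq, hf] at h4
      exact hμ ⟨φ.1 e / φ'.1 e, by field_simp at h4 ⊢; linear_combination -h4⟩
  have h4 := card_mul_le_finrank ((WS_indep (R := R) h.hψ).comp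
    (f := fun φ : ({0}ᶜ : Set (U →ₗ[F] F)) =>
      if n φ < n (-φ) then wq D U l (f φ) else wq D U (μ * l) (f φ)) fun φ φ' hφ => by
      dsimp only at hφ
      split_ifs at hφ with h4 h5 h5
      · rcases h2 _ _ _ hl.1 hφ with h6 | h6
        · exact Subtype.ext h6
        · rw [h6, neg_neg] at h4; omega
      · exact absurd hφ (h3 _ _)
      · exact absurd hφ.symm (h3 _ _)
      · rcases h2 _ _ _ hl'.1 hφ with h6 | h6
        · exact Subtype.ext h6
        · rw [h6, neg_neg] at h4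
          exact Subtype.ext (h6.trans (hn (by omega)))) (d := 1) fun φ => by
    rw [Nat.one_le_iff_ne_zero, Ne, Submodule.finrank_eq_zero, Function.comp_apply]
    split_ifs
    · exact h.WS_ne hW hl (h1 φ)
    · exact h.WS_ne hW hl' (h1 φ)
  rwa [mul_one, Nat.card_coe_set_eq, Set.ncard_compl, Set.ncard_singleton, card_dual] at h4

end Base

end Cfsg.Lib.Twist.Weil
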