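import Cfsg.Agent.Lib.Twist.WeilD

/-!
The Weil characters of `Sp_{2n}(q)`, `q` odd.
-/

set_option autoImplicit false

namespace Cfsg.Lib.Twist.Weil

open Module Cfsg.Lib.Forms Cfsg.Lib.Forms.Form Cfsg.Lib.Conj Cfsg.Lib.Char

variable {F : Type*} [Field F] {V : Type*} [AddCommGroup V] [Module F V]
  {D : Form (altKind F) V} {M M' : Type*} [AddCommGroup M] [Module ℂ M] [AddCommGroup M']
  [Module ℂ M'] {ψ : AddChar F ℂ} {U : Submodule F V}

section Heis
variable {π : V → End ℂ M} {P : End ℂ M} (h : Heis D ψ π P) {ω : D.isom →* End ℂ M}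
  (hω : ∀ g v, ω g * π v = π (g.1 v) * ω g)
include h

theorem heis_li [Nontrivial M] (hD : D.Nondeg) : LinearIndependent ℂ π := by
  have h1 : ∀ v, π v * π (-v) = 1 := fun v => by simp [h.mul, Symp.B_self, h.zero]
  refine ((wt_indep fun w : V => LinearMap.mulLeft ℂ (π w) * LinearMap.mulRight ℂ (π (-w))).comp
    (f := fun v w => ψ (-D.B w v)) fun v v' hv => hD.ext' fun w => ?_).linearIndependent _
    (fun v => mem_wt.2 fun w => ?_) fun v h0 => ?_
  · refine neg_injective (eq_of_addChar h.ne_one fun s => ?_)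
    simpa using congrFun hv (s • w)
  · have := h.two
    simp only [End.mul_apply, LinearMap.mulLeft_apply, LinearMap.mulRight_apply, h.mul,
      mul_smul_comm, smul_smul, ← AddChar.map_add_eq_mul]
    congr 2
    · simp [Symp.B_self, Symp.B_symm D w v]; field_simp; ring
    · abel
  · simpa [h0] using h1 v

include hω in
theorem finrank_le_two [Finite F] [FiniteDimensional F V] [FiniteDimensional ℂ M] [Nontrivial M]
    [Nontrivial V] (hD : D.Nondeg) (hc : Nat.card V = finrank ℂ M ^ 2) :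
    finrank ℂ (Representation.IntertwiningMap ω ω) ≤ 2 := by
  classical
  have : Finite V := Module.finite_of_finite F
  let _ := Fintype.ofFinite V
  let b := basisOfLinearIndependentOfCardEqFinrank (heis_li h hD) (by
    rw [finrank_linearMap, ← sq, ← hc, Nat.card_eq_fintype_card])
  have hb : ∀ v, b v = π v := fun v => by simp [b]
  have h1 : ∀ (X : Representation.IntertwiningMap ω ω) (g : D.isom) (v : V),
      b.coord (g.1 v) X.toLinearMap = b.coord v X.toLinearMap := fun X g v => by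
    have h2 : b.coord (g.1 v) ∘ₗ (LinearMap.mulLeft ℂ (ω g) * LinearMap.mulRight ℂ (ω g⁻¹)) =
        b.coord v := b.ext fun w => by
      simp only [LinearMap.comp_apply, End.mul_apply, LinearMap.mulLeft_apply,
        LinearMap.mulRight_apply]
      rw [hb, ← mul_assoc, hω, mul_assoc, ← map_mul, mul_inv_cancel, map_one, mul_one, ← hb, ← hb]
      simp [Finsupp.single_apply]
    rw [← h2]
    simp only [LinearMap.comp_apply, End.mul_apply, LinearMap.mulLeft_apply,
      LinearMap.mulRight_apply]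
    rw [← mul_assoc, show ω g * X.toLinearMap = X.toLinearMap * ω g from (X.isIntertwining' g).symm,
      mul_assoc, ← map_mul, mul_inv_cancel, map_one, mul_one]
  obtain ⟨v, hv⟩ := exists_ne (0 : V)
  have h2 := LinearMap.finrank_le_finrank_of_injective
    (f := ((b.coord 0).prod (b.coord v)) ∘ₗ Representation.IntertwiningMap.toLinearMapl ω ω)
    ((injective_iff_map_eq_zero _).2 fun X hX => by
      refine Representation.IntertwiningMap.ext (b.forall_coord_eq_zero_iff.1 fun w => ?_)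
      by_cases hw : w = 0
      · exact hw ▸ congrArg Prod.fst hX
      · obtain ⟨g, rfl⟩ := Symp.exists_map hD hv hw
        exact (h1 X g v).trans (congrArg Prod.snd hX))
  simpa using h2

/-- The eigenspaces of the parity operator. -/
noncomputable def subW (ε : ℂ) : Subrepresentation ω :=
  ⟨P.eigenspace ε, fun g w hw => End.mem_eigenspace_iff.2 (by
    have := LinearMap.congr_fun (h.comm_P (T := ω.toHomUnits g) (hω g)) w
    rw [End.mul_apply, End.mem_eigenspace_iff.1 hw, map_smul] at this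
    exact this.symm)⟩

theorem subW_irr [Finite F] [FiniteDimensional F V] [FiniteDimensional ℂ M] [Nontrivial V]
    (hD : D.Nondeg) (hc : Nat.card V = finrank ℂ M ^ 2) (h2 : 2 ≤ finrank ℂ M) :
    (subW h hω 1).toRepresentation.IsIrreducible ∧
      (subW h hω (-1)).toRepresentation.IsIrreducible := by
  have : Finite V := Module.finite_of_finite F
  have := finite_isom (D := D)
  let _ := Fintype.ofFinite D.isom
  have : Nontrivial M := nontrivial_of_finrank_pos (R := ℂ) (by omega)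
  have h1 := finrank_le_two h hω hD hc
  have h3 := h.two_mul_finrank
  have h4 := character_eq_add_of_isCompl (subW h hω 1) (subW h hω (-1))
    ((Submodule.isCompl_iff_disjoint _ _ (by
      change finrank ℂ M ≤ finrank ℂ (P.eigenspace 1) + finrank ℂ (P.eigenspace (-1))
      omega)).2 (P.eigenspaces_iSupIndep.pairwiseDisjoint (by norm_num)))
  have h5 := classInner_character ω ω
  have c1 := isCharacter_character (subW h hω 1).toRepresentation
  have c2 := isCharacter_character (subW h hω (-1)).toRepresentation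
  obtain ⟨a, ha⟩ := c1.classInner_nat c1
  obtain ⟨b, hb⟩ := c1.classInner_nat c2
  obtain ⟨c, hc'⟩ := c2.classInner_nat c1
  obtain ⟨d, hd⟩ := c2.classInner_nat c2
  rw [h4, classInner_add_left, classInner_add_right, classInner_add_right, ha, hb, hc', hd] at h5
  have h6 : ∀ ε, finrank ℂ (P.eigenspace ε) ≠ 0 → ∀ k : ℕ,
      classInner (subW h hω ε).toRepresentation.character
        (subW h hω ε).toRepresentation.character = k → k ≠ 0 := fun ε h0 k hk h7 => by
    rw [h7, Nat.cast_zero, classInner_self_eq_zero] at hk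
    have h8 := congrFun hk 1
    rw [Representation.char_one, Pi.zero_apply, Nat.cast_eq_zero] at h8
    exact h0 h8
  have h7 := h6 1 (by omega) a ha
  have h8 := h6 (-1) (by omega) d hd
  norm_cast at h5
  exact ⟨(isIrrCharacter_character_iff _).1 (c1.isIrrCharacter_of_norm_one (by
      rw [ha, show a = 1 by omega, Nat.cast_one])),
    (isIrrCharacter_character_iff _).1 (c2.isIrrCharacter_of_norm_one (by
      rw [hd, show d = 1 by omega, Nat.cast_one]))⟩

theorem exists_subW_neg : ∃ c : ℂ, ∀ ε,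
    (subW h hω ε).toRepresentation (Symp.negOne D) = (c * ε) • 1 := by
  have h1 : P * P = 1 := h.P_sq
  obtain ⟨c, hc⟩ := h.eq_smul (hω (Symp.negOne D)) (T := ⟨P, P, h1, h1⟩) fun v => by
    simpa using h.P_mul v
  refine ⟨c, fun ε => LinearMap.ext fun w => Subtype.ext ?_⟩
  change ω _ w = (c * ε) • w.1
  rw [hc, LinearMap.smul_apply, End.mem_eigenspace_iff.1 w.2, smul_smul]

end Heis

theorem exists_neg {R : D.isom →* End ℂ M} [FiniteDimensional ℂ M]
    (hR : Representation.IsIrreducible R) :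
    ∃ ζ : ℂ, ζ * ζ = 1 ∧ R (Symp.negOne D) = ζ • 1 := by
  obtain ⟨ζ, hζ⟩ := exists_eq_smul_id_of_commute R (R (Symp.negOne D)) fun g v => by
    rw [← End.mul_apply, ← End.mul_apply, ← map_mul, ← map_mul]
    congr 2
    exact isom_ext fun x => by simp
  refine ⟨ζ, ?_, hζ⟩
  have := nontrivial_of_isIrreducible (h := hR)
  obtain ⟨x, hx⟩ := exists_ne (0 : M)
  have h1 : Symp.negOne D * Symp.negOne D = 1 := isom_ext fun x => by simp
  have h2 := LinearMap.congr_fun (congrArg R h1) x
  rw [map_mul, hζ, map_one] at h2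
  exact smul_left_injective ℂ hx (by simpa [smul_smul] using h2)

/-- Conjugation by a similarity. -/
def twist (d : V ≃ₗ[F] V) {μ : F} (hμ : μ ≠ 0) (hd : ∀ x y, μ * D.B (d x) (d y) = D.B x y) :
    D.isom →* D.isom where
  toFun g := ⟨d * g.1 * d⁻¹, Symp.mem_isom.2 fun x y => mul_left_cancel₀ hμ (by
    change μ * D.B (d (g.1 (d.symm x))) (d (g.1 (d.symm y))) = _
    rw [hd, B_isom, ← hd]; simp)⟩
  map_one' := isom_ext fun x => by simp
  map_mul' g k := isom_ext fun x => by simp

theorem twist_apply (d : V ≃ₗ[F] V) {μ : F} (hμ : μ ≠ 0)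
    (hd : ∀ x y, μ * D.B (d x) (d y) = D.B x y) (g : D.isom) (x : V) :
    (twist d hμ hd g).1 x = d (g.1 (d.symm x)) := rfl

namespace Base
variable [Finite F] [FiniteDimensional F V] [FiniteDimensional ℂ M] (h : Base D ψ U)
include h

theorem pair {d : V ≃ₗ[F] V} {μ : F} (hμ : ¬ IsSquare μ)
    (hd : ∀ x y, μ * D.B (d x) (d y) = D.B x y) (hdU : ∀ u ∈ U, d u = u)
    {R : D.isom →* End ℂ M} (hR : Representation.IsIrreducible R) {ζ : ℂ}
    (hζ : R (Symp.negOne D) = ζ • 1) (h1 : finrank ℂ M ≠ 1) (h2 : finrank ℂ M < Nat.card U - 1)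
    (h3 : finrank ℂ M * (2 * (Nat.card F + 1)) < (Nat.card U - 1) * (Nat.card U - Nat.card F)) :
    ∃ χ χ' : IrrCharacter D.isom, χ ≠ χ' ∧ χ.1 1 = finrank ℂ M ∧ χ'.1 1 = finrank ℂ M ∧
      ∀ (k : ℕ) (R' : D.isom →* End ℂ (Fin k → ℂ)), Representation.IsIrreducible R' →
        R' (Symp.negOne D) = ζ • 1 → k ≠ 1 →
        k * (2 * (Nat.card F + 1)) < (Nat.card U - 1) * (Nat.card U - Nat.card F) →
        Representation.character R' = χ.1 ∨ Representation.character R' = χ'.1 := by
  have : Finite V := Module.finite_of_finite F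
  have := finite_isom (D := D)
  let _ := Fintype.ofFinite D.isom
  have hμ0 : μ ≠ 0 := fun h0 => hμ (h0 ▸ IsSquare.zero)
  let δ := twist d hμ0 hd
  have hδ : ∀ (u : U) c, δ (Symp.tv D u c) = Symp.tv D u (c * μ) := fun u c => isom_ext fun x => by
    rw [twist_apply, Symp.tv_apply, Symp.tv_apply, ← hd u, map_add, map_smul, hdU u u.2]
    simp [mul_assoc]
  have hR' : Representation.IsIrreducible (R.comp δ) :=
    isIrreducible_comp R δ (Finite.injective_iff_surjective.1 fun g k hgk => isom_ext fun x => by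
      simpa [δ, twist_apply] using congrArg (fun g : D.isom => g.1 (d x)) hgk)
  have hζ' : (R.comp δ) (Symp.negOne D) = ζ • 1 := by
    rw [← hζ]
    exact congrArg R (isom_ext fun x => by simp [δ, twist_apply])
  have hW := hasW_of_lt (R := R) h.two h.hψ h.hD h.ts h3
  have hW' := hasW_of_lt (R := R.comp δ) h.two h.hψ h.hD h.ts h3
  obtain ⟨l, hl⟩ := h.exists_type hW hR h1
  have hl' : HasType (R.comp δ) ψ U (μ * l) := by
    obtain ⟨h0, f, hf, h4⟩ := hl
    obtain ⟨x, hx, h5⟩ := (Submodule.ne_bot_iff _).1 h4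
    refine ⟨mul_ne_zero hμ0 h0, f, hf, (Submodule.ne_bot_iff _).2 ⟨x, mem_WS.2 fun u c => ?_, h5⟩⟩
    rw [MonoidHom.comp_apply, hδ, mem_WS.1 hx]
    simp only [wq, mul_assoc]
  refine ⟨⟨_, isIrrCharacter_character R⟩, ⟨_, isIrrCharacter_character (R.comp δ)⟩, fun h4 => ?_,
    Representation.char_one _, Representation.char_one _, fun k R' hi hζ' hk hk' => ?_⟩
  · have h5 := classInner_character (R.comp δ) R
    rw [← show Representation.character R = Representation.character (R.comp δ) from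
      congrArg Subtype.val h4, (isIrrCharacter_character R).classInner_self] at h5
    have : Nontrivial (Representation.IntertwiningMap (R.comp δ) R) :=
      nontrivial_of_finrank_pos (R := ℂ) (by norm_cast at h5; omega)
    obtain ⟨T, hT⟩ := exists_ne (0 : Representation.IntertwiningMap (R.comp δ) R)
    have h6 := (Representation.IsIrreducible.injective_or_eq_zero T).resolve_right hT
    obtain ⟨h0, f, hf, h7⟩ := hl'
    obtain ⟨x, hx, h8⟩ := (Submodule.ne_bot_iff _).1 h7
    refine (h.le_of_types hW hμ hl ⟨h0, f, hf, (Submodule.ne_bot_iff _).2 ⟨T x,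
      mem_WS.2 fun u c => ?_, fun h9 => h8 (h6 (h9.trans (map_zero T).symm))⟩⟩).not_gt h2
    rw [← T.isIntertwining, mem_WS.1 hx, map_smul]
  · have hk1 : finrank ℂ (Fin k → ℂ) = k := finrank_fin_fun ℂ
    have hW'' := hasW_of_lt (R := R') h.two h.hψ h.hD h.ts (by rwa [hk1])
    obtain ⟨m, hm⟩ := h.exists_type hW'' hi (by rwa [hk1])
    have h4 := hl.1
    by_cases h5 : IsSquare (m / l)
    · obtain ⟨s, hs⟩ := h5
      exact .inl (h.char_eq hW hW'' hR hi hζ hζ' hl (s := s)
        (by rwa [sq, ← hs, mul_div_cancel₀ _ h4])).symm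
    · classical
      let _ := Fintype.ofFinite F
      obtain ⟨s, hs⟩ : IsSquare (m / l * μ) := by
        rw [← quadraticChar_one_iff_isSquare (mul_ne_zero (div_ne_zero hm.1 h4) hμ0), map_mul,
          quadraticChar_neg_one_iff_not_isSquare.2 h5, quadraticChar_neg_one_iff_not_isSquare.2 hμ]
        norm_num
      refine .inr (h.char_eq hW' hW'' hR' hi ‹_› hζ' hl' (s := s / μ) ?_).symm
      rwa [div_pow, sq s, ← hs, show μ * l * (m / l * μ / μ ^ 2) = m by field_simp]

end Base

section Model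
variable {n : ℕ}

variable (F n) in
/-- The standard maximal isotropic subspace. -/
def stdU : Submodule F (Fin n ⊕ Fin n → F) := LinearMap.ker (LinearMap.funLeft F F Sum.inl)

theorem mem_stdU {v : Fin n ⊕ Fin n → F} : v ∈ stdU F n ↔ ∀ i, v (.inl i) = 0 := funext_iff

theorem finrank_stdU : finrank F (stdU F n) = n := by
  have h : _ + finrank F (stdU F n) = _ := LinearMap.finrank_range_add_finrank_ker
    (LinearMap.funLeft F F (Sum.inl : Fin n → Fin n ⊕ Fin n))
  rw [LinearMap.range_eq_top.2 (LinearMap.funLeft_surjective_of_injective F F _ Sum.inl_injective),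
    finrank_top] at h
  simpa using h

theorem base_std (h2 : (2 : F) ≠ 0) (hψ : ψ ≠ 1) (hn : 2 ≤ n) : Base (fSymp F n) ψ (stdU F n) where
  two := h2
  hψ := hψ
  hD := fSymp_nondeg n
  ts u hu v hv := by simp [fSymp_B', mem_stdU.1 hu, mem_stdU.1 hv]
  max z hz := mem_stdU.2 fun i => by
    have := hz (Pi.single (.inr i) 1) (mem_stdU.2 fun j => by simp)
    rwa [Form.eq_zero_comm, fSymp_B_inr] at this
  rk := by rwa [finrank_stdU]

theorem exists_sim {μ : F} (hμ : μ ≠ 0) : ∃ d : (Fin n ⊕ Fin n → F) ≃ₗ[F] (Fin n ⊕ Fin n → F),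
    (∀ x y, μ * (fSymp F n).B (d x) (d y) = (fSymp F n).B x y) ∧ ∀ u ∈ stdU F n, d u = u := by
  refine ⟨LinearEquiv.piCongrRight fun i => LinearEquiv.smulOfUnit
    (Sum.elim (fun _ => (Units.mk0 μ hμ)⁻¹) (fun _ => 1) i), fun x y => ?_, fun u hu => ?_⟩
  · simp only [fSymp_B', Finset.mul_sum]
    refine Finset.sum_congr rfl fun i _ => ?_
    simp [LinearEquiv.smulOfUnit, Units.smul_def]
    field_simp
  · ext (i | i) <;> simp [LinearEquiv.smulOfUnit, mem_stdU.1 hu]

theorem weil_main [Finite F] (h2 : (2 : F) ≠ 0) (hn : 2 ≤ n) :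
    ∃ (a b : ℕ) (χ₁ χ₂ χ₃ χ₄ : IrrCharacter (fSymp F n).isom), 2 * a = Nat.card F ^ n + 1 ∧
      2 * b + 1 = Nat.card F ^ n ∧ χ₁ ≠ χ₂ ∧ χ₃ ≠ χ₄ ∧ χ₁.1 1 = a ∧ χ₂.1 1 = a ∧ χ₃.1 1 = b ∧
      χ₄.1 1 = b ∧ (∀ k ≤ a, k * (2 * (Nat.card F + 1)) <
        (Nat.card F ^ n - 1) * (Nat.card F ^ n - Nat.card F)) ∧ b ≠ 1 ∧
      ∀ (χ : IrrCharacter (fSymp F n).isom) (k : ℕ), χ.1 1 = k → k ≠ 1 →
        k * (2 * (Nat.card F + 1)) < (Nat.card F ^ n - 1) * (Nat.card F ^ n - Nat.card F) →
        χ = χ₁ ∨ χ = χ₂ ∨ χ = χ₃ ∨ χ = χ₄ := by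
  classical
  let _ := Fintype.ofFinite F
  have hψ : AddChar.FiniteField.primitiveChar_to_Complex F ≠ 1 := fun h =>
    AddChar.FiniteField.primitiveChar_to_Complex_isPrimitive F one_ne_zero (by simpa using h)
  have hB := base_std h2 hψ hn
  obtain ⟨μ, hμ⟩ := FiniteField.exists_nonsquare (F := F) fun h => h2 (by
    exact_mod_cast h ▸ ringChar.Nat.cast_ringChar (R := F))
  obtain ⟨d, hd, hdU⟩ := exists_sim (n := n) (μ := μ) fun h0 => hμ (h0 ▸ IsSquare.zero)
  have hH := heis_schr (n := n) _ h2 hψ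
  obtain ⟨ω, hω⟩ := hH.exists_weil (fSymp_nondeg n)
  have h1 := hH.two_mul_finrank
  have hU : Nat.card (stdU F n) = Nat.card F ^ n := by
    rw [natCard_eq_pow_finrank (K := F), finrank_stdU]
  have hq : 3 ≤ Nat.card F := by
    have h3 := Finite.one_lt_card (α := F)
    have h4 : Nat.card F ≠ 2 := fun h4 => h2 (by
      have := FiniteField.cast_card_eq_zero F
      rwa [← Nat.card_eq_fintype_card, h4] at this)
    omega
  have hN : Nat.card F * Nat.card F ≤ Nat.card F ^ n := by
    rw [← sq]; exact Nat.pow_le_pow_right (by omega) hn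
  have : Nonempty (Fin n) := ⟨⟨0, by omega⟩⟩
  obtain ⟨i1, i2⟩ := subW_irr hH hω (fSymp_nondeg n) (by
    rw [finrank_schr]; simp [← pow_mul, mul_two]) (by rw [finrank_schr]; nlinarith)
  obtain ⟨c, hc⟩ := exists_subW_neg hH hω
  rw [finrank_schr] at h1
  obtain ⟨a, ha⟩ : ∃ a, finrank ℂ (subW hH hω 1).toSubmodule = a := ⟨_, rfl⟩
  obtain ⟨b, hb⟩ : ∃ b, finrank ℂ (subW hH hω (-1)).toSubmodule = b := ⟨_, rfl⟩
  rw [show finrank ℂ ((par F n).eigenspace 1) = a from ha,
    show finrank ℂ ((par F n).eigenspace (-1)) = b from hb] at h1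
  have h3 : ∀ k ≤ a, k * (2 * (Nat.card F + 1)) <
      (Nat.card F ^ n - 1) * (Nat.card F ^ n - Nat.card F) := fun k hk => by
    refine (Nat.mul_le_mul_right _ hk).trans_lt ?_
    generalize Nat.card F ^ n = N at *
    generalize Nat.card F = q at *
    have h5 : q ≤ N := by nlinarith
    obtain ⟨t, rfl⟩ : ∃ t, N = t + q := ⟨N - q, by omega⟩
    obtain ⟨r, rfl⟩ : ∃ r, q = r + 1 := ⟨q - 1, by omega⟩
    rw [Nat.add_sub_cancel, ← add_assoc, Nat.add_sub_cancel, ← mul_assoc, mul_comm a, h1.1]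
    have h4 : 2 * r + 2 ≤ t := by nlinarith
    nlinarith
  have h4 : 9 ≤ Nat.card F ^ n := by nlinarith
  obtain ⟨χ₁, χ₂, e1, e2, e3, e4⟩ := hB.pair hμ hd hdU i1 (hc 1) (by omega) (by omega)
    (by rw [ha, hU]; exact h3 a le_rfl)
  obtain ⟨χ₃, χ₄, e5, e6, e7, e8⟩ := hB.pair hμ hd hdU i2 (hc (-1)) (by omega) (by omega)
    (by rw [hb, hU]; exact h3 b (by omega))
  refine ⟨a, b, χ₁, χ₂, χ₃, χ₄, h1.1, h1.2, e1, e5, ha ▸ e2, ha ▸ e3, hb ▸ e6, hb ▸ e7, h3,
    by omega, ?_⟩
  rintro ⟨_, k, ρ, hρ, rfl⟩ k' hk h5 h6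
  obtain rfl : k = k' := by simpa using hk
  obtain ⟨ζ, h7, h8⟩ := exists_neg hρ
  obtain ⟨ζ', h9, h10⟩ := exists_neg i1
  have := nontrivial_of_isIrreducible (h := i1)
  have h11 : c = ζ' := by
    obtain ⟨x, hx⟩ := exists_ne (0 : (subW hH hω 1).toSubmodule)
    have h11 := LinearMap.congr_fun ((hc 1).symm.trans h10) x
    exact smul_left_injective ℂ hx (by simpa using h11)
  rw [← hU] at h6
  rcases mul_self_eq_mul_self_iff.1 (h7.trans (h11 ▸ h9).symm) with h12 | h12
  · rcases e4 k ρ hρ (by rw [h8, h12, mul_one]) h5 h6 with h13 | h13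
    · exact .inl (Subtype.ext h13)
    · exact .inr (.inl (Subtype.ext h13))
  · rcases e8 k ρ hρ (by rw [h8, h12, mul_neg_one]) h5 h6 with h13 | h13
    · exact .inr (.inr (.inl (Subtype.ext h13)))
    · exact .inr (.inr (.inr (Subtype.ext h13)))

end Model

end Cfsg.Lib.Twist.Weil
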